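import Cfsg.Agent.H93.Frame

/-!
An involution of the neighbourhood of a member of a space, preserving thirds, that moves every
member to a commuting one does not exist.
-/

set_option autoImplicit false

namespace Cfsg.Agent.H93

variable {G : Type*} [Group G] {F : Type*} [Field F] {S : Set G}

/-- the data of such an involution -/
structure Fpf (sp : U6Space F S) (P : Vec F) (ι : G → G) : Prop where
  hP : IsPt P
  hS : ∀ y ∈ S, y * y = 1
  hι : ∀ v ∈ nb S (sp.pt P), ι v ∈ nb S (sp.pt P) ∧ ι (ι v) = v ∧ Commute v (ι v) ∧ ι v ≠ v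
  hc : ∀ v ∈ nb S (sp.pt P), ∀ v' ∈ nb S (sp.pt P), Commute v v' ↔ Commute (ι v) (ι v')
  h3 : ∀ v ∈ nb S (sp.pt P), ∀ v' ∈ nb S (sp.pt P), ι (v * v' * v) = ι v * ι v' * ι v

namespace Fpf

variable {sp : U6Space F S} {P : Vec F} {ι : G → G}

/-- a vector of the neighbourhood -/
def InQ (sp : U6Space F S) (P x : Vec F) : Prop := IsPt x ∧ sp.pt x ∈ nb S (sp.pt P)

/-- image, in vectors -/
def Img (sp : U6Space F S) (P : Vec F) (ι : G → G) (x y : Vec F) : Prop :=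
  InQ sp P x ∧ InQ sp P y ∧ ι (sp.pt x) = sp.pt y

/-- moved along the line through the point -/
def Inv (sp : U6Space F S) (P : Vec F) (ι : G → G) (x : Vec F) (a : F) : Prop :=
  Img sp P ι x (x + a • P)

variable (h : Fpf sp P ι)

include h

theorem orth {x : Vec F} (hx : InQ sp P x) : hb x P = 0 :=
  (sp.comm hx.1 h.hP).mp hx.2.2.2.symm

theorem not_mul {x : Vec F} (hx : InQ sp P x) (t : F) : x ≠ t • P := fun e =>
  hx.2.2.1 ((sp.same h.hP hx.1).mpr ⟨t, e⟩).symm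

theorem inQ {x : Vec F} (hx : hb x x = 0) (hxP : hb x P = 0) (hn : ∀ t : F, x ≠ t • P) :
    InQ sp P x := by
  have hp : IsPt x := ⟨fun e => hn 0 (by rw [e, zero_smul]), hx⟩
  refine ⟨hp, sp.mem hp, fun q => ?_, ((sp.comm hp h.hP).mpr hxP).symm⟩
  obtain ⟨a, ha⟩ := (sp.same h.hP hp).mp q.symm
  exact hn a ha

theorem inQ_of_val {x e : Vec F} (hx : hb x x = 0) (hxP : hb x P = 0) (hPe : hb P e = 0)
    (hne : hb x e ≠ 0) : InQ sp P x :=
  h.inQ hx hxP fun t ht => hne (by rw [ht, hb_smul_left, hPe, mul_zero])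

theorem exists_img {x : Vec F} (hx : InQ sp P x) : ∃ y, Img sp P ι x y := by
  obtain ⟨h1, -, -, -⟩ := h.hι _ hx.2
  obtain ⟨y, hy, e⟩ := sp.surj _ h1.1
  exact ⟨y, hx, ⟨hy, e ▸ h1⟩, e.symm⟩

theorem img_symm {x y : Vec F} (hxy : Img sp P ι x y) : Img sp P ι y x :=
  ⟨hxy.2.1, hxy.1, by rw [← hxy.2.2]; exact (h.hι _ hxy.1.2).2.1⟩

theorem img_orth {x y : Vec F} (hxy : Img sp P ι x y) : hb x y = 0 :=
  (sp.comm hxy.1.1 hxy.2.1.1).mp (hxy.2.2 ▸ (h.hι _ hxy.1.2).2.2.1)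

theorem img_comm {x x' y y' : Vec F} (hx : Img sp P ι x x') (hy : Img sp P ι y y') :
    hb x y = 0 ↔ hb x' y' = 0 := by
  rw [← sp.comm hx.1.1 hy.1.1, ← sp.comm hx.2.1.1 hy.2.1.1, ← hx.2.2, ← hy.2.2]
  exact h.hc _ hx.1.2 _ hy.1.2

theorem smul_pt {t : F} (ht : t ≠ 0) {x : Vec F} (hx : IsPt x) :
    IsPt (t • x) ∧ sp.pt (t • x) = sp.pt x := by
  have hp : IsPt (t • x) := ⟨smul_ne_zero ht hx.1, by rw [hb_smul_left, hb_smul_right, hx.2]; ring⟩
  exact ⟨hp, ((sp.same hx hp).mpr ⟨t, rfl⟩).symm⟩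

theorem img_smul {t : F} (ht : t ≠ 0) {x y : Vec F} (hxy : Img sp P ι x y) :
    Img sp P ι x (t • y) := by
  obtain ⟨hp, e⟩ := h.smul_pt ht hxy.2.1.1
  exact ⟨hxy.1, ⟨hp, e ▸ hxy.2.1.2⟩, hxy.2.2.trans e.symm⟩

theorem inv_smul {t : F} (ht : t ≠ 0) {x : Vec F} {a : F} (hx : Inv sp P ι x a) :
    Inv sp P ι (t • x) (t * a) := by
  obtain ⟨hp, e⟩ := h.smul_pt ht hx.1.1
  obtain ⟨hp', e'⟩ := h.smul_pt ht hx.2.1.1
  rw [Inv, mul_smul, ← smul_add]
  exact ⟨⟨hp, e ▸ hx.1.2⟩, ⟨hp', e' ▸ hx.2.1.2⟩, by rw [e, e']; exact hx.2.2⟩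

theorem scale_one {x y e : Vec F} (hxy : Img sp P ι x y) (hne : hb y e ≠ 0) :
    ∃ y', Img sp P ι x y' ∧ hb y' e = 1 :=
  ⟨_, h.img_smul (inv_ne_zero hne) hxy, by rw [hb_smul_left, inv_mul_cancel₀ hne]⟩

theorem inv_ne {x : Vec F} {a : F} (hx : Inv sp P ι x a) : a ≠ 0 := by
  intro e
  have h1 := hx.2.2
  rw [e, zero_smul, add_zero] at h1
  exact (h.hι _ hx.1.2).2.2.2 h1

theorem inv_of_class {x y : Vec F} {n k : F} (hxy : Img sp P ι x y) (e : y = n • P + k • x) :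
    Inv sp P ι x (k⁻¹ * n) := by
  have hk : k ≠ 0 := fun hk => h.not_mul hxy.2.1 n (by rw [e, hk, zero_smul, add_zero])
  have := h.img_smul (inv_ne_zero hk) hxy
  rwa [e, smul_add, smul_smul, smul_smul, inv_mul_cancel₀ hk, one_smul, add_comm] at this

variable [Fintype F] (hF : Fintype.card F = 4)

include hF

theorem orth' {x : Vec F} (hx : InQ sp P x) : hb P x = 0 := (hb_eq_zero_comm hF).mp (h.orth hx)

theorem val_inv {x y : Vec F} {a : F} (hy : Inv sp P ι y a) (hx : hb x P = 0) :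
    hb x (y + a • P) = hb x y := by
  rw [hb_add_right hF, hb_smul_right, hx, mul_zero, add_zero]

/-- images commute with images -/
theorem val_zero {x x' y : Vec F} {a : F} (hx : Img sp P ι x x') (hy : Inv sp P ι y a)
    (e : hb x y = 0) : hb x' y = 0 := by
  rw [← h.val_inv hF hy (h.orth hx.2.1)]
  exact (h.img_comm hx hy).mp e

theorem val_ne {x x' y : Vec F} {a : F} (hx : Img sp P ι x x') (hy : Inv sp P ι y a)
    (e : hb x y ≠ 0) : hb x' y ≠ 0 := by
  rw [← h.val_inv hF hy (h.orth hx.2.1)]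
  exact fun q => e ((h.img_comm hx hy).mpr q)

theorem img_third {x x' y y' : Vec F} (hx : Img sp P ι x x') (hy : Img sp P ι y y') :
    Img sp P ι (y + hb y x • x) (y' + hb y' x' • x') := by
  have mem : ∀ {u v : Vec F}, InQ sp P u → InQ sp P v → InQ sp P (v + hb v u • u) := by
    intro u v hu hv
    have hp := isPt_third hF hu.1 hv.1
    refine ⟨hp, sp.mem hp, fun q => hv.2.2.1 ?_, ?_⟩
    · have e := sp.third hu.1 hv.1
      rw [q] at e
      have hb' : sp.pt u * sp.pt P * sp.pt u = sp.pt P := by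
        rw [← hu.2.2.2.eq, mul_assoc, h.hS _ hu.2.1, mul_one]
      rw [← e, show sp.pt u * (sp.pt u * sp.pt v * sp.pt u) * sp.pt u =
        sp.pt u * sp.pt u * sp.pt v * (sp.pt u * sp.pt u) by group, h.hS _ hu.2.1, one_mul, mul_one]
        at hb'
      rw [hb']; exact e
    · rw [← sp.third hu.1 hv.1]
      exact (hu.2.2.2.mul_right hv.2.2.2).mul_right hu.2.2.2
  refine ⟨mem hx.1 hy.1, mem hx.2.1 hy.2.1, ?_⟩
  rw [← sp.third hx.1.1 hy.1.1, ← sp.third hx.2.1.1 hy.2.1.1, ← hx.2.2, ← hy.2.2]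
  exact h.h3 _ hx.1.2 _ hy.1.2

theorem inv_third {x y : Vec F} {a b : F} (hx : Inv sp P ι x a) (hy : Inv sp P ι y b)
    (g : hb y x = 1) : Inv sp P ι (y + x) (b + a) := by
  have h' := h.img_third hF hx hy
  have g' : hb (y + b • P) (x + a • P) = 1 := by
    rw [h.val_inv hF hx (h.orth hy.2.1), hb_add_left, hb_smul_left, h.orth' hF hx.1, mul_zero,
      add_zero, g]
  rw [g, g', one_smul, one_smul, show y + b • P + (x + a • P) = y + x + (b + a) • P by
    rw [add_smul]; abel] at h'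
  exact h'

/-- perpendicular to an invariant pair -/
theorem inv_of_perp {e₁ f₁ e₂ f₂ : Vec F} {a n : F} (fr : Frame P e₁ f₁ e₂ f₂)
    (he : Inv sp P ι e₁ a) (hf : Inv sp P ι f₁ n) : ∃ c, Inv sp P ι e₂ c := by
  have hQ : InQ sp P e₂ := h.inQ_of_val fr.e22 ((hb_eq_zero_comm hF).mp fr.pe2) fr.pf2
    (by rw [fr.ef2]; exact one_ne_zero)
  obtain ⟨z, hz⟩ := h.exists_img hQ
  have z1 := h.val_zero hF hz he ((hb_eq_zero_comm hF).mp fr.ee)
  have z2 := h.val_zero hF hz hf ((hb_eq_zero_comm hF).mp fr.fe)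
  have z3 : hb z e₂ = 0 := (hb_eq_zero_comm hF).mp (h.img_orth hz)
  obtain ⟨m, hm⟩ := fr.coord hF (h.orth hz.2.1)
  rw [z1, z2, z3, zero_smul, zero_smul, zero_smul, add_zero, add_zero, add_zero] at hm
  exact ⟨_, h.inv_of_class hz hm⟩

omit h in
theorem swap {e₁ f₁ e₂ f₂ : Vec F} (fr : Frame P e₁ f₁ e₂ f₂) : Frame P e₁ f₁ f₂ e₂ :=
  ⟨fr.hP, fr.e11, fr.f11, fr.f22, fr.e22, fr.ef1, fr.fe2 hF, fr.ef, fr.ee, fr.ff, fr.fe, fr.pe1,
    fr.pf1, fr.pf2, fr.pe2⟩

omit h in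
theorem eq_third_of_nonzero {a n m : F} (ha : a ≠ 0) (hn : n ≠ 0) (han : a + n ≠ 0)
    (h0 : m ≠ 0) (h1 : m + a ≠ 0) (h2 : m + a + n ≠ 0) : m = n := by
  classical
  have hne : a ≠ n := fun e => han ((add_eq_zero_iff_eq' hF).mpr e)
  have hu : ({0, a, n, a + n} : Finset F) = Finset.univ := by
    refine Finset.eq_univ_of_card _ ?_
    rw [hF, Finset.card_insert_of_notMem, Finset.card_insert_of_notMem, Finset.card_insert_of_notMem,
      Finset.card_singleton]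
    · simp only [Finset.mem_singleton]
      intro e; exact ha (by linear_combination -e)
    · simp only [Finset.mem_insert, Finset.mem_singleton, not_or]
      exact ⟨hne, fun e => hn (by linear_combination -e)⟩
    · simp only [Finset.mem_insert, Finset.mem_singleton, not_or]
      exact ⟨Ne.symm ha, Ne.symm hn, Ne.symm han⟩
  have hm := Finset.mem_univ m
  rw [← hu] at hm
  simp only [Finset.mem_insert, Finset.mem_singleton] at hm
  rcases hm with e | e | e | e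
  · exact absurd e h0
  · exact absurd ((add_eq_zero_iff_eq' hF).mpr e) h1
  · exact e
  · exact absurd ((add_eq_zero_iff_eq' hF).mpr e) (by rw [← add_assoc] at *; simpa [add_assoc] using h2)

/-- a point between two invariant pairs -/
theorem exists_mid {e₁ f₁ e₂ f₂ : Vec F} {a n c n' : F} (fr : Frame P e₁ f₁ e₂ f₂)
    (ie₁ : Inv sp P ι e₁ a) (if₁ : Inv sp P ι f₁ n) (ie₂ : Inv sp P ι e₂ c)
    (if₂ : Inv sp P ι f₂ n') : ∃ s m : F, s ≠ 0 ∧ Inv sp P ι (f₁ + s • f₂) m := by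
  classical
  have xQ : ∀ s : F, InQ sp P (f₁ + s • f₂) := fun s => by
    obtain ⟨v0, v1, -, -, -⟩ := fr.val hF 0 0 1 0 s
    have e : (0 : F) • P + (0 : F) • e₁ + (1 : F) • f₁ + (0 : F) • e₂ + s • f₂ = f₁ + s • f₂ := by simp
    rw [e] at v0 v1
    refine h.inQ_of_val ?_ v0 fr.pe1 (by rw [v1]; exact one_ne_zero)
    rw [← e, fr.form hF]; simp
  have qQ : ∀ t : F, InQ sp P (e₁ + t • e₂) := fun t => by
    obtain ⟨v0, -, v2, -, -⟩ := fr.val hF 0 1 0 t 0
    have e : (0 : F) • P + (1 : F) • e₁ + (0 : F) • f₁ + t • e₂ + (0 : F) • f₂ = e₁ + t • e₂ := by simp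
    rw [e] at v0 v2
    refine h.inQ_of_val ?_ v0 fr.pf1 (by rw [v2]; exact one_ne_zero)
    rw [← e, fr.form hF]; simp
  have zc := fun {u v : Vec F} (e : hb u v = 0) => (hb_eq_zero_comm hF).mp e
  have hx : ∀ s : F, s ≠ 0 → ∃ B k : F, B ≠ 0 ∧
      Img sp P ι (f₁ + s • f₂) (k • P + f₁ + B • f₂) := by
    intro s hs
    obtain ⟨y0, hy0⟩ := h.exists_img (xQ s)
    obtain ⟨y, hy, y1⟩ := h.scale_one hy0 (h.val_ne hF hy0 ie₁ (by
      rw [hb_add_left, hb_smul_left, fr.fe1 hF, zc fr.ef, mul_zero, add_zero]; exact one_ne_zero))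
    have y2 := h.val_zero hF hy if₁ (by rw [hb_add_left, hb_smul_left, fr.f11, zc fr.ff, mul_zero, add_zero])
    have y4 := h.val_zero hF hy if₂ (by rw [hb_add_left, hb_smul_left, fr.f22, fr.ff, mul_zero, add_zero])
    have y3 := h.val_ne hF hy ie₂ (by
      rw [hb_add_left, hb_smul_left, fr.fe, fr.fe2 hF, mul_one, zero_add]; exact hs)
    obtain ⟨k, hk⟩ := fr.coord hF (h.orth hy.2.1)
    rw [y1, y2, y4, zero_smul, zero_smul, add_zero, add_zero, one_smul] at hk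
    exact ⟨hb y e₂, k, y3, hk ▸ hy⟩
  have hq : ∀ t : F, t ≠ 0 → ∃ C k : F, C ≠ 0 ∧
      Img sp P ι (e₁ + t • e₂) (k • P + e₁ + C • e₂) := by
    intro t ht
    obtain ⟨y0, hy0⟩ := h.exists_img (qQ t)
    obtain ⟨y, hy, y1⟩ := h.scale_one hy0 (h.val_ne hF hy0 if₁ (by
      rw [hb_add_left, hb_smul_left, fr.ef1, zc fr.fe, mul_zero, add_zero]; exact one_ne_zero))
    have y2 := h.val_zero hF hy ie₁ (by rw [hb_add_left, hb_smul_left, fr.e11, zc fr.ee, mul_zero, add_zero])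
    have y4 := h.val_zero hF hy ie₂ (by rw [hb_add_left, hb_smul_left, fr.e22, fr.ee, mul_zero, add_zero])
    have y3 := h.val_ne hF hy if₂ (by
      rw [hb_add_left, hb_smul_left, fr.ef, fr.ef2, mul_one, zero_add]; exact ht)
    obtain ⟨k, hk⟩ := fr.coord hF (h.orth hy.2.1)
    rw [y1, y2, y4, zero_smul, zero_smul, add_zero, add_zero, one_smul] at hk
    exact ⟨hb y f₂, k, y3, hk ▸ hy⟩
  -- the product of the two kinds
  have prod : ∀ k B k' C : F,
      hb (k • P + f₁ + B • f₂) (k' • P + e₁ + C • e₂) = 1 + B * C ^ 2 := by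
    intro k B k' C
    have e1 : k • P + f₁ + B • f₂ = k • P + (0 : F) • e₁ + (1 : F) • f₁ + (0 : F) • e₂ + B • f₂ := by simp
    have e2 : k' • P + e₁ + C • e₂ = k' • P + (1 : F) • e₁ + (0 : F) • f₁ + C • e₂ + (0 : F) • f₂ := by simp
    rw [e1, e2, fr.form hF]; ring
  have prod0 : ∀ k B C : F, hb (k • P + f₁ + B • f₂) (e₁ + C • e₂) = 1 + B * C ^ 2 := fun k B C => by
    have := prod k B 0 C
    rwa [zero_smul, zero_add] at this
  have prod1 : ∀ B k' C : F, hb (f₁ + B • f₂) (k' • P + e₁ + C • e₂) = 1 + B * C ^ 2 := fun B k' C => by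
    have := prod 0 B k' C
    rwa [zero_smul, zero_add] at this
  have prod2 : ∀ B C : F, hb (f₁ + B • f₂) (e₁ + C • e₂) = 1 + B * C ^ 2 := fun B C => by
    have := prod 0 B 0 C
    rwa [zero_smul, zero_add, zero_add] at this
  have self : ∀ s : F, s ≠ 0 → (1 : F) + s * s ^ 2 = 0 := fun s hs => by
    rw [show s * s ^ 2 = s ^ 3 by ring, pow_three hF hs]; exact add_self_zero hF 1
  have only : ∀ B C : F, C ≠ 0 → 1 + B * C ^ 2 = 0 → B = C := fun B C hC e => by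
    have h3 := pow_three hF hC
    have h2 := two_zero hF
    linear_combination C * e - B * h3 - C * h2
  let g : F → F := fun s => if hs : s ≠ 0 then (hx s hs).choose else 0
  have hg : ∀ s : F, s ≠ 0 → g s ≠ 0 ∧ ∃ k : F, Img sp P ι (f₁ + s • f₂) (k • P + f₁ + g s • f₂) := fun s hs => by
    obtain ⟨k, h1, h2⟩ := (hx s hs).choose_spec
    simp only [g, dif_pos hs]
    exact ⟨h1, k, h2⟩
  have hgq : ∀ t : F, t ≠ 0 → ∃ k : F, Img sp P ι (e₁ + t • e₂) (k • P + e₁ + g t • e₂) := by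
    intro t ht
    obtain ⟨C, k, hC, hI⟩ := hq t ht
    obtain ⟨-, k', hJ⟩ := hg t ht
    have e := (h.img_comm hJ hI).mp (by rw [prod2]; exact self t ht)
    rw [prod] at e
    exact ⟨k, (only _ _ hC e) ▸ hI⟩
  have hgg : ∀ s : F, s ≠ 0 → g (g s) = s := by
    intro s hs
    obtain ⟨hB, k, hI⟩ := hg s hs
    obtain ⟨k', hJ⟩ := hgq _ hB
    have e := (h.img_comm (h.img_symm hI) hJ).mp (by rw [prod0]; exact self _ hB)
    rw [prod1] at e
    exact (only _ _ (hg _ hB).1 e).symm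
  obtain ⟨w, hw0, hw1, hw⟩ := exists_omega hF
  have hwsq : w ^ 2 ≠ 0 := pow_ne_zero _ hw0
  have hne : (1 : F) ≠ w ∧ (1 : F) ≠ w ^ 2 ∧ w ≠ w ^ 2 :=
    ⟨Ne.symm hw1, fun e => hw1 (sq_eq_one hF e.symm),
      fun e => hw1 (mul_left_cancel₀ hw0 (by rw [mul_one]; linear_combination -e))⟩
  have hfin : ∀ t, t ≠ 0 → g t ∈ [(1 : F), w, w ^ 2] := fun t ht => nonzero_cases hF hw (hg t ht).1
  obtain ⟨s, hs, hfix⟩ : ∃ s, s ≠ 0 ∧ g s = s := by
    rcases fixed_of_three (hfin 1 one_ne_zero) (hfin w hw0) (hfin _ hwsq) (hgg 1 one_ne_zero)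
      (hgg w hw0) (hgg _ hwsq) hne with e | e | e
    · exact ⟨1, one_ne_zero, e⟩
    · exact ⟨w, hw0, e⟩
    · exact ⟨_, hwsq, e⟩
  obtain ⟨-, k, hI⟩ := hg s hs
  rw [hfix] at hI
  refine ⟨s, k, hs, ?_⟩
  rw [Inv, show f₁ + s • f₂ + k • P = k • P + f₁ + s • f₂ by abel]
  exact hI

/-- an invariant hyperbolic pair gives a fixed member -/
theorem pair_false {e₁ f₁ : Vec F} {a n : F} (ie₁ : Inv sp P ι e₁ a) (if₁ : Inv sp P ι f₁ n)
    (hef : hb e₁ f₁ = 1) : False := by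
  obtain ⟨e₂, f₂, fr⟩ := exists_frame hF h.hP ie₁.1.1.2 if₁.1.1.2 hef (h.orth' hF ie₁.1)
    (h.orth' hF if₁.1)
  obtain ⟨c, ie₂⟩ := h.inv_of_perp hF fr ie₁ if₁
  obtain ⟨n', if₂⟩ := h.inv_of_perp hF (swap hF fr) ie₁ if₁
  obtain ⟨s, m, hs, iw⟩ := h.exists_mid hF fr ie₁ if₁ ie₂ if₂
  have ie₂' := h.inv_smul hs ie₂
  have if₂' := h.inv_smul hs if₂
  have s3 : s * s ^ 2 = 1 := by rw [show s * s ^ 2 = s ^ 3 by ring]; exact pow_three hF hs
  have zc := fun {u v : Vec F} (e : hb u v = 0) => (hb_eq_zero_comm hF).mp e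
  -- the six sums
  have wA : hb (f₁ + s • f₂) e₁ = 1 := by
    rw [hb_add_left, hb_smul_left, fr.fe1 hF, zc fr.ef, mul_zero, add_zero]
  have iA := h.inv_third hF ie₁ iw wA
  have iB := h.inv_third hF if₁ iA (by
    simp only [hb_add_left, hb_smul_left, fr.f11, zc fr.ff, fr.ef1, mul_zero, add_zero, zero_add])
  have iC := h.inv_third hF ie₂' iw (by
    rw [hb_smul_right, hb_add_left, hb_smul_left, fr.fe, fr.fe2 hF, mul_one, zero_add, mul_comm]
    linear_combination s3)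
  have iD := h.inv_third hF if₂' iC (by
    simp only [hb_add_left, hb_smul_left, hb_smul_right, fr.ff, fr.f22, fr.ef2, mul_zero, zero_add,
      add_zero, mul_one]
    linear_combination s3)
  have iE := h.inv_third hF ie₁ iD (by
    simp only [hb_add_left, hb_smul_left, fr.fe1 hF, zc fr.ef, zc fr.ee, mul_zero, add_zero, zero_add])
  have iG := h.inv_third hF if₁ iE (by
    simp only [hb_add_left, hb_smul_left, fr.f11, zc fr.ff, zc fr.fe, fr.ef1, mul_zero, add_zero,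
      zero_add])
  have iK := h.inv_third hF if₁ ie₁ hef
  have iK2 := h.inv_third hF if₂' ie₂' (by
    rw [hb_smul_left, hb_smul_right, fr.ef2, mul_one]; exact s3)
  have ha := h.inv_ne ie₁
  have hn := h.inv_ne if₁
  have han := h.inv_ne iK
  have h1 := eq_third_of_nonzero hF ha hn han (h.inv_ne iw) (h.inv_ne iA) (h.inv_ne iB)
  have h2 := eq_third_of_nonzero hF ha hn han (h.inv_ne iD) (h.inv_ne iE) (h.inv_ne iG)
  apply h.inv_ne iK2
  linear_combination h2 - h1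

/-- no such involution -/
theorem false : False := by
  obtain ⟨p, hp, hperp⟩ := sp.exists_line_image hF (sp.mem h.hP) ι
    (fun v hv => ⟨(h.hι v hv).1, (h.hι v hv).2.1, (h.hι v hv).2.2.1⟩) h.hc
  obtain ⟨u, hu, rfl⟩ := sp.surj p hp.1
  obtain ⟨v, huv⟩ := h.exists_img (x := u) ⟨hu, hp⟩
  have hs : ¬ SamePt P u := fun e => hp.2.1 ((sp.same h.hP hu).mpr e).symm
  have zc := fun {u v : Vec F} (e : hb u v = 0) => (hb_eq_zero_comm hF).mp e
  have Pu : hb P u = 0 := h.orth' hF ⟨hu, hp⟩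
  have horth : ∀ i j, hb (![P, u] i) (![P, u] j) = 0 := by
    intro i j
    fin_cases i <;> fin_cases j <;> simp [h.hP.2, hu.2, Pu, zc Pu]
  have hmem := mem_of_orth hF (indep_pair h.hP.1 hs) horth huv.2.1.1.2 (fun i => by
    fin_cases i
    · exact h.orth huv.2.1
    · exact zc (h.img_orth huv)) (fun y hy hyl => by
    have y0 : hb y P = 0 := hyl 0
    have y1 : hb y u = 0 := hyl 1
    by_cases hk : ∀ t : F, y ≠ t • P
    · have hQ := h.inQ hy.2 y0 hk
      have := hperp _ hQ.2 ((sp.comm hy hu).mpr y1)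
      rw [huv.2.2] at this
      exact (sp.comm hy huv.2.1.1).mp this
    · simp only [ne_eq, not_forall, not_not] at hk
      obtain ⟨t, rfl⟩ := hk
      rw [hb_smul_left, h.orth' hF huv.2.1, mul_zero])
  obtain ⟨g, hg⟩ := (Submodule.mem_span_range_iff_exists_fun F).mp hmem
  simp only [Fin.sum_univ_two, Matrix.cons_val_zero, Matrix.cons_val_one] at hg
  have ie₁ := h.inv_of_class huv hg.symm
  set a := (g 1)⁻¹ * g 0
  obtain ⟨f₁, hf, f0, f1⟩ := iso_two hF h.hP.1 hs 0 1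
  have hfQ : InQ sp P f₁ := h.inQ_of_val hf f0 Pu (by rw [f1]; exact one_ne_zero)
  have ef1 : hb u f₁ = 1 := hb_one_comm hF f1
  obtain ⟨z0, hz0⟩ := h.exists_img hfQ
  obtain ⟨z, hz, z1⟩ := h.scale_one hz0 (h.val_ne hF hz0 ie₁ (by rw [f1]; exact one_ne_zero))
  by_cases hcls : ∃ n : F, z + f₁ = n • P
  · obtain ⟨n, hn⟩ := hcls
    refine h.pair_false hF ie₁ (h.inv_of_class (n := n) (k := 1) hz ?_) ef1
    rw [one_smul, ← hn, add_assoc, vec_add_self hF, add_zero]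
  simp only [not_exists] at hcls
  set e₂ := z + f₁ with he₂
  have zf : hb z f₁ = 0 := zc (h.img_orth hz)
  have e22 : hb e₂ e₂ = 0 := by
    rw [he₂, hb_add_left, hb_add_right hF, hb_add_right hF, hz.2.1.1.2, zf, zc zf, hf]; ring
  have e2e1 : hb e₂ u = 0 := by rw [he₂, hb_add_left, z1, f1]; exact add_self_zero hF 1
  have e2f1 : hb e₂ f₁ = 0 := by rw [he₂, hb_add_left, zf, hf, add_zero]
  have e2P : hb e₂ P = 0 := by rw [he₂, hb_add_left, h.orth hz.2.1, f0, add_zero]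
  obtain ⟨f₂, fr⟩ := exists_frame_f hF h.hP hu.2 hf ef1 e22 Pu (h.orth' hF hfQ) (zc e2P) (zc e2e1)
    (zc e2f1) hcls
  have ze : z = e₂ + f₁ := by rw [he₂, add_assoc, vec_add_self hF, add_zero]
  -- the point of the line is invariant
  have e2Q : InQ sp P e₂ := h.inQ e22 e2P hcls
  obtain ⟨y, hy⟩ := h.exists_img e2Q
  have e2z : hb e₂ z = 0 := by rw [ze, hb_add_right hF, e22, e2f1, add_zero]
  have y1 := h.val_zero hF hy ie₁ e2e1
  have y2 : hb y f₁ = 0 := (h.img_comm hy (h.img_symm hz)).mp e2z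
  have y3 : hb y e₂ = 0 := zc (h.img_orth hy)
  obtain ⟨k, hk⟩ := fr.coord hF (h.orth hy.2.1)
  rw [y1, y2, y3, zero_smul, zero_smul, zero_smul, add_zero, add_zero, add_zero] at hk
  have ie₂ := h.inv_of_class hy hk
  -- the image of the last member of the frame
  have f2Q : InQ sp P f₂ := h.inQ_of_val fr.f22 (zc fr.pf2) fr.pe2 (by rw [fr.fe2 hF]; exact one_ne_zero)
  obtain ⟨w0, hw0⟩ := h.exists_img f2Q
  obtain ⟨w, hw, w3⟩ := h.scale_one hw0 (h.val_ne hF hw0 ie₂ (by rw [fr.fe2 hF]; exact one_ne_zero))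
  have w1 := h.val_zero hF hw ie₁ (zc fr.ef)
  have w4 : hb w f₂ = 0 := zc (h.img_orth hw)
  have w2 : hb w f₁ = 1 := by
    have := (h.img_comm hw hz).mp (zc fr.ff)
    rw [ze, hb_add_right hF, w3] at this
    exact ((add_eq_zero_iff_eq' hF).mp this).symm
  obtain ⟨om, ho0, ho1, ho⟩ := exists_omega hF
  have h2 := two_zero hF
  -- the member `f₂ + ω² e₁`
  set q := f₂ + om ^ 2 • u with hq
  have qe : q = (0 : F) • P + (om ^ 2) • u + (0 : F) • f₁ + (0 : F) • e₂ + (1 : F) • f₂ := by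
    rw [hq]; simp; abel
  obtain ⟨q0, q1, q2, q3, q4⟩ := fr.val hF 0 (om ^ 2) 0 0 1
  rw [← qe] at q0 q1 q2 q3 q4
  have qQ : InQ sp P q := h.inQ_of_val (by rw [qe, fr.form hF]; ring) q0 fr.pe2
    (by rw [q3]; exact one_ne_zero)
  obtain ⟨r0, hr0⟩ := h.exists_img qQ
  obtain ⟨r, hr, r3⟩ := h.scale_one hr0 (h.val_ne hF hr0 ie₂ (by rw [q3]; exact one_ne_zero))
  have r1 := h.val_zero hF hr ie₁ q1
  have r4 : hb r f₂ = 0 := by
    have := zc (h.img_orth hr)
    rw [hq, hb_add_right hF, hb_smul_right, r1, mul_zero, add_zero] at this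
    exact this
  -- the member `f₁ + ω f₂`
  set x := f₁ + om • f₂ with hx
  have xe : x = (0 : F) • P + (0 : F) • u + (1 : F) • f₁ + (0 : F) • e₂ + om • f₂ := by rw [hx]; simp
  obtain ⟨x0, x1, x2, x3, x4⟩ := fr.val hF 0 0 1 0 om
  rw [← xe] at x0 x1 x2 x3 x4
  have xQ : InQ sp P x := h.inQ_of_val (by rw [xe, fr.form hF]; ring) x0 Pu
    (by rw [x1]; exact one_ne_zero)
  obtain ⟨t0, ht0⟩ := h.exists_img xQ
  obtain ⟨t, ht, t1⟩ := h.scale_one ht0 (h.val_ne hF ht0 ie₁ (by rw [x1]; exact one_ne_zero))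
  have t4 : hb t f₂ = 1 := by
    have e := (h.img_comm ht hw).mp x4
    obtain ⟨kw, hkw⟩ := fr.coord hF (h.orth hw.2.1)
    rw [hkw, w1, w2, w3, w4] at e
    simp only [hb_add_right hF, hb_smul_right, h.orth ht.2.1, t1] at e
    linear_combination e - h2
  have te : hb t f₁ + hb t e₂ = 0 := by
    have e := (h.img_comm ht hz).mp x2
    rw [ze, hb_add_right hF] at e
    linear_combination e
  have t2 : hb t f₁ = om ^ 2 := by
    have e := zc (h.img_orth ht)
    rw [hx, hb_add_right hF, hb_smul_right, t4] at e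
    exact (add_eq_zero_iff_eq' hF).mp (by linear_combination e)
  have t3 : hb t e₂ = om ^ 2 := by
    rw [t2] at te; exact ((add_eq_zero_iff_eq' hF).mp te).symm
  -- moving `x` by the two invariant members
  have hW := h.img_third hF ie₁ ht
  have g1 : hb t (u + a • P) = 1 := by rw [h.val_inv hF ie₁ (h.orth ht.2.1), t1]
  rw [x1, g1, one_smul, one_smul] at hW
  have hW' := h.img_third hF ie₂ hW
  have g2 : hb (x + u) e₂ = om := by rw [hb_add_left, x3, fr.ee, add_zero]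
  have g3 : hb (t + (u + a • P)) (e₂ + ((hb y f₂)⁻¹ * k) • P) = om ^ 2 := by
    rw [h.val_inv hF ie₂ (by rw [hb_add_left, h.orth ht.2.1, hb_add_left, hb_smul_left, h.hP.2,
      zc Pu, mul_zero, add_zero, add_zero])]
    simp only [hb_add_left, hb_smul_left, t3, fr.ee, fr.pe2, mul_zero, add_zero]
  rw [g2, g3] at hW'
  have e := (h.img_comm hr hW').mp (by
    simp only [hx, hb_add_right hF, hb_smul_right, q1, q2, q3, q4]
    linear_combination om ^ 2 * h2)
  obtain ⟨kt, hkt⟩ := fr.coord hF (h.orth ht.2.1)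
  rw [hkt, t1, t2, t3, t4] at e
  simp only [hb_add_right hF, hb_smul_right, h.orth hr.2.1, r1, r3, r4] at e
  have hmu : hb r f₁ = om ^ 2 := by
    refine (add_eq_zero_iff_eq' hF).mp ?_
    linear_combination e + (-om ^ 2 + om - 1) * ho + om ^ 2 * h2
  obtain ⟨kr, hkr⟩ := fr.coord hF (h.orth hr.2.1)
  rw [r1, r3, r4, hmu] at hkr
  have iq := h.inv_of_class (n := kr) (k := 1) hr (by rw [hkr, hq]; simp; abel)
  exact h.pair_false hF ie₂ iq (hb_one_comm hF q3)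

end Fpf

end Cfsg.Agent.H93
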