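import Cfsg.Agent.H93.Cent22
import Cfsg.Agent.Unitary.TIFrames
import Cfsg.Agent.Unitary.Center
import Cfsg.Agent.Unitary.Simple

/-!
Triples of pairwise commuting members in a group of type M(22): transitivity, the order of the
stabiliser of a triple, and the order of the centraliser of the product of a triple.
-/

set_option autoImplicit false

namespace Cfsg.Agent.H93

/-- a transitive class of 3-transpositions from the group notion -/
theorem class_of_group {G : Type*} [Group G] {D : Set G} (hD : Cfsg.IsThreeTranspositionGroup D)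
    (hprim : Cfsg.IsPrimitiveUnderConj D) : Cfsg.IsThreeTranspositionClass D := by
  obtain ⟨a, ha, -⟩ := hprim.2.1
  refine ⟨hD.1, ⟨a, ha, Set.ext fun x => ⟨fun hx => ?_, fun hx => ?_⟩⟩, hD.2.2⟩
  · exact isConj_iff.mpr (hprim.1 a ha x hx)
  · obtain ⟨g, rfl⟩ := isConj_iff.mp (show IsConj a x from hx)
    exact hD.2.1 g a ha

variable {G : Type*} [Group G]

/-- conjugation of a triple -/
def conj3 (g : G) (t : G × G × G) : G × G × G :=
  (g * t.1 * g⁻¹, g * t.2.1 * g⁻¹, g * t.2.2 * g⁻¹)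

theorem conj3_mul (g g' : G) (t : G × G × G) : conj3 (g * g') t = conj3 g (conj3 g' t) := by
  simp only [conj3, mul_inv_rev, mul_assoc]

theorem conj3_eq_self {g a b c : G} :
    conj3 g (a, b, c) = (a, b, c) ↔ g ∈ Subgroup.centralizer ({a, b, c} : Set G) := by
  have h : ∀ x : G, g * x * g⁻¹ = x ↔ x * g = g * x := fun x => by
    rw [mul_inv_eq_iff_eq_mul, eq_comm]
  simp only [conj3, Prod.mk.injEq, h, Subgroup.mem_centralizer_iff, Set.mem_insert_iff,
    Set.mem_singleton_iff, forall_eq_or_imp, forall_eq]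

/-- orbit and stabiliser for conjugation of triples -/
theorem card_of_transitive [Finite G] (H : Subgroup G) (X : Set (G × G × G)) (a b c : G)
    (hK : Subgroup.centralizer ({a, b, c} : Set G) ≤ H)
    (hmap : ∀ g ∈ H, conj3 g (a, b, c) ∈ X)
    (htr : ∀ t ∈ X, ∃ g ∈ H, conj3 g (a, b, c) = t) :
    Nat.card H = X.ncard * Nat.card ↥(Subgroup.centralizer ({a, b, c} : Set G)) := by
  set K := Subgroup.centralizer ({a, b, c} : Set G)
  have key : ∀ g g' : H, conj3 (g : G) (a, b, c) = conj3 (g' : G) (a, b, c) ↔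
      g⁻¹ * g' ∈ K.subgroupOf H := by
    intro g g'
    rw [Subgroup.mem_subgroupOf, ← conj3_eq_self, Subgroup.coe_mul, conj3_mul, Subgroup.coe_inv]
    refine ⟨fun e => by rw [← e, ← conj3_mul, inv_mul_cancel]; simp [conj3], fun e => ?_⟩
    calc conj3 (g : G) (a, b, c) = conj3 (g : G) (conj3 (g : G)⁻¹ (conj3 (g' : G) (a, b, c))) := by
          rw [e]
      _ = conj3 (g' : G) (a, b, c) := by rw [← conj3_mul, mul_inv_cancel]; simp [conj3]
  let φ : H ⧸ K.subgroupOf H → X :=
    Quotient.lift (fun g : H => (⟨conj3 (g : G) (a, b, c), hmap g g.2⟩ : X)) fun g g' h =>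
      Subtype.ext ((key g g').mpr (QuotientGroup.leftRel_apply.mp h))
  have hφ : Function.Bijective φ := by
    refine ⟨?_, ?_⟩
    · rintro ⟨g⟩ ⟨g'⟩ h
      exact QuotientGroup.eq.mpr ((key g g').mp (congrArg Subtype.val h))
    · rintro ⟨t, ht⟩
      obtain ⟨g, hg, e⟩ := htr t ht
      exact ⟨QuotientGroup.mk ⟨g, hg⟩, Subtype.ext e⟩
  rw [Subgroup.card_eq_card_quotient_mul_card_subgroup (K.subgroupOf H),
    Nat.card_congr (Subgroup.subgroupOfEquivOfLe hK).toEquiv,
    Nat.card_eq_of_bijective φ hφ, Nat.card_coe_set_eq]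

/-- a set of three elements in a given product order -/
theorem prod_three {a b c : G} (ab : Commute a b) (ac : Commute a c) (bc : Commute b c)
    (f : Fin 3 → G) (hf : f = ![a, b, c]) (i j k : Fin 3) (hij : i ≠ j) (hik : i ≠ k) (hjk : j ≠ k) :
    f i * f j * f k = a * b * c := by
  have e1 : a * c * b = a * b * c := by rw [mul_assoc, ← bc.eq, ← mul_assoc]
  have e2 : b * a * c = a * b * c := by rw [← ab.eq]
  have e3 : b * c * a = a * b * c := by rw [mul_assoc, ← ac.eq, ← mul_assoc, e2]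
  have e4 : c * a * b = a * b * c := by rw [← ac.eq, e1]
  have e5 : c * b * a = a * b * c := by rw [← bc.eq, e3]
  subst hf
  fin_cases i <;> fin_cases j <;> fin_cases k <;> first
    | exact absurd rfl hij
    | exact absurd rfl hik
    | exact absurd rfl hjk
    | simp [e1, e2, e3, e4, e5]


/-- the kernel involution maps to the identity -/
theorem TwoExt.π_d {K : Type*} [Field K] [Fintype K] (hK : Fintype.card K = 4) {C : Type*} [Group C]
    {π : C →* Cfsg.PSU 6 K 2} {d : C} (h : TwoExt π d) : π d = 1 := by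
  have := Cfsg.Agent.Unitary.isSimpleGroup_PSU (F := K) (n := 6) (q := 2)
    (by rw [hK]; norm_num) (by norm_num) (by norm_num)
  have hc : π d ∈ Subgroup.center (Cfsg.PSU 6 K 2) := Subgroup.mem_center_iff.mpr fun g => by
    obtain ⟨x, rfl⟩ := h.surj g
    rw [← map_mul, ← map_mul, (h.cen x).eq]
  rcases (inferInstance : (Subgroup.center (Cfsg.PSU 6 K 2)).Normal).eq_bot_or_eq_top with e | e
  · rwa [e, Subgroup.mem_bot] at hc
  · exfalso
    obtain ⟨u, hu⟩ := exists_pt hK
    obtain ⟨v, hv, hvu⟩ := iso_one hK hu.1 1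
    have := ptv_hb_zero hK hu (pt_of_hb_eq_one hv hvu)
      (Subgroup.mem_center_iff.mp (e.symm ▸ Subgroup.mem_top (ptv hK v)) (ptv hK u))
    rw [hvu] at this
    exact one_ne_zero this

variable [Finite G] {D : Set G} {F : Type*} [Field F] [Fintype F]

omit [Finite G] in
/-- two ordered triples of commuting members are conjugate -/
theorem M22Data.trans3 (h : M22Data D F)
    (hcent : ∀ x ∈ D, Subgroup.centralizer ({x} : Set G) = nbSub D x)
    {a b c a' b' c' : G} (ha : a ∈ D) (hb' : b ∈ nb D a) (hc : c ∈ nb D a ∩ nb D b)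
    (ha' : a' ∈ D) (hb'' : b' ∈ nb D a') (hc' : c' ∈ nb D a' ∩ nb D b') :
    ∃ g, conj3 g (a, b, c) = (a', b', c') := by
  have htt := h.core.tt
  have hcd := h.coverData fun x hx z _ g _ hgx => by
    rw [← hcent x hx]; exact mem_cent hgx.symm
  obtain ⟨g1, rfl⟩ := isConj_iff.mp (h.core.cls a ha a' ha')
  have hb1 := htt.nb_conj g1 hb'
  obtain ⟨g2, e2, f2, -⟩ := exists_conj_nb h.core hb1 hb'' ha' ((h.spaces _ ha').some.sep h.hF)
  have hc2a := htt.nb_conj g2 (htt.nb_conj g1 hc.1)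
  have hc2b := htt.nb_conj g2 (htt.nb_conj g1 hc.2)
  rw [f2] at hc2a
  rw [e2] at hc2b
  set a' := g1 * a * g1⁻¹ with ha'def
  set c2 := g2 * (g1 * c * g1⁻¹) * g2⁻¹ with hc2def
  have step : ∀ {z z'}, z ∈ nb D a' ∩ nb D b' → z' ∈ nb D a' ∩ nb D b' → ¬ Commute z z' →
      ∃ k, k * a' * k⁻¹ = a' ∧ k * b' * k⁻¹ = b' ∧ k * z * k⁻¹ = z' := by
    intro z z' hz hz' hn
    refine ⟨z * z', mul_inv_eq_iff_eq_mul.mpr (hz.1.2.2.symm.mul_left hz'.1.2.2.symm).eq,
      mul_inv_eq_iff_eq_mul.mpr (hz.2.2.2.symm.mul_left hz'.2.2.2.symm).eq, ?_⟩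
    rw [mul_inv_rev, htt.inv_eq hz'.1.1, htt.inv_eq hz.1.1, htt.braid hz.1.1 hz'.1.1 hn]
    calc z' * z * z' * (z' * z) = z' * z * (z' * z') * z := by group
      _ = z' := by rw [htt.sq z' hz'.1.1, mul_one, mul_assoc, htt.sq z hz.1.1, mul_one]
  obtain ⟨k, ka, kb, kc⟩ : ∃ k, k * a' * k⁻¹ = a' ∧ k * b' * k⁻¹ = b' ∧ k * c2 * k⁻¹ = c' := by
    by_cases e : c2 = c'
    · exact ⟨1, by simp, by simp, by simp [e]⟩
    by_cases hcc : Commute c2 c'
    · have hnb : c' ∈ nb D c2 := ⟨hc'.1.1, Ne.symm e, hcc⟩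
      obtain ⟨w, hw, hw', n1, n2⟩ := hcd.sep2 c2 hc2a.1 c' hnb b'
        ⟨nb_symm hb''.1 ⟨hc2a.1, hc2b.2.1, hc2b.2.2⟩ |> fun q => q, nb_symm hb''.1 hc'.2⟩ a'
        ⟨nb_symm ha' hc2a, nb_symm ha' hc'.1⟩ hb''.2.2.symm
      rcases hw' with q | hwa
      · exact absurd q.symm hb''.2.1
      have hwin : w ∈ nb D a' ∩ nb D b' := ⟨hwa, hw⟩
      obtain ⟨k1, p1, q1, r1⟩ := step ⟨hc2a, hc2b⟩ hwin fun q => n1 q.symm
      obtain ⟨k2, p2, q2, r2⟩ := step hwin hc' n2
      refine ⟨k2 * k1, ?_, ?_, ?_⟩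
      · conv_rhs => rw [← p2, ← p1]
        group
      · conv_rhs => rw [← q2, ← q1]
        group
      · rw [← r2, ← r1]; group
    · exact step ⟨hc2a, hc2b⟩ hc' hcc
  refine ⟨k * g2 * g1, ?_⟩
  simp only [conj3, Prod.mk.injEq]
  refine ⟨?_, ?_, ?_⟩
  · calc k * g2 * g1 * a * (k * g2 * g1)⁻¹ = k * (g2 * a' * g2⁻¹) * k⁻¹ := by
          rw [ha'def]; group
      _ = a' := by rw [f2, ka]
  · calc k * g2 * g1 * b * (k * g2 * g1)⁻¹ = k * (g2 * (g1 * b * g1⁻¹) * g2⁻¹) * k⁻¹ := by group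
      _ = b' := by rw [e2, kb]
  · rw [← kc, hc2def]; group

omit [Finite G] in
/-- the ordered commuting pairs in a neighbourhood, against the totally isotropic frames -/
theorem M22Data.card_pairs (h : M22Data D F) {a : G} (ha : a ∈ D) :
    Nat.card (Cfsg.Agent.Unitary.TIFrame 6 F 2 2) =
      9 * {t : G × G × G | t.1 = a ∧ t.2.1 ∈ nb D a ∧ t.2.2 ∈ nb D a ∩ nb D t.2.1}.ncard := by
  classical
  have hF := h.hF
  obtain ⟨sp⟩ := h.spaces a ha
  set X := {t : G × G × G | t.1 = a ∧ t.2.1 ∈ nb D a ∧ t.2.2 ∈ nb D a ∩ nb D t.2.1}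
  have rep : ∀ t : X, ∃ u v, IsPt u ∧ IsPt v ∧ hb u v = 0 ∧ ¬ SamePt u v ∧
      t.1 = (a, sp.pt u, sp.pt v) := by
    rintro ⟨⟨t1, t2, t3⟩, h1, h2, h3⟩
    obtain ⟨u, hu, rfl⟩ := sp.surj t2 h2
    obtain ⟨v, hv, rfl⟩ := sp.surj t3 h3.1
    refine ⟨u, v, hu, hv, (sp.comm hu hv).mp h3.2.2.2, fun e => h3.2.2.1 ?_, by simp at h1; simp [h1]⟩
    exact ((sp.same hu hv).mpr e).symm
  choose u v hu hv huv hs ht using rep
  let φ : X × Fˣ × Fˣ → Cfsg.Agent.Unitary.TIFrame 6 F 2 2 := fun p =>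
    ⟨![(p.2.1 : F) • u p.1, (p.2.2 : F) • v p.1],
      indep_pair (smul_ne_zero p.2.1.ne_zero (hu p.1).1) (fun ⟨r, hr⟩ => hs p.1
        ⟨(p.2.2 : F)⁻¹ * (r * p.2.1), by
          rw [mul_smul, mul_smul, ← hr, inv_smul_smul₀ p.2.2.ne_zero]⟩),
      fun i j => by
        show hb _ _ = 0
        have := (hb_eq_zero_comm hF).mp (huv p.1)
        fin_cases i <;> fin_cases j <;>
          simp [hb_smul_left, hb_smul_right, (hu p.1).2, (hv p.1).2, huv p.1, this]⟩
  have hbij : Function.Bijective φ := by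
    refine ⟨fun p p' e => ?_, fun f => ?_⟩
    · have e' := congrArg Subtype.val e
      have e0 : (p.2.1 : F) • u p.1 = (p'.2.1 : F) • u p'.1 := congrFun e' 0
      have e1 : (p.2.2 : F) • v p.1 = (p'.2.2 : F) • v p'.1 := congrFun e' 1
      have same : ∀ {x y : Vec F} {r s : Fˣ}, IsPt x → IsPt y → (r : F) • x = (s : F) • y →
          sp.pt x = sp.pt y := fun {x y r s} hx hy q => by
        rw [← (sp.smul_pt r.ne_zero hx).2, q, (sp.smul_pt s.ne_zero hy).2]
      have et : p.1 = p'.1 := Subtype.ext (by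
        rw [ht p.1, ht p'.1, same (hu _) (hu _) e0, same (hv _) (hv _) e1])
      rw [et] at e0 e1
      refine Prod.ext et (Prod.ext (Units.ext ?_) (Units.ext ?_))
      · exact smul_left_injective F (hu p'.1).1 e0
      · exact smul_left_injective F (hv p'.1).1 e1
    · obtain ⟨f, hli, hfo⟩ := f
      have p0 : IsPt (f 0) := ⟨hli.ne_zero 0, hfo 0 0⟩
      have p1 : IsPt (f 1) := ⟨hli.ne_zero 1, hfo 1 1⟩
      have hne : sp.pt (f 1) ≠ sp.pt (f 0) := fun q => by
        obtain ⟨r, hr⟩ := (sp.same p0 p1).mp q.symm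
        have := (LinearIndependent.eq_zero_of_pair
          (show LinearIndependent F ![f 0, f 1] by
            rwa [show (![f 0, f 1] : Fin 2 → Vec F) = f from funext fun i => by fin_cases i <;> rfl])
          (s := r) (t := -1) (by rw [neg_smul, one_smul, ← hr, add_neg_cancel])).2
        simp at this
      let t : X := ⟨(a, sp.pt (f 0), sp.pt (f 1)), rfl, sp.mem p0, sp.mem p1,
        ⟨(sp.mem p1).1, hne, (sp.comm p0 p1).mpr (hfo 0 1)⟩⟩
      have et := ht t
      simp only [t, Prod.mk.injEq, true_and] at et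
      obtain ⟨r, hr⟩ := (sp.same (hu t) p0).mp et.1.symm
      obtain ⟨s, hs'⟩ := (sp.same (hv t) p1).mp et.2.symm
      have r0 : r ≠ 0 := fun q => p0.1 (by rw [hr, q, zero_smul])
      have s0 : s ≠ 0 := fun q => p1.1 (by rw [hs', q, zero_smul])
      refine ⟨(t, Units.mk0 r r0, Units.mk0 s s0), Subtype.ext (funext fun i => ?_)⟩
      fin_cases i
      · exact hr.symm
      · exact hs'.symm
  rw [← Nat.card_eq_of_bijective φ hbij, Nat.card_prod, Nat.card_prod, Nat.card_coe_set_eq,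
    Nat.card_units, Nat.card_eq_fintype_card, hF]
  ring

variable {K : Type*} [Field K] [Fintype K] (hK : Fintype.card K = 4)

include hK

omit [Finite G] [Field F] [Fintype F] in
/-- the order of the centraliser of a member -/
theorem card_cent_member (hcore : Core D) {a : G} (ha : a ∈ D)
    {π : ↥(Subgroup.centralizer ({a} : Set G)) →* Cfsg.PSU 6 K 2}
    (he : TwoExt π ⟨a, mem_cent (Commute.refl a)⟩) :
    Nat.card ↥(Subgroup.centralizer ({a} : Set G)) = 2 * Nat.card (Cfsg.PSU 6 K 2) := by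
  rw [← Subgroup.card_mul_index π.ker, Subgroup.index_ker, MonoidHom.range_eq_top.mpr he.surj,
    Subgroup.card_top]
  congr 1
  have hk : (π.ker : Set ↥(Subgroup.centralizer ({a} : Set G))) =
      {1, ⟨a, mem_cent (Commute.refl a)⟩} := by
    ext x
    refine ⟨fun hx => he.ker x hx, ?_⟩
    rintro (rfl | rfl)
    · exact map_one π
    · exact he.π_d hK
  rw [show Nat.card ↥π.ker = Nat.card ↥(π.ker : Set ↥(Subgroup.centralizer ({a} : Set G))) from rfl,
    Nat.card_coe_set_eq, hk, Set.ncard_pair]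
  exact fun q => hcore.ne_one a ha (congrArg Subtype.val q).symm

/-- the stabiliser of an ordered triple -/
theorem M22Data.card_cent3 (h : M22Data D F)
    (hcent : ∀ x ∈ D, Subgroup.centralizer ({x} : Set G) = nbSub D x)
    {a b c : G} (ha : a ∈ D) (hb' : b ∈ nb D a) (hc : c ∈ nb D a ∩ nb D b)
    {π : ↥(Subgroup.centralizer ({a} : Set G)) →* Cfsg.PSU 6 K 2}
    (he : TwoExt π ⟨a, mem_cent (Commute.refl a)⟩) :
    Nat.card ↥(Subgroup.centralizer ({a, b, c} : Set G)) = 2 ^ 14 * 3 ^ 2 := by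
  classical
  have hF := h.hF
  have htt := h.core.tt
  set X := {t : G × G × G | t.1 = a ∧ t.2.1 ∈ nb D a ∧ t.2.2 ∈ nb D a ∩ nb D t.2.1} with hX
  have horb := card_of_transitive (Subgroup.centralizer ({a} : Set G)) X a b c
    (Subgroup.centralizer_le (by simp))
    (fun g hg => by
      have ga : g * a * g⁻¹ = a :=
        mul_inv_eq_iff_eq_mul.mpr (Subgroup.mem_centralizer_singleton_iff.mp hg)
      refine ⟨ga, ?_, ?_, htt.nb_conj g hc.2⟩
      · simpa [conj3, ga] using htt.nb_conj g hb'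
      · simpa [conj3, ga] using htt.nb_conj g hc.1)
    (fun t ht => by
      obtain ⟨t1, t2, t3⟩ := t
      obtain ⟨rfl, h2, h3⟩ := ht
      obtain ⟨g, hg⟩ := h.trans3 hcent ha hb' hc ha h2 h3
      exact ⟨g, Subgroup.mem_centralizer_singleton_iff.mpr
        (mul_inv_eq_iff_eq_mul.mp (congrArg Prod.fst hg)), hg⟩)
  have hCa := card_cent_member hK h.core ha he
  have hK2 : Fintype.card K = 2 ^ 2 := by rw [hK]; norm_num
  have hF2 : Fintype.card F = 2 ^ 2 := by rw [hF]; norm_num
  have hP := Cfsg.Agent.Unitary.card_PSU (n := 6) hK2 (by norm_num)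
  have hGU := Cfsg.Agent.Unitary.card_GU_eq_mul_card_SU (n := 6) hK2 (by norm_num)
  have hT := Cfsg.Agent.Unitary.card_TIFrame (n := 6) hF2 (k := 2) (by norm_num)
  have hGU2 : Nat.card (Cfsg.GU (6 - 2 * 2) F 2) = 18 := by
    rw [Cfsg.Agent.Unitary.card_GU hF2]
    simp [Finset.prod_range_succ, Cfsg.Agent.Unitary.guFactor]
  rw [h.card_pairs ha, hGU2, ← hX] at hT
  have hsame : Nat.card (Cfsg.GU 6 K 2) = Nat.card (Cfsg.GU 6 F 2) := by
    rw [Cfsg.Agent.Unitary.card_GU hK2, Cfsg.Agent.Unitary.card_GU hF2]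
  rw [hsame, ← hT, ← hP] at hGU
  norm_num at hGU
  rw [hCa] at horb
  have hX0 : 0 < X.ncard := (Set.ncard_pos (Set.toFinite X)).mpr ⟨(a, b, c), rfl, hb', hc⟩
  have key : X.ncard * Nat.card ↥(Subgroup.centralizer ({a, b, c} : Set G)) =
      X.ncard * (2 ^ 14 * 3 ^ 2) := by
    rw [← horb]
    norm_num
    omega
  exact Nat.eq_of_mul_eq_mul_left hX0 key

/-- the order of the centraliser of the product of three commuting members -/
theorem M22Data.card_cent_prod3 (h : M22Data D F)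
    (hcent : ∀ x ∈ D, Subgroup.centralizer ({x} : Set G) = nbSub D x)
    {a b c : G} (ha : a ∈ D) (hb' : b ∈ nb D a) (hc : c ∈ nb D a ∩ nb D b)
    {π : ↥(Subgroup.centralizer ({a} : Set G)) →* Cfsg.PSU 6 K 2}
    (he : TwoExt π ⟨a, mem_cent (Commute.refl a)⟩) :
    Nat.card ↥(Subgroup.centralizer ({a * b * c} : Set G)) = 2 ^ 16 * 3 ^ 3 := by
  classical
  have hF := h.hF
  have htt := h.core.tt
  obtain ⟨sp⟩ := h.spaces a ha
  have cab := hb'.2.2
  have cac := hc.1.2.2
  have cbc := hc.2.2.2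
  have nab := hb'.2.1.symm
  have nac := hc.1.2.1.symm
  have nbc := hc.2.2.1.symm
  obtain ⟨p, q, r, hp, hq, hr, hnd, hcom, hthird, honly, hprod⟩ :=
    sp.exists_line hF (fun y hy => htt.sq y hy.1) hb' hc.1 nbc cbc
  set N := b * c * p * q * r with hN
  have hlD : ∀ x ∈ [b, c, p, q, r], x ∈ D := by
    simp only [List.mem_cons, List.not_mem_nil, or_false]
    rintro x (rfl | rfl | rfl | rfl | rfl)
    exacts [hb'.1, hc.1.1, hp.1, hq.1, hr.1]
  have hNa : N = a := by
    rcases h.kernel_nb ha (g := N) (((((cab.mul_right cac).mul_right hp.2.2).mul_right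
      hq.2.2).mul_right hr.2.2).symm) (fun v hv => (hprod v hv).symm) with e | e
    · refine absurd ?_ (h.ind [b, c, p, q, r] hnd (by simp) (by simp) hlD hcom)
      simpa [hN, mul_assoc] using e
    · exact e
  simp only [List.nodup_cons, List.mem_cons, List.not_mem_nil, or_false, not_or, List.nodup_nil,
    and_true, not_false_eq_true] at hnd
  have cpq : Commute p q := hcom p (by simp) q (by simp)
  have cpr : Commute p r := hcom p (by simp) r (by simp)
  have cqr : Commute q r := hcom q (by simp) r (by simp)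
  have hpqr : p * q * r = a * b * c := by
    have e : b * c * (p * q * r) = a := by rw [← hNa, hN]; group
    calc p * q * r = c * b * (b * c * (p * q * r)) := by
          rw [show c * b * (b * c * (p * q * r)) = c * (b * b) * c * (p * q * r) by group,
            htt.sq b hb'.1, mul_one, htt.sq c hc.1.1, one_mul]
      _ = c * b * a := by rw [e]
      _ = a * b * c := prod_three cab cac cbc _ rfl 2 1 0 (by decide) (by decide) (by decide)
  -- the triples with the same product
  set X := {t : G × G × G | t.1 ∈ D ∧ t.2.1 ∈ nb D t.1 ∧ t.2.2 ∈ nb D t.1 ∩ nb D t.2.1 ∧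
    t.1 * t.2.1 * t.2.2 = a * b * c} with hX
  let f : Fin 2 → Fin 3 → G := ![![a, b, c], ![p, q, r]]
  have fprod : ∀ i, f i 0 * f i 1 * f i 2 = a * b * c ∧ Commute (f i 0) (f i 1) ∧
      Commute (f i 0) (f i 2) ∧ Commute (f i 1) (f i 2) := by
    intro i; fin_cases i
    exacts [⟨rfl, cab, cac, cbc⟩, ⟨hpqr, cpq, cpr, cqr⟩]
  have fmem : ∀ i k, f i k ∈ D := by
    intro i k; fin_cases i <;> fin_cases k
    exacts [ha, hb'.1, hc.1.1, hp.1, hq.1, hr.1]
  have finj : ∀ i i' k k', f i k = f i' k' → i = i' ∧ k = k' := by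
    intro i i' k k' e
    have hpa := hp.2.1; have hqa := hq.2.1; have hra := hr.2.1
    fin_cases i <;> fin_cases i' <;> fin_cases k <;> fin_cases k' <;>
      simp [f, nab, nac, nbc, nab.symm, nac.symm, nbc.symm, hpa, hqa, hra, hpa.symm, hqa.symm,
        hra.symm, hnd, Ne.symm hnd.1.2.1, Ne.symm hnd.1.2.2.1, Ne.symm hnd.1.2.2.2,
        Ne.symm hnd.2.1.1, Ne.symm hnd.2.1.2.1, Ne.symm hnd.2.1.2.2, Ne.symm hnd.2.2.1.1,
        Ne.symm hnd.2.2.1.2, Ne.symm hnd.2.2.2] at e ⊢
  have fcom : ∀ i k k', Commute (f i k) (f i k') := by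
    intro i k k'
    obtain ⟨-, c1, c2, c3⟩ := fprod i
    fin_cases k <;> fin_cases k'
    exacts [Commute.refl _, c1, c2, c1.symm, Commute.refl _, c3, c2.symm, c3.symm, Commute.refl _]
  let φ : Fin 2 × Equiv.Perm (Fin 3) → G × G × G := fun x =>
    (f x.1 (x.2 0), f x.1 (x.2 1), f x.1 (x.2 2))
  have φinj : Function.Injective φ := by
    rintro ⟨i, s⟩ ⟨i', s'⟩ e
    simp only [φ, Prod.mk.injEq] at e
    obtain ⟨e0, e1, e2⟩ := e
    obtain ⟨rfl, k0⟩ := finj _ _ _ _ e0
    refine Prod.ext rfl (Equiv.ext fun k => ?_)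
    fin_cases k
    exacts [k0, (finj _ _ _ _ e1).2, (finj _ _ _ _ e2).2]
  have φmem : ∀ x, φ x ∈ X := by
    rintro ⟨i, s⟩
    have ne : ∀ {k k' : Fin 3}, k ≠ k' → f i (s k) ≠ f i (s k') := fun hk e =>
      hk (s.injective (finj _ _ _ _ e).2)
    refine ⟨fmem _ _, ⟨fmem _ _, ne (by decide), fcom _ _ _⟩, ⟨⟨fmem _ _, ne (by decide), fcom _ _ _⟩,
      ⟨fmem _ _, ne (by decide), fcom _ _ _⟩⟩, ?_⟩
    obtain ⟨e, c1, c2, c3⟩ := fprod i
    exact (prod_three c1 c2 c3 (f i) (funext fun k => by fin_cases k <;> rfl) _ _ _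
      (s.injective.ne (by decide)) (s.injective.ne (by decide)) (s.injective.ne (by decide))).trans e
  have φsurj : ∀ t ∈ X, ∃ x, φ x = t := by
    rintro ⟨x, y, z⟩ ⟨hx, hy, hz, hj⟩
    simp only at hx hy hz hj
    have xy := hy.2.2
    have xz := hz.1.2.2
    have yz := hz.2.2.2
    -- each of the three commutes with `a`, `b` and `c`
    have cabc : ∀ u ∈ D, Commute u x → Commute u y → Commute u z →
        Commute u a ∧ Commute u b ∧ Commute u c := fun u hu h1 h2 h3 =>
      htt.commute_of_commute_mul₃ hu ha hb'.1 hc.1.1 nab nac nbc cab cac cbc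
        (hj ▸ (h1.mul_right h2).mul_right h3)
    have cxyz : ∀ u ∈ D, Commute u a → Commute u b → Commute u c →
        Commute u x ∧ Commute u y ∧ Commute u z := fun u hu h1 h2 h3 =>
      htt.commute_of_commute_mul₃ hu hx hy.1 hz.1.1 hy.2.1.symm hz.1.2.1.symm hz.2.2.1.symm xy xz yz
        (hj.symm ▸ (h1.mul_right h2).mul_right h3)
    have inline : ∀ u, u ∈ [x, y, z] → u = a ∨ u ∈ [b, c, p, q, r] := by
      intro u hu
      have huD : u ∈ D ∧ Commute u x ∧ Commute u y ∧ Commute u z := by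
        simp only [List.mem_cons, List.not_mem_nil, or_false] at hu
        rcases hu with rfl | rfl | rfl
        exacts [⟨hx, Commute.refl _, xy, xz⟩, ⟨hy.1, xy.symm, Commute.refl _, yz⟩,
          ⟨hz.1.1, xz.symm, yz.symm, Commute.refl _⟩]
      obtain ⟨hu1, ux, uy, uz⟩ := huD
      obtain ⟨ua, -, -⟩ := cabc u hu1 ux uy uz
      by_cases e : u = a
      · exact Or.inl e
      refine Or.inr (honly u ⟨hu1, e, ua.symm⟩ fun w hw wb wc => ?_)
      obtain ⟨w1, w2, w3⟩ := cxyz w hw.1 hw.2.2.symm wb wc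
      simp only [List.mem_cons, List.not_mem_nil, or_false] at hu
      rcases hu with rfl | rfl | rfl
      exacts [w1, w2, w3]
    -- the triple is one of the two
    have share : ∀ u ∈ [x, y, z], u ∈ [a, b, c] → ∀ w ∈ [x, y, z], w ∈ [a, b, c] := by
      intro u hu hu' w hw
      have hxl : [x, y, z].Nodup := by simp [hy.2.1.symm, hz.1.2.1.symm, hz.2.2.1.symm]
      have hal : [a, b, c].Nodup := by simp [nab, nac, nbc]
      have hxc : ∀ s ∈ [x, y, z], ∀ t ∈ [x, y, z], Commute s t := by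
        simp only [List.mem_cons, List.not_mem_nil, or_false]
        rintro s (rfl | rfl | rfl) t (rfl | rfl | rfl)
        exacts [Commute.refl _, xy, xz, xy.symm, Commute.refl _, yz, xz.symm, yz.symm, Commute.refl _]
      have hac : ∀ s ∈ [a, b, c], ∀ t ∈ [a, b, c], Commute s t := by
        simp only [List.mem_cons, List.not_mem_nil, or_false]
        rintro s (rfl | rfl | rfl) t (rfl | rfl | rfl)
        exacts [Commute.refl _, cab, cac, cab.symm, Commute.refl _, cbc, cac.symm, cbc.symm,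
          Commute.refl _]
      have hxD : ∀ s ∈ [x, y, z], s ∈ D := by simp [hx, hy.1, hz.1.1]
      have haD : ∀ s ∈ [a, b, c], s ∈ D := by simp [ha, hb'.1, hc.1.1]
      by_cases e : w = u
      · exact e ▸ hu'
      have sq : u * u = 1 := htt.sq u (hxD u hu)
      have e1 := prod_eq_cons_erase hxc hu
      have e2 := prod_eq_cons_erase hac hu'
      have := unique_factor' htt h.ind 2 (by norm_num) (by norm_num) (u * (a * b * c))
        ([x, y, z].erase u) ([a, b, c].erase u)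
        ⟨hxl.erase u, by rw [List.length_erase_of_mem hu]; rfl,
          fun s hs => hxD s (List.mem_of_mem_erase hs),
          fun s hs t ht => hxc s (List.mem_of_mem_erase hs) t (List.mem_of_mem_erase ht),
          by rw [← hj, show x * y * z = [x, y, z].prod by simp [mul_assoc], e1, ← mul_assoc, sq,
            one_mul]⟩
        ⟨hal.erase u, by rw [List.length_erase_of_mem hu']; rfl,
          fun s hs => haD s (List.mem_of_mem_erase hs),
          fun s hs t ht => hac s (List.mem_of_mem_erase hs) t (List.mem_of_mem_erase ht),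
          by rw [show a * b * c = [a, b, c].prod by simp [mul_assoc], e2, ← mul_assoc, sq,
            one_mul]⟩
      exact List.mem_of_mem_erase ((this w).mp ((List.mem_erase_of_ne e).mpr hw))
    obtain ⟨i, hi⟩ : ∃ i, ∀ u ∈ [x, y, z], ∃ k, f i k = u := by
      by_cases hs : ∃ u ∈ [x, y, z], u ∈ [a, b, c]
      · obtain ⟨u, hu, hu'⟩ := hs
        refine ⟨0, fun w hw => ?_⟩
        have := share u hu hu' w hw
        simp only [List.mem_cons, List.not_mem_nil, or_false] at this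
        rcases this with rfl | rfl | rfl
        exacts [⟨0, rfl⟩, ⟨1, rfl⟩, ⟨2, rfl⟩]
      · refine ⟨1, fun w hw => ?_⟩
        have hno : w ∉ [a, b, c] := fun q => hs ⟨w, hw, q⟩
        simp only [List.mem_cons, List.not_mem_nil, or_false, not_or] at hno
        have := inline w hw
        simp only [List.mem_cons, List.not_mem_nil, or_false, hno.1, hno.2.1, hno.2.2,
          false_or] at this
        rcases this with rfl | rfl | rfl
        exacts [⟨0, rfl⟩, ⟨1, rfl⟩, ⟨2, rfl⟩]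
    obtain ⟨k0, e0⟩ := hi x (by simp)
    obtain ⟨k1, e1⟩ := hi y (by simp)
    obtain ⟨k2, e2⟩ := hi z (by simp)
    have hkinj : Function.Injective ![k0, k1, k2] := by
      intro s t e
      fin_cases s <;> fin_cases t <;> simp at e ⊢ <;> exfalso <;> subst e
      exacts [hy.2.1 (e1.symm.trans e0), hz.1.2.1 (e2.symm.trans e0), hy.2.1 (e1.symm.trans e0),
        hz.2.2.1 (e2.symm.trans e1), hz.1.2.1 (e2.symm.trans e0), hz.2.2.1 (e2.symm.trans e1)]
    refine ⟨(i, Equiv.ofBijective _ ⟨hkinj, Finite.injective_iff_surjective.mp hkinj⟩), ?_⟩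
    simp only [φ, Prod.mk.injEq]
    exact ⟨e0, e1, e2⟩
  have hcard : X.ncard = 12 := by
    have : X = Set.range φ := Set.ext fun t => ⟨φsurj t, fun ⟨x, hx⟩ => hx ▸ φmem x⟩
    rw [this, Set.ncard_range_of_injective φinj, Nat.card_prod, Nat.card_eq_fintype_card,
      Fintype.card_fin, Nat.card_perm, Nat.card_eq_fintype_card, Fintype.card_fin]
    rfl
  have horb := card_of_transitive (Subgroup.centralizer ({a * b * c} : Set G)) X a b c
    (fun g hg => by
      simp only [Subgroup.mem_centralizer_iff, Set.mem_insert_iff, Set.mem_singleton_iff,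
        forall_eq_or_imp, forall_eq] at hg
      obtain ⟨g1, g2, g3⟩ := hg
      have : Commute (a * b * c) g :=
        ((show Commute a g from g1).mul_left (show Commute b g from g2)).mul_left
          (show Commute c g from g3)
      exact mem_cent this)
    (fun g hg => by
      refine ⟨htt.conj_mem g a ha, htt.nb_conj g hb', ⟨htt.nb_conj g hc.1, htt.nb_conj g hc.2⟩, ?_⟩
      show g * a * g⁻¹ * (g * b * g⁻¹) * (g * c * g⁻¹) = _
      calc g * a * g⁻¹ * (g * b * g⁻¹) * (g * c * g⁻¹) = g * (a * b * c) * g⁻¹ := by group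
        _ = a * b * c := mul_inv_eq_iff_eq_mul.mpr (Subgroup.mem_centralizer_singleton_iff.mp hg))
    (fun t ht => by
      obtain ⟨t1, t2, t3⟩ := t
      obtain ⟨h1, h2, h3, hj⟩ := ht
      obtain ⟨g, hg⟩ := h.trans3 hcent ha hb' hc h1 h2 h3
      refine ⟨g, Subgroup.mem_centralizer_singleton_iff.mpr (mul_inv_eq_iff_eq_mul.mp ?_), hg⟩
      simp only [conj3, Prod.mk.injEq] at hg
      obtain ⟨g1, g2, g3⟩ := hg
      calc g * (a * b * c) * g⁻¹ = g * a * g⁻¹ * (g * b * g⁻¹) * (g * c * g⁻¹) := by group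
        _ = _ := by rw [g1, g2, g3]; exact hj)
  rw [horb, hcard, h.card_cent3 hK hcent ha hb' hc he]
  norm_num

end Cfsg.Agent.H93
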