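import Cfsg.Agent.H93.Invol23
import Cfsg.Agent.H93.Triples
import Cfsg.Agent.H93.Fixed

/-!
Involutions one level above M(23): every involution commutes with a member, is a product of at most
four pairwise commuting members, and such products of the same length are conjugate.
The facts used about the upper group are taken as hypotheses.
-/

set_option autoImplicit false

namespace Cfsg.Agent.H93

variable {G : Type*} [Group G] {D : Set G}

/-- an element of a residue as an element of the group -/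
theorem Core.lift_conj (h : Core D) {a : G} (ha : a ∈ D) (γ : Residue D a) :
    ∃ k : G, k * a * k⁻¹ = a ∧ ∀ {y y'}, y ∈ nb D a → y' ∈ nb D a →
      γ * rimg D a y * γ⁻¹ = rimg D a y' → k * y * k⁻¹ = y' := by
  obtain ⟨⟨k, hk⟩, rfl⟩ := QuotientGroup.mk_surjective γ
  refine ⟨k, mul_inv_eq_iff_eq_mul.mpr (nbSub_commute hk).symm.eq, fun {y y'} hy hy' e => ?_⟩
  obtain ⟨hm, e'⟩ := Geo23.rimg_conj h.tt ha hk hy
  exact (h.rimg_inj ha hm hy').mp (e'.trans e)

theorem M22Data.trans2 {F : Type*} [Field F] [Fintype F] (h : M22Data D F) {a b a' b' : G}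
    (ha : a ∈ D) (hb' : b ∈ nb D a) (ha' : a' ∈ D) (hb'' : b' ∈ nb D a') :
    ∃ g, g * a * g⁻¹ = a' ∧ g * b * g⁻¹ = b' := by
  obtain ⟨g1, e1⟩ := isConj_iff.mp (h.core.cls a ha a' ha')
  have hb1 := h.core.tt.nb_conj g1 hb'
  rw [e1] at hb1
  obtain ⟨g2, e2, f2, -⟩ := exists_conj_nb h.core hb1 hb'' ha' ((h.spaces _ ha').some.sep h.hF)
  refine ⟨g2 * g1, ?_, ?_⟩
  · rw [show g2 * g1 * a * (g2 * g1)⁻¹ = g2 * (g1 * a * g1⁻¹) * g2⁻¹ by group, e1, f2]
  · rw [show g2 * g1 * b * (g2 * g1)⁻¹ = g2 * (g1 * b * g1⁻¹) * g2⁻¹ by group, e2]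

theorem M23Data.trans2 (h : M23Data D) {a b a' b' : G} (ha : a ∈ D) (hb' : b ∈ nb D a) (ha' : a' ∈ D)
    (hb'' : b' ∈ nb D a') : ∃ g, g * a * g⁻¹ = a' ∧ g * b * g⁻¹ = b' := by
  obtain ⟨g1, e1⟩ := isConj_iff.mp (h.core.cls a ha a' ha')
  have hb1 := h.core.tt.nb_conj g1 hb'
  rw [e1] at hb1
  obtain ⟨F, iF, iFF, hM, -⟩ := h.res a' ha'
  obtain ⟨γ, e⟩ := isConj_iff.mp (hM.core.cls _ (rimg_mem hb1) _ (rimg_mem hb''))
  obtain ⟨k, f, hk⟩ := h.core.lift_conj ha' γ
  refine ⟨k * g1, ?_, ?_⟩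
  · rw [show k * g1 * a * (k * g1)⁻¹ = k * (g1 * a * g1⁻¹) * k⁻¹ by group, e1, f]
  · rw [show k * g1 * b * (k * g1)⁻¹ = k * (g1 * b * g1⁻¹) * k⁻¹ by group, hk hb1 hb'' e]

theorem M23Data.trans3 (h : M23Data D) {a b c a' b' c' : G} (ha : a ∈ D) (hb' : b ∈ nb D a)
    (hc : c ∈ nb D a ∩ nb D b) (ha' : a' ∈ D) (hb'' : b' ∈ nb D a') (hc' : c' ∈ nb D a' ∩ nb D b') :
    ∃ g, g * a * g⁻¹ = a' ∧ g * b * g⁻¹ = b' ∧ g * c * g⁻¹ = c' := by
  obtain ⟨g1, e1⟩ := isConj_iff.mp (h.core.cls a ha a' ha')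
  have hb1 := h.core.tt.nb_conj g1 hb'
  have hc1a := h.core.tt.nb_conj g1 hc.1
  have hc1b := h.core.tt.nb_conj g1 hc.2
  rw [e1] at hb1 hc1a
  obtain ⟨F, iF, iFF, hM, -⟩ := h.res a' ha'
  obtain ⟨γ, eb, ec⟩ := hM.trans2 (rimg_mem hb1) (h.core.rimg_nb ha' hb1 ⟨hc1a, hc1b⟩)
    (rimg_mem hb'') (h.core.rimg_nb ha' hb'' hc')
  obtain ⟨k, f, hk⟩ := h.core.lift_conj ha' γ
  refine ⟨k * g1, ?_, ?_, ?_⟩
  · rw [show k * g1 * a * (k * g1)⁻¹ = k * (g1 * a * g1⁻¹) * k⁻¹ by group, e1, f]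
  · rw [show k * g1 * b * (k * g1)⁻¹ = k * (g1 * b * g1⁻¹) * k⁻¹ by group, hk hb1 hb'' eb]
  · rw [show k * g1 * c * (k * g1)⁻¹ = k * (g1 * c * g1⁻¹) * k⁻¹ by group, hk hc1a hc'.1 ec]

/-- two members and the five of a line -/
theorem M23Data.line_rel (h : M23Data D) {x y u v : G} (hx : x ∈ D) (hy : y ∈ nb D x)
    (hu : u ∈ nb D x ∩ nb D y) (hv : v ∈ nb D x ∩ nb D y) (hne : u ≠ v) (hc : Commute u v) :
    ∃ p q r, (∀ s ∈ [u, v, p, q, r], s ∈ nb D x ∩ nb D y) ∧ [u, v, p, q, r].Nodup ∧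
      (∀ s ∈ [u, v, p, q, r], ∀ t ∈ [u, v, p, q, r], Commute s t) ∧
      [u, v, p, q, r].prod = x * y ∧
      ∀ z ∈ nb D x ∩ nb D y, Commute z u → Commute z v → ∀ s ∈ [p, q, r], Commute z s := by
  obtain ⟨F, iF, iFF, hF, sp, hsp⟩ := h.pair_space hx hy
  obtain ⟨a, ha, rfl⟩ := sp.surj u hu
  obtain ⟨b, hb', rfl⟩ := sp.surj v hv
  have hab : hb a b = 0 := (sp.comm ha hb').mp hc
  have hs : ¬ SamePt a b := fun e => hne ((sp.same ha hb').mpr e)
  obtain ⟨w, hw0, hw1, hw⟩ := exists_omega hF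
  obtain ⟨hnd, hprod⟩ := hsp ha hb' hab hs hw0 hw1 hw
  have hpt : ∀ t : F, IsPt (a + t • b) := fun t => isPt_line hF ha hb' hab hs t
  have h1 : IsPt (a + b) := by simpa using hpt 1
  have key : ∀ s ∈ [sp.pt a, sp.pt b, sp.pt (a + b), sp.pt (a + w • b), sp.pt (a + w ^ 2 • b)],
      ∃ i j : F, ∃ hp : IsPt (i • a + j • b), s = sp.pt (i • a + j • b) := by
    intro s hs'
    simp only [List.mem_cons, List.not_mem_nil, or_false] at hs'
    rcases hs' with rfl | rfl | rfl | rfl | rfl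
    · exact ⟨1, 0, by simpa using ha, by simp⟩
    · exact ⟨0, 1, by simpa using hb', by simp⟩
    · exact ⟨1, 1, by simpa using h1, by simp⟩
    · exact ⟨1, w, by simpa using hpt w, by simp⟩
    · exact ⟨1, w ^ 2, by simpa using hpt (w ^ 2), by simp⟩
  refine ⟨sp.pt (a + b), sp.pt (a + w • b), sp.pt (a + w ^ 2 • b), ?_, hnd, ?_, hprod, ?_⟩
  · intro s hs'
    obtain ⟨i, j, hp, rfl⟩ := key s hs'
    exact sp.mem hp
  · intro s hs' t ht'
    obtain ⟨i, j, hp, rfl⟩ := key s hs'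
    obtain ⟨i', j', hp', rfl⟩ := key t ht'
    refine (sp.comm hp hp').mpr ?_
    simp [hb_add_left, hb_add_right hF, hb_smul_left, hb_smul_right, ha.2, hb'.2, hab,
      (hb_eq_zero_comm hF).mp hab]
  · intro z hz za zb s hs'
    obtain ⟨Z, hZ, rfl⟩ := sp.surj z hz
    have hs'' : s ∈ [sp.pt a, sp.pt b, sp.pt (a + b), sp.pt (a + w • b), sp.pt (a + w ^ 2 • b)] := by
      simp only [List.mem_cons, List.not_mem_nil, or_false] at hs' ⊢; tauto
    obtain ⟨i, j, hp, rfl⟩ := key s hs''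
    refine (sp.comm hZ hp).mpr ?_
    simp [hb_add_right hF, hb_smul_right, (sp.comm hZ ha).mp za, (sp.comm hZ hb').mp zb]

/-- every involution is a product of pairwise commuting members -/
theorem M23Data.invol_all [Finite G] (h : M23Data D) (hgeo : Geo23 D) {t : G} (ht : t * t = 1) :
    ∃ l : List G, (∀ a ∈ l, a ∈ D) ∧ (∀ a ∈ l, ∀ b ∈ l, Commute a b) ∧ l.prod = t := by
  by_cases ht1 : t = 1
  · exact ⟨[], by simp, by simp, by simp [ht1]⟩
  haveI : Fact (Nat.Prime 2) := ⟨Nat.prime_two⟩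
  obtain ⟨a0, ha0⟩ := h.nonempty
  have hord : orderOf t = 2 := orderOf_eq_prime (by rw [pow_two]; exact ht) ht1
  have hp : IsPGroup 2 ↥(Subgroup.zpowers t) := IsPGroup.of_card (n := 1) (by
    rw [Nat.card_zpowers, hord, pow_one])
  have hm := fix_modEq hp D (fun z _ y hy => h.core.tt.conj_mem z y hy)
  rw [hgeo.card_members ha0] at hm
  obtain ⟨d, hd⟩ : (D ∩ (Subgroup.centralizer (Subgroup.zpowers t : Set G) : Set G)).Nonempty := by
    refine Set.nonempty_iff_ne_empty.mpr fun e => ?_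
    rw [e, Set.ncard_empty] at hm
    exact absurd hm (by decide)
  obtain ⟨hdD, hdt⟩ := mem_fix.mp hd
  refine h.invol_list ht hdD ?_
  rw [← hgeo.cent d hdD]
  exact Subgroup.mem_centralizer_singleton_iff.mpr (hdt t (Subgroup.mem_zpowers t)).eq

section Upper

variable (hcore : Core D) (hind : Indep D 7)
  (hcent : ∀ a ∈ D, Subgroup.centralizer ({a} : Set G) = nbSub D a)
  (htwo : ∀ a ∈ D, ∀ k : ↥(nbSub D a), k ∈ Subgroup.center ↥(nbSub D a) → (k : G) = 1 ∨ (k : G) = a)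
  (hres : ∀ a ∈ D, M23Data (resSet D a) ∧ Geo23 (resSet D a))

include hcore hres

/-- an involution commutes with a member -/
theorem Upper24.exists_commute {t : G} (ht : t * t = 1) {d : G} (hd : d ∈ D) :
    ∃ c ∈ D, Commute t c := by
  have htt := hcore.tt
  have hti : t⁻¹ = t := inv_eq_of_mul_eq_one_left ht
  set φ : G → G := fun y => t * y * t
  have inv : ∀ y, φ (φ y) = y := fun y => by
    show t * (t * y * t) * t = y
    rw [show t * (t * y * t) * t = (t * t) * y * (t * t) by group, ht, one_mul, mul_one]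
  have mul : ∀ x y, φ (x * y) = φ x * φ y := fun x y => by
    show t * (x * y) * t = t * x * t * (t * y * t)
    rw [show t * x * t * (t * y * t) = t * x * (t * t) * y * t by group, ht]; group
  have mem : ∀ {y}, y ∈ D → φ y ∈ D := fun {y} hy => by
    have := htt.conj_mem t y hy; rwa [hti] at this
  have cm : ∀ {x y}, Commute x y → Commute (φ x) (φ y) := fun {x y} q =>
    (mul x y).symm.trans ((congrArg φ q.eq).trans (mul y x))
  have nbm : ∀ {e y}, y ∈ nb D e → φ y ∈ nb D (φ e) := fun {e y} hy => by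
    have := htt.nb_conj t hy; rwa [hti] at this
  by_contra hno
  simp only [not_exists, not_and] at hno
  have moved : ∀ {y}, y ∈ D → φ y ≠ y := fun {y} hy e => hno y hy (by
    refine mul_inv_eq_iff_eq_mul.mp ?_
    rwa [hti])
  have horth : ∀ x ∈ D, Commute x (φ x) := by
    intro x hx
    by_contra hn
    refine moved (htt.conj_self_mem hx (mem hx)) ?_
    rw [mul, mul, inv]
    exact (htt.braid hx (mem hx) hn).symm
  have hd' : φ d ∈ nb D d := ⟨mem hd, moved hd, horth d hd⟩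
  obtain ⟨hM, -⟩ := hres d hd
  obtain ⟨e, he⟩ := hM.core.edge _ (rimg_mem hd')
  obtain ⟨d2, hd2, rfl⟩ := hcore.rimg_nb_surj hd hd' he
  obtain ⟨F, iF, iFF, hF, sp0, -⟩ := hM.pair_space (rimg_mem hd') he
  let sp := liftSpace hF hcore hd (fun z hz => hz.1.1) sp0
  set S : Set G := {y : G | ∃ hy : y ∈ nb D d, (QuotientGroup.mk (nbElem hy) : Residue D d) ∈
    nb (resSet D d) (rimg D d (φ d)) ∩ nb (resSet D d) (rimg D d d2)}
  have hS : ∀ y, y ∈ S ↔ y ∈ nb D d ∧ y ∈ nb D (φ d) ∧ y ∈ nb D d2 := by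
    intro y
    constructor
    · rintro ⟨hy, h1, h2⟩
      rw [← rimg_eq hy] at h1 h2
      exact ⟨hy, ⟨hy.1, fun q => h1.2.1 (by rw [q]), (hcore.rimg_comm hd' hy).mp h1.2.2⟩,
        hy.1, fun q => h2.2.1 (by rw [q]), (hcore.rimg_comm hd2.1 hy).mp h2.2.2⟩
    · rintro ⟨hy, h1, h2⟩
      exact ⟨hy, rimg_eq hy ▸ ⟨hcore.rimg_nb hd hd' ⟨hy, h1⟩, hcore.rimg_nb hd hd2.1 ⟨hy, h2⟩⟩⟩
  have h2' : φ d2 ∈ S := (hS _).mpr ⟨inv d ▸ nbm hd2.2, nbm hd2.1, mem hd2.1.1, moved hd2.1.1,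
    horth d2 hd2.1.1⟩
  obtain ⟨P, hP, hPd⟩ := sp.surj _ h2'
  refine Fpf.false (P := P) (sp := sp) (ι := φ)
    ⟨hP, fun y hy => htt.sq y ((hS y).mp hy).1.1, fun v hv => ?_,
      fun v _ v' _ => ⟨fun q => ?_, fun q => ?_⟩, fun v _ v' _ => by rw [mul, mul]⟩ hF
  · rw [hPd] at hv ⊢
    obtain ⟨hvS, hvne, hvc⟩ := hv
    obtain ⟨v1, v2, v3⟩ := (hS v).mp hvS
    refine ⟨⟨(hS _).mpr ⟨inv d ▸ nbm v2, nbm v1, ?_⟩, ?_⟩, inv v, horth v v1.1, moved v1.1⟩
    · exact inv d2 ▸ nbm (⟨v1.1, hvne, hvc⟩ : v ∈ nb D (φ d2))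
    · exact ⟨fun q => v3.2.1 ((congrArg φ q).symm.trans (inv v) |>.symm.trans (inv d2)),
        (nbm v3).2.2⟩
  · exact cm q
  · have h' := cm q
    rwa [inv v, inv v'] at h'

include htwo hcent in
/-- every involution is a product of pairwise commuting members -/
theorem Upper24.invol_list [Finite G] {t d0 : G} (hd0 : d0 ∈ D) (ht : t * t = 1) :
    ∃ l : List G, (∀ a ∈ l, a ∈ D) ∧ (∀ a ∈ l, ∀ b ∈ l, Commute a b) ∧ l.prod = t := by
  classical
  obtain ⟨d, hd, htd'⟩ := Upper24.exists_commute hcore hres ht hd0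
  have htd : t ∈ nbSub D d := by
    rw [← hcent d hd]; exact Subgroup.mem_centralizer_singleton_iff.mpr htd'.eq
  obtain ⟨hM, hgeo⟩ := hres d hd
  set tb : Residue D d := QuotientGroup.mk (⟨t, htd⟩ : ↥(nbSub D d)) with htb
  have htb2 : tb * tb = 1 := by
    rw [htb, ← QuotientGroup.mk_mul, show (⟨t, htd⟩ : ↥(nbSub D d)) * ⟨t, htd⟩ = 1 from Subtype.ext ht,
      QuotientGroup.mk_one]
  obtain ⟨l, lm, lc, lp⟩ := hM.invol_all hgeo htb2
  choose f hf ef using fun e (he : e ∈ l) => rimg_surj (lm e he)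
  let m := l.attach.map fun e => f e.1 e.2
  have hm : ∀ a ∈ m, a ∈ nb D d := by
    intro a ha
    obtain ⟨e, -, rfl⟩ := List.mem_map.mp ha
    exact hf _ _
  have hc : ∀ a ∈ m, ∀ b ∈ m, Commute a b := by
    intro a ha b hb'
    obtain ⟨e, -, rfl⟩ := List.mem_map.mp ha
    obtain ⟨e', -, rfl⟩ := List.mem_map.mp hb'
    refine (hcore.rimg_comm (hf _ _) (hf _ _)).mp ?_
    rw [ef, ef]
    exact lc _ e.2 _ e'.2
  obtain ⟨hpm, epm⟩ := rimg_prod hm
  have emap : (m.map (rimg D d)).prod = tb := by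
    rw [List.map_map, show (rimg D d ∘ fun e : {e // e ∈ l} => f e.1 e.2) = fun e => e.1 from
      funext fun e => ef e.1 e.2, List.attach_map_subtype_val, lp]
  rw [emap, htb] at epm
  rcases htwo d hd ((⟨m.prod, hpm⟩ : ↥(nbSub D d))⁻¹ * ⟨t, htd⟩) (QuotientGroup.eq.mp epm) with e | e
  · exact ⟨m, fun a ha => (hm a ha).1, hc, inv_mul_eq_one.mp e⟩
  · refine ⟨m ++ [d], fun a ha => ?_, fun a ha b hb' => ?_, ?_⟩
    · rcases List.mem_append.mp ha with q | q
      exacts [(hm a q).1, (List.mem_singleton.mp q).symm ▸ hd]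
    · rcases List.mem_append.mp ha with q | q <;> rcases List.mem_append.mp hb' with q' | q'
      · exact hc a q b q'
      · exact (List.mem_singleton.mp q').symm ▸ (hm a q).2.2.symm
      · exact (List.mem_singleton.mp q).symm ▸ (hm b q').2.2
      · rw [List.mem_singleton.mp q, List.mem_singleton.mp q']
    · rw [List.prod_append, List.prod_singleton]
      exact (inv_mul_eq_iff_eq_mul.mp e).symm

include hind htwo in
/-- five commuting members have the product of three -/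
theorem Upper24.five_three {x y z u v : G} (hnd : [x, y, z, u, v].Nodup)
    (hmem : ∀ a ∈ [x, y, z, u, v], a ∈ D)
    (hcom : ∀ a ∈ [x, y, z, u, v], ∀ b ∈ [x, y, z, u, v], Commute a b) :
    ∃ p q r : G, (∀ a ∈ [p, q, r], a ∈ D) ∧ (∀ a ∈ [p, q, r], ∀ b ∈ [p, q, r], Commute a b) ∧
      p * q * r = x * y * z * u * v ∧
      ∀ w ∈ D, w ≠ x → w ≠ y → w ≠ z → (∀ a ∈ [x, y, z, u, v], Commute w a) →
        ∀ a ∈ [p, q, r], Commute w a := by
  have htt := hcore.tt
  simp only [List.nodup_cons, List.mem_cons, List.not_mem_nil, or_false, not_or, List.nodup_nil,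
    and_true, not_false_eq_true] at hnd
  obtain ⟨⟨hxy, hxz, hxu, hxv⟩, ⟨hyz, hyu, hyv⟩, ⟨hzu, hzv⟩, huv⟩ := hnd
  have hx := hmem x (by simp)
  have mk : ∀ {s t}, s ∈ [x, y, z, u, v] → t ∈ [x, y, z, u, v] → s ≠ t → t ∈ nb D s :=
    fun hs ht hne => ⟨hmem _ ht, Ne.symm hne, hcom _ hs _ ht⟩
  have my : y ∈ nb D x := mk (by simp) (by simp) hxy
  have mz : z ∈ nb D x := mk (by simp) (by simp) hxz
  have mu : u ∈ nb D x := mk (by simp) (by simp) hxu
  have mv : v ∈ nb D x := mk (by simp) (by simp) hxv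
  obtain ⟨hM, -⟩ := hres x hx
  have rn : ∀ {s t}, s ∈ [x, y, z, u, v] → t ∈ [x, y, z, u, v] → s ∈ nb D x → t ∈ nb D x →
      s ≠ t → rimg D x t ∈ nb (resSet D x) (rimg D x s) := fun hs ht hs' ht' hne =>
    hcore.rimg_nb hx hs' ⟨ht', mk hs ht hne⟩
  obtain ⟨P, Q, R, hm, hnd', hc', hpr, hext⟩ := hM.line_rel (rimg_mem my)
    (rn (by simp) (by simp) my mz hyz)
    ⟨rn (by simp) (by simp) my mu hyu, rn (by simp) (by simp) mz mu hzu⟩
    ⟨rn (by simp) (by simp) my mv hyv, rn (by simp) (by simp) mz mv hzv⟩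
    (fun e => huv ((hcore.rimg_inj hx mu mv).mp e))
    ((hcore.rimg_comm mu mv).mpr (hcom u (by simp) v (by simp)))
  obtain ⟨p, hp, rfl⟩ := rimg_surj (hm P (by simp)).1.1
  obtain ⟨q, hq, rfl⟩ := rimg_surj (hm Q (by simp)).1.1
  obtain ⟨r, hr, rfl⟩ := rimg_surj (hm R (by simp)).1.1
  have nbx : ∀ a ∈ [u, v, p, q, r], a ∈ nb D x := by
    intro a ha
    simp only [List.mem_cons, List.not_mem_nil, or_false] at ha
    rcases ha with rfl | rfl | rfl | rfl | rfl <;> assumption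
  have himg : ∀ a ∈ [u, v, p, q, r], rimg D x a ∈
      [rimg D x u, rimg D x v, rimg D x p, rimg D x q, rimg D x r] := fun a ha =>
    List.mem_map_of_mem (f := rimg D x) ha
  have pull : ∀ a ∈ [u, v, p, q, r], a ≠ y ∧ a ≠ z ∧ Commute y a ∧ Commute z a := fun a ha =>
    have h' := hm _ (himg a ha)
    ⟨fun q' => h'.1.2.1 (by rw [q']), fun q' => h'.2.2.1 (by rw [q']),
      (hcore.rimg_comm my (nbx a ha)).mp h'.1.2.2, (hcore.rimg_comm mz (nbx a ha)).mp h'.2.2.2⟩
  have hall : ∀ a ∈ [y, z, u, v, p, q, r], a ∈ nb D x := by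
    intro a ha
    simp only [List.mem_cons, List.not_mem_nil, or_false] at ha
    rcases ha with rfl | rfl | rfl | rfl | rfl | rfl | rfl <;> assumption
  have cc : ∀ a ∈ [u, v, p, q, r], ∀ b ∈ [u, v, p, q, r], Commute a b := fun a ha b hb' =>
    (hcore.rimg_comm (nbx a ha) (nbx b hb')).mp (hc' _ (himg a ha) _ (himg b hb'))
  have c7 : ∀ a ∈ [y, z, u, v, p, q, r], ∀ b ∈ [y, z, u, v, p, q, r], Commute a b := by
    have split : ∀ a ∈ [y, z, u, v, p, q, r], a = y ∨ a = z ∨ a ∈ [u, v, p, q, r] := fun a ha => by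
      simp only [List.mem_cons, List.not_mem_nil, or_false] at ha ⊢; tauto
    intro a ha b hb'
    rcases split a ha with rfl | rfl | ha' <;> rcases split b hb' with rfl | rfl | hb''
    exacts [Commute.refl _, hcom _ (by simp) _ (by simp), (pull b hb'').2.2.1,
      hcom _ (by simp) _ (by simp), Commute.refl _, (pull b hb'').2.2.2,
      (pull a ha').2.2.1.symm, (pull a ha').2.2.2.symm, cc a ha' b hb'']
  obtain ⟨hpm, epm⟩ := rimg_prod hall
  have hseven : [y, z, u, v, p, q, r].Nodup := by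
    refine List.nodup_cons.mpr ⟨fun q' => ?_, List.nodup_cons.mpr ⟨fun q' => ?_,
      List.Nodup.of_map (rimg D x) hnd'⟩⟩
    · rcases List.mem_cons.mp q' with e | e
      exacts [hyz e, (pull y e).1 rfl]
    · exact (pull z q').2.1 rfl
  have hsq : ∀ {a b : Residue D x}, a * a = 1 → b * b = 1 → a * b = b * a →
      a * (b * (a * b)) = 1 := fun {a b} ha hb' hab => by
    rw [show b * (a * b) = (b * a) * b by group, ← hab, mul_assoc a b b, hb', mul_one, ha]
  have hone : ([y, z, u, v, p, q, r].map (rimg D x)).prod = 1 := by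
    rw [List.map_cons, List.map_cons, List.prod_cons, List.prod_cons]
    rw [show ([u, v, p, q, r].map (rimg D x)).prod = rimg D x y * rimg D x z from hpr]
    exact hsq (hM.core.tt.sq _ (rimg_mem my)) (hM.core.tt.sq _ (rimg_mem mz))
      ((hcore.rimg_comm my mz).mpr (hcom y (by simp) z (by simp))).eq
  have hprod : [y, z, u, v, p, q, r].prod = x := by
    rcases htwo x hx _ ((QuotientGroup.eq_one_iff _).mp (epm.trans hone)) with e | e
    · exact absurd e (hind _ hseven (by simp) (by simp) (fun a ha => (hall a ha).1) c7)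
    · exact e
  refine ⟨p, q, r, ?_, fun a ha b hb' => cc a ?_ b ?_, ?_, ?_⟩
  · intro a ha; exact (nbx a (by simp only [List.mem_cons] at ha ⊢; tauto)).1
  · simp only [List.mem_cons] at ha ⊢; tauto
  · simp only [List.mem_cons] at hb' ⊢; tauto
  · simp only [List.prod_cons, List.prod_nil, mul_one] at hprod
    have h3 : p * q * r * (p * q * r) = 1 := by
      have := prod_sq_one htt [p, q, r] (fun a ha => (nbx a (by
          simp only [List.mem_cons] at ha ⊢; tauto)).1)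
        fun a ha b hb' => cc a (by simp only [List.mem_cons] at ha ⊢; tauto) b
          (by simp only [List.mem_cons] at hb' ⊢; tauto)
      simpa [mul_assoc] using this
    calc p * q * r = (x * x) * (p * q * r) := by rw [htt.sq x hx, one_mul]
      _ = x * (y * (z * (u * (v * (p * (q * r)))))) * (p * q * r) := by rw [hprod]
      _ = x * y * z * u * v * (p * q * r * (p * q * r)) := by group
      _ = _ := by rw [h3, mul_one]
  · intro w hw hwx hwy hwz hwc a ha
    have mw : w ∈ nb D x := ⟨hw, hwx, (hwc x (by simp)).symm⟩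
    refine (hcore.rimg_comm mw (nbx a (by simp only [List.mem_cons] at ha ⊢; tauto))).mp ?_
    refine hext _ ⟨hcore.rimg_nb hx my ⟨mw, hw, hwy, (hwc y (by simp)).symm⟩,
      hcore.rimg_nb hx mz ⟨mw, hw, hwz, (hwc z (by simp)).symm⟩⟩
      ((hcore.rimg_comm mw mu).mpr (hwc u (by simp))) ((hcore.rimg_comm mw mv).mpr (hwc v (by simp)))
      _ (List.mem_map_of_mem (f := rimg D x) ha)

include hind htwo in
/-- a product of commuting members is a product of at most four distinct ones -/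
theorem Upper24.shorten : ∀ (n : ℕ) (l : List G), l.length ≤ n → (∀ a ∈ l, a ∈ D) →
    (∀ a ∈ l, ∀ b ∈ l, Commute a b) → ∃ l' : List G, l'.Nodup ∧ l'.length ≤ 4 ∧ (∀ a ∈ l', a ∈ D) ∧
      (∀ a ∈ l', ∀ b ∈ l', Commute a b) ∧ l'.prod = l.prod := by
  classical
  intro n
  induction n with
  | zero =>
    intro l hl _ _
    obtain rfl := List.length_eq_zero_iff.mp (Nat.le_zero.mp hl)
    exact ⟨[], by simp, by simp, by simp, by simp, rfl⟩
  | succ n ih =>
    intro l hl hmem hcom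
    by_cases hnd : l.Nodup
    · by_cases h5 : l.length ≤ 4
      · exact ⟨l, hnd, h5, hmem, hcom, rfl⟩
      match l, h5, hl, hnd, hmem, hcom with
      | [], h5, _, _, _, _ => simp at h5
      | [_], h5, _, _, _, _ => simp at h5
      | [_, _], h5, _, _, _, _ => simp at h5
      | [_, _, _], h5, _, _, _, _ => simp at h5
      | [_, _, _, _], h5, _, _, _, _ => simp at h5
      | x :: y :: z :: u :: v :: rest, _, hl, hnd, hmem, hcom =>
        have hnd2 := List.nodup_append.mp (show ([x, y, z, u, v] ++ rest).Nodup from hnd)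
        have hsub : ∀ a ∈ [x, y, z, u, v], a ∈ x :: y :: z :: u :: v :: rest := fun a ha =>
          List.mem_append_left rest ha
        have hrest : ∀ w ∈ rest, w ∈ x :: y :: z :: u :: v :: rest := fun w hw =>
          List.mem_append_right [x, y, z, u, v] hw
        obtain ⟨p, q, r, pm, pc, pe, pw⟩ := Upper24.five_three hcore hind htwo hres hnd2.1
          (fun a ha => hmem a (hsub a ha)) (fun a ha b hb' => hcom a (hsub a ha) b (hsub b hb'))
        have hcw : ∀ w ∈ rest, ∀ a ∈ [p, q, r], Commute w a := fun w hw =>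
          pw w (hmem w (hrest w hw)) (fun e => hnd2.2.2 x (by simp) w hw e.symm)
            (fun e => hnd2.2.2 y (by simp) w hw e.symm) (fun e => hnd2.2.2 z (by simp) w hw e.symm)
            (fun a ha => hcom w (hrest w hw) a (hsub a ha))
        obtain ⟨l', a1, a2, a3, a4, a5⟩ := ih ([p, q, r] ++ rest)
          (by simp only [List.length_cons, List.length_append, List.length_nil] at hl ⊢; omega)
          (fun a ha => (List.mem_append.mp ha).elim (pm a) fun q' => hmem a (hrest a q'))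
          (fun a ha b hb' => by
            rcases List.mem_append.mp ha with a' | a' <;> rcases List.mem_append.mp hb' with b' | b'
            exacts [pc a a' b b', (hcw b b' a a').symm, hcw a a' b b',
              hcom a (hrest a a') b (hrest b b')])
        refine ⟨l', a1, a2, a3, a4, ?_⟩
        rw [a5, List.prod_append]
        simp only [List.prod_cons, List.prod_nil, mul_one]
        rw [← mul_assoc p q r, pe]
        group
    · obtain ⟨a, ha⟩ := List.exists_duplicate_iff_not_nodup.mpr hnd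
      have ha2 := List.duplicate_iff_two_le_count.mp ha
      have hal := ha.mem
      have hal' : a ∈ l.erase a := by
        rw [← List.count_pos_iff, List.count_erase_self]; omega
      have hs : ∀ c ∈ (l.erase a).erase a, c ∈ l := fun c hc =>
        List.mem_of_mem_erase (List.mem_of_mem_erase hc)
      obtain ⟨l', a1, a2, a3, a4, a5⟩ := ih ((l.erase a).erase a)
        (by rw [List.length_erase_of_mem hal', List.length_erase_of_mem hal]; omega)
        (fun c hc => hmem c (hs c hc)) (fun c hc c' hc' => hcom c (hs c hc) c' (hs c' hc'))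
      refine ⟨l', a1, a2, a3, a4, ?_⟩
      rw [a5, prod_eq_cons_erase hcom hal, prod_eq_cons_erase
        (fun c hc c' hc' => hcom c (List.mem_of_mem_erase hc) c' (List.mem_of_mem_erase hc')) hal',
        ← mul_assoc, hcore.tt.sq a (hmem a hal), one_mul]

omit hres in
include hind in
/-- products of different numbers of members differ -/
theorem Upper24.length_unique : ∀ (n : ℕ) (l l' : List G), l.length + l'.length ≤ n →
    l.length + l'.length ≤ 7 → l.Nodup → l'.Nodup → (∀ a ∈ l, a ∈ D) → (∀ a ∈ l', a ∈ D) →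
    (∀ a ∈ l, ∀ b ∈ l, Commute a b) → (∀ a ∈ l', ∀ b ∈ l', Commute a b) →
    l.prod = l'.prod → l.length = l'.length := by
  classical
  intro n
  induction n with
  | zero => intro l l' h _ _ _ _ _ _ _ _; omega
  | succ n ih =>
    intro l l' hn h7 hnd hnd' hm hm' hc hc' hp
    by_cases hshare : ∃ x ∈ l, x ∈ l'
    · obtain ⟨x, hx, hx'⟩ := hshare
      have l1 := List.length_erase_of_mem hx
      have l2 := List.length_erase_of_mem hx'
      have p1 := List.length_pos_of_mem hx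
      have p2 := List.length_pos_of_mem hx'
      rw [prod_eq_cons_erase hc hx, prod_eq_cons_erase hc' hx'] at hp
      have := ih (l.erase x) (l'.erase x) (by omega) (by omega) (hnd.erase x) (hnd'.erase x)
        (fun a ha => hm a (List.mem_of_mem_erase ha)) (fun a ha => hm' a (List.mem_of_mem_erase ha))
        (fun a ha b hb' => hc a (List.mem_of_mem_erase ha) b (List.mem_of_mem_erase hb'))
        (fun a ha b hb' => hc' a (List.mem_of_mem_erase ha) b (List.mem_of_mem_erase hb'))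
        (mul_left_cancel hp)
      omega
    simp only [not_exists, not_and] at hshare
    have key : ∀ (s s' : List G), s.length ≤ 3 → s.length + s'.length ≤ 7 → 0 < s.length + s'.length →
        s.Nodup → s'.Nodup → (∀ a ∈ s, a ∈ D) → (∀ a ∈ s', a ∈ D) →
        (∀ a ∈ s, ∀ b ∈ s, Commute a b) → (∀ a ∈ s', ∀ b ∈ s', Commute a b) →
        (∀ a ∈ s, a ∉ s') → s.prod = s'.prod → False := by
      intro s s' h3 h7' hpos hs hs' ms ms' cs cs' hdis hp'
      have hcross : ∀ v ∈ s', ∀ a ∈ s, Commute v a := fun v hv a ha =>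
        hcore.tt.commute_of_commute_prod (ms' v hv) s hs h3 ms cs
          (by rw [hp']; exact Commute.list_prod_right _ _ fun b hb => cs' v hv b hb) a ha
      refine hind (s ++ s') (List.nodup_append.mpr ⟨hs, hs', fun a ha b hb e => hdis a ha (e ▸ hb)⟩)
        (fun e => by rw [List.append_eq_nil_iff] at e; simp [e.1, e.2] at hpos)
        (by rw [List.length_append]; exact h7')
        (fun a ha => (List.mem_append.mp ha).elim (ms a) (ms' a)) ?_ ?_
      · intro a ha b hb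
        rcases List.mem_append.mp ha with ha | ha <;> rcases List.mem_append.mp hb with hb | hb
        · exact cs a ha b hb
        · exact (hcross b hb a ha).symm
        · exact hcross a ha b hb
        · exact cs' a ha b hb
      · rw [List.prod_append, hp', ← hp']
        exact prod_sq_one hcore.tt s ms cs
    by_contra hne
    rcases (show l.length ≤ 3 ∨ l'.length ≤ 3 by omega) with q | q
    · exact key l l' q h7 (by omega) hnd hnd' hm hm' hc hc' hshare hp
    · exact key l' l q (by omega) (by omega) hnd' hnd hm' hm hc' hc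
        (fun a ha ha' => hshare a ha' ha) hp.symm

omit hres in
/-- conjugating a configuration -/
theorem Upper24.move {a a' : G} (ha : a ∈ D) (ha' : a' ∈ D) :
    ∃ g, g * a * g⁻¹ = a' ∧ ∀ {y}, y ∈ nb D a → g * y * g⁻¹ ∈ nb D a' := by
  obtain ⟨g, e⟩ := isConj_iff.mp (hcore.cls a ha a' ha')
  refine ⟨g, e, fun {y} hy => ?_⟩
  have := hcore.tt.nb_conj g hy
  rwa [e] at this

omit hres in
theorem Upper24.comp {k g x x' : G} (h : k * (g * x * g⁻¹) * k⁻¹ = x') : k * g * x * (k * g)⁻¹ = x' := by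
  rw [← h]; group

/-- two ordered pairs of commuting members are conjugate -/
theorem Upper24.trans2 {a b a' b' : G} (ha : a ∈ D) (hb' : b ∈ nb D a) (ha' : a' ∈ D)
    (hb'' : b' ∈ nb D a') : ∃ g, g * a * g⁻¹ = a' ∧ g * b * g⁻¹ = b' := by
  obtain ⟨g, e, mv⟩ := Upper24.move hcore ha ha'
  obtain ⟨γ, eγ⟩ := isConj_iff.mp ((hres a' ha').1.core.cls _ (rimg_mem (mv hb')) _ (rimg_mem hb''))
  obtain ⟨k, f, hk⟩ := hcore.lift_conj ha' γ
  exact ⟨k * g, Upper24.comp hcore (e.symm ▸ f), Upper24.comp hcore (hk (mv hb') hb'' eγ)⟩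

/-- two ordered triples of commuting members are conjugate -/
theorem Upper24.trans3 {a b c a' b' c' : G} (ha : a ∈ D) (hb' : b ∈ nb D a)
    (hc : c ∈ nb D a ∩ nb D b) (ha' : a' ∈ D) (hb'' : b' ∈ nb D a')
    (hc' : c' ∈ nb D a' ∩ nb D b') :
    ∃ g, g * a * g⁻¹ = a' ∧ g * b * g⁻¹ = b' ∧ g * c * g⁻¹ = c' := by
  obtain ⟨g, e, mv⟩ := Upper24.move hcore ha ha'
  obtain ⟨γ, eb, ec⟩ := (hres a' ha').1.trans2 (rimg_mem (mv hb'))
    (hcore.rimg_nb ha' (mv hb') ⟨mv hc.1, hcore.tt.nb_conj g hc.2⟩) (rimg_mem hb'')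
    (hcore.rimg_nb ha' hb'' hc')
  obtain ⟨k, f, hk⟩ := hcore.lift_conj ha' γ
  exact ⟨k * g, Upper24.comp hcore (e.symm ▸ f), Upper24.comp hcore (hk (mv hb') hb'' eb),
    Upper24.comp hcore (hk (mv hc.1) hc'.1 ec)⟩

/-- two ordered quadruples of commuting members are conjugate -/
theorem Upper24.trans4 {a b c d a' b' c' d' : G} (ha : a ∈ D) (hb' : b ∈ nb D a)
    (hc : c ∈ nb D a ∩ nb D b) (hd : d ∈ nb D a ∩ nb D b ∩ nb D c) (ha' : a' ∈ D)
    (hb'' : b' ∈ nb D a') (hc' : c' ∈ nb D a' ∩ nb D b')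
    (hd' : d' ∈ nb D a' ∩ nb D b' ∩ nb D c') :
    ∃ g, g * a * g⁻¹ = a' ∧ g * b * g⁻¹ = b' ∧ g * c * g⁻¹ = c' ∧ g * d * g⁻¹ = d' := by
  obtain ⟨g, e, mv⟩ := Upper24.move hcore ha ha'
  have htt := hcore.tt
  obtain ⟨γ, eb, ec, ed⟩ := (hres a' ha').1.trans3 (rimg_mem (mv hb'))
    (hcore.rimg_nb ha' (mv hb') ⟨mv hc.1, htt.nb_conj g hc.2⟩)
    (c := rimg D a' (g * d * g⁻¹))
    ⟨hcore.rimg_nb ha' (mv hb') ⟨mv hd.1.1, htt.nb_conj g hd.1.2⟩,
      hcore.rimg_nb ha' (mv hc.1) ⟨mv hd.1.1, htt.nb_conj g hd.2⟩⟩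
    (rimg_mem hb'') (hcore.rimg_nb ha' hb'' hc')
    ⟨hcore.rimg_nb ha' hb'' hd'.1, hcore.rimg_nb ha' hc'.1 ⟨hd'.1.1, hd'.2⟩⟩
  obtain ⟨k, f, hk⟩ := hcore.lift_conj ha' γ
  exact ⟨k * g, Upper24.comp hcore (e.symm ▸ f), Upper24.comp hcore (hk (mv hb') hb'' eb),
    Upper24.comp hcore (hk (mv hc.1) hc'.1 ec), Upper24.comp hcore (hk (mv hd.1.1) hd'.1.1 ed)⟩

/-- products of the same number of commuting members, at most four, are conjugate -/
theorem Upper24.conj_prod {m : ℕ} (h1 : 1 ≤ m) (h4 : m ≤ 4) {l l' : List G} (hnd : l.Nodup)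
    (hnd' : l'.Nodup) (hl : l.length = m) (hl' : l'.length = m) (hm : ∀ a ∈ l, a ∈ D)
    (hm' : ∀ a ∈ l', a ∈ D) (hc : ∀ a ∈ l, ∀ b ∈ l, Commute a b)
    (hc' : ∀ a ∈ l', ∀ b ∈ l', Commute a b) : IsConj l.prod l'.prod := by
  have fin : ∀ g : G, l.map (MulAut.conj g).toMonoidHom = l' → IsConj l.prod l'.prod := fun g e =>
    isConj_iff.mpr ⟨g, by
      rw [← e, ← map_list_prod]; rfl⟩
  have mk : ∀ {s : List G}, (∀ a ∈ s, a ∈ D) → (∀ a ∈ s, ∀ b ∈ s, Commute a b) →
      ∀ {x y : G}, x ∈ s → y ∈ s → x ≠ y → y ∈ nb D x := fun ms cs x y hx hy hne =>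
    ⟨ms y hy, Ne.symm hne, cs x hx y hy⟩
  match l, l', hl, hl', hnd, hnd', hm, hm', hc, hc', fin with
  | [], _, hl, _, _, _, _, _, _, _, _ => simp at hl; omega
  | [a], [a'], _, _, _, _, hm, hm', _, _, fin =>
    obtain ⟨g, e, -⟩ := Upper24.move hcore (hm a (by simp)) (hm' a' (by simp))
    exact fin g (by simp [e])
  | [a, b], [a', b'], _, _, hnd, hnd', hm, hm', hc, hc', fin =>
    simp only [List.nodup_cons, List.mem_cons, List.not_mem_nil, or_false] at hnd hnd'
    obtain ⟨g, e1, e2⟩ := Upper24.trans2 hcore hres (hm a (by simp))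
      (mk hm hc (by simp) (by simp) hnd.1) (hm' a' (by simp)) (mk hm' hc' (by simp) (by simp) hnd'.1)
    exact fin g (by simp [e1, e2])
  | [a, b, c], [a', b', c'], _, _, hnd, hnd', hm, hm', hc, hc', fin =>
    simp only [List.nodup_cons, List.mem_cons, List.not_mem_nil, or_false, not_or] at hnd hnd'
    obtain ⟨g, e1, e2, e3⟩ := Upper24.trans3 hcore hres (hm a (by simp))
      (mk hm hc (by simp) (by simp) hnd.1.1) (c := c)
      ⟨mk hm hc (by simp) (by simp) hnd.1.2, mk hm hc (by simp) (by simp) hnd.2.1⟩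
      (hm' a' (by simp)) (mk hm' hc' (by simp) (by simp) hnd'.1.1) (c' := c')
      ⟨mk hm' hc' (by simp) (by simp) hnd'.1.2, mk hm' hc' (by simp) (by simp) hnd'.2.1⟩
    exact fin g (by simp [e1, e2, e3])
  | [a, b, c, d], [a', b', c', d'], _, _, hnd, hnd', hm, hm', hc, hc', fin =>
    simp only [List.nodup_cons, List.mem_cons, List.not_mem_nil, or_false, not_or] at hnd hnd'
    obtain ⟨g, e1, e2, e3, e4⟩ := Upper24.trans4 hcore hres (hm a (by simp))
      (mk hm hc (by simp) (by simp) hnd.1.1) (c := c)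
      ⟨mk hm hc (by simp) (by simp) hnd.1.2.1, mk hm hc (by simp) (by simp) hnd.2.1.1⟩ (d := d)
      ⟨⟨mk hm hc (by simp) (by simp) hnd.1.2.2, mk hm hc (by simp) (by simp) hnd.2.1.2⟩,
        mk hm hc (by simp) (by simp) hnd.2.2.1⟩
      (hm' a' (by simp)) (mk hm' hc' (by simp) (by simp) hnd'.1.1) (c' := c')
      ⟨mk hm' hc' (by simp) (by simp) hnd'.1.2.1, mk hm' hc' (by simp) (by simp) hnd'.2.1.1⟩ (d' := d')
      ⟨⟨mk hm' hc' (by simp) (by simp) hnd'.1.2.2, mk hm' hc' (by simp) (by simp) hnd'.2.1.2⟩,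
        mk hm' hc' (by simp) (by simp) hnd'.2.2.1⟩
    exact fin g (by simp [e1, e2, e3, e4])
  | _ :: _ :: _ :: _ :: _ :: _, _, hl, _, _, _, _, _, _, _, _ => simp at hl; omega
  | [_], [], _, hl', _, _, _, _, _, _, _ => simp at hl'; omega
  | [_], _ :: _ :: _, hl, hl', _, _, _, _, _, _, _ => simp at hl hl'; omega
  | [_, _], [], _, hl', _, _, _, _, _, _, _ => simp at hl'; omega
  | [_, _], [_], hl, hl', _, _, _, _, _, _, _ => simp at hl hl'; omega
  | [_, _], _ :: _ :: _ :: _, hl, hl', _, _, _, _, _, _, _ => simp at hl hl'; omega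
  | [_, _, _], [], _, hl', _, _, _, _, _, _, _ => simp at hl'; omega
  | [_, _, _], [_], hl, hl', _, _, _, _, _, _, _ => simp at hl hl'; omega
  | [_, _, _], [_, _], hl, hl', _, _, _, _, _, _, _ => simp at hl hl'; omega
  | [_, _, _], _ :: _ :: _ :: _ :: _, hl, hl', _, _, _, _, _, _, _ => simp at hl hl'; omega
  | [_, _, _, _], [], _, hl', _, _, _, _, _, _, _ => simp at hl'; omega
  | [_, _, _, _], [_], hl, hl', _, _, _, _, _, _, _ => simp at hl hl'; omega
  | [_, _, _, _], [_, _], hl, hl', _, _, _, _, _, _, _ => simp at hl hl'; omega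
  | [_, _, _, _], [_, _, _], hl, hl', _, _, _, _, _, _, _ => simp at hl hl'; omega
  | [_, _, _, _], _ :: _ :: _ :: _ :: _ :: _, hl, hl', _, _, _, _, _, _, _ => simp at hl hl'; omega

/-- four pairwise commuting members -/
theorem Upper24.exists_four {x : G} (hx : x ∈ D) :
    ∃ l : List G, l.Nodup ∧ l.length = 4 ∧ (∀ a ∈ l, a ∈ D) ∧ ∀ a ∈ l, ∀ b ∈ l, Commute a b := by
  obtain ⟨hM, -⟩ := hres x hx
  obtain ⟨b, hb'⟩ := hcore.edge x hx
  obtain ⟨c1, hc1⟩ := hM.core.edge _ (rimg_mem hb')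
  obtain ⟨c, hc, rfl⟩ := hcore.rimg_nb_surj hx hb' hc1
  obtain ⟨F, iF, iFF, hF, sp, -⟩ := hM.pair_space (rimg_mem hb') hc1
  obtain ⟨u, hu⟩ := exists_pt hF
  obtain ⟨d, hd, e⟩ := rimg_surj (sp.mem hu).1.1
  have h1 := (sp.mem hu).1
  have h2 := (sp.mem hu).2
  rw [← e] at h1 h2
  have db : d ≠ b := fun q => h1.2.1 (by rw [q])
  have dc : d ≠ c := fun q => h2.2.1 (by rw [q])
  have cbd : Commute b d := (hcore.rimg_comm hb' hd).mp h1.2.2
  have ccd : Commute c d := (hcore.rimg_comm hc.1 hd).mp h2.2.2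
  refine ⟨[x, b, c, d], ?_, rfl, ?_, ?_⟩
  · simp [hb'.2.1.symm, hc.1.2.1.symm, hd.2.1.symm, hc.2.2.1.symm, db.symm, dc.symm]
  · intro a ha
    simp only [List.mem_cons, List.not_mem_nil, or_false] at ha
    rcases ha with rfl | rfl | rfl | rfl
    exacts [hx, hb'.1, hc.1.1, hd.1]
  · intro a ha a' ha'
    simp only [List.mem_cons, List.not_mem_nil, or_false] at ha ha'
    rcases ha with rfl | rfl | rfl | rfl <;> rcases ha' with rfl | rfl | rfl | rfl
    exacts [Commute.refl _, hb'.2.2, hc.1.2.2, hd.2.2, hb'.2.2.symm, Commute.refl _, hc.2.2.2, cbd,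
      hc.1.2.2.symm, hc.2.2.2.symm, Commute.refl _, ccd, hd.2.2.symm, cbd.symm, ccd.symm,
      Commute.refl _]

end Upper

end Cfsg.Agent.H93
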