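import Cfsg.Agent.H93.Core

/-!
Counting tools for members centralised by a subgroup.
-/

set_option autoImplicit false

namespace Cfsg.Agent.H93

variable {G : Type*} [Group G]

/-- membership in a set cut by a centraliser -/
theorem mem_fix {S : Set G} {X : Subgroup G} {e : G} :
    e ∈ S ∩ (Subgroup.centralizer (X : Set G) : Set G) ↔ e ∈ S ∧ ∀ x ∈ X, Commute x e :=
  Iff.and Iff.rfl (Subgroup.mem_centralizer_iff.trans Iff.rfl)

/-- the centralised part of an invariant set has the same size modulo `p` -/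
theorem fix_modEq [Finite G] {p : ℕ} [Fact p.Prime] {X : Subgroup G} (hX : IsPGroup p ↥X) (S : Set G)
    (hS : ∀ x ∈ X, ∀ y ∈ S, x * y * x⁻¹ ∈ S) :
    S.ncard ≡ (S ∩ (Subgroup.centralizer (X : Set G) : Set G)).ncard [MOD p] := by
  classical
  letI : MulAction ↥X ↥S :=
    { smul := fun x y => ⟨x.1 * y.1 * x.1⁻¹, hS x.1 x.2 y.1 y.2⟩
      one_smul := fun y => Subtype.ext (by show (1 : G) * y.1 * (1 : G)⁻¹ = y.1; group)
      mul_smul := fun x x' y => Subtype.ext (by
        show x.1 * x'.1 * y.1 * (x.1 * x'.1)⁻¹ = x.1 * (x'.1 * y.1 * x'.1⁻¹) * x.1⁻¹; group) }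
  have hmod := hX.card_modEq_card_fixedPoints ↥S
  rw [Nat.card_coe_set_eq] at hmod
  suffices hcard : Nat.card ↥(MulAction.fixedPoints ↥X ↥S) =
      (S ∩ (Subgroup.centralizer (X : Set G) : Set G)).ncard by rwa [hcard] at hmod
  rw [← Nat.card_coe_set_eq (S ∩ (Subgroup.centralizer (X : Set G) : Set G))]
  refine Nat.card_eq_of_bijective (fun y => ⟨y.1.1, mem_fix.mpr ⟨y.1.2, fun x hx =>
    mul_inv_eq_iff_eq_mul.mp (congrArg Subtype.val (y.2 ⟨x, hx⟩))⟩⟩) ⟨fun a b e => ?_, ?_⟩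
  · exact Subtype.ext (Subtype.ext (congrArg
      (fun t : ↥(S ∩ (Subgroup.centralizer (X : Set G) : Set G)) => t.1) e))
  · rintro ⟨y, hy⟩
    exact ⟨⟨⟨y, hy.1⟩, fun x => Subtype.ext (mul_inv_eq_iff_eq_mul.mpr ((mem_fix.mp hy).2 x.1 x.2))⟩, rfl⟩

/-- a free action of a group of prime order -/
theorem fix_dvd [Finite G] {p : ℕ} [Fact p.Prime] {X : Subgroup G} (hX : IsPGroup p ↥X) (S : Set G)
    (hS : ∀ x ∈ X, ∀ y ∈ S, x * y * x⁻¹ ∈ S)
    (hfree : ∀ y ∈ S, ¬ ∀ x ∈ X, Commute x y) : p ∣ S.ncard := by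
  have h := fix_modEq hX S hS
  rw [show S ∩ (Subgroup.centralizer (X : Set G) : Set G) = ∅ from
    Set.eq_empty_iff_forall_notMem.mpr fun y hy => hfree y hy.1 (mem_fix.mp hy).2,
    Set.ncard_empty] at h
  exact Nat.modEq_zero_iff_dvd.mp h

/-- counting the edges between two sets in two ways -/
theorem count_edges {α : Type*} [Finite α] (N F : Set α) (R : α → α → Prop) {k m : ℕ}
    (hk : ∀ f ∈ N, {e | e ∈ F ∧ R f e}.ncard = k) (hm : ∀ e ∈ F, {f | f ∈ N ∧ R f e}.ncard = m) :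
    N.ncard * k = F.ncard * m := by
  classical
  haveI := Fintype.ofFinite α
  have key := Finset.card_mul_eq_card_mul R (s := N.toFinset) (t := F.toFinset) (m := k) (n := m)
    (fun f hf => ?_) (fun e he => ?_)
  · rwa [← Set.ncard_eq_toFinset_card', ← Set.ncard_eq_toFinset_card'] at key
  · rw [← hk f (Set.mem_toFinset.mp hf), Set.ncard_eq_toFinset_card']
    congr 1; ext x; simp [Finset.bipartiteAbove]
  · rw [← hm e (Set.mem_toFinset.mp he), Set.ncard_eq_toFinset_card']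
    congr 1; ext x; simp [Finset.bipartiteBelow]

end Cfsg.Agent.H93
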