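import Cfsg.Agent.H93.Geo22
import Cfsg.Agent.H92.TTWidthTop

/-!
Groups of type M(22): the common neighbours of two members that do not commute, and the normaliser
of the subgroup of order three generated by their product.
-/

set_option autoImplicit false

namespace Cfsg.Agent.H93

variable {G : Type*} [Group G] {D : Set G} {K : Type*} [Field K] [Fintype K]

theorem TT.cube_pow (hD : TT D) {a d : G} (ha : a ∈ D) (hd : d ∈ D) (hn : ¬ Commute a d) :
    (a * d) ^ 3 = 1 ∧ a * d ≠ 1 := by
  refine ⟨?_, fun e => hn ?_⟩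
  · calc (a * d) ^ 3 = (a * d * a) * (d * a * d) := by simp [pow_succ, mul_assoc]
      _ = (a * d * a) * (a * d * a) := by rw [hD.braid ha hd hn]
      _ = a * (d * (a * a) * d) * a := by group
      _ = 1 := by rw [hD.sq a ha, mul_one, hD.sq d hd, mul_one, hD.sq a ha]
  · rw [show d = a from (eq_inv_of_mul_eq_one_right e).trans (hD.inv_eq ha)]

theorem TT.invert_left (hD : TT D) {a d : G} (ha : a ∈ D) (hd : d ∈ D) :
    a * (a * d) * a = (a * d)⁻¹ := by
  rw [mul_inv_rev, hD.inv_eq ha, hD.inv_eq hd, ← mul_assoc a a d, hD.sq a ha, one_mul]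

/-- members centralising the product commute with both -/
theorem TT.commute_of_commute_product (hD : TT D) {a d e : G} (ha : a ∈ D) (hd : d ∈ D)
    (he : e ∈ D) (hn : ¬ Commute a d) (hc : Commute e (a * d)) : Commute e a ∧ Commute e d := by
  obtain ⟨h3, h1⟩ := hD.cube_pow ha hd hn
  have hnot : ¬ Commute a (a * d) := fun q => by
    have e1 := hD.invert_left ha hd
    rw [q.eq, mul_assoc (a * d) a a, hD.sq a ha, mul_one] at e1
    refine h1 ?_
    rw [pow_succ, pow_two] at h3
    nth_rw 1 [e1] at h3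
    rwa [inv_mul_cancel, one_mul] at h3
  have hea : Commute e a := by
    by_contra hne
    refine hnot ?_
    have hb := hD.braid he ha hne
    have ha' : a = e * (a * e * a) * e := by
      rw [← hb]
      calc a = (e * e) * a * (e * e) := by rw [hD.sq e he]; group
        _ = _ := by group
    have c1 : Commute (a * e * a) (a * d) := by
      have : Commute (a * e * a⁻¹) (a * (a * d) * a⁻¹) := commute_conj.mpr hc
      rw [hD.inv_eq ha, hD.invert_left ha hd] at this
      simpa using this.inv_right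
    have := (hc.mul_left c1).mul_left hc
    rwa [← ha'] at this
  refine ⟨hea, ?_⟩
  have := hea.mul_right hc
  rwa [← mul_assoc, hD.sq a ha, one_mul] at this

namespace Geo22

variable (h : Geo22 D K) {a d : G} (ha : a ∈ D) (hd : d ∈ D) (hn : ¬ Commute a d)

include h ha hd hn

theorem member_commute_product {e : G} :
    e ∈ D ∧ Commute e (a * d) ↔ e ∈ common D a d := by
  refine ⟨fun ⟨he, hc⟩ => ?_, fun he =>
    ⟨he.1.1, he.1.2.2.symm.mul_right he.2.2.2.symm⟩⟩
  obtain ⟨c1, c2⟩ := h.core.tt.commute_of_commute_product ha hd he hn hc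
  exact ⟨⟨he, fun q => hn (q ▸ c2), c1.symm⟩, he, fun q => hn (q ▸ c1).symm, c2.symm⟩

theorem exists_common : ∃ z, z ∈ common D a d := h.far a ha d hd hn

/-- a common neighbour has a common neighbour it does not commute with -/
theorem exists_apart {z : G} (hz : z ∈ common D a d) :
    ∃ w, w ∈ common D a d ∧ ¬ Commute z w := by
  by_contra hall
  simp only [not_exists, not_and, not_not] at hall
  have hT := h.forty ha hd hn hz
  obtain ⟨E, hE, hE5, -⟩ := hT.exists_five
  obtain ⟨p, hp⟩ : E.Nonempty := Set.nonempty_of_ncard_ne_zero (by omega)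
  obtain ⟨q, hq, hne⟩ : ∃ q ∈ E, q ≠ p := Set.exists_ne_of_one_lt_ncard (by omega) p
  obtain ⟨r, hr, hpr, -⟩ := hT.apart (hE hp) (hE hq) (Ne.symm hne)
  obtain ⟨γ, c1, c2, e⟩ := h.conj_common ha hd hn hz (hE hp).1
  have hm : γ⁻¹ * r * γ ∈ common D a d := by
    have := h.core.tt.common_conj γ⁻¹ hr.1
    rw [show γ⁻¹ * a * γ⁻¹⁻¹ = a from mul_inv_eq_iff_eq_mul.mpr c1.inv_left.eq,
      show γ⁻¹ * d * γ⁻¹⁻¹ = d from mul_inv_eq_iff_eq_mul.mpr c2.inv_left.eq, inv_inv] at this
    exact this
  refine hpr ?_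
  have := (commute_conj (g := γ)).mpr (hall _ hm)
  rwa [e, show γ * (γ⁻¹ * r * γ) * γ⁻¹ = r by group] at this

/-- members that invert the product -/
theorem inverting {e : G} (he : e ∈ D) (hx : e * (a * d) * e = (a * d)⁻¹) :
    e = a ∨ e = d ∨ e = a * d * a := by
  have htt := h.core.tt
  have ea : Commute e a → e = a := by
    intro hc
    have h1 : e * d * e = a * d * a := by
      rw [mul_inv_rev, htt.inv_eq ha, htt.inv_eq hd] at hx
      have hx' : a * (e * d * e) = d * a := by
        rw [← hx, ← mul_assoc e a d, hc.eq]; simp only [mul_assoc]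
      calc e * d * e = a * (a * (e * d * e)) := (htt.cancel ha _).symm
        _ = a * d * a := by rw [hx', mul_assoc]
    have hned : ¬ Commute e d := fun q => hn (by
      rw [q.eq, mul_assoc, htt.sq e he, mul_one] at h1
      refine (mul_inv_eq_iff_eq_mul.mp ?_ : a * d = d * a)
      rw [htt.inv_eq ha]
      exact h1.symm)
    have h2 : d * e * d = a * d * a := (htt.braid he hd hned).symm.trans h1
    calc e = d * (d * e * d) * d := by
          rw [show d * (d * e * d) * d = (d * d) * e * (d * d) by group, htt.sq d hd, one_mul,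
            mul_one]
      _ = (d * a * d) * (a * d) := by rw [h2]; group
      _ = a * d * (a * a) * d := by rw [← htt.braid ha hd hn]; group
      _ = a := by rw [htt.sq a ha, mul_one, mul_assoc, htt.sq d hd, mul_one]
  by_cases c1 : Commute e a
  · exact Or.inl (ea c1)
  by_cases c2 : Commute e d
  · right; left
    by_contra hne
    -- conjugate the first case by the element exchanging the two
    have hx' : e * (d * a) * e = (d * a)⁻¹ := by
      have h' := congrArg (fun t => t⁻¹) hx
      simp only [mul_inv_rev, htt.inv_eq ha, htt.inv_eq hd, htt.inv_eq he, inv_inv] at h'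
      rw [mul_inv_rev, htt.inv_eq ha, htt.inv_eq hd]
      simpa only [mul_assoc] using h'
    have h1 : e * a * e = d * a * d := by
      rw [mul_inv_rev, htt.inv_eq ha, htt.inv_eq hd] at hx'
      have hx'' : d * (e * a * e) = a * d := by
        rw [← hx', ← mul_assoc e d a, c2.eq]; simp only [mul_assoc]
      calc e * a * e = d * (d * (e * a * e)) := (htt.cancel hd _).symm
        _ = d * a * d := by rw [hx'', mul_assoc]
    refine hne ?_
    calc e = a * (a * e * a) * a := by
          rw [show a * (a * e * a) * a = (a * a) * e * (a * a) by group, htt.sq a ha, one_mul,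
            mul_one]
      _ = a * (d * a * d) * a := by rw [(htt.braid he ha c1).symm.trans h1]
      _ = (a * d * a) * (d * a) := by group
      _ = d * a * (d * d) * a := by rw [htt.braid ha hd hn]; group
      _ = d := by rw [htt.sq d hd, mul_one, mul_assoc, htt.sq a ha, mul_one]
  right; right
  have hall : ∀ z ∈ common D a d, Commute e z := by
    intro z hz
    by_contra hne
    have cz : Commute z (a * d) := ((h.member_commute_product ha hd hn).mpr hz).2
    have hc : Commute (e * z * e) (a * d) := by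
      have := (commute_conj (g := e)).mpr cz
      rw [htt.inv_eq he, hx] at this
      simpa using this.inv_right
    have hm := (h.member_commute_product ha hd hn).mp ⟨htt.conj_self_mem he hz.1.1, hc⟩
    rw [htt.braid he hz.1.1 hne] at hm
    have := (commute_conj (g := z)).mpr hm.1.2.2
    rw [htt.inv_eq hz.1.1, show z * a * z = a by
      rw [hz.1.2.2.symm.eq, mul_assoc, htt.sq z hz.1.1, mul_one],
      show z * (z * e * z) * z = e by
        rw [show z * (z * e * z) * z = (z * z) * e * (z * z) by group, htt.sq z hz.1.1, one_mul,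
          mul_one]] at this
    exact c1 this.symm
  obtain ⟨z, hz⟩ := h.exists_common ha hd hn
  refine h.third_of_common ha hd hn hz ⟨he, fun q => ?_, (hall z hz).symm⟩ c1 c2
    fun y hy => hall y hy.1
  exact c1 (q ▸ hz.1.2.2.symm)

/-- the common neighbours are conjugate under the subgroup they generate -/
theorem orbit_all {z w : G} (hz : z ∈ common D a d) (hw : w ∈ common D a d) :
    ∃ k ∈ Subgroup.closure (common D a d), k * z * k⁻¹ = w := by
  have htt := h.core.tt
  set L := Subgroup.closure (common D a d)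
  have step : ∀ {p q}, p ∈ common D a d → q ∈ common D a d → ¬ Commute p q →
      ∀ {k}, k ∈ L → k * z * k⁻¹ = p → ∃ k' ∈ L, k' * z * k'⁻¹ = q := by
    intro p q hp hq hpq k hk e
    refine ⟨p * q * k, mul_mem (mul_mem (Subgroup.subset_closure hp) (Subgroup.subset_closure hq)) hk, ?_⟩
    calc p * q * k * z * (p * q * k)⁻¹ = p * q * (k * z * k⁻¹) * (q⁻¹ * p⁻¹) := by group
      _ = p * (q * p * q) * p := by
        rw [e, htt.inv_eq hp.1.1, htt.inv_eq hq.1.1]; group
      _ = q := by
        rw [← htt.braid hp.1.1 hq.1.1 hpq,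
          show p * (p * q * p) * p = (p * p) * q * (p * p) by group, htt.sq p hp.1.1, one_mul,
          mul_one]
  by_contra hno
  simp only [not_exists, not_and] at hno
  let O : Set G := {y | y ∈ common D a d ∧ ∃ k ∈ L, k * z * k⁻¹ = y}
  have hsep : ∀ {p q}, p ∈ O → q ∈ common D a d → q ∉ O → q ∈ nb D p := by
    intro p q hp hq hqO
    refine ⟨hq.1.1, fun e => hqO (e ▸ hp), ?_⟩
    by_contra hpq
    obtain ⟨k, hk, e⟩ := hp.2
    exact hqO ⟨hq, step hp.1 hq hpq hk e⟩
  have hzO : z ∈ O := ⟨hz, 1, one_mem _, by simp⟩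
  have hwO : w ∉ O := fun q => by obtain ⟨k, hk, e⟩ := q.2; exact hno k hk e
  -- the forty five points of a member are on one side
  have side : ∀ {p}, p ∈ common D a d → ∀ {x y}, x ∈ common D a d ∩ nb D p →
      y ∈ common D a d ∩ nb D p → x ∈ O → y ∈ O := by
    intro p hp x y hx hy hxO
    by_cases e : x = y
    · exact e ▸ hxO
    obtain ⟨r, hr, h1, h2⟩ := (h.forty ha hd hn hp).apart hx hy e
    obtain ⟨k, hk, ek⟩ := hxO.2
    obtain ⟨k', hk', ek'⟩ := step hxO.1 hr.1 h1 hk ek
    exact ⟨hy.1, step hr.1 hy.1 (fun q => h2 q.symm) hk' ek'⟩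
  have hzw : w ∈ nb D z := hsep hzO hw hwO
  have hwz : z ∈ nb D w := nb_symm hz.1.1 hzw
  obtain ⟨c, hc1, hc2⟩ : ∃ c, c ∈ common D a d ∩ nb D z ∧ c ∈ nb D w := by
    have hT := h.forty ha hd hn hz
    have := hT.deg (p := w) ⟨hw, hzw⟩
    obtain ⟨c, hc, hne, hcc⟩ := Set.nonempty_of_ncard_ne_zero (s := {y ∈ common D a d ∩ nb D z |
      y ≠ w ∧ Commute w y}) (by omega)
    exact ⟨c, hc, hc.1.1.1, hne, hcc⟩
  by_cases hcO : c ∈ O
  · exact hwO (side hz hc1 ⟨hw, hzw⟩ hcO)
  · exact hcO (side hw ⟨hz, hwz⟩ ⟨hc1.1, hc2⟩ hzO)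

/-- the centraliser of the pair is generated by the common neighbours -/
theorem cent_eq : Subgroup.centralizer ({a, d} : Set G) = Subgroup.closure (common D a d) := by
  refine le_antisymm (fun g hg => ?_) ((Subgroup.closure_le _).mpr fun y hy => ?_)
  · have hga : Commute g a := (Subgroup.mem_centralizer_iff.mp hg a (by simp)).symm
    have hgd : Commute g d := (Subgroup.mem_centralizer_iff.mp hg d (by simp)).symm
    obtain ⟨z, hz⟩ := h.exists_common ha hd hn
    have hm := h.core.tt.common_conj g hz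
    rw [show g * a * g⁻¹ = a from mul_inv_eq_iff_eq_mul.mpr hga.eq,
      show g * d * g⁻¹ = d from mul_inv_eq_iff_eq_mul.mpr hgd.eq] at hm
    obtain ⟨k, hk, e⟩ := h.orbit_all ha hd hn hz hm
    have hka : Commute k a ∧ Commute k d := by
      have hle : Subgroup.closure (common D a d) ≤ Subgroup.centralizer ({a, d} : Set G) :=
        (Subgroup.closure_le _).mpr fun y hy => Subgroup.mem_centralizer_iff.mpr (by
          rintro t (rfl | rfl)
          exacts [hy.1.2.2.eq, hy.2.2.2.eq])
      exact ⟨(Subgroup.mem_centralizer_iff.mp (hle hk) a (by simp)).symm,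
        (Subgroup.mem_centralizer_iff.mp (hle hk) d (by simp)).symm⟩
    have := h.cent_triple_le ha hd hn hz (k := k⁻¹ * g) (hka.1.inv_left.mul_left hga)
      (hka.2.inv_left.mul_left hgd) (by
        refine (mul_inv_eq_iff_eq_mul.mp ?_ : k⁻¹ * g * z = z * (k⁻¹ * g))
        rw [show k⁻¹ * g * z * (k⁻¹ * g)⁻¹ = k⁻¹ * (g * z * g⁻¹) * k by group, ← e]; group)
    simpa [mul_assoc] using mul_mem hk this
  · refine Subgroup.mem_centralizer_iff.mpr ?_
    rintro t (rfl | rfl)
    exacts [hy.1.2.2.eq, hy.2.2.2.eq]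

/-- the subgroup of the common neighbours has trivial centre -/
theorem center_common : Subgroup.center ↥(Subgroup.closure (common D a d)) = ⊥ := by
  rw [eq_bot_iff]
  intro k hk
  have hkc : ∀ y ∈ common D a d, Commute (k : G) y := fun y hy =>
    (congrArg Subtype.val (Subgroup.mem_center_iff.mp hk ⟨y, Subgroup.subset_closure hy⟩)).symm
  have hk' : (k : G) ∈ Subgroup.centralizer ({a, d} : Set G) := by
    rw [h.cent_eq ha hd hn]; exact k.2
  obtain ⟨z, hz⟩ := h.exists_common ha hd hn
  rw [Subgroup.mem_bot]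
  rcases h.triple_central ha hd hn hz (Subgroup.mem_centralizer_iff.mp hk' a (by simp)).symm
      (Subgroup.mem_centralizer_iff.mp hk' d (by simp)).symm (hkc z hz)
      (fun y hy => hkc y hy.1) with q | q
  · exact Subtype.ext q
  · obtain ⟨w, hw, hzw⟩ := h.exists_apart ha hd hn hz
    exact absurd (q ▸ hkc w hw) hzw

/-- the subgroup of the common neighbours is transitive on pairs that do not commute -/
theorem conj_in_common {z w z' w' : G} (hz : z ∈ common D a d) (hw : w ∈ common D a d)
    (hzw : ¬ Commute z w) (hz' : z' ∈ common D a d) (hw' : w' ∈ common D a d)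
    (hzw' : ¬ Commute z' w') :
    ∃ k ∈ Subgroup.closure (common D a d), k * z' * k⁻¹ = z ∧ k * w' * k⁻¹ = w := by
  obtain ⟨y, hy1, hy2⟩ := h.common_far ha hd hn hz hw hzw
  obtain ⟨y', hy1', hy2'⟩ := h.common_far ha hd hn hz' hw' hzw'
  obtain ⟨γ1, a1, d1, e1⟩ := h.conj_common ha hd hn hy1'.1 hy1.1
  have htt := h.core.tt
  have tr : ∀ {t}, t ∈ common D a d → y' ∈ nb D t →
      γ1 * t * γ1⁻¹ ∈ common D a d ∩ nb D y := by
    intro t ht hty
    refine ⟨?_, ?_⟩
    · have := htt.common_conj γ1 ht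
      rwa [show γ1 * a * γ1⁻¹ = a from mul_inv_eq_iff_eq_mul.mpr a1.eq,
        show γ1 * d * γ1⁻¹ = d from mul_inv_eq_iff_eq_mul.mpr d1.eq] at this
    · have := htt.nb_conj γ1 (nb_symm ht.1.1 hty)
      rwa [e1] at this
  obtain ⟨γ2, a2, d2, e2, e3⟩ := h.conj_quad ha hd hn hy1.1
    ⟨hz, nb_symm hz.1.1 hy1.2⟩ ⟨hw, nb_symm hw.1.1 hy2⟩ hzw (tr hz' hy1'.2) (tr hw' hy2')
    (fun q => hzw' (commute_conj.mp q))
  refine ⟨γ2 * γ1, ?_, ?_, ?_⟩
  · rw [← h.cent_eq ha hd hn]
    refine Subgroup.mem_centralizer_iff.mpr ?_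
    rintro t (rfl | rfl)
    exacts [(a2.mul_left a1).symm.eq, (d2.mul_left d1).symm.eq]
  · rw [show γ2 * γ1 * z' * (γ2 * γ1)⁻¹ = γ2 * (γ1 * z' * γ1⁻¹) * γ2⁻¹ by group, e2]
  · rw [show γ2 * γ1 * w' * (γ2 * γ1)⁻¹ = γ2 * (γ1 * w' * γ1⁻¹) * γ2⁻¹ by group, e3]

/-- at most six common neighbours commute pairwise, and six do -/
theorem width_six [Finite G] : Cfsg.commutingWidth (common D a d) = 6 := by
  have bdd : ∀ n ∈ {n : ℕ | ∃ E : Set G, E ⊆ common D a d ∧ E.Finite ∧
      (∀ p ∈ E, ∀ q ∈ E, Commute p q) ∧ E.ncard = n}, n ≤ 6 := by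
    rintro n ⟨E, hE, hfin, hc, rfl⟩
    rcases E.eq_empty_or_nonempty with e | ⟨z, hz⟩
    · subst e; simp
    have hsub : E \ {z} ⊆ common D a d ∩ nb D z := fun y hy =>
      ⟨hE hy.1, (hE hy.1).1.1, hy.2, hc z hz y hy.1⟩
    have := (h.forty ha hd hn (hE hz)).clique hsub fun p hp q hq => hc p hp.1 q hq.1
    have := Set.ncard_sdiff_singleton_add_one hz hfin
    omega
  refine le_antisymm (csSup_le' bdd) (le_csSup ⟨6, bdd⟩ ?_)
  obtain ⟨z, hz⟩ := h.exists_common ha hd hn
  obtain ⟨E, hE, h5, hc⟩ := (h.forty ha hd hn hz).exists_five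
  refine ⟨insert z E, Set.insert_subset hz fun y hy => (hE hy).1, Set.toFinite _, ?_, ?_⟩
  · rintro p (rfl | hp) q (rfl | hq)
    exacts [Commute.refl _, (hE hq).2.2.2, (hE hp).2.2.2.symm, hc p hp q hq]
  · rw [Set.ncard_insert_of_notMem (fun q => (hE q).2.2.1 rfl), h5]

omit hn in
/-- the symmetric group of degree three -/
theorem closure_pair_card [Finite G] (hn : ¬ Commute a d) :
    Nat.card ↥(Subgroup.closure ({a, d} : Set G)) = 6 := by
  have htt := h.core.tt
  obtain ⟨h3, h1⟩ := htt.cube_pow ha hd hn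
  set x := a * d with hx
  have hox : orderOf x = 3 := orderOf_eq_prime h3 h1
  have hinv : ∀ i : ℤ, a * x ^ i * a = x ^ (-i) := fun i => by
    have : (a * x * a⁻¹) ^ i = a * x ^ i * a⁻¹ := conj_zpow
    rw [htt.inv_eq ha, htt.invert_left ha hd, inv_zpow'] at this
    exact this.symm
  let P : G → Prop := fun g => g ∈ Subgroup.zpowers x ∨ g * a ∈ Subgroup.zpowers x
  let S : Subgroup G :=
    { carrier := {g | P g}
      one_mem' := Or.inl (one_mem _)
      mul_mem' := by
        intro p q hp hq
        have sw : ∀ {g}, g ∈ Subgroup.zpowers x → a * g * a ∈ Subgroup.zpowers x := by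
          intro g hg
          obtain ⟨i, rfl⟩ := hg
          show a * x ^ i * a ∈ _
          rw [hinv]; exact Subgroup.zpow_mem_zpowers _ _
        rcases hp with hp | hp <;> rcases hq with hq | hq
        · exact Or.inl (mul_mem hp hq)
        · exact Or.inr (by rw [mul_assoc]; exact mul_mem hp hq)
        · refine Or.inr ?_
          rw [show p * q * a = (p * a) * (a⁻¹ * q * a) by group, htt.inv_eq ha]
          exact mul_mem hp (sw hq)
        · refine Or.inl ?_
          rw [show p * q = (p * a) * (a⁻¹ * (q * a) * a⁻¹) by group, htt.inv_eq ha]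
          exact mul_mem hp (sw hq)
      inv_mem' := by
        intro p hp
        rcases hp with hp | hp
        · exact Or.inl (inv_mem hp)
        · refine Or.inr ?_
          obtain ⟨i, hi : x ^ i = p * a⟩ := hp
          rw [show p⁻¹ * a = (p * a * a⁻¹)⁻¹ * a by group, ← hi, mul_inv_rev, inv_inv, ← zpow_neg,
            hinv, neg_neg]
          exact Subgroup.zpow_mem_zpowers _ _ }
  have hle : Subgroup.closure ({a, d} : Set G) ≤ S := by
    rw [Subgroup.closure_le]
    rintro t (rfl | rfl)
    · exact Or.inr (by rw [htt.sq t ha]; exact one_mem _)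
    · refine Or.inr ?_
      rw [show t * a = x⁻¹ by rw [hx, mul_inv_rev, htt.inv_eq ha, htt.inv_eq hd]]
      exact inv_mem (Subgroup.mem_zpowers x)
  have hSle : S ≤ Subgroup.closure ({a, d} : Set G) := by
    have hxm : Subgroup.zpowers x ≤ Subgroup.closure ({a, d} : Set G) := by
      rw [Subgroup.zpowers_le]
      exact mul_mem (Subgroup.subset_closure (by simp)) (Subgroup.subset_closure (by simp))
    rintro g (hg | hg)
    · exact hxm hg
    · have := mul_mem (hxm hg) (inv_mem (Subgroup.subset_closure (show a ∈ ({a, d} : Set G) by simp)))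
      rwa [mul_inv_cancel_right] at this
  rw [le_antisymm hle hSle, ← SetLike.coe_sort_coe, Nat.card_coe_set_eq]
  have hset : (S : Set G) = (Subgroup.zpowers x : Set G) ∪
      (fun g => g * a) '' (Subgroup.zpowers x : Set G) := by
    ext g
    refine ⟨fun hg => hg.imp id fun q => ⟨g * a, q, ?_⟩, fun hg => ?_⟩
    · show g * a * a = g
      rw [mul_assoc, htt.sq a ha, mul_one]
    · rcases hg with hg | ⟨p, hp, rfl⟩
      · exact Or.inl hg
      · exact Or.inr (by rw [mul_assoc, htt.sq a ha, mul_one]; exact hp)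
  have hna : a ∉ Subgroup.zpowers x := by
    intro q
    have := orderOf_dvd_natCard (⟨a, q⟩ : Subgroup.zpowers x)
    rw [Nat.card_zpowers, hox, Subgroup.orderOf_mk,
      orderOf_eq_prime (show a ^ 2 = 1 by rw [pow_two, htt.sq a ha]) (h.core.ne_one a ha)] at this
    norm_num at this
  rw [hset, Set.ncard_union_eq, Set.ncard_image_of_injective _ (mul_left_injective a),
    ← Nat.card_coe_set_eq, SetLike.coe_sort_coe, Nat.card_zpowers, hox]
  rw [Set.disjoint_left]
  rintro g hg ⟨p, hp, rfl⟩
  exact hna ((Subgroup.mul_mem_cancel_left _ hp).mp hg)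

/-- the symmetric group of degree three -/
theorem closure_pair_equiv [Finite G] :
    Nonempty (↥(Subgroup.closure ({a, d} : Set G)) ≃* Equiv.Perm (Fin 3)) := by
  have htt := h.core.tt
  obtain ⟨h3, h1⟩ := htt.cube_pow ha hd hn
  have ma : a ∈ Subgroup.closure ({a, d} : Set G) := Subgroup.subset_closure (by simp)
  have md : d ∈ Subgroup.closure ({a, d} : Set G) := Subgroup.subset_closure (by simp)
  refine Cfsg.Agent.H92.TTWidth.perm_three_of (h.closure_pair_card ha hd hn) (x := ⟨a, ma⟩)
    (a := ⟨a * d, mul_mem ma md⟩) (Subtype.ext (htt.sq a ha))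
    (fun e => h.core.ne_one a ha (congrArg Subtype.val e))
    (Subtype.ext h3) (fun e => h1 (congrArg Subtype.val e))
    (Subtype.ext (htt.invert_left ha hd))

/-- the normaliser of the subgroup of order three -/
theorem normalizer_eq [Finite G] :
    Subgroup.closure ({a, d} : Set G) ⊔ Subgroup.closure (common D a d) =
      Subgroup.normalizer ((Subgroup.zpowers (a * d) : Subgroup G) : Set G) := by
  have htt := h.core.tt
  set x := a * d with hx
  set L := Subgroup.closure (common D a d)
  set S := Subgroup.closure ({a, d} : Set G)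
  have hinva : ∀ y ∈ Subgroup.zpowers x, a * y * a = y⁻¹ := by
    rintro _ ⟨i, rfl⟩
    have : (a * x * a⁻¹) ^ i = a * x ^ i * a⁻¹ := conj_zpow
    rw [htt.inv_eq ha, htt.invert_left ha hd, inv_zpow] at this
    exact this.symm
  refine le_antisymm (sup_le ((Subgroup.closure_le _).mpr ?_) ((Subgroup.closure_le _).mpr ?_)) ?_
  · rintro t ht
    have ht2 : t * t = 1 := by
      rcases ht with rfl | rfl
      exacts [htt.sq _ ha, htt.sq _ hd]
    have hti : t⁻¹ = t := inv_eq_of_mul_eq_one_right ht2
    have hact : ∀ y ∈ Subgroup.zpowers x, t * y * t = y⁻¹ := by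
      rcases ht with rfl | rfl
      · exact hinva
      · intro y hy
        have hcx : Commute x y := by obtain ⟨i, rfl⟩ := hy; exact (Commute.refl x).zpow_right i
        have e : t = a * x := by rw [hx, htt.cancel ha]
        have e' : t = x⁻¹ * a := by
          rw [hx, mul_inv_rev, htt.inv_eq ha, htt.inv_eq hd, mul_assoc, htt.sq a ha, mul_one]
        calc t * y * t = (a * x) * y * (x⁻¹ * a) := by rw [← e, ← e']
          _ = a * (x * y * x⁻¹) * a := by group
          _ = y⁻¹ := by rw [hcx.eq, mul_inv_cancel_right, hinva y hy]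
    refine Subgroup.mem_normalizer_iff.mpr fun y => ?_
    rw [hti]
    refine ⟨fun hy => by rw [hact y hy]; exact inv_mem hy, fun hy => ?_⟩
    have := hact _ hy
    rw [show t * (t * y * t) * t = (t * t) * y * (t * t) by group, ht2, one_mul, mul_one] at this
    rw [this]
    exact inv_mem hy
  · intro y hy
    have hc : Commute y x := ((h.member_commute_product ha hd hn).mpr hy).2
    refine Subgroup.mem_normalizer_iff.mpr fun t => ⟨fun ht => ?_, fun ht => ?_⟩
    · obtain ⟨i, rfl⟩ := ht
      rw [show y * x ^ i * y⁻¹ = x ^ i from mul_inv_eq_iff_eq_mul.mpr (hc.zpow_right i).eq]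
      exact Subgroup.zpow_mem_zpowers _ _
    · obtain ⟨i, hi : x ^ i = y * t * y⁻¹⟩ := ht
      rw [show t = y⁻¹ * x ^ i * y by rw [hi]; group, mul_assoc, ← (hc.zpow_right i).eq,
        inv_mul_cancel_left]
      exact Subgroup.zpow_mem_zpowers _ _
  intro n hn'
  rw [Subgroup.mem_normalizer_iff] at hn'
  have hxn : x ∈ Subgroup.zpowers x := Subgroup.mem_zpowers x
  set e := n * a * n⁻¹ with he
  have hex : e * x * e = x⁻¹ := by
    have hy : n⁻¹ * x * n ∈ Subgroup.zpowers x := by
      rw [hn', show n * (n⁻¹ * x * n) * n⁻¹ = x by group]; exact hxn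
    have := hinva _ hy
    rw [he, show n * a * n⁻¹ * x * (n * a * n⁻¹) = n * (a * (n⁻¹ * x * n) * a) * n⁻¹ by group, this]
    group
  have mS : ∀ {s}, s ∈ S → s ∈ S ⊔ L := fun hs => Subgroup.mem_sup_left hs
  have ma : a ∈ S := Subgroup.subset_closure (by simp)
  have md : d ∈ S := Subgroup.subset_closure (by simp)
  -- move the image of `a` back
  obtain ⟨s, hs, es, hsx⟩ : ∃ s, s ∈ S ∧ s * e * s⁻¹ = a ∧
      ∀ y, y ∈ Subgroup.zpowers x → s * y * s⁻¹ ∈ Subgroup.zpowers x := by
    have conjx : ∀ {t}, t = a ∨ t = d → ∀ y, y ∈ Subgroup.zpowers x → t * y * t ∈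
        Subgroup.zpowers x := by
      rintro t (rfl | rfl) y hy
      · rw [hinva y hy]; exact inv_mem hy
      · have hcx : Commute x y := by obtain ⟨i, rfl⟩ := hy; exact (Commute.refl x).zpow_right i
        rw [show t * y * t = (a * x) * y * (x⁻¹ * a) by
          rw [hx, htt.cancel ha, mul_inv_rev, htt.inv_eq ha, htt.inv_eq hd, mul_assoc t a a,
            htt.sq a ha, mul_one],
          show (a * x) * y * (x⁻¹ * a) = a * (x * y * x⁻¹) * a by group, hcx.eq,
          mul_inv_cancel_right, hinva y hy]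
        exact inv_mem hy
    rcases h.inverting ha hd hn (htt.conj_mem n a ha) hex with q | q | q
    · exact ⟨1, one_mem _, by rw [← he] at q; simp [q], fun y hy => by simpa using hy⟩
    · refine ⟨d * a, mul_mem md ma, ?_, fun y hy => ?_⟩
      · rw [show e = d from q]
        calc d * a * d * (d * a)⁻¹ = (d * a * d) * (a⁻¹ * d⁻¹) := by group
          _ = a * d * (a * a⁻¹) * d⁻¹ := by rw [← htt.braid ha hd hn]; group
          _ = a := by group
      · rw [show d * a * y * (d * a)⁻¹ = d * (a * y * a⁻¹) * d⁻¹ by group, htt.inv_eq ha,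
          htt.inv_eq hd]
        exact conjx (Or.inr rfl) _ (conjx (Or.inl rfl) _ hy)
    · refine ⟨d, md, ?_, fun y hy => ?_⟩
      · rw [show e = a * d * a from q, htt.inv_eq hd, htt.braid ha hd hn,
          show d * (d * a * d) * d = (d * d) * a * (d * d) by group, htt.sq d hd, one_mul, mul_one]
      · rw [htt.inv_eq hd]; exact conjx (Or.inr rfl) _ hy
  have hga : s * n * a * (s * n)⁻¹ = a := by
    rw [show s * n * a * (s * n)⁻¹ = s * (n * a * n⁻¹) * s⁻¹ by group, ← he, es]
  have hgx : s * n * x * (s * n)⁻¹ ∈ Subgroup.zpowers x := by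
    rw [show s * n * x * (s * n)⁻¹ = s * (n * x * n⁻¹) * s⁻¹ by group]
    exact hsx _ ((hn' x).mp hxn)
  rw [← Subgroup.mul_mem_cancel_left _ (mS hs)]
  generalize s * n = g at hga hgx
  obtain ⟨h3, h1⟩ := htt.cube_pow ha hd hn
  have hox : orderOf x = 3 := orderOf_eq_prime h3 h1
  obtain ⟨i, hi, ei⟩ : ∃ i : ℕ, i < 3 ∧ x ^ i = g * x * g⁻¹ := by
    obtain ⟨i, hi : x ^ i = _⟩ := (isOfFinOrder_of_finite x).mem_powers_iff_mem_zpowers.mpr hgx
    refine ⟨i % 3, Nat.mod_lt _ (by norm_num), ?_⟩
    rw [← hox, pow_mod_orderOf]; exact hi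
  have done : ∀ {g'}, g' * a * g'⁻¹ = a → g' * x * g'⁻¹ = x → g' ∈ S ⊔ L := by
    intro g' ca cx
    refine Subgroup.mem_sup_right ?_
    show g' ∈ Subgroup.closure (common D a d)
    rw [← h.cent_eq ha hd hn]
    refine Subgroup.mem_centralizer_iff.mpr ?_
    have c1 : Commute g' a := mul_inv_eq_iff_eq_mul.mp ca
    have c2 := c1.mul_right (show Commute g' x from mul_inv_eq_iff_eq_mul.mp cx)
    rw [hx, htt.cancel ha] at c2
    rintro t (rfl | rfl)
    exacts [c1.symm.eq, c2.symm.eq]
  rcases (show i = 0 ∨ i = 1 ∨ i = 2 by omega) with rfl | rfl | rfl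
  · rw [pow_zero] at ei
    exact absurd (conj_eq_one_iff.mp ei.symm) h1
  · exact done hga (by rw [← ei, pow_one])
  · rw [← Subgroup.mul_mem_cancel_left _ (mS ma)]
    refine done ?_ ?_
    · rw [show a * g * a * (a * g)⁻¹ = a * (g * a * g⁻¹) * a⁻¹ by group, hga, mul_inv_cancel_right]
    · rw [show a * g * x * (a * g)⁻¹ = a * (g * x * g⁻¹) * a⁻¹ by group, ← ei, htt.inv_eq ha,
        hinva _ (Subgroup.npow_mem_zpowers _ _)]
      exact inv_eq_of_mul_eq_one_right (by rw [← pow_succ]; exact h3)

end Geo22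

end Cfsg.Agent.H93
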