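import Cfsg.Agent.H93.Count23G
import Cfsg.Agent.H93.Common22

/-!
Groups of type M(23): the common neighbours of two members that do not commute, and the normaliser of
the subgroup of order three generated by their product.
-/

set_option autoImplicit false

namespace Cfsg.Agent.H93

variable {G : Type*} [Group G] {D : Set G}

namespace Core

variable (h : Core D) {a d : G} (ha : a ∈ D) (hd : d ∈ D) (hn : ¬ Commute a d)

include h ha hd hn

/-- the symmetric group of degree three -/
theorem pairClosure_card [Finite G] :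
    Nat.card ↥(Subgroup.closure ({a, d} : Set G)) = 6 := by
  have htt := h.tt
  obtain ⟨h3, h1⟩ := htt.cube_pow ha hd hn
  set x := a * d with hx
  have hox : orderOf x = 3 := orderOf_eq_prime h3 h1
  have hinv : ∀ i : ℤ, a * x ^ i * a = x ^ (-i) := fun i => by
    have : (a * x * a⁻¹) ^ i = a * x ^ i * a⁻¹ := conj_zpow
    rw [htt.inv_eq ha, htt.invert_left ha hd, inv_zpow'] at this
    exact this.symm
  let P : G → Prop := fun g => g ∈ Subgroup.zpowers x ∨ g * a ∈ Subgroup.zpowers x
  let S : Subgroup G :=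
    { carrier := {g | P g}
      one_mem' := Or.inl (one_mem _)
      mul_mem' := by
        intro p q hp hq
        have sw : ∀ {g}, g ∈ Subgroup.zpowers x → a * g * a ∈ Subgroup.zpowers x := by
          intro g hg
          obtain ⟨i, rfl⟩ := hg
          show a * x ^ i * a ∈ _
          rw [hinv]; exact Subgroup.zpow_mem_zpowers _ _
        rcases hp with hp | hp <;> rcases hq with hq | hq
        · exact Or.inl (mul_mem hp hq)
        · exact Or.inr (by rw [mul_assoc]; exact mul_mem hp hq)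
        · refine Or.inr ?_
          rw [show p * q * a = (p * a) * (a⁻¹ * q * a) by group, htt.inv_eq ha]
          exact mul_mem hp (sw hq)
        · refine Or.inl ?_
          rw [show p * q = (p * a) * (a⁻¹ * (q * a) * a⁻¹) by group, htt.inv_eq ha]
          exact mul_mem hp (sw hq)
      inv_mem' := by
        intro p hp
        rcases hp with hp | hp
        · exact Or.inl (inv_mem hp)
        · refine Or.inr ?_
          obtain ⟨i, hi : x ^ i = p * a⟩ := hp
          rw [show p⁻¹ * a = (p * a * a⁻¹)⁻¹ * a by group, ← hi, mul_inv_rev, inv_inv, ← zpow_neg,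
            hinv, neg_neg]
          exact Subgroup.zpow_mem_zpowers _ _ }
  have hle : Subgroup.closure ({a, d} : Set G) ≤ S := by
    rw [Subgroup.closure_le]
    rintro t (rfl | rfl)
    · exact Or.inr (by rw [htt.sq t ha]; exact one_mem _)
    · refine Or.inr ?_
      rw [show t * a = x⁻¹ by rw [hx, mul_inv_rev, htt.inv_eq ha, htt.inv_eq hd]]
      exact inv_mem (Subgroup.mem_zpowers x)
  have hSle : S ≤ Subgroup.closure ({a, d} : Set G) := by
    have hxm : Subgroup.zpowers x ≤ Subgroup.closure ({a, d} : Set G) := by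
      rw [Subgroup.zpowers_le]
      exact mul_mem (Subgroup.subset_closure (by simp)) (Subgroup.subset_closure (by simp))
    rintro g (hg | hg)
    · exact hxm hg
    · have := mul_mem (hxm hg) (inv_mem (Subgroup.subset_closure (show a ∈ ({a, d} : Set G) by simp)))
      rwa [mul_inv_cancel_right] at this
  rw [le_antisymm hle hSle, ← SetLike.coe_sort_coe, Nat.card_coe_set_eq]
  have hset : (S : Set G) = (Subgroup.zpowers x : Set G) ∪
      (fun g => g * a) '' (Subgroup.zpowers x : Set G) := by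
    ext g
    refine ⟨fun hg => hg.imp id fun q => ⟨g * a, q, ?_⟩, fun hg => ?_⟩
    · show g * a * a = g
      rw [mul_assoc, htt.sq a ha, mul_one]
    · rcases hg with hg | ⟨p, hp, rfl⟩
      · exact Or.inl hg
      · exact Or.inr (by rw [mul_assoc, htt.sq a ha, mul_one]; exact hp)
  have hna : a ∉ Subgroup.zpowers x := by
    intro q
    have := orderOf_dvd_natCard (⟨a, q⟩ : Subgroup.zpowers x)
    rw [Nat.card_zpowers, hox, Subgroup.orderOf_mk,
      orderOf_eq_prime (show a ^ 2 = 1 by rw [pow_two, htt.sq a ha]) (h.ne_one a ha)] at this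
    norm_num at this
  rw [hset, Set.ncard_union_eq, Set.ncard_image_of_injective _ (mul_left_injective a),
    ← Nat.card_coe_set_eq, SetLike.coe_sort_coe, Nat.card_zpowers, hox]
  rw [Set.disjoint_left]
  rintro g hg ⟨p, hp, rfl⟩
  exact hna ((Subgroup.mul_mem_cancel_left _ hp).mp hg)


/-- the symmetric group of degree three -/
theorem pairClosure_equiv [Finite G] :
    Nonempty (↥(Subgroup.closure ({a, d} : Set G)) ≃* Equiv.Perm (Fin 3)) := by
  have htt := h.tt
  obtain ⟨h3, h1⟩ := htt.cube_pow ha hd hn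
  have ma : a ∈ Subgroup.closure ({a, d} : Set G) := Subgroup.subset_closure (by simp)
  have md : d ∈ Subgroup.closure ({a, d} : Set G) := Subgroup.subset_closure (by simp)
  refine Cfsg.Agent.H92.TTWidth.perm_three_of (h.pairClosure_card ha hd hn) (x := ⟨a, ma⟩)
    (a := ⟨a * d, mul_mem ma md⟩) (Subtype.ext (htt.sq a ha))
    (fun e => h.ne_one a ha (congrArg Subtype.val e))
    (Subtype.ext h3) (fun e => h1 (congrArg Subtype.val e))
    (Subtype.ext (htt.invert_left ha hd))


/-- the normaliser of the subgroup of order three -/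
theorem pairNormalizer [Finite G]
    (hinv : ∀ {e : G}, e ∈ D → e * (a * d) * e = (a * d)⁻¹ → e = a ∨ e = d ∨ e = a * d * a)
    (hcent : Subgroup.centralizer ({a, d} : Set G) = Subgroup.closure (common D a d)) :
    Subgroup.closure ({a, d} : Set G) ⊔ Subgroup.closure (common D a d) =
      Subgroup.normalizer ((Subgroup.zpowers (a * d) : Subgroup G) : Set G) := by
  have htt := h.tt
  set x := a * d with hx
  set L := Subgroup.closure (common D a d)
  set S := Subgroup.closure ({a, d} : Set G)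
  have hinva : ∀ y ∈ Subgroup.zpowers x, a * y * a = y⁻¹ := by
    rintro _ ⟨i, rfl⟩
    have : (a * x * a⁻¹) ^ i = a * x ^ i * a⁻¹ := conj_zpow
    rw [htt.inv_eq ha, htt.invert_left ha hd, inv_zpow] at this
    exact this.symm
  refine le_antisymm (sup_le ((Subgroup.closure_le _).mpr ?_) ((Subgroup.closure_le _).mpr ?_)) ?_
  · rintro t ht
    have ht2 : t * t = 1 := by
      rcases ht with rfl | rfl
      exacts [htt.sq _ ha, htt.sq _ hd]
    have hti : t⁻¹ = t := inv_eq_of_mul_eq_one_right ht2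
    have hact : ∀ y ∈ Subgroup.zpowers x, t * y * t = y⁻¹ := by
      rcases ht with rfl | rfl
      · exact hinva
      · intro y hy
        have hcx : Commute x y := by obtain ⟨i, rfl⟩ := hy; exact (Commute.refl x).zpow_right i
        have e : t = a * x := by rw [hx, htt.cancel ha]
        have e' : t = x⁻¹ * a := by
          rw [hx, mul_inv_rev, htt.inv_eq ha, htt.inv_eq hd, mul_assoc, htt.sq a ha, mul_one]
        calc t * y * t = (a * x) * y * (x⁻¹ * a) := by rw [← e, ← e']
          _ = a * (x * y * x⁻¹) * a := by group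
          _ = y⁻¹ := by rw [hcx.eq, mul_inv_cancel_right, hinva y hy]
    refine Subgroup.mem_normalizer_iff.mpr fun y => ?_
    rw [hti]
    refine ⟨fun hy => by rw [hact y hy]; exact inv_mem hy, fun hy => ?_⟩
    have := hact _ hy
    rw [show t * (t * y * t) * t = (t * t) * y * (t * t) by group, ht2, one_mul, mul_one] at this
    rw [this]
    exact inv_mem hy
  · intro y hy
    have hc : Commute y x := hy.1.2.2.symm.mul_right hy.2.2.2.symm
    refine Subgroup.mem_normalizer_iff.mpr fun t => ⟨fun ht => ?_, fun ht => ?_⟩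
    · obtain ⟨i, rfl⟩ := ht
      rw [show y * x ^ i * y⁻¹ = x ^ i from mul_inv_eq_iff_eq_mul.mpr (hc.zpow_right i).eq]
      exact Subgroup.zpow_mem_zpowers _ _
    · obtain ⟨i, hi : x ^ i = y * t * y⁻¹⟩ := ht
      rw [show t = y⁻¹ * x ^ i * y by rw [hi]; group, mul_assoc, ← (hc.zpow_right i).eq,
        inv_mul_cancel_left]
      exact Subgroup.zpow_mem_zpowers _ _
  intro n hn'
  rw [Subgroup.mem_normalizer_iff] at hn'
  have hxn : x ∈ Subgroup.zpowers x := Subgroup.mem_zpowers x
  set e := n * a * n⁻¹ with he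
  have hex : e * x * e = x⁻¹ := by
    have hy : n⁻¹ * x * n ∈ Subgroup.zpowers x := by
      rw [hn', show n * (n⁻¹ * x * n) * n⁻¹ = x by group]; exact hxn
    have := hinva _ hy
    rw [he, show n * a * n⁻¹ * x * (n * a * n⁻¹) = n * (a * (n⁻¹ * x * n) * a) * n⁻¹ by group, this]
    group
  have mS : ∀ {s}, s ∈ S → s ∈ S ⊔ L := fun hs => Subgroup.mem_sup_left hs
  have ma : a ∈ S := Subgroup.subset_closure (by simp)
  have md : d ∈ S := Subgroup.subset_closure (by simp)
  -- move the image of `a` back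
  obtain ⟨s, hs, es, hsx⟩ : ∃ s, s ∈ S ∧ s * e * s⁻¹ = a ∧
      ∀ y, y ∈ Subgroup.zpowers x → s * y * s⁻¹ ∈ Subgroup.zpowers x := by
    have conjx : ∀ {t}, t = a ∨ t = d → ∀ y, y ∈ Subgroup.zpowers x → t * y * t ∈
        Subgroup.zpowers x := by
      rintro t (rfl | rfl) y hy
      · rw [hinva y hy]; exact inv_mem hy
      · have hcx : Commute x y := by obtain ⟨i, rfl⟩ := hy; exact (Commute.refl x).zpow_right i
        rw [show t * y * t = (a * x) * y * (x⁻¹ * a) by
          rw [hx, htt.cancel ha, mul_inv_rev, htt.inv_eq ha, htt.inv_eq hd, mul_assoc t a a,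
            htt.sq a ha, mul_one],
          show (a * x) * y * (x⁻¹ * a) = a * (x * y * x⁻¹) * a by group, hcx.eq,
          mul_inv_cancel_right, hinva y hy]
        exact inv_mem hy
    rcases hinv (htt.conj_mem n a ha) hex with q | q | q
    · exact ⟨1, one_mem _, by rw [← he] at q; simp [q], fun y hy => by simpa using hy⟩
    · refine ⟨d * a, mul_mem md ma, ?_, fun y hy => ?_⟩
      · rw [show e = d from q]
        calc d * a * d * (d * a)⁻¹ = (d * a * d) * (a⁻¹ * d⁻¹) := by group
          _ = a * d * (a * a⁻¹) * d⁻¹ := by rw [← htt.braid ha hd hn]; group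
          _ = a := by group
      · rw [show d * a * y * (d * a)⁻¹ = d * (a * y * a⁻¹) * d⁻¹ by group, htt.inv_eq ha,
          htt.inv_eq hd]
        exact conjx (Or.inr rfl) _ (conjx (Or.inl rfl) _ hy)
    · refine ⟨d, md, ?_, fun y hy => ?_⟩
      · rw [show e = a * d * a from q, htt.inv_eq hd, htt.braid ha hd hn,
          show d * (d * a * d) * d = (d * d) * a * (d * d) by group, htt.sq d hd, one_mul, mul_one]
      · rw [htt.inv_eq hd]; exact conjx (Or.inr rfl) _ hy
  have hga : s * n * a * (s * n)⁻¹ = a := by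
    rw [show s * n * a * (s * n)⁻¹ = s * (n * a * n⁻¹) * s⁻¹ by group, ← he, es]
  have hgx : s * n * x * (s * n)⁻¹ ∈ Subgroup.zpowers x := by
    rw [show s * n * x * (s * n)⁻¹ = s * (n * x * n⁻¹) * s⁻¹ by group]
    exact hsx _ ((hn' x).mp hxn)
  rw [← Subgroup.mul_mem_cancel_left _ (mS hs)]
  generalize s * n = g at hga hgx
  obtain ⟨h3, h1⟩ := htt.cube_pow ha hd hn
  have hox : orderOf x = 3 := orderOf_eq_prime h3 h1
  obtain ⟨i, hi, ei⟩ : ∃ i : ℕ, i < 3 ∧ x ^ i = g * x * g⁻¹ := by
    obtain ⟨i, hi : x ^ i = _⟩ := (isOfFinOrder_of_finite x).mem_powers_iff_mem_zpowers.mpr hgx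
    refine ⟨i % 3, Nat.mod_lt _ (by norm_num), ?_⟩
    rw [← hox, pow_mod_orderOf]; exact hi
  have done : ∀ {g'}, g' * a * g'⁻¹ = a → g' * x * g'⁻¹ = x → g' ∈ S ⊔ L := by
    intro g' ca cx
    refine Subgroup.mem_sup_right ?_
    show g' ∈ L
    rw [← hcent]
    refine Subgroup.mem_centralizer_iff.mpr ?_
    have c1 : Commute g' a := mul_inv_eq_iff_eq_mul.mp ca
    have c2 := c1.mul_right (show Commute g' x from mul_inv_eq_iff_eq_mul.mp cx)
    rw [hx, htt.cancel ha] at c2
    rintro t (rfl | rfl)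
    exacts [c1.symm.eq, c2.symm.eq]
  rcases (show i = 0 ∨ i = 1 ∨ i = 2 by omega) with rfl | rfl | rfl
  · rw [pow_zero] at ei
    exact absurd (conj_eq_one_iff.mp ei.symm) h1
  · exact done hga (by rw [← ei, pow_one])
  · rw [← Subgroup.mul_mem_cancel_left _ (mS ma)]
    refine done ?_ ?_
    · rw [show a * g * a * (a * g)⁻¹ = a * (g * a * g⁻¹) * a⁻¹ by group, hga, mul_inv_cancel_right]
    · rw [show a * g * x * (a * g)⁻¹ = a * (g * x * g⁻¹) * a⁻¹ by group, ← ei, htt.inv_eq ha,
        hinva _ (Subgroup.npow_mem_zpowers _ _)]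
      exact inv_eq_of_mul_eq_one_right (by rw [← pow_succ]; exact h3)


end Core

namespace Geo23

variable (h : Geo23 D)

include h

/-- the common neighbours in a residue generate the images of the common neighbours near it -/
theorem lift_closure {a d z : G} (hz : z ∈ D) (az : a ∈ nb D z) (dz : d ∈ nb D z) {γ : Residue D z}
    (hγ : γ ∈ Subgroup.closure (common (resSet D z) (rimg D z a) (rimg D z d))) :
    ∃ k, ∃ hk : k ∈ nbSub D z, k ∈ Subgroup.closure (common D a d) ∧
      (QuotientGroup.mk (⟨k, hk⟩ : ↥(nbSub D z)) : Residue D z) = γ := by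
  refine Subgroup.closure_induction (fun e he => ?_) ?_ (fun p q _ _ hp hq => ?_) (fun p _ hp => ?_) hγ
  · obtain ⟨x, hx, rfl⟩ := h.res_common_surj hz az dz he
    exact ⟨x, Subgroup.subset_closure hx.2, Subgroup.subset_closure hx.1, (rimg_eq hx.2).symm⟩
  · exact ⟨1, one_mem _, one_mem _, rfl⟩
  · obtain ⟨k, hk, h1, rfl⟩ := hp
    obtain ⟨l, hl, h2, rfl⟩ := hq
    exact ⟨k * l, mul_mem hk hl, mul_mem h1 h2, rfl⟩
  · obtain ⟨k, hk, h1, rfl⟩ := hp
    exact ⟨k⁻¹, inv_mem hk, inv_mem h1, rfl⟩

/-- what centralises a pair centralises it in a residue -/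
theorem res_centralizer {a d z k : G} (hz : z ∈ D) (az : a ∈ nb D z) (dz : d ∈ nb D z)
    (hk : k ∈ nbSub D z) (hka : Commute k a) (hkd : Commute k d) :
    (QuotientGroup.mk (⟨k, hk⟩ : ↥(nbSub D z)) : Residue D z) ∈
      Subgroup.centralizer ({rimg D z a, rimg D z d} : Set (Residue D z)) := by
  refine Subgroup.mem_centralizer_iff.mpr ?_
  rintro t (rfl | rfl)
  · rw [rimg_eq az]
    exact congrArg QuotientGroup.mk (Subtype.ext hka.eq.symm :
      nbElem az * (⟨k, hk⟩ : ↥(nbSub D z)) = (⟨k, hk⟩ : ↥(nbSub D z)) * nbElem az)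
  · rw [rimg_eq dz]
    exact congrArg QuotientGroup.mk (Subtype.ext hkd.eq.symm :
      nbElem dz * (⟨k, hk⟩ : ↥(nbSub D z)) = (⟨k, hk⟩ : ↥(nbSub D z)) * nbElem dz)

variable {a d : G} (ha : a ∈ D) (hd : d ∈ D) (hn : ¬ Commute a d)

include ha hd hn

theorem member_commute_product {e : G} :
    e ∈ D ∧ Commute e (a * d) ↔ e ∈ common D a d := by
  refine ⟨fun ⟨he, hc⟩ => ?_, fun he =>
    ⟨he.1.1, he.1.2.2.symm.mul_right he.2.2.2.symm⟩⟩
  obtain ⟨c1, c2⟩ := h.core.tt.commute_of_commute_product ha hd he hn hc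
  exact ⟨⟨he, fun q => hn (q ▸ c2), c1.symm⟩, he, fun q => hn (q ▸ c1).symm, c2.symm⟩


theorem exists_common : ∃ z, z ∈ common D a d := h.far a ha d hd hn

/-- a common neighbour has a common neighbour it does not commute with -/
theorem exists_apart [Finite G] {z : G} (hz : z ∈ common D a d) :
    ∃ w, w ∈ common D a d ∧ ¬ Commute z w := by
  by_contra hall
  simp only [not_exists, not_and, not_not] at hall
  have hsub : common D a d ⊆ insert z (common D a d ∩ nb D z) := fun y hy => by
    by_cases e : y = z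
    · exact Or.inl e
    · exact Or.inr ⟨hy, hy.1.1, e, hall y hy⟩
  have := (Set.ncard_le_ncard hsub (Set.toFinite _)).trans (Set.ncard_insert_le _ _)
  rw [h.card_common ha hd hn, h.card_slice ha hd hn hz] at this
  omega

/-- members that invert the product -/
theorem inverting {e : G} (he : e ∈ D) (hx : e * (a * d) * e = (a * d)⁻¹) :
    e = a ∨ e = d ∨ e = a * d * a := by
  have htt := h.core.tt
  have ea : Commute e a → e = a := by
    intro hc
    have h1 : e * d * e = a * d * a := by
      rw [mul_inv_rev, htt.inv_eq ha, htt.inv_eq hd] at hx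
      have hx' : a * (e * d * e) = d * a := by
        rw [← hx, ← mul_assoc e a d, hc.eq]; simp only [mul_assoc]
      calc e * d * e = a * (a * (e * d * e)) := (htt.cancel ha _).symm
        _ = a * d * a := by rw [hx', mul_assoc]
    have hned : ¬ Commute e d := fun q => hn (by
      rw [q.eq, mul_assoc, htt.sq e he, mul_one] at h1
      refine (mul_inv_eq_iff_eq_mul.mp ?_ : a * d = d * a)
      rw [htt.inv_eq ha]
      exact h1.symm)
    have h2 : d * e * d = a * d * a := (htt.braid he hd hned).symm.trans h1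
    calc e = d * (d * e * d) * d := by
          rw [show d * (d * e * d) * d = (d * d) * e * (d * d) by group, htt.sq d hd, one_mul,
            mul_one]
      _ = (d * a * d) * (a * d) := by rw [h2]; group
      _ = a * d * (a * a) * d := by rw [← htt.braid ha hd hn]; group
      _ = a := by rw [htt.sq a ha, mul_one, mul_assoc, htt.sq d hd, mul_one]
  by_cases c1 : Commute e a
  · exact Or.inl (ea c1)
  by_cases c2 : Commute e d
  · right; left
    by_contra hne
    -- conjugate the first case by the element exchanging the two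
    have hx' : e * (d * a) * e = (d * a)⁻¹ := by
      have h' := congrArg (fun t => t⁻¹) hx
      simp only [mul_inv_rev, htt.inv_eq ha, htt.inv_eq hd, htt.inv_eq he, inv_inv] at h'
      rw [mul_inv_rev, htt.inv_eq ha, htt.inv_eq hd]
      simpa only [mul_assoc] using h'
    have h1 : e * a * e = d * a * d := by
      rw [mul_inv_rev, htt.inv_eq ha, htt.inv_eq hd] at hx'
      have hx'' : d * (e * a * e) = a * d := by
        rw [← hx', ← mul_assoc e d a, c2.eq]; simp only [mul_assoc]
      calc e * a * e = d * (d * (e * a * e)) := (htt.cancel hd _).symm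
        _ = d * a * d := by rw [hx'', mul_assoc]
    refine hne ?_
    calc e = a * (a * e * a) * a := by
          rw [show a * (a * e * a) * a = (a * a) * e * (a * a) by group, htt.sq a ha, one_mul,
            mul_one]
      _ = a * (d * a * d) * a := by rw [(htt.braid he ha c1).symm.trans h1]
      _ = (a * d * a) * (d * a) := by group
      _ = d * a * (d * d) * a := by rw [htt.braid ha hd hn]; group
      _ = d := by rw [htt.sq d hd, mul_one, mul_assoc, htt.sq a ha, mul_one]
  right; right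
  have hall : ∀ z ∈ common D a d, Commute e z := by
    intro z hz
    by_contra hne
    have cz : Commute z (a * d) := ((h.member_commute_product ha hd hn).mpr hz).2
    have hc : Commute (e * z * e) (a * d) := by
      have := (commute_conj (g := e)).mpr cz
      rw [htt.inv_eq he, hx] at this
      simpa using this.inv_right
    have hm := (h.member_commute_product ha hd hn).mp ⟨htt.conj_self_mem he hz.1.1, hc⟩
    rw [htt.braid he hz.1.1 hne] at hm
    have := (commute_conj (g := z)).mpr hm.1.2.2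
    rw [htt.inv_eq hz.1.1, show z * a * z = a by
      rw [hz.1.2.2.symm.eq, mul_assoc, htt.sq z hz.1.1, mul_one],
      show z * (z * e * z) * z = e by
        rw [show z * (z * e * z) * z = (z * z) * e * (z * z) by group, htt.sq z hz.1.1, one_mul,
          mul_one]] at this
    exact c1 this.symm
  obtain ⟨z, hz⟩ := h.exists_common ha hd hn
  have hez : e ∈ nb D z := ⟨he, fun q => c1 (q ▸ hz.1.2.2.symm), (hall z hz).symm⟩
  have az := nb_symm ha hz.1
  have dz := nb_symm hd hz.2
  obtain ⟨K, iK, iKF, h22⟩ := h.res z hz.1.1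
  have hnr : ∀ {p q}, p ∈ nb D z → q ∈ nb D z → ¬ Commute p q → ¬ Commute (rimg D z p) (rimg D z q) :=
    fun hp hq hpq c => hpq ((h.core.rimg_comm hp hq).mp c)
  have hx' : rimg D z e * (rimg D z a * rimg D z d) * rimg D z e = (rimg D z a * rimg D z d)⁻¹ := by
    rw [rimg_eq hez, rimg_eq az, rimg_eq dz]
    exact congrArg QuotientGroup.mk (Subtype.ext hx :
      nbElem hez * (nbElem az * nbElem dz) * nbElem hez = (nbElem az * nbElem dz)⁻¹)
  rcases h22.inverting (rimg_mem az) (rimg_mem dz) (hnr az dz hn) (rimg_mem hez) hx' with q | q | q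
  · exact absurd (q ▸ Commute.refl _) (hnr hez az c1)
  · exact absurd (q ▸ Commute.refl _) (hnr hez dz c2)
  · obtain ⟨hm, em⟩ := rimg_conj htt hz.1.1 (Subgroup.subset_closure az) dz
    have ei : (rimg D z a)⁻¹ = rimg D z a := h22.core.tt.inv_eq (rimg_mem az)
    rw [show (⟨a, Subgroup.subset_closure az⟩ : ↥(nbSub D z)) = nbElem az from rfl, ← rimg_eq az, ei] at em
    have := (h.core.rimg_inj hz.1.1 hez hm).mp (q.trans em.symm)
    rwa [htt.inv_eq ha] at this

/-- the common neighbours are conjugate under the subgroup they generate -/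
theorem orbit_all [Finite G] {z w : G} (hz : z ∈ common D a d) (hw : w ∈ common D a d) :
    ∃ k ∈ Subgroup.closure (common D a d), k * z * k⁻¹ = w := by
  have htt := h.core.tt
  set L := Subgroup.closure (common D a d)
  -- neighbours of a common neighbour are conjugate
  have side : ∀ {p}, p ∈ common D a d → ∀ {x y}, x ∈ common D a d ∩ nb D p →
      y ∈ common D a d ∩ nb D p → ∃ k ∈ L, k * x * k⁻¹ = y := by
    intro p hp x y hx hy
    have az := nb_symm ha hp.1
    have dz := nb_symm hd hp.2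
    obtain ⟨K, iK, iKF, h22⟩ := h.res p hp.1.1
    obtain ⟨γ, hγ, e⟩ := h22.orbit_all (rimg_mem az) (rimg_mem dz)
      (fun q => hn ((h.core.rimg_comm az dz).mp q))
      ((h.res_common hp.1.1 az dz hx.2).mpr hx.1) ((h.res_common hp.1.1 az dz hy.2).mpr hy.1)
    obtain ⟨k, hk, hkL, rfl⟩ := h.lift_closure hp.1.1 az dz hγ
    obtain ⟨hm, e'⟩ := rimg_conj htt hp.1.1 hk hx.2
    exact ⟨k, hkL, (h.core.rimg_inj hp.1.1 hm hy.2).mp (e'.trans e)⟩
  by_cases ezw : z = w
  · exact ⟨1, one_mem _, by simp [ezw]⟩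
  by_cases hzw : Commute z w
  · -- through a common neighbour of the two
    have hwz : w ∈ nb D z := ⟨hw.1.1, fun q => ezw q.symm, hzw⟩
    have az := nb_symm ha hz.1
    have dz := nb_symm hd hz.2
    obtain ⟨K, iK, iKF, h22⟩ := h.res z hz.1.1
    have hn2 : ¬ Commute (rimg D z a) (rimg D z d) := fun q => hn ((h.core.rimg_comm az dz).mp q)
    obtain ⟨e, he⟩ := Set.nonempty_of_ncard_ne_zero (s := common (resSet D z) (rimg D z a)
      (rimg D z d) ∩ nb (resSet D z) (rimg D z w)) (by
        rw [(h22.forty (rimg_mem az) (rimg_mem dz) hn2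
          ((h.res_common hz.1.1 az dz hwz).mpr hw)).card]; norm_num)
    obtain ⟨c, hc, rfl⟩ := h.res_common_surj hz.1.1 az dz he.1
    have hcw : c ∈ nb D w := ⟨hc.1.1.1, fun q => he.2.2.1 (by rw [q]),
      (h.core.rimg_comm hwz hc.2).mp he.2.2.2⟩
    obtain ⟨k1, h1, e1⟩ := side hc.1 ⟨hz, nb_symm hz.1.1 hc.2⟩ ⟨hw, nb_symm hw.1.1 hcw⟩
    exact ⟨k1, h1, e1⟩
  · obtain ⟨y, hy, hyw⟩ := h.common_far ha hd hn hz hw hzw
    exact side hy.1 ⟨hz, nb_symm hz.1.1 hy.2⟩ ⟨hw, nb_symm hw.1.1 hyw⟩

/-- the centraliser of the pair is generated by the common neighbours -/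
theorem cent_eq [Finite G] :
    Subgroup.centralizer ({a, d} : Set G) = Subgroup.closure (common D a d) := by
  have hle : Subgroup.closure (common D a d) ≤ Subgroup.centralizer ({a, d} : Set G) :=
    (Subgroup.closure_le _).mpr fun y hy => Subgroup.mem_centralizer_iff.mpr (by
      rintro t (rfl | rfl)
      exacts [hy.1.2.2.eq, hy.2.2.2.eq])
  refine le_antisymm (fun g hg => ?_) hle
  have hga : Commute g a := (Subgroup.mem_centralizer_iff.mp hg a (by simp)).symm
  have hgd : Commute g d := (Subgroup.mem_centralizer_iff.mp hg d (by simp)).symm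
  obtain ⟨z, hz⟩ := h.exists_common ha hd hn
  have hm := h.core.tt.common_conj g hz
  rw [show g * a * g⁻¹ = a from mul_inv_eq_iff_eq_mul.mpr hga.eq,
    show g * d * g⁻¹ = d from mul_inv_eq_iff_eq_mul.mpr hgd.eq] at hm
  obtain ⟨k, hk, e⟩ := h.orbit_all ha hd hn hz hm
  have hka : Commute k a := (Subgroup.mem_centralizer_iff.mp (hle hk) a (by simp)).symm
  have hkd : Commute k d := (Subgroup.mem_centralizer_iff.mp (hle hk) d (by simp)).symm
  have hu : k⁻¹ * g ∈ nbSub D z := by
    rw [← h.cent z hz.1.1, Subgroup.mem_centralizer_singleton_iff]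
    refine mul_inv_eq_iff_eq_mul.mp ?_
    rw [show k⁻¹ * g * z * (k⁻¹ * g)⁻¹ = k⁻¹ * (g * z * g⁻¹) * k by group, ← e]; group
  have az := nb_symm ha hz.1
  have dz := nb_symm hd hz.2
  obtain ⟨K, iK, iKF, h22⟩ := h.res z hz.1.1
  have hγ := h.res_centralizer hz.1.1 az dz hu (hka.inv_left.mul_left hga) (hkd.inv_left.mul_left hgd)
  rw [h22.cent_eq (rimg_mem az) (rimg_mem dz) (fun q => hn ((h.core.rimg_comm az dz).mp q))] at hγ
  obtain ⟨l, hl, hlL, el⟩ := h.lift_closure hz.1.1 az dz hγ
  have hlast : l⁻¹ * (k⁻¹ * g) ∈ Subgroup.closure (common D a d) := by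
    rcases h.two z hz.1.1 _ (QuotientGroup.eq.mp el) with q | q
    · rw [show l⁻¹ * (k⁻¹ * g) = 1 from q]; exact one_mem _
    · rw [show l⁻¹ * (k⁻¹ * g) = z from q]; exact Subgroup.subset_closure hz
  have := mul_mem (mul_mem hk hlL) hlast
  rwa [show k * l * (l⁻¹ * (k⁻¹ * g)) = g by group] at this

/-- the subgroup of the common neighbours has trivial centre -/
theorem center_common [Finite G] :
    Subgroup.center ↥(Subgroup.closure (common D a d)) = ⊥ := by
  rw [eq_bot_iff]
  intro k hk
  have hkc : ∀ y ∈ common D a d, Commute (k : G) y := fun y hy =>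
    (congrArg Subtype.val (Subgroup.mem_center_iff.mp hk ⟨y, Subgroup.subset_closure hy⟩)).symm
  have hk' : (k : G) ∈ Subgroup.centralizer ({a, d} : Set G) := by
    rw [h.cent_eq ha hd hn]; exact k.2
  obtain ⟨z, hz⟩ := h.exists_common ha hd hn
  have hu : (k : G) ∈ nbSub D z := by
    rw [← h.cent z hz.1.1, Subgroup.mem_centralizer_singleton_iff]; exact (hkc z hz).eq
  have az := nb_symm ha hz.1
  have dz := nb_symm hd hz.2
  obtain ⟨K, iK, iKF, h22⟩ := h.res z hz.1.1
  have hn2 : ¬ Commute (rimg D z a) (rimg D z d) := fun q => hn ((h.core.rimg_comm az dz).mp q)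
  have hγ := h.res_centralizer hz.1.1 az dz hu
    (Subgroup.mem_centralizer_iff.mp hk' a (by simp)).symm
    (Subgroup.mem_centralizer_iff.mp hk' d (by simp)).symm
  rw [h22.cent_eq (rimg_mem az) (rimg_mem dz) hn2] at hγ
  set γ : Residue D z := QuotientGroup.mk (⟨(k : G), hu⟩ : ↥(nbSub D z))
  have hcen : (⟨γ, hγ⟩ : ↥(Subgroup.closure (common (resSet D z) (rimg D z a) (rimg D z d)))) ∈
      Subgroup.center ↥(Subgroup.closure (common (resSet D z) (rimg D z a) (rimg D z d))) := by
    have hc : Subgroup.closure (common (resSet D z) (rimg D z a) (rimg D z d)) ≤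
        Subgroup.centralizer ({γ} : Set (Residue D z)) := (Subgroup.closure_le _).mpr fun e he => by
      obtain ⟨y, hy, rfl⟩ := h.res_common_surj hz.1.1 az dz he
      rw [SetLike.mem_coe, Subgroup.mem_centralizer_singleton_iff, rimg_eq hy.2]
      exact congrArg QuotientGroup.mk (Subtype.ext (hkc y hy.1).eq.symm :
        nbElem hy.2 * (⟨(k : G), hu⟩ : ↥(nbSub D z)) = (⟨(k : G), hu⟩ : ↥(nbSub D z)) * nbElem hy.2)
    exact Subgroup.mem_center_iff.mpr fun t =>
      Subtype.ext (Subgroup.mem_centralizer_singleton_iff.mp (hc t.2))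
  rw [h22.center_common (rimg_mem az) (rimg_mem dz) hn2, Subgroup.mem_bot] at hcen
  rw [Subgroup.mem_bot]
  rcases h.two z hz.1.1 ⟨(k : G), hu⟩ ((QuotientGroup.eq_one_iff _).mp (congrArg Subtype.val hcen))
    with q | q
  · exact Subtype.ext q
  · obtain ⟨w, hw, hzw⟩ := h.exists_apart ha hd hn hz
    exact absurd (show Commute z w by rw [← show (k : G) = z from q]; exact hkc w hw) hzw

/-- at most seven common neighbours commute pairwise, and seven do -/
theorem width_seven [Finite G] : Cfsg.commutingWidth (common D a d) = 7 := by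
  have bound : ∀ {H : Type _} [Group H] [Finite H] (T : Set H), BddAbove {n : ℕ | ∃ E : Set H,
      E ⊆ T ∧ E.Finite ∧ (∀ p ∈ E, ∀ q ∈ E, Commute p q) ∧ E.ncard = n} := fun {H} _ _ T =>
    ⟨Nat.card H, fun n ⟨E, _, _, _, e⟩ => e ▸ (Set.ncard_univ H ▸ Set.ncard_le_ncard (Set.subset_univ E))⟩
  have bdd : ∀ n ∈ {n : ℕ | ∃ E : Set G, E ⊆ common D a d ∧ E.Finite ∧
      (∀ p ∈ E, ∀ q ∈ E, Commute p q) ∧ E.ncard = n}, n ≤ 7 := by
    rintro n ⟨E, hE, hfin, hc, rfl⟩
    rcases E.eq_empty_or_nonempty with e | ⟨z, hz⟩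
    · subst e; simp
    have zD := (hE hz).1.1
    have az := nb_symm ha (hE hz).1
    have dz := nb_symm hd (hE hz).2
    obtain ⟨K, iK, iKF, h22⟩ := h.res z zD
    have hsub : ∀ y ∈ E \ {z}, y ∈ nb D z := fun y hy => ⟨(hE hy.1).1.1, hy.2, hc z hz y hy.1⟩
    have h6 : (E \ {z}).ncard ≤ 6 := by
      rw [← h22.width_six (rimg_mem az) (rimg_mem dz) (fun q => hn ((h.core.rimg_comm az dz).mp q))]
      refine le_csSup (bound _) ⟨rimg D z '' (E \ {z}), ?_, Set.toFinite _, ?_, ?_⟩
      · rintro _ ⟨y, hy, rfl⟩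
        exact (h.res_common zD az dz (hsub y hy)).mpr (hE hy.1)
      · rintro _ ⟨p, hp, rfl⟩ _ ⟨q, hq, rfl⟩
        exact (h.core.rimg_comm (hsub p hp) (hsub q hq)).mpr (hc p hp.1 q hq.1)
      · exact Set.InjOn.ncard_image fun p hp q hq e =>
          (h.core.rimg_inj zD (hsub p hp) (hsub q hq)).mp e
    have := Set.ncard_sdiff_singleton_add_one hz hfin
    omega
  refine le_antisymm (csSup_le' bdd) (le_csSup ⟨7, bdd⟩ ?_)
  obtain ⟨z, hz⟩ := h.exists_common ha hd hn
  have az := nb_symm ha hz.1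
  have dz := nb_symm hd hz.2
  obtain ⟨K, iK, iKF, h22⟩ := h.res z hz.1.1
  obtain ⟨E, hE, -, hc, h6⟩ := Nat.sSup_mem (s := {n : ℕ | ∃ E : Set (Residue D z),
    E ⊆ common (resSet D z) (rimg D z a) (rimg D z d) ∧ E.Finite ∧
      (∀ p ∈ E, ∀ q ∈ E, Commute p q) ∧ E.ncard = n})
    ⟨0, ∅, Set.empty_subset _, Set.finite_empty, by simp, by simp⟩ (bound _)
  rw [show sSup _ = 6 from
    h22.width_six (rimg_mem az) (rimg_mem dz) (fun q => hn ((h.core.rimg_comm az dz).mp q))] at h6
  set E' := {y | y ∈ common D a d ∩ nb D z ∧ rimg D z y ∈ E}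
  have hcard : E'.ncard = 6 := by
    rw [← h6]
    refine Set.BijOn.ncard_eq (f := rimg D z) ⟨fun y hy => hy.2,
      fun p hp q hq e => (h.core.rimg_inj hz.1.1 hp.1.2 hq.1.2).mp e, fun e he => ?_⟩
    obtain ⟨y, hy, rfl⟩ := h.res_common_surj hz.1.1 az dz (hE he)
    exact ⟨y, ⟨hy, he⟩, rfl⟩
  refine ⟨insert z E', Set.insert_subset hz fun y hy => hy.1.1, Set.toFinite _, ?_, ?_⟩
  · rintro p (rfl | hp) q (rfl | hq)
    exacts [Commute.refl _, hq.1.2.2.2, hp.1.2.2.2.symm,
      (h.core.rimg_comm hp.1.2 hq.1.2).mp (hc _ hp.2 _ hq.2)]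
  · rw [Set.ncard_insert_of_notMem (fun q => q.1.2.2.1 rfl), hcard]

/-- two pairs of members that do not commute are conjugate -/
theorem conj_pair {a' d' : G} (ha' : a' ∈ D) (hd' : d' ∈ D) (hn' : ¬ Commute a' d') :
    ∃ g : G, g * a' * g⁻¹ = a ∧ g * d' * g⁻¹ = d := by
  obtain ⟨g, hg⟩ := isConj_iff.mp (h.core.cls a' ha' a ha)
  obtain ⟨k, c, e⟩ := h.conj_far ha hd (h.core.tt.conj_mem g d' hd') hn (fun q => hn' (by
    rw [← hg, commute_conj] at q; exact q))
  refine ⟨k * g, ?_, ?_⟩
  · rw [show k * g * a' * (k * g)⁻¹ = k * (g * a' * g⁻¹) * k⁻¹ by group, hg]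
    exact mul_inv_eq_iff_eq_mul.mpr c.eq
  · rw [show k * g * d' * (k * g)⁻¹ = k * (g * d' * g⁻¹) * k⁻¹ by group, e]

end Geo23

end Cfsg.Agent.H93
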