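import Cfsg.Agent.H93.PointStab
import Cfsg.Agent.H93.Triples

/-!
Two commuting members of a class of type M(22): the action of their joint centraliser on the classes
of common neighbours, giving `SU 4 K 2` modulo a subgroup of order `2 ^ 10`.
-/

set_option autoImplicit false

namespace Cfsg.Agent.H93

variable {G : Type*} [Group G]

/-- the common neighbours -/
def common (D : Set G) (a b : G) : Set G := nb D a ∩ nb D b

/-- the class of a common neighbour -/
def Cl (D : Set G) (a b : G) (z : G) : Set G :=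
  {y | y ∈ common D a b ∧ ∀ w ∈ common D a b, Commute w z → Commute w y}

theorem common_swap (D : Set G) (a b : G) : common D b a = common D a b := Set.inter_comm _ _

theorem cl_trans {D : Set G} {a b x y z : G} (h1 : y ∈ Cl D a b x) (h2 : z ∈ Cl D a b y) :
    z ∈ Cl D a b x :=
  ⟨h2.1, fun w hw hwx => h2.2 w hw (h1.2 w hw hwx)⟩

theorem cl_swap (D : Set G) (a b z : G) : Cl D b a z = Cl D a b z := by
  simp only [Cl, common_swap D a b]

theorem TT.common_conj {D : Set G} (hD : TT D) (g : G) {a b y : G} (h : y ∈ common D a b) :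
    g * y * g⁻¹ ∈ common D (g * a * g⁻¹) (g * b * g⁻¹) :=
  ⟨hD.nb_conj g h.1, hD.nb_conj g h.2⟩

theorem TT.cl_conj {D : Set G} (hD : TT D) (g : G) {a b z y : G} (h : y ∈ Cl D a b z) :
    g * y * g⁻¹ ∈ Cl D (g * a * g⁻¹) (g * b * g⁻¹) (g * z * g⁻¹) := by
  refine ⟨hD.common_conj g h.1, fun w hw hwz => ?_⟩
  have hw' := hD.common_conj g⁻¹ hw
  simp only [show ∀ x : G, g⁻¹ * (g * x * g⁻¹) * g⁻¹⁻¹ = x from fun x => by group] at hw'
  have hc : Commute (g⁻¹ * w * g⁻¹⁻¹) z := by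
    have := (commute_conj (g := g⁻¹)).mpr hwz
    rwa [show g⁻¹ * (g * z * g⁻¹) * g⁻¹⁻¹ = z by group] at this
  have := (commute_conj (g := g)).mpr (h.2 _ hw' hc)
  rwa [show g * (g⁻¹ * w * g⁻¹⁻¹) * g⁻¹ = w by group] at this

/-- the centraliser of a product of two members permutes them -/
theorem M22Data.cent_prod2 {D : Set G} {F : Type*} [Field F] [Fintype F] (h : M22Data D F)
    {a b g : G} (ha : a ∈ D) (hb' : b ∈ nb D a) (hg : Commute g (a * b)) :
    (g * a * g⁻¹ = a ∧ g * b * g⁻¹ = b) ∨ (g * a * g⁻¹ = b ∧ g * b * g⁻¹ = a) := by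
  have htt := h.core.tt
  have hne : a ≠ b := hb'.2.1.symm
  have e : g * a * g⁻¹ * (g * b * g⁻¹) = a * b := by
    rw [show g * a * g⁻¹ * (g * b * g⁻¹) = g * (a * b) * g⁻¹ by group, hg.eq, mul_inv_cancel_right]
  have hne' : g * a * g⁻¹ ≠ g * b * g⁻¹ := fun q => hne (mul_left_cancel (mul_right_cancel q))
  have key := unique_factor' htt h.ind 2 (by norm_num) (by norm_num) (a * b) [a, b]
    [g * a * g⁻¹, g * b * g⁻¹]
    ⟨by simp [hne], rfl, by simp [ha, hb'.1], by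
      simp only [List.mem_cons, List.not_mem_nil, or_false]
      rintro x (rfl | rfl) y (rfl | rfl)
      exacts [Commute.refl _, hb'.2.2, hb'.2.2.symm, Commute.refl _], by simp⟩
    ⟨by simpa using hne', rfl, by simp [htt.conj_mem g a ha, htt.conj_mem g b hb'.1], by
      simp only [List.mem_cons, List.not_mem_nil, or_false]
      rintro x (rfl | rfl) y (rfl | rfl)
      exacts [Commute.refl _, commute_conj.mpr hb'.2.2, commute_conj.mpr hb'.2.2.symm,
        Commute.refl _], by simpa using e⟩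
  have ka := (key (g * a * g⁻¹)).mpr (by simp)
  have kb := (key (g * b * g⁻¹)).mpr (by simp)
  simp only [List.mem_cons, List.not_mem_nil, or_false] at ka kb
  rcases ka with ka | ka <;> rcases kb with kb | kb
  · exact absurd (ka.trans kb.symm) hne'
  · exact Or.inl ⟨ka, kb⟩
  · exact Or.inr ⟨ka, kb⟩
  · exact absurd (ka.trans kb.symm) hne'

variable {D : Set G} {K : Type*} [Field K] [Fintype K] (hK : Fintype.card K = 4)

/-- a space on a neighbourhood matching a projective representation of the centraliser -/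
structure ExtSpace (D : Set G) (a : G) (π : ↥(Subgroup.centralizer ({a} : Set G)) →* Cfsg.PSU 6 K 2)
    where
  sp : U6Space K (nb D a)
  eq : ∀ {v : Vec K} (hv : IsPt v), π ⟨sp.pt v, mem_cent (sp.mem hv).2.2⟩ = ptv hK v

section Ext

include hK

omit [Fintype K] hK in
/-- members are determined by their images -/
theorem member_inj (hD : Core D) {a : G} (ha : a ∈ D)
    {π : ↥(Subgroup.centralizer ({a} : Set G)) →* Cfsg.PSU 6 K 2}
    (he : TwoExt π ⟨a, mem_cent (Commute.refl a)⟩) {y z : G} (hy : y ∈ nb D a) (hz : z ∈ nb D a)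
    (e : π ⟨y, mem_cent hy.2.2⟩ = π ⟨z, mem_cent hz.2.2⟩) : y = z := by
  rcases he.eq_or e with q | q
  · exact (congrArg Subtype.val q).symm
  · have q' : z = y * a := congrArg Subtype.val q
    by_contra hne
    have hc : Commute y z := q' ▸ (Commute.refl y).mul_right hy.2.2.symm
    refine hD.indep3 hy.1 hz.1 ha hz.2.1 hne hc ?_
    rw [q', ← mul_assoc, hD.tt.sq y hy.1, one_mul, hD.tt.sq a ha]

/-- the space given by an extension -/
theorem exists_extSpace (hD : Core D) {a : G} (ha : a ∈ D)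
    {π : ↥(Subgroup.centralizer ({a} : Set G)) →* Cfsg.PSU 6 K 2}
    (he : TwoExt π ⟨a, mem_cent (Commute.refl a)⟩) : Nonempty (ExtSpace hK D a π) := by
  classical
  have htt := hD.tt
  obtain ⟨b, hb'⟩ := hD.edge a ha
  obtain ⟨img, cov⟩ := members_of_ext hK hD he ⟨b, hb'⟩
  choose m hm em using cov
  let pt : Vec K → G := fun v => if hv : IsPt v then m v hv else 1
  have ept : ∀ {v} (hv : IsPt v), pt v = m v hv := fun hv => dif_pos hv
  have pmem : ∀ {v}, IsPt v → pt v ∈ nb D a := fun hv => by rw [ept hv]; exact hm _ hv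
  have peq : ∀ {v} (hv : IsPt v), π ⟨pt v, mem_cent (pmem hv).2.2⟩ = ptv hK v := fun {v} hv => by
    exact (congrArg π (Subtype.ext (ept hv))).trans (em v hv)
  refine ⟨⟨{ pt := pt, mem := pmem, surj := fun y hy => ?_, same := fun {u v} hu hv => ?_,
             comm := fun {u v} hu hv => member_comm hK he _ _ hu hv (peq hu) (peq hv),
             third := fun {u v} hu hv => ?_, line := fun {u v} hu hv huv hs {w} hw y hy => ?_ },
    fun hv => peq hv⟩⟩
  · obtain ⟨v, hv, e⟩ := img y hy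
    exact ⟨v, hv, member_inj hD ha he (pmem hv) hy ((peq hv).trans e.symm)⟩
  · refine ⟨fun e => SamePt.symm (ptv_eq hK hu hv.2 ?_) hu.1, fun ⟨t, ht⟩ => ?_⟩
    · rw [← peq hu, ← peq hv]; exact congrArg π (Subtype.ext e)
    · refine member_inj hD ha he (pmem hu) (pmem hv) ?_
      rw [peq hu, peq hv, ht, ptv_smul hK (fun z => hv.1 (by rw [ht, z, zero_smul]))]
  · have hmem : pt u * pt v * pt u ∈ nb D a := by
      have := htt.nb_conj (pt u) (pmem hv)
      rwa [htt.inv_eq (pmem hu).1, show pt u * a * pt u = a by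
        rw [(pmem hu).2.2.symm.eq, mul_assoc, htt.sq _ (pmem hu).1, mul_one]] at this
    refine member_inj hD ha he hmem (pmem (isPt_third hK hu hv)) ?_
    rw [peq (isPt_third hK hu hv), ← ptv_conj' hK hu.2 v, ← peq hu, ← peq hv, ← map_mul, ← map_mul]
    rfl
  · have p2 : IsPt (u + v) := by simpa using isPt_line hK hu hv huv hs 1
    have p3 := isPt_line hK hu hv huv hs w
    have p4 := isPt_line hK hu hv huv hs (w ^ 2)
    have hπ : π (⟨pt u, mem_cent (pmem hu).2.2⟩ * ⟨pt v, mem_cent (pmem hv).2.2⟩ *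
        ⟨pt (u + v), mem_cent (pmem p2).2.2⟩ * ⟨pt (u + w • v), mem_cent (pmem p3).2.2⟩ *
        ⟨pt (u + w ^ 2 • v), mem_cent (pmem p4).2.2⟩) = 1 := by
      rw [map_mul, map_mul, map_mul, map_mul, peq hu, peq hv, peq p2, peq p3, peq p4]
      exact ptv_line hK hu.2 hv.2 huv hw
    rcases he.ker _ hπ with q | q <;>
      [rw [show pt u * pt v * pt (u + v) * pt (u + w • v) * pt (u + w ^ 2 • v) = 1 from
        congrArg Subtype.val q];
       rw [show pt u * pt v * pt (u + v) * pt (u + w • v) * pt (u + w ^ 2 • v) = a from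
        congrArg Subtype.val q]]
    · exact Commute.one_right y
    · exact hy.2.2.symm

end Ext

include hK in
/-- the points of a neighbourhood, against the isotropic vectors -/
theorem card_nb_one {c : G} (xs : U6Space K (nb D c)) :
    Nat.card (Cfsg.Agent.Unitary.TIFrame 6 K 2 1) = 3 * (nb D c).ncard := by
  classical
  choose u hu hpu using fun y : nb D c => xs.surj y.1 y.2
  let φ : nb D c × Kˣ → Cfsg.Agent.Unitary.TIFrame 6 K 2 1 := fun p =>
    ⟨fun _ => (p.2 : K) • u p.1,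
      linearIndependent_unique_iff.mpr (smul_ne_zero p.2.ne_zero (hu p.1).1),
      fun _ _ => by
        show hb _ _ = 0
        rw [hb_smul_left, hb_smul_right, (hu p.1).2, mul_zero, mul_zero]⟩
  have hφ : Function.Bijective φ := by
    refine ⟨fun p p' e => ?_, fun f => ?_⟩
    · have e0 : (p.2 : K) • u p.1 = (p'.2 : K) • u p'.1 := congrFun (congrArg Subtype.val e) 0
      have et : p.1 = p'.1 := Subtype.ext (by
        rw [← hpu p.1, ← hpu p'.1, ← (xs.smul_pt p.2.ne_zero (hu p.1)).2, e0,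
          (xs.smul_pt p'.2.ne_zero (hu p'.1)).2])
      rw [et] at e0
      exact Prod.ext et (Units.ext (smul_left_injective K (hu p'.1).1 e0))
    · have p0 : IsPt (f.1 0) := ⟨f.2.1.ne_zero 0, f.2.2 0 0⟩
      obtain ⟨r, hr⟩ := (xs.same (hu ⟨_, xs.mem p0⟩) p0).mp (hpu ⟨_, xs.mem p0⟩)
      refine ⟨(⟨_, xs.mem p0⟩, Units.mk0 r fun q => p0.1 (by rw [hr, q, zero_smul])),
        Subtype.ext (funext fun i => ?_)⟩
      rw [Subsingleton.elim i 0]
      exact hr.symm
  rw [← Nat.card_eq_of_bijective φ hφ, Nat.card_prod, Nat.card_units, Nat.card_eq_fintype_card (α := K),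
    hK, Nat.card_coe_set_eq]
  ring

/-- two commuting members with a chosen space at the first -/
structure PairData (hK : Fintype.card K = 4) (D : Set G) {F : Type*} [Field F] [Fintype F] (a b : G)
    (π : ↥(Subgroup.centralizer ({a} : Set G)) →* Cfsg.PSU 6 K 2) where
  data : M22Data D F
  ha : a ∈ D
  hbm : b ∈ nb D a
  he : TwoExt π ⟨a, mem_cent (Commute.refl a)⟩
  xs : ExtSpace hK D a π
  B : Vec K
  basis : PointBasis B
  hB : xs.sp.pt B = b

variable {F : Type*} [Field F] [Fintype F] {a b : G}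
  {π : ↥(Subgroup.centralizer ({a} : Set G)) →* Cfsg.PSU 6 K 2}

theorem exists_pairData (data : M22Data D F) (ha : a ∈ D) (hb' : b ∈ nb D a)
    (he : TwoExt π ⟨a, mem_cent (Commute.refl a)⟩) : Nonempty (PairData hK D (F := F) a b π) := by
  obtain ⟨xs⟩ := exists_extSpace hK data.core ha he
  obtain ⟨B, hB, e⟩ := xs.sp.surj b hb'
  obtain ⟨p⟩ := exists_pointBasis hK hB
  exact ⟨⟨data, ha, hb', he, xs, B, p, e⟩⟩

namespace PairData

variable {hK} (P : PairData hK D (F := F) a b π)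

/-- the member of a point -/
def pt (v : Vec K) : G := P.xs.sp.pt v

theorem pB : IsPt P.B := P.basis.pt

theorem mem_common_iff {y : G} :
    y ∈ common D a b ↔ ∃ Z, IsPt Z ∧ hb Z P.B = 0 ∧ ¬ SamePt P.B Z ∧ P.pt Z = y := by
  constructor
  · rintro ⟨h1, h2⟩
    obtain ⟨Z, hZ, rfl⟩ := P.xs.sp.surj y h1
    refine ⟨Z, hZ, (P.xs.sp.comm hZ P.pB).mp (by rw [P.hB]; exact h2.2.2.symm), fun q => ?_, rfl⟩
    exact h2.2.1 (((P.xs.sp.same P.pB hZ).mpr q).symm.trans P.hB)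
  · rintro ⟨Z, hZ, hZB, hs, rfl⟩
    refine ⟨P.xs.sp.mem hZ, (P.xs.sp.mem hZ).1, fun q => hs ?_, ?_⟩
    · exact (P.xs.sp.same P.pB hZ).mp (P.hB.trans q.symm)
    · have := (P.xs.sp.comm P.pB hZ).mpr ((hb_eq_zero_comm hK).mp hZB)
      rwa [P.hB] at this

theorem shift {Z : Vec K} (hZ : IsPt Z) (hZB : hb Z P.B = 0) (hs : ¬ SamePt P.B Z) (t : K) :
    IsPt (Z + t • P.B) ∧ hb (Z + t • P.B) P.B = 0 ∧ ¬ SamePt P.B (Z + t • P.B) := by
  refine ⟨⟨fun q => hs ?_, ?_⟩, ?_, fun ⟨r, hr⟩ => hs ⟨r + t, ?_⟩⟩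
  · exact ⟨t, vec_eq_of_add hK q⟩
  · simp [hb_add_left, hb_add_right hK, hb_smul_left, hb_smul_right, hZ.2, P.pB.2, hZB,
      (hb_eq_zero_comm hK).mp hZB]
  · rw [hb_add_left, hb_smul_left, hZB, P.pB.2, mul_zero, add_zero]
  · rw [add_smul, ← hr, add_assoc, vec_add_self hK, add_zero]

/-- classes are the lines through `B` -/
theorem cl_iff {Z : Vec K} (hZ : IsPt Z) (hZB : hb Z P.B = 0) (hs : ¬ SamePt P.B Z) {y : G} :
    y ∈ Cl D a b (P.pt Z) ↔ ∃ t : K, P.pt (Z + t • P.B) = y := by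
  constructor
  · rintro ⟨hy, hall⟩
    obtain ⟨Y, hY, hYB, hsY, rfl⟩ := P.mem_common_iff.mp hy
    have hli := indep_pair P.pB.1 hs
    have hBZ := (hb_eq_zero_comm hK).mp hZB
    have hYZ : hb Y Z = 0 := (P.xs.sp.comm hY hZ).mp
      (hall _ (P.mem_common_iff.mpr ⟨Z, hZ, hZB, hs, rfl⟩) (Commute.refl _)).symm
    have hmem := mem_of_orth hK hli (fun i j => by
        fin_cases i <;> fin_cases j <;> simp [P.pB.2, hZ.2, hBZ, hZB]) hY.2
      (fun i => by fin_cases i <;> simp [hYB, hYZ])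
      (fun X hX hXl => by
        have x0 : hb X P.B = 0 := hXl 0
        have x1 : hb X Z = 0 := hXl 1
        by_cases hsX : SamePt P.B X
        · obtain ⟨r, hr⟩ := hsX
          rw [hr, hb_smul_left, (hb_eq_zero_comm hK).mp hYB, mul_zero]
        · exact (P.xs.sp.comm hX hY).mp (hall _ (P.mem_common_iff.mpr ⟨X, hX, x0, hsX, rfl⟩)
            ((P.xs.sp.comm hX hZ).mpr x1)))
    obtain ⟨g, hg⟩ := (Submodule.mem_span_range_iff_exists_fun K).mp hmem
    simp only [Fin.sum_univ_two, Matrix.cons_val_zero, Matrix.cons_val_one] at hg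
    have g1 : g 1 ≠ 0 := fun q => hsY ⟨g 0, by rw [← hg, q, zero_smul, add_zero]⟩
    refine ⟨(g 1)⁻¹ * g 0, (P.xs.sp.same (P.shift hZ hZB hs _).1 hY).mpr ⟨g 1, ?_⟩⟩
    rw [← hg, smul_add, smul_smul, mul_inv_cancel_left₀ g1, add_comm]
  · rintro ⟨t, rfl⟩
    obtain ⟨hp, hpB, hps⟩ := P.shift hZ hZB hs t
    refine ⟨P.mem_common_iff.mpr ⟨_, hp, hpB, hps, rfl⟩, fun w hw hwz => ?_⟩
    obtain ⟨W, hW, hWB, -, rfl⟩ := P.mem_common_iff.mp hw
    refine (P.xs.sp.comm hW hp).mpr ?_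
    rw [hb_add_right hK, hb_smul_right, hWB, (P.xs.sp.comm hW hZ).mp hwz, mul_zero, add_zero]

include P in
theorem cl_symm {y z : G} (hz : z ∈ common D a b) (hy : y ∈ Cl D a b z) : z ∈ Cl D a b y := by
  obtain ⟨Z, hZ, hZB, hs, rfl⟩ := P.mem_common_iff.mp hz
  obtain ⟨t, rfl⟩ := (P.cl_iff hZ hZB hs).mp hy
  obtain ⟨hp, hpB, hps⟩ := P.shift hZ hZB hs t
  refine (P.cl_iff hp hpB hps).mpr ⟨t, ?_⟩
  rw [add_assoc, vec_add_self hK, add_zero]

/-- a line through `b` in the space at `a` -/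
theorem class_prod {Z : Vec K} (hZ : IsPt Z) (hZB : hb Z P.B = 0) (hs : ¬ SamePt P.B Z) {s w : K}
    (hs0 : s ≠ 0) (hw : w ^ 2 + w + 1 = 0) :
    P.pt Z * P.pt (Z + s • P.B) * P.pt (Z + (w * s) • P.B) * P.pt (Z + (w ^ 2 * s) • P.B) = a * b := by
  have htt := P.data.core.tt
  have hli := indep_pair P.pB.1 hs
  have hsB : IsPt (s • P.B) ∧ P.pt (s • P.B) = b := by
    obtain ⟨h1, h2⟩ := P.xs.sp.smul_pt hs0 P.pB
    exact ⟨h1, h2.trans P.hB⟩
  have hns : ¬ SamePt Z (s • P.B) := fun ⟨r, hr⟩ => hs (by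
    have r0 : r ≠ 0 := fun q => hsB.1.1 (by rw [hr, q, zero_smul])
    exact ⟨r⁻¹ * s, by rw [mul_smul, hr, inv_smul_smul₀ r0]⟩)
  have hZsB : hb Z (s • P.B) = 0 := by rw [hb_smul_right, hZB, mul_zero]
  obtain ⟨q1, -, -⟩ := P.shift hZ hZB hs s
  obtain ⟨q2, -, -⟩ := P.shift hZ hZB hs (w * s)
  obtain ⟨q3, -, -⟩ := P.shift hZ hZB hs (w ^ 2 * s)
  set m0 := P.pt Z with hm0
  set m1 := P.pt (Z + s • P.B) with hm1
  set m2 := P.pt (Z + (w * s) • P.B) with hm2
  set m3 := P.pt (Z + (w ^ 2 * s) • P.B) with hm3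
  have sm := fun {v} (hv : IsPt v) => P.xs.sp.mem hv
  have cb : ∀ {v}, IsPt v → hb v P.B = 0 → Commute b (P.pt v) := fun {v} hv q => by
    have := (P.xs.sp.comm hv P.pB).mpr q
    rw [P.hB] at this
    exact this.symm
  have hπ : π (⟨m0, mem_cent (sm hZ).2.2⟩ * ⟨b, mem_cent P.hbm.2.2⟩ * ⟨m1, mem_cent (sm q1).2.2⟩ *
      ⟨m2, mem_cent (sm q2).2.2⟩ * ⟨m3, mem_cent (sm q3).2.2⟩) = 1 := by
    have eb : π ⟨b, mem_cent P.hbm.2.2⟩ = ptv hK (s • P.B) := by
      rw [← P.xs.eq hsB.1]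
      exact congrArg π (Subtype.ext hsB.2.symm)
    rw [map_mul, map_mul, map_mul, map_mul, eb]
    simp only [hm0, hm1, hm2, hm3, pt, P.xs.eq hZ, P.xs.eq q1, P.xs.eq q2, P.xs.eq q3]
    rw [mul_smul, mul_smul]
    exact ptv_line hK hZ.2 hsB.1.2 hZsB hw
  have hw0 : w ≠ 0 := fun q => by rw [q] at hw; norm_num at hw
  have hw1 : w ≠ 1 := fun q => by
    rw [q] at hw
    exact one_ne_zero (show (1 : K) = 0 by linear_combination hw - two_zero hK)
  have ne : ∀ {r r' : K}, r ≠ r' → IsPt (Z + r • P.B) → IsPt (Z + r' • P.B) →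
      P.pt (Z + r • P.B) ≠ P.pt (Z + r' • P.B) := fun {r r'} hr h1 h2 e => by
    obtain ⟨k, hk⟩ := (P.xs.sp.same h1 h2).mp e
    rw [smul_add, smul_smul, add_comm Z, add_comm (k • Z)] at hk
    have hk' : r' • P.B + (1 : K) • Z = (k * r) • P.B + k • Z := by rw [one_smul]; exact hk
    obtain ⟨e1, e2⟩ := hli.eq_of_pair hk'
    rw [← e2, one_mul] at e1
    exact hr e1.symm
  have ne0 : ∀ {r : K}, r ≠ 0 → IsPt (Z + r • P.B) → m0 ≠ P.pt (Z + r • P.B) := fun {r} hr h1 e => by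
    have := ne hr.symm (r := 0) (by simpa using hZ) h1
    simp only [zero_smul, add_zero] at this
    exact this e
  have hne : w * s ≠ s := fun q => hw1 (mul_right_cancel₀ hs0 (q.trans (one_mul s).symm))
  have hne2 : w ^ 2 * s ≠ s := fun q =>
    hw1 (sq_eq_one hK (mul_right_cancel₀ hs0 (q.trans (one_mul s).symm)))
  have hne3 : w * s ≠ w ^ 2 * s := fun q => hw1 (by
    have := mul_right_cancel₀ hs0 q
    exact (mul_left_cancel₀ hw0 (by rw [← pow_two, mul_one]; exact this.symm)))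
  have bne : ∀ {v}, IsPt v → ¬ SamePt P.B v → b ≠ P.pt v := fun {v} hv hn e =>
    hn ((P.xs.sp.same P.pB hv).mp (P.hB.trans e))
  have sq := P.shift hZ hZB hs
  have mm : ∀ x ∈ [m0, b, m1, m2, m3], x ∈ D ∧ Commute a x ∧ Commute b x := by
    simp only [List.mem_cons, List.not_mem_nil, or_false]
    rintro x (rfl | rfl | rfl | rfl | rfl)
    exacts [⟨(sm hZ).1, (sm hZ).2.2, cb hZ hZB⟩, ⟨P.hbm.1, P.hbm.2.2, Commute.refl _⟩,
      ⟨(sm q1).1, (sm q1).2.2, cb q1 (sq _).2.1⟩, ⟨(sm q2).1, (sm q2).2.2, cb q2 (sq _).2.1⟩,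
      ⟨(sm q3).1, (sm q3).2.2, cb q3 (sq _).2.1⟩]
  have oz : ∀ r r' : K, Commute (P.pt (Z + r • P.B)) (P.pt (Z + r' • P.B)) := fun r r' => by
    refine (P.xs.sp.comm (sq r).1 (sq r').1).mpr ?_
    simp [hb_add_left, hb_add_right hK, hb_smul_left, hb_smul_right, hZ.2, P.pB.2, hZB,
      (hb_eq_zero_comm hK).mp hZB]
  have onl : ∀ x ∈ [m0, b, m1, m2, m3], x = b ∨ ∃ r : K, P.pt (Z + r • P.B) = x := by
    simp only [List.mem_cons, List.not_mem_nil, or_false]
    rintro x (rfl | rfl | rfl | rfl | rfl)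
    exacts [Or.inr ⟨0, by simp [hm0]⟩, Or.inl rfl, Or.inr ⟨_, rfl⟩, Or.inr ⟨_, rfl⟩, Or.inr ⟨_, rfl⟩]
  rcases P.he.ker _ hπ with q | q
  · refine absurd ?_ (P.data.ind [m0, b, m1, m2, m3] ?_ (by simp) (by simp) (fun x hx => (mm x hx).1) ?_)
    · simpa [mul_assoc] using congrArg Subtype.val q
    · simp only [List.nodup_cons, List.mem_cons, List.not_mem_nil, or_false, not_or, List.nodup_nil,
        and_true, not_false_eq_true]
      exact ⟨⟨(bne hZ hs).symm, ne0 hs0 q1, ne0 (mul_ne_zero hw0 hs0) q2,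
        ne0 (mul_ne_zero (pow_ne_zero 2 hw0) hs0) q3⟩,
        ⟨bne q1 (sq _).2.2, bne q2 (sq _).2.2, bne q3 (sq _).2.2⟩,
        ⟨ne hne.symm q1 q2, ne hne2.symm q1 q3⟩, ne hne3 q2 q3⟩
    · intro x hx y hy
      rcases onl x hx with rfl | ⟨r, rfl⟩ <;> rcases onl y hy with rfl | ⟨r', rfl⟩
      exacts [Commute.refl _, (mm _ hy).2.2, (mm _ hx).2.2.symm, oz r r']
  · have e : m0 * b * m1 * m2 * m3 = a := congrArg Subtype.val q
    have hcb : Commute b m0 := cb hZ hZB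
    calc m0 * m1 * m2 * m3 = b * (m0 * b * m1 * m2 * m3) := by
          rw [show b * (m0 * b * m1 * m2 * m3) = (b * m0) * b * (m1 * m2 * m3) by group, hcb.eq,
            mul_assoc m0 b b, htt.sq b P.hbm.1, mul_one]
          group
      _ = b * a := by rw [e]
      _ = a * b := P.hbm.2.2.symm.eq

/-- the joint centraliser -/
abbrev K2 (_P : PairData hK D (F := F) a b π) : Subgroup G := Subgroup.centralizer ({a, b} : Set G)

theorem mem_K2 {g : G} : g ∈ P.K2 ↔ Commute g a ∧ Commute g b := by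
  simp only [Subgroup.mem_centralizer_iff, Set.mem_insert_iff, Set.mem_singleton_iff,
    forall_eq_or_imp, forall_eq]
  exact ⟨fun h => ⟨h.1.symm, h.2.symm⟩, fun h => ⟨h.1.symm.eq, h.2.symm.eq⟩⟩

theorem conj_fix {g : G} (hg : g ∈ P.K2) : g * a * g⁻¹ = a ∧ g * b * g⁻¹ = b :=
  ⟨mul_inv_eq_iff_eq_mul.mpr (P.mem_K2.mp hg).1.eq, mul_inv_eq_iff_eq_mul.mpr (P.mem_K2.mp hg).2.eq⟩

/-- the inclusion in the centraliser of `a` -/
def toCa : ↥P.K2 →* ↥(Subgroup.centralizer ({a} : Set G)) :=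
  Subgroup.inclusion (Subgroup.centralizer_le (by simp))

theorem toCa_val (g : ↥P.K2) : ((P.toCa g : ↥(Subgroup.centralizer ({a} : Set G))) : G) = g := rfl

theorem exists_lift (g : ↥P.K2) : ∃ t : ↥(PointBasis.stabB P.B),
    (QuotientGroup.mk (t : ↥(Cfsg.SU 6 K 2)) : Cfsg.PSU 6 K 2) = π (P.toCa g) := by
  obtain ⟨g0, hg0⟩ := QuotientGroup.mk_surjective (π (P.toCa g))
  have hcm : Commute (π (P.toCa g)) (ptv hK P.B) := by
    rw [← P.xs.eq P.pB]
    refine Commute.map (Subtype.ext ?_) π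
    show (g : G) * P.xs.sp.pt P.B = P.xs.sp.pt P.B * g
    rw [P.hB]
    exact (P.mem_K2.mp g.2).2.eq
  have e := ptv_conj hK g0 P.B
  rw [hg0, hcm.eq, mul_inv_cancel_right] at e
  obtain ⟨r, hr⟩ := ptv_eq hK P.pB (act_pt g0 P.pB).2 e
  have hr0 : r ≠ 0 := fun q => P.pB.1 (by rw [hr, q, zero_smul])
  obtain ⟨z, hz, hzact⟩ := exists_scalar hK hr0
  refine ⟨⟨g0 * z, ?_⟩, ?_⟩
  · show act (g0 * z) P.B = P.B
    rw [act_mul, hzact, act_smul, ← hr]
  · show (QuotientGroup.mk (g0 * z) : Cfsg.PSU 6 K 2) = _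
    rw [QuotientGroup.mk_mul, (QuotientGroup.eq_one_iff z).mpr hz, mul_one, hg0]

theorem lift_unique {t t' : ↥(PointBasis.stabB P.B)}
    (e : (QuotientGroup.mk (t : ↥(Cfsg.SU 6 K 2)) : Cfsg.PSU 6 K 2) =
      QuotientGroup.mk (t' : ↥(Cfsg.SU 6 K 2))) : t = t' := by
  have hz := QuotientGroup.eq.mp e
  obtain ⟨l, -, hl⟩ := central_scalar hK hz
  have hfix : act ((t : ↥(Cfsg.SU 6 K 2))⁻¹ * (t' : ↥(Cfsg.SU 6 K 2))) P.B = P.B :=
    (t⁻¹ * t').2
  rw [hl] at hfix
  have l1 : l = 1 := smul_left_injective K P.pB.1 (hfix.trans (one_smul K P.B).symm)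
  have : (t : ↥(Cfsg.SU 6 K 2))⁻¹ * t' = 1 := act_ext fun x => by rw [hl, l1, one_smul, act_one]
  exact Subtype.ext (inv_mul_eq_one.mp this)

/-- the lift fixing `B` -/
noncomputable def liftB : ↥P.K2 →* ↥(PointBasis.stabB P.B) :=
  MonoidHom.mk' (fun g => (P.exists_lift g).choose) fun g g' => P.lift_unique (by
    rw [(P.exists_lift (g * g')).choose_spec, Subgroup.coe_mul, QuotientGroup.mk_mul,
      (P.exists_lift g).choose_spec, (P.exists_lift g').choose_spec, map_mul, map_mul])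

theorem liftB_spec (g : ↥P.K2) :
    (QuotientGroup.mk (P.liftB g : ↥(Cfsg.SU 6 K 2)) : Cfsg.PSU 6 K 2) = π (P.toCa g) :=
  (P.exists_lift g).choose_spec

theorem liftB_act (g : ↥P.K2) {v : Vec K} (hv : IsPt v) :
    (g : G) * P.pt v * (g : G)⁻¹ = P.pt (act (P.liftB g : ↥(Cfsg.SU 6 K 2)) v) := by
  have hp := act_pt (P.liftB g : ↥(Cfsg.SU 6 K 2)) hv
  have hmem : (g : G) * P.pt v * (g : G)⁻¹ ∈ nb D a := by
    have := P.data.core.tt.nb_conj (g : G) (P.xs.sp.mem hv)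
    rwa [(P.conj_fix g.2).1] at this
  refine member_inj P.data.core P.ha P.he hmem (P.xs.sp.mem hp) ?_
  show π ⟨_, _⟩ = π ⟨P.xs.sp.pt _, mem_cent (P.xs.sp.mem hp).2.2⟩
  rw [P.xs.eq hp, ← ptv_conj hK, P.liftB_spec, ← P.xs.eq hv, ← map_inv, ← map_mul, ← map_mul]
  rfl

/-- the action on `B^⊥/B` -/
noncomputable def psi : ↥P.K2 →* ↥(Cfsg.SU 4 K 2) := (P.basis.toSU4 hK).comp P.liftB

theorem psi_surjective : Function.Surjective P.psi := by
  intro A
  obtain ⟨t, rfl⟩ := P.basis.toSU4_surjective hK A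
  obtain ⟨k, hk⟩ := P.he.surj (QuotientGroup.mk (t : ↥(Cfsg.SU 6 K 2)))
  have hfixB : act (t : ↥(Cfsg.SU 6 K 2)) P.B = P.B := t.2
  have hka : Commute (k : G) a := Subgroup.mem_centralizer_singleton_iff.mp k.2
  have hmem : (k : G) * P.pt P.B * (k : G)⁻¹ ∈ nb D a := by
    have := P.data.core.tt.nb_conj (k : G) (P.xs.sp.mem P.pB)
    rwa [mul_inv_eq_iff_eq_mul.mpr hka.eq] at this
  have hkb' : (k : G) * P.pt P.B * (k : G)⁻¹ = P.pt P.B := by
    refine member_inj P.data.core P.ha P.he hmem (P.xs.sp.mem P.pB) ?_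
    calc π ⟨(k : G) * P.pt P.B * (k : G)⁻¹, mem_cent hmem.2.2⟩
        = π (k * ⟨P.pt P.B, mem_cent (P.xs.sp.mem P.pB).2.2⟩ * k⁻¹) := congrArg π (Subtype.ext rfl)
      _ = ptv hK P.B := by
          rw [map_mul, map_mul, map_inv, hk]
          show _ * π ⟨P.xs.sp.pt P.B, _⟩ * _ = _
          rw [P.xs.eq P.pB, ptv_conj, hfixB]
      _ = _ := (P.xs.eq P.pB).symm
  have hkb : Commute (k : G) b := by
    have := mul_inv_eq_iff_eq_mul.mp hkb'
    rwa [show P.pt P.B = b from P.hB] at this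
  refine ⟨⟨(k : G), P.mem_K2.mpr ⟨hka, hkb⟩⟩, ?_⟩
  show P.basis.toSU4 hK (P.liftB _) = _
  rw [P.lift_unique (t := P.liftB ⟨(k : G), P.mem_K2.mpr ⟨hka, hkb⟩⟩) (t' := t) ?_]
  rw [P.liftB_spec]
  exact (congrArg π (Subtype.ext rfl)).trans hk

/-- the kernel, in `G` -/
noncomputable def E : Subgroup G := P.psi.ker.map P.K2.subtype

theorem E_le : P.E ≤ P.K2 := Subgroup.map_subtype_le _

theorem mem_E_iff {g : G} :
    g ∈ P.E ↔ g ∈ P.K2 ∧ ∀ z ∈ common D a b, g * z * g⁻¹ ∈ Cl D a b z := by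
  constructor
  · rintro ⟨k, hk, rfl⟩
    refine ⟨k.2, fun z hz => ?_⟩
    obtain ⟨Z, hZ, hZB, hs, rfl⟩ := P.mem_common_iff.mp hz
    obtain ⟨t, ht⟩ := (P.basis.mem_ker hK).mp hk Z hZB
    rw [Subgroup.coe_subtype, P.liftB_act k hZ, ht]
    exact (P.cl_iff hZ hZB hs).mpr ⟨t, rfl⟩
  · rintro ⟨hg, hall⟩
    refine ⟨⟨g, hg⟩, ?_, rfl⟩
    set A := P.psi ⟨g, hg⟩ with hA
    have lines : ∀ c : Fin 4 → K, Cfsg.hermForm 4 K 2 c c = 0 → c ≠ 0 →
        ∃ l : K, Cfsg.Agent.Unitary.ap A c = l • c := by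
      intro c hc hc0
      have hco : P.basis.co (P.basis.emb c) = c := P.basis.co_emb c
      have hB' := P.basis.emb_B c
      have hZ : IsPt (P.basis.emb c) := by
        refine ⟨fun e => hc0 ?_, ?_⟩
        · rw [← hco, e]; funext i; exact hb_zero_left _
        · rw [P.basis.hb_eq_co hK hB' hB', hco]; exact hc
      have hs : ¬ SamePt P.B (P.basis.emb c) := fun ⟨r, hr⟩ => hc0 (by
        rw [← hco, hr, P.basis.co_smul, P.basis.co_B hK, smul_zero])
      have h1 := hall _ (P.mem_common_iff.mpr ⟨_, hZ, hB', hs, rfl⟩)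
      rw [show g * P.pt (P.basis.emb c) * g⁻¹ = _ from P.liftB_act ⟨g, hg⟩ hZ] at h1
      obtain ⟨t, ht⟩ := (P.cl_iff hZ hB' hs).mp h1
      obtain ⟨l, hl⟩ := (P.xs.sp.same (P.shift hZ hB' hs t).1 (act_pt _ hZ)).mp ht
      refine ⟨l, ?_⟩
      show (P.basis.mat4 (P.liftB ⟨g, hg⟩).1).mulVec c = l • c
      rw [← P.basis.co_act_emb hK (P.liftB ⟨g, hg⟩).2, hl, P.basis.co_smul, P.basis.co_add,
        P.basis.co_smul, P.basis.co_B hK, smul_zero, add_zero, hco]
    obtain ⟨l, hl⟩ := Cfsg.Agent.Unitary.eq_smul_of_fix_lines (card_eq_sq hK) (by norm_num) A lines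
    have hm := Cfsg.Agent.Unitary.mat_of_ap_smul hl
    have hl1 : l = 1 := by
      have hd : (Cfsg.Agent.Unitary.mat A).det = 1 := A.1.2
      rw [hm, Matrix.det_smul, Fintype.card_fin, Matrix.det_one, mul_one, pow_four hK] at hd
      exact hd
    rw [hl1, one_smul] at hm
    exact MonoidHom.mem_ker.mpr (Subtype.ext (Subtype.ext hm))

theorem pair_mem : a ∈ P.K2 ∧ b ∈ P.K2 :=
  ⟨P.mem_K2.mpr ⟨Commute.refl a, P.hbm.2.2⟩, P.mem_K2.mpr ⟨P.hbm.2.2.symm, Commute.refl b⟩⟩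

theorem pair_mem_E : a ∈ P.E ∧ b ∈ P.E := by
  have key : ∀ g ∈ P.K2, (∀ z ∈ common D a b, Commute g z) → g ∈ P.E := fun g hg hz =>
    P.mem_E_iff.mpr ⟨hg, fun z hzT => by
      rw [(hz z hzT).eq, mul_inv_cancel_right]
      exact ⟨hzT, fun w _ q => q⟩⟩
  exact ⟨key a P.pair_mem.1 fun z hz => hz.1.2.2, key b P.pair_mem.2 fun z hz => hz.2.2.2⟩

/-- the four-group generated by the pair -/
abbrev V (_P : PairData hK D (F := F) a b π) : Subgroup G := Subgroup.closure ({a, b} : Set G)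

theorem mem_V {g : G} : g ∈ P.V ↔ g = 1 ∨ g = a ∨ g = b ∨ g = a * b := by
  have htt := P.data.core.tt
  have sa := htt.sq a P.ha
  have sb := htt.sq b P.hbm.1
  have hc := P.hbm.2.2
  constructor
  · intro hg
    induction hg using Subgroup.closure_induction with
    | mem x hx => rcases hx with rfl | rfl <;> simp
    | one => simp
    | mul x y _ _ hx hy =>
      have e1 : a * (a * b) = b := by rw [← mul_assoc, sa, one_mul]
      have e2 : b * a = a * b := hc.symm.eq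
      have e3 : b * (a * b) = a := by rw [← mul_assoc, e2, mul_assoc, sb, mul_one]
      have e4 : a * b * a = b := by rw [mul_assoc, e2, e1]
      have e5 : a * b * b = a := by rw [mul_assoc, sb, mul_one]
      have e6 : a * b * (a * b) = 1 := by rw [← mul_assoc, e4, sb]
      rcases hx with rfl | rfl | rfl | rfl <;> rcases hy with rfl | rfl | rfl | rfl <;>
        simp [sa, sb, e1, e2, e3, e4, e5, e6]
    | inv x _ hx =>
      rcases hx with rfl | rfl | rfl | rfl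
      · simp
      · simp [htt.inv_eq P.ha]
      · simp [htt.inv_eq P.hbm.1]
      · simp [mul_inv_rev, htt.inv_eq P.ha, htt.inv_eq P.hbm.1, hc.symm.eq]
  · have ma : a ∈ P.V := Subgroup.subset_closure (Or.inl rfl)
    have mb : b ∈ P.V := Subgroup.subset_closure (Or.inr rfl)
    rintro (rfl | rfl | rfl | rfl)
    exacts [one_mem _, ma, mb, mul_mem ma mb]

/-- elements lifting to `1` or to the transvection of `B` -/
theorem mem_V_of_lift (g : ↥P.K2) (h : (P.liftB g : ↥(Cfsg.SU 6 K 2)) = 1 ∨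
    (P.liftB g : ↥(Cfsg.SU 6 K 2)) = tv hK P.B) : (g : G) ∈ P.V := by
  have e := P.liftB_spec g
  rcases h with q | q <;> rw [q] at e
  · rw [QuotientGroup.mk_one] at e
    rcases P.he.ker _ e.symm with r | r
    · exact P.mem_V.mpr (Or.inl (congrArg Subtype.val r))
    · exact P.mem_V.mpr (Or.inr (Or.inl (congrArg Subtype.val r)))
  · have e' : π ⟨b, mem_cent P.hbm.2.2⟩ = π (P.toCa g) := by
      rw [← e, show (QuotientGroup.mk (tv hK P.B) : Cfsg.PSU 6 K 2) = ptv hK P.B from rfl,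
        ← P.xs.eq P.pB]
      exact congrArg π (Subtype.ext P.hB.symm)
    rcases P.he.eq_or e' with r | r
    · exact P.mem_V.mpr (Or.inr (Or.inr (Or.inl (congrArg Subtype.val r))))
    · refine P.mem_V.mpr (Or.inr (Or.inr (Or.inr ?_)))
      rw [P.hbm.2.2.eq]
      exact congrArg Subtype.val r

theorem E_comm {x y : G} (hx : x ∈ P.E) (hy : y ∈ P.E) :
    x * y * x⁻¹ * y⁻¹ ∈ P.V ∧ x ^ 2 ∈ P.V := by
  obtain ⟨g, hg, rfl⟩ := hx
  obtain ⟨g', hg', rfl⟩ := hy
  obtain ⟨h1, h2⟩ := P.basis.ker_comm hK (g := P.liftB g) (g' := P.liftB g') hg hg'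
  refine ⟨P.mem_V_of_lift (g * g' * g⁻¹ * g'⁻¹) ?_, ?_⟩
  · simpa [map_mul, map_inv] using h1
  · rw [pow_two]
    exact P.mem_V_of_lift (g * g) (by simpa [map_mul] using h2)

variable [Finite G]

/-- the order of the kernel -/
theorem card_E : Nat.card P.E = 2 ^ 10 := by
  have h := P.data
  have htt := h.core.tt
  have hsep := (h.spaces a P.ha).some.sep h.hF
  set X := {t : G × G × G | t.1 = a ∧ t.2.1 ∈ nb D a ∧ t.2.2 = t.2.1} with hX
  have horb := card_of_transitive (Subgroup.centralizer ({a} : Set G)) X a b b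
    (Subgroup.centralizer_le (by simp))
    (fun g hg => by
      have ga : g * a * g⁻¹ = a :=
        mul_inv_eq_iff_eq_mul.mpr (Subgroup.mem_centralizer_singleton_iff.mp hg)
      refine ⟨ga, ?_, rfl⟩
      simpa [conj3, ga] using htt.nb_conj g P.hbm)
    (fun t ht => by
      obtain ⟨t1, t2, t3⟩ := t
      simp only [hX, Set.mem_ofPred_eq] at ht
      obtain ⟨rfl, h2, rfl⟩ := ht
      obtain ⟨g, e1, e2, -⟩ := exists_conj_nb h.core P.hbm h2 P.ha hsep
      exact ⟨g, Subgroup.mem_centralizer_singleton_iff.mpr (mul_inv_eq_iff_eq_mul.mp e2), by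
        simp only [conj3, e1, e2]⟩)
  have hXn : X.ncard = (nb D a).ncard := by
    have : X = (fun y => (a, y, y)) '' nb D a := by
      ext ⟨t1, t2, t3⟩
      simp only [hX, Set.mem_ofPred_eq, Set.mem_image, Prod.mk.injEq]
      exact ⟨fun ⟨h1, h2, h3⟩ => ⟨t2, h2, h1.symm, rfl, h3.symm⟩,
        fun ⟨y, hy, h1, h2, h3⟩ => ⟨h1.symm, h2 ▸ hy, h3.symm.trans h2⟩⟩
    rw [this, Set.ncard_image_of_injective _ fun x y e => congrArg (fun t => t.2.1) e]
  have hK2eq : Subgroup.centralizer ({a, b, b} : Set G) = P.K2 := by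
    rw [show ({a, b, b} : Set G) = {a, b} by simp]
  rw [hK2eq, hXn, card_cent_member hK h.core P.ha P.he] at horb
  have hK2 : Fintype.card K = 2 ^ 2 := card_eq_sq hK
  have hT := Cfsg.Agent.Unitary.card_TIFrame (n := 6) hK2 (k := 1) (by norm_num)
  have hP := Cfsg.Agent.Unitary.card_PSU (n := 6) hK2 (by norm_num)
  have hG6 := Cfsg.Agent.Unitary.card_GU_eq_mul_card_SU (n := 6) hK2 (by norm_num)
  have hG4 := Cfsg.Agent.Unitary.card_GU_eq_mul_card_SU (n := 4) hK2 (by norm_num)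
  rw [card_nb_one hK P.xs.sp] at hT
  norm_num at hT hP hG6 hG4
  have hker := Subgroup.card_mul_index P.psi.ker
  rw [Subgroup.index_ker, MonoidHom.range_eq_top.mpr P.psi_surjective, Subgroup.card_top] at hker
  have hE : Nat.card P.E = Nat.card P.psi.ker :=
    (Nat.card_congr (P.psi.ker.equivMapOfInjective _ Subtype.val_injective).toEquiv).symm
  rw [hE]
  rw [← hker] at horb
  have hpos : 0 < (nb D a).ncard * Nat.card (Cfsg.SU 4 K 2) :=
    Nat.mul_pos ((Set.ncard_pos (Set.toFinite _)).mpr ⟨b, P.hbm⟩) Nat.card_pos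
  refine Nat.eq_of_mul_eq_mul_left hpos ?_
  rw [hG4] at hT
  nlinarith [horb, hT, hP, hG6]

end PairData

end Cfsg.Agent.H93
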