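import Cfsg.Agent.H93.U6ElemBound
import Cfsg.Agent.H93.Pair
import Cfsg.Prelude.Def_Transfer

/-!
Elementary abelian 2-subgroups of a group of type M(22): the order is at most `2^10`, those of that
order are generated by the members they contain, and so the members in a Sylow 2-subgroup generate
its Thompson subgroup.
-/

set_option autoImplicit false

namespace Cfsg.Agent.H93

section PSU

variable {F : Type*} [Field F] [Fintype F] (hF : Fintype.card F = 4)

include hF

/-- involutive lifts with commuting images commute -/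
theorem lift_commute_of_mk {g h : ↥(Cfsg.SU 6 F 2)} (hg : g * g = 1) (hh : h * h = 1)
    (e : Commute (QuotientGroup.mk g : Cfsg.PSU 6 F 2) (QuotientGroup.mk h)) : Commute g h := by
  set z := g * h * g⁻¹ * h⁻¹
  have hz : z ∈ Subgroup.center ↥(Cfsg.SU 6 F 2) := by
    rw [← QuotientGroup.eq_one_iff]
    simp only [z, QuotientGroup.mk_mul, QuotientGroup.mk_inv]
    rw [e.eq]; group
  have hzh : Commute z h := (Subgroup.mem_center_iff.mp hz h).symm
  have h1 : z * h * (z * h) = 1 := by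
    rw [show z * h = g * h * g⁻¹ by simp only [z]; group,
      show g * h * g⁻¹ * (g * h * g⁻¹) = g * (h * h) * g⁻¹ by group, hh, mul_one, mul_inv_cancel]
  have h2 : z * z = 1 := by
    rw [show z * h * (z * h) = z * (h * z) * h by group, ← hzh.eq,
      show z * (z * h) * h = z * z * (h * h) by group, hh, mul_one] at h1
    exact h1
  have hz1 := central_sq_eq_one hF hz h2
  exact mul_inv_eq_iff_eq_mul.mp (mul_inv_eq_one.mp hz1)

theorem mk_inj_of_sq {g h : ↥(Cfsg.SU 6 F 2)} (hg : g * g = 1) (hh : h * h = 1)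
    (e : (QuotientGroup.mk g : Cfsg.PSU 6 F 2) = QuotientGroup.mk h) : g = h := by
  have hc : Commute g h := lift_commute_of_mk hF hg hh (by rw [e])
  have hi : g⁻¹ = g := inv_eq_of_mul_eq_one_left hg
  have hz : g * h ∈ Subgroup.center ↥(Cfsg.SU 6 F 2) := by
    rw [← QuotientGroup.eq_one_iff, QuotientGroup.mk_mul, ← hi, QuotientGroup.mk_inv, e,
      inv_mul_cancel]
  have h1 : g * h = 1 := central_sq_eq_one hF hz (by
    calc g * h * (g * h) = g * (h * g) * h := by group
      _ = g * (g * h) * h := by rw [hc.eq]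
      _ = (g * g) * (h * h) := by group
      _ = 1 := by rw [hg, hh, one_mul])
  rw [eq_inv_of_mul_eq_one_right h1, hi]

/-- the bound in `PSU` -/
theorem elem_bound_psu (A : Subgroup (Cfsg.PSU 6 F 2)) (hc : ∀ x ∈ A, ∀ y ∈ A, Commute x y)
    (hs : ∀ x ∈ A, x * x = 1) :
    Nat.card A ≤ 512 ∧ (Nat.card A = 512 →
      A ≤ Subgroup.closure {t | t ∈ A ∧ ∃ v, IsPt v ∧ t = ptv hF v}) := by
  have hcom : ∀ {g h : ↥(Cfsg.SU 6 F 2)}, g * g = 1 → h * h = 1 →
      (QuotientGroup.mk g : Cfsg.PSU 6 F 2) ∈ A → (QuotientGroup.mk h : Cfsg.PSU 6 F 2) ∈ A →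
      Commute g h := fun hg hh ga ha => lift_commute_of_mk hF hg hh (hc _ ga _ ha)
  let B : Subgroup ↥(Cfsg.SU 6 F 2) :=
    { carrier := {g | g * g = 1 ∧ (QuotientGroup.mk g : Cfsg.PSU 6 F 2) ∈ A}
      one_mem' := ⟨one_mul 1, by rw [QuotientGroup.mk_one]; exact one_mem A⟩
      mul_mem' := fun {g h} hg hh => ⟨by
        calc g * h * (g * h) = g * (h * g) * h := by group
          _ = g * (g * h) * h := by rw [(hcom hg.1 hh.1 hg.2 hh.2).eq]
          _ = (g * g) * (h * h) := by group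
          _ = 1 := by rw [hg.1, hh.1, one_mul], by
        rw [QuotientGroup.mk_mul]; exact mul_mem hg.2 hh.2⟩
      inv_mem' := fun {g} hg => ⟨by rw [← mul_inv_rev, hg.1, inv_one], by
        rw [QuotientGroup.mk_inv]; exact inv_mem hg.2⟩ }
  have hbij : Function.Bijective fun g : ↥B => (⟨QuotientGroup.mk g.1, g.2.2⟩ : ↥A) := by
    refine ⟨fun g h e => Subtype.ext (mk_inj_of_sq hF g.2.1 h.2.1 (congrArg (fun x : ↥A => x.1) e)),
      fun x => ?_⟩
    obtain ⟨g, hg, e⟩ := exists_invol_lift hF (hs x.1 x.2)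
    exact ⟨⟨g, hg, e ▸ x.2⟩, Subtype.ext e⟩
  obtain ⟨h1, h2⟩ := elem_bound_su hF B (fun g hg h hh => hcom hg.1 hh.1 hg.2 hh.2) fun g hg => hg.1
  rw [Nat.card_eq_of_bijective _ hbij] at h1 h2
  refine ⟨h1, fun h512 x hx => ?_⟩
  obtain ⟨g, hg, rfl⟩ := exists_invol_lift hF (hs x hx)
  have hmem := h2 h512 (show g ∈ B from ⟨hg, hx⟩)
  have hle : Subgroup.closure {t | t ∈ B ∧ ∃ v, IsPt v ∧ t = tv hF v} ≤
      (Subgroup.closure {t | t ∈ A ∧ ∃ v, IsPt v ∧ t = ptv hF v}).comap
        (QuotientGroup.mk' (Subgroup.center ↥(Cfsg.SU 6 F 2))) := by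
    rw [Subgroup.closure_le]
    rintro t ⟨ht, v, hv, rfl⟩
    exact Subgroup.subset_closure ⟨ht.2, v, hv, rfl⟩
  exact hle hmem

/-- an elementary abelian subgroup of order `2^9` in `PSU` -/
theorem exists_elem_psu : ∃ A : Subgroup (Cfsg.PSU 6 F 2), (∀ x ∈ A, ∀ y ∈ A, Commute x y) ∧
    (∀ x ∈ A, x * x = 1) ∧ Nat.card A = 512 := by
  obtain ⟨B, hc, hs, h512⟩ := exists_elem_su hF
  refine ⟨B.map (QuotientGroup.mk' _), ?_, ?_, ?_⟩
  · rintro _ ⟨g, hg, rfl⟩ _ ⟨h, hh, rfl⟩
    exact (hc g hg h hh).map _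
  · rintro _ ⟨g, hg, rfl⟩
    rw [← map_mul, hs g hg, map_one]
  · rw [← h512]
    refine (Nat.card_eq_of_bijective
      (fun g : ↥B => (⟨QuotientGroup.mk' _ g.1, g.1, g.2, rfl⟩ : ↥(B.map (QuotientGroup.mk' _))))
      ⟨fun g h e => Subtype.ext (mk_inj_of_sq hF (hs _ g.2) (hs _ h.2)
        (congrArg (fun x : ↥(B.map (QuotientGroup.mk' _)) => x.1) e)), ?_⟩).symm
    rintro ⟨_, g, hg, rfl⟩
    exact ⟨⟨g, hg⟩, rfl⟩

end PSU

variable {G : Type*} [Group G] {D : Set G} {F : Type*} [Field F] [Fintype F]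
  {K : Type*} [Field K] [Fintype K] (hK : Fintype.card K = 4)

/-- a member is the product of five commuting neighbours -/
theorem M22Data.five (h : M22Data D F) {a : G} (ha : a ∈ D) :
    ∃ l : List G, (∀ x ∈ l, x ∈ nb D a) ∧ (∀ x ∈ l, ∀ y ∈ l, Commute x y) ∧ l.prod = a := by
  classical
  have hF := h.hF
  have htt := h.core.tt
  obtain ⟨sp⟩ := h.spaces a ha
  obtain ⟨b, hb'⟩ := h.core.edge a ha
  obtain ⟨c, hc, hcb⟩ := (local_of_space hF h.core
    (pair2_of_indep htt h.ind (by norm_num)) sp).edge b hb'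
  obtain ⟨p, q, r, hp, hq, hr, hnd, hcom, -, -, hline⟩ := sp.exists_line hF
    (fun y hy => htt.sq y hy.1) hb' hc hcb.2.1.symm hcb.2.2
  have hmem : ∀ x ∈ [b, c, p, q, r], x ∈ nb D a := by
    intro x hx
    simp only [List.mem_cons, List.not_mem_nil, or_false] at hx
    rcases hx with rfl | rfl | rfl | rfl | rfl <;> assumption
  refine ⟨[b, c, p, q, r], hmem, hcom, ?_⟩
  have hprod : [b, c, p, q, r].prod = b * c * p * q * r := by simp [mul_assoc]
  rcases h.kernel_nb (g := b * c * p * q * r) ha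
      (((((hb'.2.2.symm.mul_left hc.2.2.symm).mul_left hp.2.2.symm).mul_left hq.2.2.symm).mul_left
        hr.2.2.symm)) (fun v hv => (hline v hv).symm) with e | e
  · exact absurd (hprod.trans e) (h.ind _ hnd (by simp) (by simp) (fun x hx => (hmem x hx).1) hcom)
  · exact hprod.trans e

/-- the members not commuting with a member come in a multiple of four -/
theorem M22Data.four_dvd_far [Finite G] (h : M22Data D F) {a : G} (ha : a ∈ D) :
    4 ∣ Set.ncard {y : G | y ∈ D ∧ ¬ Commute a y} := by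
  classical
  have htt := h.core.tt
  obtain ⟨l, hl, hlc, hlp⟩ := h.five ha
  set H := Subgroup.closure {x : G | x ∈ l} with hH
  have hcomm : ∀ g ∈ H, Commute g a := fun g hg => by
    have : H ≤ Subgroup.centralizer ({a} : Set G) := (Subgroup.closure_le _).mpr fun x hx =>
      mem_cent (hl x hx).2.2
    exact Subgroup.mem_centralizer_singleton_iff.mp (this hg)
  have haH : a ∈ H := by
    rw [← hlp]; exact Subgroup.list_prod_mem _ fun x hx => Subgroup.subset_closure hx
  have hp2 : IsPGroup 2 ↥H := by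
    have hcomm' : ∀ x ∈ H, ∀ y ∈ H, Commute x y := fun x hx y hy => by
      have hG := Subgroup.isMulCommutative_closure (k := {x : G | x ∈ l})
        fun u hu v hv => (hlc u hu v hv).eq
      exact congrArg Subtype.val (hG.is_comm.comm ⟨x, hx⟩ ⟨y, hy⟩)
    intro g
    refine ⟨1, Subtype.ext ?_⟩
    show (g : G) ^ (2 ^ 1) = 1
    rw [pow_one, pow_two]
    obtain ⟨g, hg⟩ := g
    show g * g = 1
    induction hg using Subgroup.closure_induction with
    | mem x hx => exact htt.sq x (hl x hx).1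
    | one => exact one_mul 1
    | mul x y hx hy ex ey =>
      calc x * y * (x * y) = x * (y * x) * y := by group
        _ = x * (x * y) * y := by rw [(hcomm' y hy x hx).eq]
        _ = (x * x) * (y * y) := by group
        _ = 1 := by rw [ex, ey, one_mul]
    | inv x _ ex => rw [← mul_inv_rev, ex, inv_one]
  set U := {y : G | y ∈ D ∧ ¬ Commute a y}
  have hmem : ∀ g ∈ H, ∀ y ∈ U, g * y * g⁻¹ ∈ U := fun g hg y hy =>
    ⟨htt.conj_mem g y hy.1, fun q => hy.2 (by
      rw [← (show g * a * g⁻¹ = a from mul_inv_eq_iff_eq_mul.mpr (hcomm g hg).eq), commute_conj] at q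
      exact q)⟩
  letI : MulAction ↥H ↥U :=
    { smul := fun g y => ⟨g.1 * y.1 * g.1⁻¹, hmem g.1 g.2 y.1 y.2⟩
      one_smul := fun y => Subtype.ext (by show (1 : G) * y.1 * (1 : G)⁻¹ = y.1; group)
      mul_smul := fun g g' y => Subtype.ext (by
        show g.1 * g'.1 * y.1 * (g.1 * g'.1)⁻¹ = g.1 * (g'.1 * y.1 * g'.1⁻¹) * g.1⁻¹; group) }
  haveI : Fact (Nat.Prime 2) := ⟨Nat.prime_two⟩
  have horb : ∀ y : ↥U, 4 ∣ Nat.card (MulAction.orbit ↥H y) := by
    intro y
    obtain ⟨n, hn⟩ := hp2.card_orbit y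
    by_cases h2 : 2 ≤ n
    · rw [hn]; exact pow_dvd_pow 2 h2
    exfalso
    let y' : ↥U := (⟨a, haH⟩ : ↥H) • y
    have hne : y ≠ y' := fun q => by
      have q' : y.1 = a * y.1 * a⁻¹ := congrArg Subtype.val q
      exact y.2.2 (mul_inv_eq_iff_eq_mul.mp q'.symm)
    have hsub : ({y, y'} : Set ↥U) ⊆ MulAction.orbit ↥H y := by
      rintro x (rfl | rfl)
      exacts [MulAction.mem_orbit_self _, MulAction.mem_orbit _ _]
    have hcard : (MulAction.orbit ↥H y).ncard ≤ 2 := by
      rw [← Nat.card_coe_set_eq, hn]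
      calc 2 ^ n ≤ 2 ^ 1 := Nat.pow_le_pow_right (by norm_num) (by omega)
        _ = 2 := by norm_num
    have heq := Set.eq_of_subset_of_ncard_le hsub (by rw [Set.ncard_pair hne]; exact hcard)
      (Set.toFinite _)
    have hall : ∀ x ∈ l, Commute x y.1 := by
      intro x hx
      have hxD := (hl x hx).1
      have hin : (⟨x, Subgroup.subset_closure hx⟩ : ↥H) • y ∈ ({y, y'} : Set ↥U) := by
        rw [heq]; exact MulAction.mem_orbit _ _
      rcases hin with q | q
      · exact mul_inv_eq_iff_eq_mul.mp (congrArg Subtype.val q)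
      · by_contra hn'
        have q' : x * y.1 * x⁻¹ = a * y.1 * a⁻¹ := congrArg Subtype.val q
        rw [htt.inv_eq hxD, htt.inv_eq ha, htt.braid hxD y.2.1 hn', htt.braid ha y.2.1 y.2.2] at q'
        exact (hl x hx).2.1 (mul_left_cancel (mul_right_cancel q'))
    refine y.2.2 ?_
    rw [← hlp]
    exact Commute.list_prod_left _ _ hall
  have := Nat.card_congr (MulAction.selfEquivSigmaOrbits ↥H ↥U)
  rw [← Nat.card_coe_set_eq, this]
  haveI := Fintype.ofFinite (MulAction.orbitRel.Quotient ↥H ↥U)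
  rw [Nat.card_sigma]
  exact Finset.dvd_sum fun ω _ => horb _

section

variable [Finite G]

include hK

omit [Field F] [Fintype F] in
/-- the number of neighbours of a member -/
theorem card_nb_member {a : G} (xs : U6Space K (nb D a)) : (nb D a).ncard = 693 := by
  have hK2 : Fintype.card K = 2 ^ 2 := card_eq_sq hK
  have hT := Cfsg.Agent.Unitary.card_TIFrame (n := 6) hK2 (k := 1) (by norm_num)
  rw [card_nb_one hK xs, Cfsg.Agent.Unitary.card_GU hK2, Cfsg.Agent.Unitary.card_GU hK2] at hT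
  norm_num [Finset.prod_range_succ, Cfsg.Agent.Unitary.guFactor, Nat.even_iff] at hT
  omega

/-- the number of members is twice an odd number -/
theorem M22Data.card_mod_four (h : M22Data D F) {a : G} (ha : a ∈ D)
    {π : ↥(Subgroup.centralizer ({a} : Set G)) →* Cfsg.PSU 6 K 2}
    (he : TwoExt π ⟨a, mem_cent (Commute.refl a)⟩) : ¬ 4 ∣ D.ncard := by
  obtain ⟨xs⟩ := exists_extSpace hK h.core ha he
  have hsplit : D = insert a (nb D a) ∪ {y : G | y ∈ D ∧ ¬ Commute a y} := by
    ext y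
    constructor
    · intro hy
      by_cases hc : Commute a y
      · by_cases e : y = a
        · exact Or.inl (Or.inl e)
        · exact Or.inl (Or.inr ⟨hy, e, hc⟩)
      · exact Or.inr ⟨hy, hc⟩
    · rintro ((rfl | hy) | hy)
      exacts [ha, hy.1, hy.1]
  have hdisj : Disjoint (insert a (nb D a)) {y : G | y ∈ D ∧ ¬ Commute a y} := by
    rw [Set.disjoint_left]
    rintro y (rfl | hy) hy'
    exacts [hy'.2 (Commute.refl _), hy'.2 hy.2.2]
  have hn : D.ncard = 694 + Set.ncard {y : G | y ∈ D ∧ ¬ Commute a y} := by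
    conv_lhs => rw [hsplit]
    rw [Set.ncard_union_eq hdisj, Set.ncard_insert_of_notMem (fun q => q.2.1 rfl),
      card_nb_member hK xs.sp]
  have := h.four_dvd_far ha
  omega

/-- a 2-group fixes a member or a pair of commuting members -/
theorem M22Data.fix_or_pair (h : M22Data D F) {a : G} (ha : a ∈ D)
    {π : ↥(Subgroup.centralizer ({a} : Set G)) →* Cfsg.PSU 6 K 2}
    (he : TwoExt π ⟨a, mem_cent (Commute.refl a)⟩) (A : Subgroup G) (hA : IsPGroup 2 ↥A) :
    (∃ c ∈ D, ∀ g ∈ A, Commute g c) ∨ ∃ c ∈ D, ∃ c' ∈ nb D c,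
      ∀ g ∈ A, (g * c * g⁻¹ = c ∧ g * c' * g⁻¹ = c') ∨ (g * c * g⁻¹ = c' ∧ g * c' * g⁻¹ = c) := by
  classical
  have htt := h.core.tt
  letI : MulAction ↥A ↥D :=
    { smul := fun g y => ⟨g.1 * y.1 * g.1⁻¹, htt.conj_mem g.1 y.1 y.2⟩
      one_smul := fun y => Subtype.ext (by show (1 : G) * y.1 * (1 : G)⁻¹ = y.1; group)
      mul_smul := fun g g' y => Subtype.ext (by
        show g.1 * g'.1 * y.1 * (g.1 * g'.1)⁻¹ = g.1 * (g'.1 * y.1 * g'.1⁻¹) * g.1⁻¹; group) }
  haveI : Fact (Nat.Prime 2) := ⟨Nat.prime_two⟩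
  obtain ⟨y, hy⟩ : ∃ y : ↥D, ¬ 4 ∣ Nat.card (MulAction.orbit ↥A y) := by
    by_contra hno
    simp only [not_exists, not_not] at hno
    refine h.card_mod_four hK ha he ?_
    have := Nat.card_congr (MulAction.selfEquivSigmaOrbits ↥A ↥D)
    rw [← Nat.card_coe_set_eq, this]
    haveI := Fintype.ofFinite (MulAction.orbitRel.Quotient ↥A ↥D)
    rw [Nat.card_sigma]
    exact Finset.dvd_sum fun ω _ => hno _
  obtain ⟨n, hn⟩ := hA.card_orbit y
  have hle : (MulAction.orbit ↥A y).ncard ≤ 2 := by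
    rw [← Nat.card_coe_set_eq, hn]
    by_cases h2 : 2 ≤ n
    · exact absurd (hn ▸ pow_dvd_pow 2 h2) hy
    · calc 2 ^ n ≤ 2 ^ 1 := Nat.pow_le_pow_right (by norm_num) (by omega)
        _ = 2 := by norm_num
  by_cases hfix : ∀ g : ↥A, g • y = y
  · exact Or.inl ⟨y.1, y.2, fun g hg =>
      mul_inv_eq_iff_eq_mul.mp (congrArg Subtype.val (hfix ⟨g, hg⟩))⟩
  simp only [not_forall] at hfix
  obtain ⟨t, ht⟩ := hfix
  set y' := t • y
  have heq : ({y, y'} : Set ↥D) = MulAction.orbit ↥A y :=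
    Set.eq_of_subset_of_ncard_le (by
      rintro x (rfl | rfl)
      exacts [MulAction.mem_orbit_self _, MulAction.mem_orbit _ _])
      (by rw [Set.ncard_pair (Ne.symm ht)]; exact hle) (Set.toFinite _)
  have hswap : ∀ g : ↥A, (g • y = y ∧ g • y' = y') ∨ (g • y = y' ∧ g • y' = y) := by
    intro g
    have m1 : g • y ∈ ({y, y'} : Set ↥D) := heq ▸ MulAction.mem_orbit _ _
    have m2 : g • y' ∈ ({y, y'} : Set ↥D) := by
      rw [heq, show g • y' = (g * t) • y from (mul_smul g t y).symm]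
      exact MulAction.mem_orbit _ _
    rcases m1 with q | q <;> rcases m2 with q' | q'
    · exact absurd (MulAction.injective g (q.trans q'.symm)) (Ne.symm ht)
    · exact Or.inl ⟨q, q'⟩
    · exact Or.inr ⟨q, q'⟩
    · exact absurd (MulAction.injective g (q.trans q'.symm)) (Ne.symm ht)
  have hsw : ∀ g ∈ A, (g * y.1 * g⁻¹ = y.1 ∧ g * y'.1 * g⁻¹ = y'.1) ∨
      (g * y.1 * g⁻¹ = y'.1 ∧ g * y'.1 * g⁻¹ = y.1) := fun g hg =>
    (hswap ⟨g, hg⟩).imp (fun q => ⟨congrArg Subtype.val q.1, congrArg Subtype.val q.2⟩)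
      fun q => ⟨congrArg Subtype.val q.1, congrArg Subtype.val q.2⟩
  by_cases hc : Commute y.1 y'.1
  · exact Or.inr ⟨y.1, y.2, y'.1, ⟨y'.2, fun q => ht (Subtype.ext q), hc⟩, hsw⟩
  · refine Or.inl ⟨y.1 * y'.1 * y.1, htt.conj_self_mem y.2 y'.2, fun g hg => ?_⟩
    refine mul_inv_eq_iff_eq_mul.mp ?_
    rw [show g * (y.1 * y'.1 * y.1) * g⁻¹ = (g * y.1 * g⁻¹) * (g * y'.1 * g⁻¹) * (g * y.1 * g⁻¹) by
      group]
    rcases hsw g hg with ⟨e1, e2⟩ | ⟨e1, e2⟩ <;> rw [e1, e2]
    exact (htt.braid y.2 y'.2 hc).symm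

omit [Field F] [Fintype F] in
/-- the bound for a group centralising a member -/
theorem elem_cent (hcore : Core D) {c : G} (hc' : c ∈ D)
    {π : ↥(Subgroup.centralizer ({c} : Set G)) →* Cfsg.PSU 6 K 2}
    (he : TwoExt π ⟨c, mem_cent (Commute.refl c)⟩) (A : Subgroup G)
    (hab : ∀ x ∈ A, ∀ y ∈ A, Commute x y) (hsq : ∀ x ∈ A, x * x = 1)
    (hAc : ∀ x ∈ A, Commute x c) :
    Nat.card A ≤ 1024 ∧ (Nat.card A = 1024 → A ≤ Subgroup.closure {x | x ∈ D ∧ x ∈ A}) := by
  classical
  have hle : A ≤ Subgroup.centralizer ({c} : Set G) := fun x hx => mem_cent (hAc x hx).symm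
  let f : ↥A →* Cfsg.PSU 6 K 2 := π.comp (Subgroup.inclusion hle)
  obtain ⟨hb1, hb2⟩ := elem_bound_psu hK f.range
    (by rintro _ ⟨x, rfl⟩ _ ⟨y, rfl⟩
        exact (show Commute x y from Subtype.ext (hab _ x.2 _ y.2).eq).map f)
    (by rintro _ ⟨x, rfl⟩
        rw [← map_mul, show x * x = 1 from Subtype.ext (hsq _ x.2), map_one])
  have hker : ∀ x : ↥A, f x = 1 → (x : G) = 1 ∨ (x : G) = c := fun x hx =>
    (he.ker _ hx).imp (congrArg Subtype.val) (congrArg Subtype.val)
  have hk2 : (Subtype.val '' (f.ker : Set ↥A)) ⊆ {1, c} := by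
    rintro _ ⟨x, hx, rfl⟩
    exact hker x hx
  have hk : Nat.card f.ker ≤ 2 := by
    rw [← SetLike.coe_sort_coe, Nat.card_coe_set_eq,
      ← Set.ncard_image_of_injective _ (Subtype.val_injective (p := (· ∈ A)))]
    exact (Set.ncard_le_ncard hk2 (Set.toFinite _)).trans
      ((Set.ncard_insert_le _ _).trans (by simp))
  have hmul := Subgroup.card_mul_index f.ker
  rw [Subgroup.index_ker] at hmul
  refine ⟨hmul ▸ (Nat.mul_le_mul hk hb1).trans (by norm_num), fun hA => ?_⟩
  have h512 : Nat.card f.range = 512 := by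
    have := Nat.mul_le_mul hk (le_refl (Nat.card f.range))
    omega
  have hk' : Nat.card f.ker = 2 := by rw [h512, hA] at hmul; omega
  have hcA : c ∈ A := by
    by_contra hcA
    have hbot : f.ker = ⊥ := (Subgroup.eq_bot_iff_forall _).mpr fun x hx =>
      (hker x hx).elim (fun q => Subtype.ext q) fun q => absurd (q ▸ x.2) hcA
    rw [hbot, Subgroup.card_bot] at hk'
    norm_num at hk'
  set L := Subgroup.closure {x | x ∈ D ∧ x ∈ A}
  have hcL : c ∈ L := Subgroup.subset_closure ⟨hc', hcA⟩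
  obtain ⟨-, hlift⟩ := members_of_ext hK hcore he (hcore.edge c hc')
  have hrange : f.range ≤ (L.subgroupOf (Subgroup.centralizer ({c} : Set G))).map π := by
    refine (hb2 h512).trans ((Subgroup.closure_le _).mpr ?_)
    rintro _ ⟨⟨x, hx⟩, v, hv, rfl⟩
    obtain ⟨y, hy, ey⟩ := hlift v hv
    refine ⟨⟨y, mem_cent hy.2.2⟩, ?_, ey⟩
    show y ∈ L
    refine Subgroup.subset_closure ⟨hy.1, ?_⟩
    rcases he.eq_or (x := Subgroup.inclusion hle x) (y := ⟨y, mem_cent hy.2.2⟩)
      (hx.trans ey.symm) with q | q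
    · rw [show y = (x : G) from congrArg Subtype.val q]; exact x.2
    · rw [show y = (x : G) * c from congrArg Subtype.val q]; exact mul_mem x.2 hcA
  intro x hx
  obtain ⟨k, hk1, ek⟩ := hrange ⟨⟨x, hx⟩, rfl⟩
  rcases he.eq_or ek with q | q
  · rw [show x = (k : G) from congrArg Subtype.val q]; exact hk1
  · rw [show x = (k : G) * c from congrArg Subtype.val q]; exact mul_mem hk1 hcL

/-- elementary abelian 2-subgroups of a group of type M(22) -/
theorem M22Data.elem_bound (h : M22Data D F)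
    (hext : ∀ x ∈ D, ∃ π' : ↥(Subgroup.centralizer ({x} : Set G)) →* Cfsg.PSU 6 K 2,
      TwoExt π' ⟨x, mem_cent (Commute.refl x)⟩)
    (A : Subgroup G) (hab : ∀ x ∈ A, ∀ y ∈ A, Commute x y) (hsq : ∀ x ∈ A, x * x = 1) :
    Nat.card A ≤ 1024 ∧ (Nat.card A = 1024 → A ≤ Subgroup.closure {x | x ∈ D ∧ x ∈ A}) := by
  classical
  have htt := h.core.tt
  obtain ⟨a, ha⟩ := h.nonempty
  obtain ⟨πa, hea⟩ := hext a ha
  have hA : IsPGroup 2 ↥A := fun g => ⟨1, Subtype.ext (by
    show (g : G) ^ (2 ^ 1) = 1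
    rw [pow_one, pow_two, hsq _ g.2])⟩
  by_cases hone : ∃ c ∈ D, ∀ g ∈ A, Commute g c
  · obtain ⟨c, hc, hAc⟩ := hone
    obtain ⟨π, he⟩ := hext c hc
    exact elem_cent hK h.core hc he A hab hsq hAc
  obtain ⟨c, hc, c', hc', hsw⟩ := (h.fix_or_pair hK ha hea A hA).resolve_left hone
  obtain ⟨t, htA, htc⟩ : ∃ t ∈ A, ¬ Commute t c := by
    by_contra hno
    simp only [not_exists, not_and, not_not] at hno
    exact hone ⟨c, hc, hno⟩
  obtain ⟨t1, t2⟩ := (hsw t htA).resolve_left fun q => htc (mul_inv_eq_iff_eq_mul.mp q.1)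
  set A0 := A ⊓ Subgroup.centralizer ({c} : Set G) with hA0
  have hcA0 : c ∉ A0 := fun q => htc (hab t htA c q.1)
  set B := A0 ⊔ Subgroup.zpowers c with hB
  have hgen : ∀ x ∈ (A0 : Set G) ∪ {c}, ∀ y ∈ (A0 : Set G) ∪ {c}, Commute x y := by
    have hh : ∀ x ∈ (A0 : Set G), Commute x c := fun x hx =>
      (Subgroup.mem_centralizer_singleton_iff.mp hx.2)
    rintro x (hx | rfl) y (hy | rfl)
    exacts [hab x hx.1 y hy.1, hh x hx, (hh y hy).symm, Commute.refl _]
  have hBclo : B = Subgroup.closure ((A0 : Set G) ∪ {c}) := by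
    rw [Subgroup.closure_union, Subgroup.closure_eq, hB, Subgroup.zpowers_eq_closure]
  have hBab : ∀ x ∈ B, ∀ y ∈ B, Commute x y := fun x hx y hy => by
    rw [hBclo] at hx hy
    have hG := Subgroup.isMulCommutative_closure fun u hu v hv => (hgen u hu v hv).eq
    exact congrArg Subtype.val (hG.is_comm.comm ⟨x, hx⟩ ⟨y, hy⟩)
  have hcB : c ∈ B := Subgroup.mem_sup_right (Subgroup.mem_zpowers c)
  have hBmem : ∀ x ∈ B, x ∈ A0 ∨ x * c ∈ A0 := by
    intro x hx
    rw [hBclo] at hx
    induction hx using Subgroup.closure_induction with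
    | mem x hx =>
      rcases hx with hx | rfl
      · exact Or.inl hx
      · exact Or.inr (by rw [htt.sq _ hc]; exact one_mem _)
    | one => exact Or.inl (one_mem _)
    | mul x y hx hy ex ey =>
      have hxB : Commute c y := hBab c hcB y (hBclo ▸ hy)
      rcases ex with ex | ex <;> rcases ey with ey | ey
      · exact Or.inl (mul_mem ex ey)
      · exact Or.inr (by rw [mul_assoc]; exact mul_mem ex ey)
      · exact Or.inr (by rw [mul_assoc, ← hxB.eq, ← mul_assoc]; exact mul_mem ex ey)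
      · refine Or.inl ?_
        have := mul_mem ex ey
        rwa [show x * c * (y * c) = x * (c * y) * c by group, hxB.eq,
          show x * (y * c) * c = x * y * (c * c) by group, htt.sq c hc, mul_one] at this
    | inv x hx ex =>
      have hxc : Commute x c := hBab x (hBclo ▸ hx) c hcB
      rcases ex with ex | ex
      · exact Or.inl (inv_mem ex)
      · exact Or.inr (by
          have := inv_mem ex
          rwa [mul_inv_rev, htt.inv_eq hc, ← hxc.inv_left.eq] at this)
  have hBsq : ∀ x ∈ B, x * x = 1 := by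
    intro x hx
    rcases hBmem x hx with q | q
    · exact hsq x q.1
    · have := hsq _ q.1
      rwa [show x * c * (x * c) = x * (c * x) * c by group, (hBab c hcB x hx).eq,
        show x * (x * c) * c = x * x * (c * c) by group, htt.sq c hc, mul_one] at this
  -- `A` and `B` have the same order
  have hcardB : Nat.card B = Nat.card A := by
    let f : ↥A → ↥B := fun g => if hg : (g : G) ∈ A0 then ⟨g, Subgroup.mem_sup_left hg⟩ else
      ⟨(g : G) * t * c, mul_mem (Subgroup.mem_sup_left ⟨mul_mem g.2 htA, by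
        refine Subgroup.mem_centralizer_singleton_iff.mpr (mul_inv_eq_iff_eq_mul.mp ?_)
        rw [show (g : G) * t * c * ((g : G) * t)⁻¹ = (g : G) * (t * c * t⁻¹) * (g : G)⁻¹ by group, t1]
        rcases hsw g g.2 with q | q
        · exact absurd (show (g : G) ∈ A0 from ⟨g.2, Subgroup.mem_centralizer_singleton_iff.mpr
            (mul_inv_eq_iff_eq_mul.mp q.1)⟩) hg
        · exact q.2⟩) hcB⟩
    have notin : ∀ {g : G}, g ∈ A0 → g * c ∉ A0 := fun {g} hg q => hcA0 (by
      have := mul_mem (inv_mem hg) q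
      rwa [inv_mul_cancel_left] at this)
    refine (Nat.card_eq_of_bijective f ⟨fun g g' e => ?_, fun x => ?_⟩).symm
    · simp only [f] at e
      split at e <;> split at e <;> rename_i h1 h2 <;> have e' := congrArg Subtype.val e <;>
        dsimp only at e'
      · exact Subtype.ext e'
      · exfalso
        refine notin (g := (g' : G) * t) ⟨mul_mem g'.2 htA, ?_⟩ (e' ▸ h1)
        refine Subgroup.mem_centralizer_singleton_iff.mpr (mul_inv_eq_iff_eq_mul.mp ?_)
        rw [show (g' : G) * t * c * ((g' : G) * t)⁻¹ = (g' : G) * (t * c * t⁻¹) * (g' : G)⁻¹ by group,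
          t1]
        rcases hsw g' g'.2 with q | q
        · exact absurd ⟨g'.2, Subgroup.mem_centralizer_singleton_iff.mpr
            (mul_inv_eq_iff_eq_mul.mp q.1)⟩ h2
        · exact q.2
      · exfalso
        refine notin (g := (g : G) * t) ⟨mul_mem g.2 htA, ?_⟩ (e'.symm ▸ h2)
        refine Subgroup.mem_centralizer_singleton_iff.mpr (mul_inv_eq_iff_eq_mul.mp ?_)
        rw [show (g : G) * t * c * ((g : G) * t)⁻¹ = (g : G) * (t * c * t⁻¹) * (g : G)⁻¹ by group, t1]
        rcases hsw g g.2 with q | q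
        · exact absurd ⟨g.2, Subgroup.mem_centralizer_singleton_iff.mpr
            (mul_inv_eq_iff_eq_mul.mp q.1)⟩ h1
        · exact q.2
      · exact Subtype.ext (mul_right_cancel (mul_right_cancel e'))
    · rcases hBmem x x.2 with q | q
      · exact ⟨⟨x, q.1⟩, by simp only [f, dif_pos q]⟩
      · refine ⟨⟨(x : G) * c * t⁻¹, mul_mem q.1 (inv_mem htA)⟩, ?_⟩
        have hn : (x : G) * c * t⁻¹ ∉ A0 := fun r => htc (by
          have hh := Subgroup.mem_centralizer_singleton_iff.mp (mul_mem (inv_mem r) q).2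
          rwa [show ((x : G) * c * t⁻¹)⁻¹ * ((x : G) * c) = t by group] at hh)
        simp only [f, dif_neg hn]
        refine Subtype.ext ?_
        show (x : G) * c * t⁻¹ * t * c = x
        rw [inv_mul_cancel_right, mul_assoc, htt.sq c hc, mul_one]
  obtain ⟨π, he⟩ := hext c hc
  obtain ⟨b1, b2⟩ := elem_cent hK h.core hc he B hBab hBsq fun x hx => hBab x hx c hcB
  rw [hcardB] at b1 b2
  refine ⟨b1, fun hA1024 => ?_⟩
  exfalso
  -- some other member of `B` is moved by `t` to its product with the pair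
  have hP : Pair2 D := pair2_of_indep htt h.ind (by norm_num)
  obtain ⟨x, hxD, hxB, hxc, hxc'⟩ : ∃ x ∈ D, x ∈ B ∧ x ≠ c ∧ x ≠ c' := by
    by_contra hno
    simp only [not_exists, not_and, not_not] at hno
    have hsub : Subgroup.closure {x | x ∈ D ∧ x ∈ B} ≤ Subgroup.closure {c, c'} :=
      Subgroup.closure_mono fun x ⟨h1, h2⟩ => by
        by_cases q : x = c
        · exact Or.inl q
        · exact Or.inr (hno x h1 h2 q)
    have hfour : (Subgroup.closure ({c, c'} : Set G) : Set G) ⊆ {1, c, c', c * c'} := by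
      intro g hg
      induction hg using Subgroup.closure_induction with
      | mem x hx => rcases hx with rfl | rfl <;> simp
      | one => simp
      | mul x y _ _ hx hy =>
        have h1 := htt.sq c hc
        have h2 := htt.sq c' hc'.1
        have hcc : c' * c = c * c' := hc'.2.2.eq.symm
        have h3 : c * c' * c = c' := by rw [mul_assoc, hcc, ← mul_assoc, h1, one_mul]
        have h4 : c' * (c * c') = c := by rw [← mul_assoc, hcc, mul_assoc, h2, mul_one]
        rcases hx with q | q | q | q <;> rcases hy with q' | q' | q' | q' <;> rw [q, q'] <;>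
          simp [h1, h2, h3, h4, hcc, htt.cancel hc, mul_assoc c c' c', ← mul_assoc (c * c') c c']
      | inv x _ hx =>
        rcases hx with q | q | q | q <;> rw [q] <;>
          simp [htt.inv_eq hc, htt.inv_eq hc'.1, hc'.2.2.eq.symm]
    have h1 := Set.ncard_le_ncard (fun g hg => hfour (hsub (b2 hA1024 hg)))
      (Set.toFinite ({1, c, c', c * c'} : Set G))
    have h4 : ({1, c, c', c * c'} : Set G).ncard ≤ 4 := by
      refine (Set.ncard_insert_le _ _).trans (Nat.succ_le_succ ((Set.ncard_insert_le _ _).trans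
        (Nat.succ_le_succ ((Set.ncard_insert_le _ _).trans (by simp)))))
    have h5 : (B : Set G).ncard = 1024 := by
      rw [← Nat.card_coe_set_eq, SetLike.coe_sort_coe, hcardB, hA1024]
    omega
  have htA0 : ∀ u ∈ A0, t * u * t⁻¹ = u := fun u hu => mul_inv_eq_iff_eq_mul.mpr (hab t htA u hu.1).eq
  rcases hBmem x hxB with q | q
  · refine hone ⟨x, hxD, fun g hg => hab g hg x q.1⟩
  · have hx' : t * x * t⁻¹ = x * c * c' := by
      have h1 := htA0 _ q
      calc t * x * t⁻¹ = (t * (x * c) * t⁻¹) * (t * c * t⁻¹) := by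
            rw [show (t * (x * c) * t⁻¹) * (t * c * t⁻¹) = t * (x * (c * c)) * t⁻¹ by group,
              htt.sq c hc, mul_one]
        _ = x * c * c' := by rw [h1, t1]
    have hne : x ≠ t * x * t⁻¹ := fun e => by
      rw [hx', mul_assoc, left_eq_mul, mul_eq_one_iff_eq_inv, htt.inv_eq hc'.1] at e
      exact hc'.2.1 e.symm
    have hcx : Commute x c := hBab x hxB c hcB
    have hcc' : Commute c c' := hc'.2.2
    have hxx' : Commute x (t * x * t⁻¹) := by
      rw [hx']
      refine ((Commute.refl x).mul_right hcx).mul_right ?_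
      have h2 := htA0 _ q
      have h3 : Commute (t * (x * c) * t⁻¹) (t * c * t⁻¹) := commute_conj.mpr
        (hcx.mul_left (Commute.refl c))
      rw [h2, t1] at h3
      calc x * c' = (x * c) * (c * c') := by
            rw [show (x * c) * (c * c') = x * (c * c) * c' by group, htt.sq c hc, mul_one]
        _ = (x * c) * (c' * c) := by rw [hcc'.eq]
        _ = c' * (x * c) * c := by rw [← mul_assoc, h3.eq]
        _ = c' * x := by rw [mul_assoc, mul_assoc x, htt.sq c hc, mul_one]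
    have hprod : x * (t * x * t⁻¹) = c * c' := by
      rw [hx', show x * (x * c * c') = x * x * (c * c') by group, htt.sq x hxD, one_mul]
    rcases hP x hxD _ (htt.conj_mem t x hxD) c hc c' hc'.1 hne (fun e => hc'.2.1 e.symm) hxx' hcc'
      hprod with e | e
    exacts [hxc e, hxc' e]

/-- the bound is attained -/
theorem M22Data.exists_elem (h : M22Data D F) {c : G} (hc : c ∈ D)
    {π : ↥(Subgroup.centralizer ({c} : Set G)) →* Cfsg.PSU 6 K 2}
    (he : TwoExt π ⟨c, mem_cent (Commute.refl c)⟩) :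
    ∃ A : Subgroup G, (∀ x ∈ A, ∀ y ∈ A, Commute x y) ∧ (∀ x ∈ A, x * x = 1) ∧
      Nat.card A = 1024 := by
  classical
  have htt := h.core.tt
  obtain ⟨A0, hA0c, hA0s, h512⟩ := exists_elem_psu hK
  obtain ⟨-, hlift⟩ := members_of_ext hK h.core he (h.core.edge c hc)
  set S : Set G := insert c {y | ∃ hy : y ∈ nb D c, π ⟨y, mem_cent hy.2.2⟩ ∈ A0}
  have hS : ∀ x ∈ S, x ∈ D ∧ Commute c x := by
    rintro x (rfl | ⟨hy, -⟩)
    exacts [⟨hc, Commute.refl _⟩, ⟨hy.1, hy.2.2⟩]
  have hcomS : ∀ x ∈ S, ∀ y ∈ S, Commute x y := by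
    rintro x (rfl | ⟨hx, mx⟩) y hy
    · exact (hS y hy).2
    rcases hy with rfl | ⟨hy, my⟩
    · exact hx.2.2.symm
    by_contra hn
    set X : ↥(Subgroup.centralizer ({c} : Set G)) := ⟨x, mem_cent hx.2.2⟩ with hX
    set Y : ↥(Subgroup.centralizer ({c} : Set G)) := ⟨y, mem_cent hy.2.2⟩ with hY
    have hb1 : X * Y * X = Y * X * Y := Subtype.ext (htt.braid hx.1 hy.1 hn)
    have himg : π X = π Y := by
      have h1 := congrArg π hb1
      simp only [map_mul] at h1
      rw [(hA0c _ mx _ my).eq, mul_assoc, hA0s _ mx, mul_one, mul_assoc, (hA0c _ mx _ my).eq,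
        ← mul_assoc, hA0s _ my, one_mul] at h1
      exact h1.symm
    exact hn (member_inj h.core hc he hx hy himg ▸ Commute.refl x)
  set A := Subgroup.closure S
  have hab : ∀ x ∈ A, ∀ y ∈ A, Commute x y := fun x hx y hy => by
    have hG := Subgroup.isMulCommutative_closure (k := S) fun u hu v hv => (hcomS u hu v hv).eq
    exact congrArg Subtype.val (hG.is_comm.comm ⟨x, hx⟩ ⟨y, hy⟩)
  have hsq : ∀ x ∈ A, x * x = 1 := fun x hx => by
    induction hx using Subgroup.closure_induction with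
    | mem x hx => exact htt.sq x (hS x hx).1
    | one => exact one_mul 1
    | mul x y hx hy ex ey =>
      calc x * y * (x * y) = x * (y * x) * y := by group
        _ = x * (x * y) * y := by rw [(hab y hy x hx).eq]
        _ = (x * x) * (y * y) := by group
        _ = 1 := by rw [ex, ey, one_mul]
    | inv x _ ex => rw [← mul_inv_rev, ex, inv_one]
  have hle : A ≤ Subgroup.centralizer ({c} : Set G) :=
    (Subgroup.closure_le _).mpr fun x hx => mem_cent (hS x hx).2
  let f : ↥A →* Cfsg.PSU 6 K 2 := π.comp (Subgroup.inclusion hle)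
  have hrange : A0 ≤ f.range := by
    refine ((elem_bound_psu hK A0 hA0c hA0s).2 h512).trans ((Subgroup.closure_le _).mpr ?_)
    rintro _ ⟨hmem, v, hv, rfl⟩
    obtain ⟨y, hy, ey⟩ := hlift v hv
    exact ⟨⟨y, Subgroup.subset_closure (Or.inr ⟨hy, ey ▸ hmem⟩)⟩, ey⟩
  have hk : 2 ≤ Nat.card f.ker := by
    haveI : Nontrivial f.ker := ⟨⟨⟨⟨c, Subgroup.subset_closure (Or.inl rfl)⟩, he.π_d hK⟩, 1,
      fun q => h.core.ne_one c hc (congrArg (fun g : f.ker => ((g : ↥A) : G)) q)⟩⟩
    exact Finite.one_lt_card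
  have hr : 512 ≤ Nat.card f.range := h512 ▸ Subgroup.card_le_of_le hrange
  have hmul := Subgroup.card_mul_index f.ker
  rw [Subgroup.index_ker] at hmul
  have hup := (elem_cent hK h.core hc he A hab hsq fun x hx =>
    (Subgroup.mem_centralizer_singleton_iff.mp (hle hx))).1
  refine ⟨A, hab, hsq, le_antisymm hup ?_⟩
  rw [← hmul]
  exact le_trans (by norm_num) (Nat.mul_le_mul hk hr)

omit hK in
theorem isElem_iff {A : Subgroup G} : Cfsg.IsElementaryAbelian 2 A ↔
    (∀ x ∈ A, ∀ y ∈ A, Commute x y) ∧ ∀ x ∈ A, x * x = 1 := by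
  constructor
  · rintro ⟨h1, h2⟩
    exact ⟨fun x hx y hy => congrArg Subtype.val (h1.is_comm.comm ⟨x, hx⟩ ⟨y, hy⟩),
      fun x hx => by rw [← pow_two]; exact h2 x hx⟩
  · rintro ⟨h1, h2⟩
    exact ⟨⟨⟨fun x y => Subtype.ext (h1 _ x.2 _ y.2).eq⟩⟩, fun x hx => by rw [pow_two]; exact h2 x hx⟩

/-- the members in a Sylow 2-subgroup generate its Thompson subgroup -/
theorem M22Data.thompson (h : M22Data D F)
    (hext : ∀ x ∈ D, ∃ π' : ↥(Subgroup.centralizer ({x} : Set G)) →* Cfsg.PSU 6 K 2,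
      TwoExt π' ⟨x, mem_cent (Commute.refl x)⟩) (T : Sylow 2 G) :
    Subgroup.closure {x : G | x ∈ D ∧ x ∈ (T : Subgroup G)} =
      Cfsg.thompsonSubgroupOf 2 (T : Subgroup G) := by
  classical
  haveI : Fact (Nat.Prime 2) := ⟨Nat.prime_two⟩
  have htt := h.core.tt
  obtain ⟨c, hc⟩ := h.nonempty
  obtain ⟨π, he⟩ := hext c hc
  obtain ⟨A1, hab1, hsq1, hcard1⟩ := h.exists_elem hK hc he
  -- move it into `T`
  obtain ⟨P, hP⟩ := (show IsPGroup 2 ↥A1 from fun g => ⟨1, Subtype.ext (by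
    show (g : G) ^ (2 ^ 1) = 1
    rw [pow_one, pow_two, hsq1 _ g.2])⟩).exists_le_sylow
  obtain ⟨g, hg⟩ := MulAction.exists_smul_eq G P T
  set A0 := A1.map (MulAut.conj g).toMonoidHom with hA0
  have hA0T : A0 ≤ (T : Subgroup G) := by
    rw [← hg]
    rintro _ ⟨x, hx, rfl⟩
    exact ⟨x, hP hx, rfl⟩
  have hab0 : ∀ x ∈ A0, ∀ y ∈ A0, Commute x y := by
    rintro _ ⟨x, hx, rfl⟩ _ ⟨y, hy, rfl⟩
    exact (hab1 x hx y hy).map _
  have hsq0 : ∀ x ∈ A0, x * x = 1 := by
    rintro _ ⟨x, hx, rfl⟩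
    rw [← map_mul, hsq1 x hx, map_one]
  have hcard0 : Nat.card A0 = 1024 := by
    rw [hA0, Nat.card_congr (A1.equivMapOfInjective (MulAut.conj g).toMonoidHom
      (MulAut.conj g).injective).symm.toEquiv, hcard1]
  set X := Subgroup.closure {x : G | x ∈ D ∧ x ∈ (T : Subgroup G)}
  have hXmem : ∀ x, x ∈ D → x ∈ (T : Subgroup G) → ∀ y, y ∈ D → y ∈ (T : Subgroup G) →
      Commute x y := fun x hx hxT y hy hyT => by
    by_contra hn
    have hxy : x * y * x * y * x * y = 1 := by
      rw [htt.braid hx hy hn, show y * x * y * y * x * y = y * x * (y * y) * x * y by group,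
        htt.sq y hy, mul_one, show y * x * x * y = y * (x * x) * y by group, htt.sq x hx, mul_one,
        htt.sq y hy]
    obtain ⟨n, hn2⟩ := T.isPGroup' ⟨x * y, mul_mem hxT hyT⟩
    have h2 : (x * y) ^ 2 ^ n = 1 := congrArg Subtype.val hn2
    have h3 : (x * y) ^ 3 = 1 := by
      rw [← hxy]; simp only [pow_succ, pow_zero, one_mul, mul_assoc]
    have h1 : x * y = 1 := by
      have hg := pow_gcd_eq_one.mpr ⟨h2, h3⟩
      rwa [show Nat.gcd (2 ^ n) 3 = 1 from Nat.Coprime.pow_left _ (by norm_num), pow_one] at hg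
    apply hn
    rw [eq_inv_of_mul_eq_one_right h1, htt.inv_eq hx]
  have hXab : ∀ x ∈ X, ∀ y ∈ X, Commute x y := fun x hx y hy => by
    have hG := Subgroup.isMulCommutative_closure (k := {x : G | x ∈ D ∧ x ∈ (T : Subgroup G)})
      fun u hu v hv => (hXmem u hu.1 hu.2 v hv.1 hv.2).eq
    exact congrArg Subtype.val (hG.is_comm.comm ⟨x, hx⟩ ⟨y, hy⟩)
  have hXsq : ∀ x ∈ X, x * x = 1 := fun x hx => by
    induction hx using Subgroup.closure_induction with
    | mem x hx => exact htt.sq x hx.1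
    | one => exact one_mul 1
    | mul x y hx hy ex ey =>
      calc x * y * (x * y) = x * (y * x) * y := by group
        _ = x * (x * y) * y := by rw [(hXab y hy x hx).eq]
        _ = (x * x) * (y * y) := by group
        _ = 1 := by rw [ex, ey, one_mul]
    | inv x _ ex => rw [← mul_inv_rev, ex, inv_one]
  have hA0X : A0 ≤ X := ((h.elem_bound hK hext A0 hab0 hsq0).2 hcard0).trans
    (Subgroup.closure_mono fun x ⟨h1, h2⟩ => ⟨h1, hA0T h2⟩)
  have hXeq : A0 = X := Subgroup.eq_of_le_of_card_ge hA0X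
    (hcard0 ▸ (h.elem_bound hK hext X hXab hXsq).1)
  have conv : ∀ B : Subgroup ↥(T : Subgroup G), Cfsg.IsElementaryAbelian 2 B →
      (∀ x ∈ B.map (T : Subgroup G).subtype, ∀ y ∈ B.map (T : Subgroup G).subtype, Commute x y) ∧
        ∀ x ∈ B.map (T : Subgroup G).subtype, x * x = 1 := by
    intro B hB
    obtain ⟨h1, h2⟩ := isElem_iff.mp hB
    refine ⟨?_, ?_⟩
    · rintro _ ⟨x, hx, rfl⟩ _ ⟨y, hy, rfl⟩; exact (h1 x hx y hy).map _
    · rintro _ ⟨x, hx, rfl⟩; rw [← map_mul, h2 x hx, map_one]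
  have hcardmap : ∀ B : Subgroup ↥(T : Subgroup G),
      Nat.card (B.map (T : Subgroup G).subtype) = Nat.card B := fun B =>
    (Nat.card_congr (B.equivMapOfInjective _ (Subgroup.subtype_injective _)).toEquiv).symm
  refine le_antisymm ?_ ?_
  · have hmax : A0.subgroupOf (T : Subgroup G) ∈
        Cfsg.maxElementaryAbelianSubgroups 2 ↥(T : Subgroup G) := by
      refine ⟨isElem_iff.mpr ⟨fun x hx y hy => Subtype.ext (hab0 _ hx _ hy).eq,
        fun x hx => Subtype.ext (hsq0 _ hx)⟩, fun B hB => ?_⟩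
      rw [Nat.card_congr (Subgroup.subgroupOfEquivOfLe hA0T).toEquiv, hcard0, ← hcardmap B]
      exact (h.elem_bound hK hext _ (conv B hB).1 (conv B hB).2).1
    rw [← hXeq]
    intro x hx
    exact ⟨⟨x, hA0T hx⟩, Subgroup.mem_sSup_of_mem hmax hx, rfl⟩
  · unfold Cfsg.thompsonSubgroupOf Cfsg.thompsonSubgroup
    rw [Subgroup.map_le_iff_le_comap]
    refine sSup_le fun B ⟨hB, hBmax⟩ => ?_
    rw [← Subgroup.map_le_iff_le_comap]
    have h1 := hBmax (A0.subgroupOf (T : Subgroup G)) (isElem_iff.mpr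
      ⟨fun x hx y hy => Subtype.ext (hab0 _ hx _ hy).eq, fun x hx => Subtype.ext (hsq0 _ hx)⟩)
    rw [Nat.card_congr (Subgroup.subgroupOfEquivOfLe hA0T).toEquiv, hcard0, ← hcardmap B] at h1
    obtain ⟨b1, b2⟩ := h.elem_bound hK hext _ (conv B hB).1 (conv B hB).2
    exact (b2 (le_antisymm b1 h1)).trans (Subgroup.closure_mono fun x hx =>
      ⟨hx.1, Subgroup.map_subtype_le B hx.2⟩)

end

end Cfsg.Agent.H93
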