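import Cfsg.Agent.H93.U6Twist

/-!
Without twist the groups of three planes would give a complement to the central involution in a Sylow
2-subgroup, which a perfect group does not allow.
-/

set_option autoImplicit false

namespace Cfsg.Agent.H93

/-- a product of two subgroups, the second normalising the first -/
theorem sup_of_normalised {G : Type*} [Group G] {A B : Subgroup G}
    (hn : ∀ b ∈ B, ∀ a ∈ A, b * a * b⁻¹ ∈ A) :
    (∀ x ∈ A ⊔ B, ∃ a ∈ A, ∃ b ∈ B, x = a * b) ∧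
      ((∀ x ∈ A, x ∈ B → x = 1) → Nat.card ↥(A ⊔ B) = Nat.card A * Nat.card B) := by
  have h1 : ∀ x ∈ A ⊔ B, ∃ a ∈ A, ∃ b ∈ B, x = a * b := by
    have hle : A ⊔ B ≤
        { carrier := {x | ∃ a ∈ A, ∃ b ∈ B, x = a * b}
          one_mem' := ⟨1, A.one_mem, 1, B.one_mem, (one_mul 1).symm⟩
          mul_mem' := by
            rintro _ _ ⟨a, ha, b, hb', rfl⟩ ⟨a', ha', b', hb'', rfl⟩
            exact ⟨a * (b * a' * b⁻¹), A.mul_mem ha (hn b hb' a' ha'), b * b', B.mul_mem hb' hb'',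
              by group⟩
          inv_mem' := by
            rintro _ ⟨a, ha, b, hb', rfl⟩
            refine ⟨b⁻¹ * a⁻¹ * b, ?_, b⁻¹, B.inv_mem hb', by group⟩
            have := hn b⁻¹ (B.inv_mem hb') a⁻¹ (A.inv_mem ha)
            rwa [inv_inv] at this } :=
      sup_le (fun a ha => ⟨a, ha, 1, B.one_mem, (mul_one a).symm⟩)
        (fun b hb' => ⟨1, A.one_mem, b, hb', (one_mul b).symm⟩)
    exact fun x hx => hle hx
  refine ⟨h1, fun hd => ?_⟩
  rw [← Nat.card_prod]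
  refine (Nat.card_eq_of_bijective (fun q : ↥A × ↥B => (⟨(q.1 : G) * q.2,
    mul_mem (Subgroup.mem_sup_left q.1.2) (Subgroup.mem_sup_right q.2.2)⟩ : ↥(A ⊔ B))) ⟨?_, ?_⟩).symm
  · rintro ⟨a, b⟩ ⟨a', b'⟩ e
    have e' : (a : G) * b = a' * b' := congrArg Subtype.val e
    have hh : (a' : G)⁻¹ * a = b' * (b : G)⁻¹ := by
      rw [inv_mul_eq_iff_eq_mul, ← mul_assoc, ← e', mul_inv_cancel_right]
    have h0 := hd _ (A.mul_mem (A.inv_mem a'.2) a.2) (hh ▸ B.mul_mem b'.2 (B.inv_mem b.2))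
    have ea : a = a' := Subtype.ext (inv_mul_eq_one.mp h0).symm
    subst ea
    exact Prod.ext rfl (Subtype.ext (mul_left_cancel e'))
  · rintro ⟨x, hx⟩
    obtain ⟨a, ha, b, hb', rfl⟩ := h1 x hx
    exact ⟨(⟨a, ha⟩, ⟨b, hb'⟩), rfl⟩

variable {F : Type*} [Field F] [Fintype F] (hF : Fintype.card F = 4) {C : Type*} [Group C]
  {π : C →* Cfsg.PSU 6 F 2} {d : C} {Y : Vec F → C}

/-- the group generated by the class of a plane -/
def planeGp (Y : Vec F → C) (P : Fin 3 → Vec F) : Subgroup C :=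
  Subgroup.closure {y | ∃ v, IsPt v ∧ v ∈ Submodule.span F (Set.range P) ∧ y = Y v}

include hF

/-- the order of `PSU 6 F 2` -/
theorem card_psu_six : Nat.card (Cfsg.PSU 6 F 2) = 2 ^ 15 * 280665 := by
  have h2 := card_eq_sq hF
  have e1 := Cfsg.Agent.Unitary.card_GU h2 6
  have e2 := Cfsg.Agent.Unitary.card_GU_eq_mul_card_SU (n := 6) h2 (by norm_num)
  have e3 := Cfsg.Agent.Unitary.card_PSU (n := 6) h2 (by norm_num)
  rw [e2, ← e3] at e1
  rw [show Nat.gcd 6 (2 + 1) = 3 by decide] at e1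
  simp [Finset.prod_range_succ, Cfsg.Agent.Unitary.guFactor, parity_simps] at e1
  omega

namespace Plane

variable {P Q : Fin 3 → Vec F} (p : Plane P Q)

omit [Group C] in
theorem fix_sq {g : ↥(Cfsg.SU 6 F 2)} (hg : p.Fix g) : g * g = 1 :=
  (elem_closure (fun t ht => p.tvs_sq hF ht) (fun s hs t ht => p.tvs_commute hF hs ht)).2 g
    (p.closure_tvs hF hg)

omit [Group C] in
/-- the displacement in coordinates -/
theorem move_eq {g : ↥(Cfsg.SU 6 F 2)} (hg : p.Fix g) (x : Vec F) :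
    act g x + x = H g x (Q 0) • P 0 + H g x (Q 1) • P 1 + H g x (Q 2) • P 2 := by
  refine vec_eq_of_add hF (p.eq_of_coord hF (fun j => p.hb_plane hF (Submodule.add_mem _
    (p.move_mem hF hg x) ?_) (Submodule.subset_span ⟨j, rfl⟩)) fun j => ?_)
  · exact Submodule.add_mem _ (Submodule.add_mem _
      (Submodule.smul_mem _ _ (Submodule.subset_span ⟨0, rfl⟩))
      (Submodule.smul_mem _ _ (Submodule.subset_span ⟨1, rfl⟩)))
      (Submodule.smul_mem _ _ (Submodule.subset_span ⟨2, rfl⟩))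
  · simp only [hb_add_left (act g x + x), hb_add_left (_ + _), hb_add_left (_ • P 0), hb_smul_left,
      p.dual' hF, H]
    fin_cases j <;> simp [add_self_zero hF]

omit [Group C] in
theorem act_eq {g : ↥(Cfsg.SU 6 F 2)} (hg : p.Fix g) (x : Vec F) :
    act g x = x + (H g x (Q 0) • P 0 + H g x (Q 1) • P 1 + H g x (Q 2) • P 2) := by
  rw [← p.move_eq hF hg x, add_left_comm, vec_add_self hF, add_zero]

omit [Group C] in
theorem fix_one : p.Fix (1 : ↥(Cfsg.SU 6 F 2)) := fun i => act_one _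

omit [Group C] in
theorem H_one (x y : Vec F) : H (1 : ↥(Cfsg.SU 6 F 2)) x y = 0 := by
  rw [H, act_one, vec_add_self hF, hb_zero_left]

/-- the elements whose form has only the two entries in the first row off the diagonal -/
def rowGp : Subgroup ↥(Cfsg.SU 6 F 2) where
  carrier := {g | p.Fix g ∧ H g (Q 0) (Q 0) = 0 ∧ H g (Q 1) (Q 1) = 0 ∧ H g (Q 2) (Q 2) = 0 ∧
    H g (Q 1) (Q 2) = 0}
  one_mem' := ⟨p.fix_one hF, Plane.H_one hF _ _, Plane.H_one hF _ _, Plane.H_one hF _ _, Plane.H_one hF _ _⟩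
  mul_mem' := fun {g g'} hg hg' => ⟨p.fix_mul hF hg.1 hg'.1, by
    rw [p.H_mul hF hg.1 hg'.1, hg.2.1, hg'.2.1, add_zero], by
    rw [p.H_mul hF hg.1 hg'.1, hg.2.2.1, hg'.2.2.1, add_zero], by
    rw [p.H_mul hF hg.1 hg'.1, hg.2.2.2.1, hg'.2.2.2.1, add_zero], by
    rw [p.H_mul hF hg.1 hg'.1, hg.2.2.2.2, hg'.2.2.2.2, add_zero]⟩
  inv_mem' := fun {g} hg => by
    have : g⁻¹ = g := inv_eq_of_mul_eq_one_left (p.fix_sq hF hg.1)
    rwa [this]

/-- the elements whose form has only the entry at the second and third place -/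
def entryGp : Subgroup ↥(Cfsg.SU 6 F 2) where
  carrier := {g | p.Fix g ∧ H g (Q 0) (Q 0) = 0 ∧ H g (Q 1) (Q 1) = 0 ∧ H g (Q 2) (Q 2) = 0 ∧
    H g (Q 0) (Q 1) = 0 ∧ H g (Q 0) (Q 2) = 0}
  one_mem' := ⟨p.fix_one hF, Plane.H_one hF _ _, Plane.H_one hF _ _, Plane.H_one hF _ _, Plane.H_one hF _ _,
    Plane.H_one hF _ _⟩
  mul_mem' := fun {g g'} hg hg' => ⟨p.fix_mul hF hg.1 hg'.1, by
    rw [p.H_mul hF hg.1 hg'.1, hg.2.1, hg'.2.1, add_zero], by
    rw [p.H_mul hF hg.1 hg'.1, hg.2.2.1, hg'.2.2.1, add_zero], by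
    rw [p.H_mul hF hg.1 hg'.1, hg.2.2.2.1, hg'.2.2.2.1, add_zero], by
    rw [p.H_mul hF hg.1 hg'.1, hg.2.2.2.2.1, hg'.2.2.2.2.1, add_zero], by
    rw [p.H_mul hF hg.1 hg'.1, hg.2.2.2.2.2, hg'.2.2.2.2.2, add_zero]⟩
  inv_mem' := fun {g} hg => by
    have : g⁻¹ = g := inv_eq_of_mul_eq_one_left (p.fix_sq hF hg.1)
    rwa [this]

omit [Group C] in
theorem card_rowGp : Nat.card (p.rowGp hF) = 16 := by
  have h16 : Nat.card (F × F) = 16 := by rw [Nat.card_prod, card_field hF]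
  rw [← h16]
  refine Nat.card_eq_of_bijective (fun g => (H g.1 (Q 0) (Q 1), H g.1 (Q 0) (Q 2))) ⟨fun g g' e => ?_,
    fun ⟨u, v⟩ => ?_⟩
  · simp only [Prod.mk.injEq] at e
    exact Subtype.ext (p.six hF g.2.1 g'.2.1 (g.2.2.1.trans g'.2.2.1.symm)
      (g.2.2.2.1.trans g'.2.2.2.1.symm) (g.2.2.2.2.1.trans g'.2.2.2.2.1.symm) e.1 e.2
      (g.2.2.2.2.2.trans g'.2.2.2.2.2.symm))
  · obtain ⟨r, hr, e0, e1, e2, e01, e02, e12⟩ :=
      p.realise hF ⟨0, mul_zero 0⟩ ⟨0, mul_zero 0⟩ ⟨0, mul_zero 0⟩ u v 0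
    exact ⟨⟨r, hr, e0, e1, e2, e12⟩, Prod.ext e01 e02⟩

omit [Group C] in
theorem card_entryGp : Nat.card (p.entryGp hF) = 4 := by
  refine (Nat.card_eq_of_bijective (fun g : ↥(p.entryGp hF) => H g.1 (Q 1) (Q 2))
    ⟨fun g g' e => ?_, fun z => ?_⟩).trans (card_field hF)
  · exact Subtype.ext (p.six hF g.2.1 g'.2.1 (g.2.2.1.trans g'.2.2.1.symm)
      (g.2.2.2.1.trans g'.2.2.2.1.symm) (g.2.2.2.2.1.trans g'.2.2.2.2.1.symm)
      (g.2.2.2.2.2.1.trans g'.2.2.2.2.2.1.symm) (g.2.2.2.2.2.2.trans g'.2.2.2.2.2.2.symm) e)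
  · obtain ⟨r, hr, e0, e1, e2, e01, e02, e12⟩ :=
      p.realise hF ⟨0, mul_zero 0⟩ ⟨0, mul_zero 0⟩ ⟨0, mul_zero 0⟩ 0 0 z
    exact ⟨⟨r, hr, e0, e1, e2, e01, e02⟩, e12⟩

omit [Group C] in
theorem fix_preserves {R : Fin 3 → Vec F} {g : ↥(Cfsg.SU 6 F 2)} {S : Submodule F (Vec F)}
    (h : ∀ i, act g (R i) ∈ S) {x : Vec F} (hx : x ∈ Submodule.span F (Set.range R)) :
    act g x ∈ S := by
  have hle : Submodule.span F (Set.range R) ≤ S.comap (actL g) := Submodule.span_le.mpr (by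
    rintro _ ⟨i, rfl⟩
    exact h i)
  exact hle hx

end Plane

namespace PtClass

open Plane (H H_add_left H_add_right H_smul_left H_smul_right)

variable (K : PtClass hF π d Y) {P Q : Fin 3 → Vec F} (p : Plane P Q)

include K

theorem planeGp_le : planeGp Y P ≤ prePlane hF π p := by
  refine (Subgroup.closure_le _).mpr ?_
  rintro _ ⟨v, hv, hvP, rfl⟩
  exact K.Y_mem hF p hv hvP

theorem planeGp_inj (hno : NoTwist π Y) (p : Plane P Q) {x : C} (hx : x ∈ planeGp Y P)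
    (e : π x = 1) : x = 1 := by
  rcases K.ext.ker x e with h | h
  · exact h
  · exact absurd (h ▸ hx) (K.not_mem_planeGp hF hno p)

theorem planeGp_surj {g : ↥(Cfsg.SU 6 F 2)} (hg : p.Fix g) :
    ∃ x ∈ planeGp Y P, π x = QuotientGroup.mk g := by
  have hle : (Subgroup.closure (p.tvs hF)).map (QuotientGroup.mk' _) ≤ (planeGp Y P).map π := by
    rw [MonoidHom.map_closure, Subgroup.closure_le]
    rintro _ ⟨_, ⟨v, hv, hvP, rfl⟩, rfl⟩
    exact ⟨Y v, Subgroup.subset_closure ⟨v, hv, hvP, rfl⟩, K.img v hv⟩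
  obtain ⟨x, hx, e⟩ := hle ⟨g, p.closure_tvs hF hg, rfl⟩
  exact ⟨x, hx, e⟩

/-- lifting a group of elements fixing the plane -/
theorem card_lift (hno : NoTwist π Y) {E : Subgroup ↥(Cfsg.SU 6 F 2)} (hE : ∀ g ∈ E, p.Fix g) :
    Nat.card ↥(planeGp Y P ⊓ (E.map (QuotientGroup.mk' _)).comap π) = Nat.card E := by
  classical
  choose x hx ex using fun g : ↥E => K.planeGp_surj hF p (hE g.1 g.2)
  refine (Nat.card_eq_of_bijective (fun g : ↥E =>
    (⟨x g, hx g, ⟨g.1, g.2, (ex g).symm⟩⟩ :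
      ↥(planeGp Y P ⊓ (E.map (QuotientGroup.mk' _)).comap π))) ⟨fun g g' e => ?_, ?_⟩).symm
  · have e' := congrArg (fun y => π (Subtype.val y)) e
    simp only [ex] at e'
    exact Subtype.ext (mk_inj_of_sq hF (p.fix_sq hF (hE _ g.2)) (p.fix_sq hF (hE _ g'.2)) e')
  · rintro ⟨y, hy, g, hg, eg⟩
    refine ⟨⟨g, hg⟩, Subtype.ext ?_⟩
    have h1 : π ((x ⟨g, hg⟩)⁻¹ * y) = 1 := by
      rw [map_mul, map_inv, ex, ← eg]; exact inv_mul_cancel _
    exact inv_mul_eq_one.mp (K.planeGp_inj hF hno p (mul_mem (inv_mem (hx _)) hy) h1)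

theorem conj_planeGp {k : C} {g : ↥(Cfsg.SU 6 F 2)} (hk : π k = QuotientGroup.mk g)
    (hg : ∀ i, act g (P i) ∈ Submodule.span F (Set.range P)) {x : C} (hx : x ∈ planeGp Y P) :
    k * x * k⁻¹ ∈ planeGp Y P := by
  have hle : planeGp Y P ≤ (planeGp Y P).comap (MulAut.conj k).toMonoidHom := by
    refine (Subgroup.closure_le _).mpr ?_
    rintro _ ⟨v, hv, hvP, rfl⟩
    show k * Y v * k⁻¹ ∈ planeGp Y P
    rw [K.conj_act hF hk hv]
    exact Subgroup.subset_closure ⟨_, act_pt g hv, Plane.fix_preserves hF hg hvP, rfl⟩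
  exact hle hx

/-- a perfect two-fold extension is twisted -/
theorem exists_twist [Finite C] (hperf : commutator C = ⊤) :
    ∃ R S R' S' : Fin 3 → Vec F, Plane R S ∧ Plane R' S' ∧ tri Y R' = tri Y R * d := by
  by_contra hall
  have hno : NoTwist π Y := fun R S R' S' r r' e => by
    rcases K.ext.eq_or e with q | q
    · exact q.symm
    · exact absurd ⟨R, S, R', S', r, r', q⟩ hall
  clear hall
  obtain ⟨P, Q, p, hQ⟩ := exists_hyp hF
  have z := fun {u v : Vec F} (e : hb u v = 0) => (hb_eq_zero_comm hF).mp e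
  have hd1 : ∀ i j, hb (P i) (Q j) = if j = i then (1 : F) else 0 := p.dual' hF
  obtain ⟨Q1, p1⟩ : ∃ B, Plane ![P 0, Q 1, Q 2] B ∧ B = ![Q 0, P 1, P 2] := by
    refine ⟨_, ⟨?_, ?_, ?_⟩, rfl⟩
    · rw [Fintype.linearIndependent_iff]
      intro g hg i
      simp only [Fin.sum_univ_three, Matrix.cons_val_zero, Matrix.cons_val_one, Matrix.cons_val_two,
        Matrix.tail_cons, Matrix.head_cons] at hg
      have e0 := congrArg (fun v => hb v (Q 0)) hg
      have e1 := congrArg (fun v => hb v (P 1)) hg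
      have e2 := congrArg (fun v => hb v (P 2)) hg
      simp [hb_add_left, hb_smul_left, hb_zero_left, hd1, p.dual, p.orth, hQ] at e0 e1 e2
      fin_cases i <;> assumption
    · intro i j
      fin_cases i <;> fin_cases j <;> simp [hd1, p.dual, p.orth, hQ]
    · intro i j
      fin_cases i <;> fin_cases j <;> simp [hd1, p.dual, p.orth, hQ]
  obtain ⟨p1, rfl⟩ := p1
  obtain ⟨Q2, p2⟩ : ∃ B, Plane ![P 0, P 1, Q 2] B ∧ B = ![Q 0, Q 1, P 2] := by
    refine ⟨_, ⟨?_, ?_, ?_⟩, rfl⟩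
    · rw [Fintype.linearIndependent_iff]
      intro g hg i
      simp only [Fin.sum_univ_three, Matrix.cons_val_zero, Matrix.cons_val_one, Matrix.cons_val_two,
        Matrix.tail_cons, Matrix.head_cons] at hg
      have e0 := congrArg (fun v => hb v (Q 0)) hg
      have e1 := congrArg (fun v => hb v (Q 1)) hg
      have e2 := congrArg (fun v => hb v (P 2)) hg
      simp [hb_add_left, hb_smul_left, hb_zero_left, hd1, p.dual, p.orth, hQ] at e0 e1 e2
      fin_cases i <;> assumption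
    · intro i j
      fin_cases i <;> fin_cases j <;> simp [hd1, p.dual, p.orth, hQ]
    · intro i j
      fin_cases i <;> fin_cases j <;> simp [hd1, p.dual, p.orth, hQ]
  obtain ⟨p2, rfl⟩ := p2
  -- the action of the two small groups
  have act1 : ∀ g ∈ p1.rowGp hF, act g (P 0) = P 0 ∧ act g (P 1) = P 1 + H g (P 1) (Q 0) • P 0 ∧
      act g (P 2) = P 2 + H g (P 2) (Q 0) • P 0 := by
    rintro g ⟨hg, -, h11, h22, h12⟩
    have h21 : H g (P 2) (P 1) = 0 := by
      rw [p1.herm hF hg (P 2) (P 1)]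
      rw [show H g (P 1) (P 2) = 0 from h12, zero_pow two_ne_zero]
    refine ⟨hg 0, ?_, ?_⟩
    · have := p1.act_eq hF hg (P 1)
      simpa [show H g (P 1) (P 1) = 0 from h11, show H g (P 1) (P 2) = 0 from h12] using this
    · have := p1.act_eq hF hg (P 2)
      simpa [h21, show H g (P 2) (P 2) = 0 from h22] using this
  have act2 : ∀ g ∈ p2.entryGp hF, act g (P 0) = P 0 ∧ act g (P 1) = P 1 ∧
      act g (P 2) = P 2 + H g (P 2) (Q 1) • P 1 ∧ act g (Q 0) = Q 0 ∧
      act g (Q 1) = Q 1 + H g (Q 1) (P 2) • Q 2 ∧ act g (Q 2) = Q 2 := by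
    rintro g ⟨hg, h00, h11, h22, h01, h02⟩
    have h20 : H g (P 2) (Q 0) = 0 := by
      rw [p2.herm hF hg (P 2) (Q 0), show H g (Q 0) (P 2) = 0 from h02, zero_pow two_ne_zero]
    have h10 : H g (Q 1) (Q 0) = 0 := by
      rw [p2.herm hF hg (Q 1) (Q 0), show H g (Q 0) (Q 1) = 0 from h01, zero_pow two_ne_zero]
    refine ⟨hg 0, hg 1, ?_, ?_, ?_, hg 2⟩
    · have := p2.act_eq hF hg (P 2)
      simpa [h20, show H g (P 2) (P 2) = 0 from h22] using this
    · have := p2.act_eq hF hg (Q 0)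
      simpa [show H g (Q 0) (Q 0) = 0 from h00, show H g (Q 0) (Q 1) = 0 from h01,
        show H g (Q 0) (P 2) = 0 from h02] using this
    · have := p2.act_eq hF hg (Q 1)
      simpa [h10, show H g (Q 1) (Q 1) = 0 from h11] using this
  have sP : ∀ i, P i ∈ Submodule.span F (Set.range P) := fun i => Submodule.subset_span ⟨i, rfl⟩
  have s1 : ∀ i, ![P 0, Q 1, Q 2] i ∈ Submodule.span F (Set.range ![P 0, Q 1, Q 2]) := fun i =>
    Submodule.subset_span ⟨i, rfl⟩
  set W0 := planeGp Y P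
  set X1 := planeGp Y ![P 0, Q 1, Q 2] ⊓
    ((p1.rowGp hF).map (QuotientGroup.mk' (Subgroup.center ↥(Cfsg.SU 6 F 2)))).comap π with hX1
  set X2 := planeGp Y ![P 0, P 1, Q 2] ⊓
    ((p2.entryGp hF).map (QuotientGroup.mk' (Subgroup.center ↥(Cfsg.SU 6 F 2)))).comap π with hX2
  have pres1 : ∀ g ∈ p1.rowGp hF, ∀ i, act g (P i) ∈ Submodule.span F (Set.range P) := by
    intro g hg i
    obtain ⟨a0, a1, a2⟩ := act1 g hg
    fin_cases i
    · show act g (P 0) ∈ _; rw [a0]; exact sP 0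
    · show act g (P 1) ∈ _; rw [a1]; exact Submodule.add_mem _ (sP 1) (Submodule.smul_mem _ _ (sP 0))
    · show act g (P 2) ∈ _; rw [a2]; exact Submodule.add_mem _ (sP 2) (Submodule.smul_mem _ _ (sP 0))
  have pres2 : ∀ g ∈ p2.entryGp hF, (∀ i, act g (P i) ∈ Submodule.span F (Set.range P)) ∧
      ∀ i, act g (![P 0, Q 1, Q 2] i) ∈ Submodule.span F (Set.range ![P 0, Q 1, Q 2]) := by
    intro g hg
    obtain ⟨a0, a1, a2, -, b1, b2⟩ := act2 g hg
    refine ⟨fun i => ?_, fun i => ?_⟩ <;> fin_cases i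
    · show act g (P 0) ∈ _; rw [a0]; exact sP 0
    · show act g (P 1) ∈ _; rw [a1]; exact sP 1
    · show act g (P 2) ∈ _; rw [a2]; exact Submodule.add_mem _ (sP 2) (Submodule.smul_mem _ _ (sP 1))
    · show act g (P 0) ∈ _; rw [a0]; exact s1 0
    · show act g (Q 1) ∈ _; rw [b1]
      exact Submodule.add_mem _ (s1 1) (Submodule.smul_mem _ _ (s1 2))
    · show act g (Q 2) ∈ _; rw [b2]; exact s1 2
  have n10 : ∀ b ∈ X1, ∀ a ∈ W0, b * a * b⁻¹ ∈ W0 := by
    rintro b ⟨-, g, hg, eg⟩ a ha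
    exact K.conj_planeGp hF eg.symm (pres1 g hg) ha
  have n20 : ∀ b ∈ X2, ∀ a ∈ W0, b * a * b⁻¹ ∈ W0 := by
    rintro b ⟨-, g, hg, eg⟩ a ha
    exact K.conj_planeGp hF eg.symm (pres2 g hg).1 ha
  have n21 : ∀ b ∈ X2, ∀ a ∈ X1, b * a * b⁻¹ ∈ X1 := by
    rintro b ⟨-, g, hg, eg⟩ a ⟨ha, g1, hg1, eg1⟩
    refine ⟨K.conj_planeGp hF eg.symm (pres2 g hg).2 ha, g * g1 * g⁻¹, ?_, ?_⟩
    · obtain ⟨b0, b1, b2, b3, -, -⟩ := act2 g hg
      have hgg : g * g = 1 := p2.fix_sq hF hg.1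
      have hgi : g⁻¹ = g := inv_eq_of_mul_eq_one_left hgg
      obtain ⟨f1, h00, h11, h22, h12⟩ := hg1
      have h21 : H g1 (P 2) (P 1) = 0 := by
        rw [p1.herm hF f1 (P 2) (P 1), show H g1 (P 1) (P 2) = 0 from h12, zero_pow two_ne_zero]
      have hH : ∀ x y, H (g * g1 * g⁻¹) x y = H g1 (act g x) (act g y) := fun x y => by
        simp only [H]
        rw [hgi, act_mul, act_mul, ← act_hb g (act g1 (act g x) + act g x) (act g y), act_add,
          ← act_mul g g x, ← act_mul g g y, hgg, act_one, act_one]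
      refine ⟨fun i => ?_, ?_, ?_, ?_, ?_⟩
      · have hm : act g (![P 0, Q 1, Q 2] i) ∈ Submodule.span F (Set.range ![P 0, Q 1, Q 2]) :=
          (pres2 g hg).2 i
        rw [hgi, act_mul, act_mul, p1.fix_span hF f1 hm, ← act_mul, hgg, act_one]
      · rw [hH]
        show H g1 (act g (Q 0)) (act g (Q 0)) = 0
        rw [b3]; exact h00
      · rw [hH]
        show H g1 (act g (P 1)) (act g (P 1)) = 0
        rw [b1]; exact h11
      · rw [hH]
        show H g1 (act g (P 2)) (act g (P 2)) = 0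
        rw [b2]
        simp only [H_add_left hF, H_add_right hF, H_smul_left hF, H_smul_right hF,
          show H g1 (P 2) (P 2) = 0 from h22, show H g1 (P 1) (P 1) = 0 from h11,
          show H g1 (P 1) (P 2) = 0 from h12, h21, mul_zero, add_zero]
      · rw [hH]
        show H g1 (act g (P 1)) (act g (P 2)) = 0
        rw [b1, b2]
        simp only [H_add_right hF, H_smul_right hF, show H g1 (P 1) (P 1) = 0 from h11,
          show H g1 (P 1) (P 2) = 0 from h12, mul_zero, add_zero]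
    · simp only [map_mul, map_inv, eg, eg1]
  -- elements fixing the first point
  have central1 : ∀ {g h : ↥(Cfsg.SU 6 F 2)}, act g (P 0) = P 0 → act h (P 0) = P 0 →
      (QuotientGroup.mk g : Cfsg.PSU 6 F 2) = QuotientGroup.mk h → g = h := by
    intro g h g0 h0 e
    obtain ⟨a, -, ha⟩ := central_scalar hF (QuotientGroup.eq.mp e)
    have h1 := ha (P 0)
    rw [act_mul, h0] at h1
    nth_rewrite 1 [← g0] at h1
    rw [act_inv_left] at h1
    have a1 : a = 1 := by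
      have := congrArg (fun v => hb v (Q 0)) h1
      simpa [hb_smul_left, hd1] using this.symm
    refine (inv_mul_eq_one.mp (act_ext fun x => ?_))
    rw [ha, a1, one_smul, act_one]
  have d01 : ∀ x ∈ W0, ∀ y ∈ X1, π x = π y → y = 1 := by
    rintro x hx0 y ⟨hyW, g, hg, eg⟩ exy
    obtain ⟨g0, -, hfix, e0⟩ := K.exists_fix hF p (K.planeGp_le hF p hx0)
    obtain ⟨a0, a1, a2⟩ := act1 g hg
    have heq := central1 a0 (hfix 0) (eg.trans (exy.symm.trans e0))
    rw [heq, hfix 1, left_eq_add, smul_eq_zero] at a1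
    rw [heq, hfix 2, left_eq_add, smul_eq_zero] at a2
    have k1 := a1.resolve_right (p.pt 0).1
    have k2 := a2.resolve_right (p.pt 0).1
    have hg1 : g0 = 1 := by
      rw [← heq]
      refine p1.six hF hg.1 (p1.fix_one hF) ?_ ?_ ?_ ?_ ?_ ?_ <;> rw [Plane.H_one hF]
      · exact hg.2.1
      · exact hg.2.2.1
      · exact hg.2.2.2.1
      · show H g (Q 0) (P 1) = 0
        rw [p1.herm hF hg.1, heq, k1, zero_pow two_ne_zero]
      · show H g (Q 0) (P 2) = 0
        rw [p1.herm hF hg.1, heq, k2, zero_pow two_ne_zero]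
      · exact hg.2.2.2.2
    refine K.planeGp_inj hF hno p1 hyW ?_
    rw [← exy, e0, hg1]; rfl
  obtain ⟨hprod, hcard01⟩ := sup_of_normalised n10
  have n2 : ∀ b ∈ X2, ∀ a ∈ W0 ⊔ X1, b * a * b⁻¹ ∈ W0 ⊔ X1 := by
    intro b hb' a ha
    obtain ⟨u, hu, v, hv, rfl⟩ := hprod a ha
    rw [show b * (u * v) * b⁻¹ = (b * u * b⁻¹) * (b * v * b⁻¹) by group]
    exact mul_mem (Subgroup.mem_sup_left (n20 b hb' u hu)) (Subgroup.mem_sup_right (n21 b hb' v hv))
  have dimg : ∀ x ∈ W0 ⊔ X1, ∀ y ∈ X2, π x = π y → y = 1 := by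
    intro x hx y hy e
    obtain ⟨u, hu, v, ⟨-, g1, hg1, eg1⟩, rfl⟩ := hprod x hx
    obtain ⟨g0, -, hfix, e0⟩ := K.exists_fix hF p (K.planeGp_le hF p hu)
    obtain ⟨hyW, g2, hg2, eg2⟩ := hy
    obtain ⟨a0, -, a2⟩ := act1 g1 hg1
    obtain ⟨b0, -, b2, -⟩ := act2 g2 hg2
    rw [map_mul, e0, ← eg1, ← eg2] at e
    have heq : g0 * g1 = g2 :=
      central1 (by rw [act_mul, a0, hfix 0]) b0 (by rw [QuotientGroup.mk_mul]; exact e)
    have k := b2
    rw [← heq, act_mul, a2, act_add, act_smul, hfix 2, hfix 0] at k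
    have c0 := congrArg (fun v => hb v (Q 1)) k
    simp [hb_add_left, hb_smul_left, hd1] at c0
    have hg21 : g2 = 1 := by
      refine p2.six hF hg2.1 (p2.fix_one hF) ?_ ?_ ?_ ?_ ?_ ?_ <;> rw [Plane.H_one hF]
      · exact hg2.2.1
      · exact hg2.2.2.1
      · exact hg2.2.2.2.1
      · exact hg2.2.2.2.2.1
      · exact hg2.2.2.2.2.2
      · show H g2 (Q 1) (P 2) = 0
        rw [p2.herm hF hg2.1, ← heq, ← c0, zero_pow two_ne_zero]
    refine K.planeGp_inj hF hno p2 hyW ?_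
    rw [← eg2, hg21]; rfl
  obtain ⟨hprod', hcard'⟩ := sup_of_normalised n2
  set M := (W0 ⊔ X1) ⊔ X2
  have hdM : d ∉ M := by
    intro hd
    obtain ⟨x, hx, y, hy, e⟩ := hprod' d hd
    have h1 : π x * π y = 1 := by rw [← map_mul, ← e, K.ext.π_d hF]
    have hy1 := dimg x hx y⁻¹ (inv_mem hy) (by rw [map_inv]; exact eq_inv_of_mul_eq_one_left h1)
    rw [inv_eq_one] at hy1
    rw [hy1, mul_one] at e
    obtain ⟨u, hu, v, hv, rfl⟩ := hprod x hx
    have huv : π u⁻¹ = π v := by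
      rw [map_inv]
      refine inv_eq_of_mul_eq_one_right ?_
      rw [← map_mul, ← e, K.ext.π_d hF]
    rw [d01 u⁻¹ (inv_mem hu) v hv huv, mul_one] at e
    exact K.not_mem_planeGp hF hno p (e ▸ hu)
  -- orders
  have cW : Nat.card W0 = 512 := by
    have h : ((Subgroup.closure (p.tvs hF)).map
        (QuotientGroup.mk' (Subgroup.center ↥(Cfsg.SU 6 F 2)))).comap π = prePlane hF π p := rfl
    rw [← p.card_closure_tvs hF, ← K.card_lift hF p hno (E := Subgroup.closure (p.tvs hF))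
      (fun g hg => by
        induction hg using Subgroup.closure_induction with
        | mem x hx => obtain ⟨v, hv, hvP, rfl⟩ := hx; exact p.tv_fix hF hv.2 hvP
        | one => exact p.fix_one hF
        | mul x y _ _ hx hy => exact p.fix_mul hF hx hy
        | inv x _ hx =>
          intro i
          have := congrArg (act x⁻¹) (hx i)
          rw [act_inv_left] at this
          exact this.symm), h, inf_of_le_left (K.planeGp_le hF p)]
  have cX1 : Nat.card X1 = 16 := by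
    rw [hX1, K.card_lift hF p1 hno (E := p1.rowGp hF) (fun g hg => hg.1), p1.card_rowGp hF]
  have cX2 : Nat.card X2 = 4 := by
    rw [hX2, K.card_lift hF p2 hno (E := p2.entryGp hF) (fun g hg => hg.1), p2.card_entryGp hF]
  have cM : Nat.card M = 2 ^ 15 := by
    rw [hcard' fun x hx hx' => dimg x hx x hx' rfl, hcard01 fun x hx hx' => d01 x hx x hx' rfl, cW, cX1, cX2]; norm_num
  obtain ⟨hprod'', hcard''⟩ := sup_of_normalised (A := M) (B := Subgroup.zpowers d)
    fun b hb' a ha => by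
      obtain ⟨n, rfl⟩ := Subgroup.mem_zpowers_iff.mp hb'
      rw [((K.ext.cen a).zpow_left n).eq, mul_inv_cancel_right]
      exact ha
  have cM' : Nat.card ↥(M ⊔ Subgroup.zpowers d) = 2 ^ 16 := by
    rw [hcard'' fun x hx hx' => ?_, cM, Nat.card_zpowers, orderOf_eq_prime (p := 2)
      (by rw [pow_two]; exact K.ext.sq) K.ne]
    · norm_num
    · obtain ⟨n, rfl⟩ := Subgroup.mem_zpowers_iff.mp hx'
      rcases Int.even_or_odd n with ⟨m, hm⟩ | ⟨m, hm⟩
      · rw [hm, ← two_mul, zpow_mul, zpow_two, K.ext.sq, one_zpow]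
      · rw [hm, zpow_add, zpow_mul, zpow_two, K.ext.sq, one_zpow, one_mul, zpow_one] at hx
        exact absurd hx hdM
  have cC : Nat.card C = 2 ^ 16 * 280665 := by
    have hk : Nat.card π.ker = 2 := by
      have : (π.ker : Set C) = {1, d} := by
        ext x
        simp only [SetLike.mem_coe, MonoidHom.mem_ker, Set.mem_insert_iff, Set.mem_singleton_iff]
        exact ⟨K.ext.ker x, by rintro (rfl | rfl); exacts [map_one π, K.ext.π_d hF]⟩
      rw [← SetLike.coe_sort_coe, Nat.card_coe_set_eq, this, Set.ncard_pair (Ne.symm K.ne)]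
    rw [← Subgroup.card_mul_index π.ker, Subgroup.index_ker, MonoidHom.range_eq_top.mpr K.ext.surj,
      Subgroup.card_top, card_psu_six hF, hk]
    norm_num
  refine no_complement hperf K.ext.sq K.ext.cen hdM ?_
  have h := Subgroup.card_mul_index (M ⊔ Subgroup.zpowers d)
  rw [cM', cC] at h
  rw [Nat.eq_of_mul_eq_mul_left (by norm_num) h]
  exact ⟨140332, by norm_num⟩

end PtClass

end Cfsg.Agent.H93
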