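import Cfsg.Agent.H93.Common22
import Cfsg.Agent.H93.Triples
import Cfsg.Agent.H93.Elem22
import Cfsg.Agent.H93.U6NonSplit

/-!
Groups of type M(22): the numbers of members and configurations, and the order of the group.
-/

set_option autoImplicit false

namespace Cfsg.Agent.H93

variable {G : Type*} [Group G] {D : Set G} {K : Type*} [Field K] [Fintype K]

omit [Group G] in
theorem half_arith : ∀ f < 1441, 1440 % f = 0 → 354816 % (46 + f) = 0 → 32 ≤ f → f = 80 := by
  decide +kernel

section Vectors

variable (hK : Fintype.card K = 4)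

include hK

/-- the isotropic vectors with given product against an isotropic one -/
theorem card_value_one {u : Vec K} (hu : IsPt u) :
    {x : Vec K | hb x x = 0 ∧ hb x u = 1}.ncard = 512 := by
  classical
  obtain ⟨p⟩ := exists_pointBasis hK hu
  let hq : (Fin 4 → K) → K := fun c => Cfsg.hermForm 4 K 2 c c
  have hform : ∀ (α : K) (c : Fin 4 → K), hb (p.partner + α • u + p.emb c)
      (p.partner + α • u + p.emb c) = α + α ^ 2 + hq c + (hb p.partner (p.emb c) + hb (p.emb c) p.partner) := by
    intro α c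
    have hBP : hb u p.partner = 1 := hb_one_comm hK p.pB
    have e1 : hb (p.emb c) (p.emb c) = hq c := by
      rw [p.hb_eq_co hK (p.emb_B c) (p.emb_B c), p.co_emb]
    simp only [hb_add_left, hb_add_right hK, hb_smul_left, hb_smul_right, p.pp, p.pB, hBP, hu.2,
      p.emb_B, (hb_eq_zero_comm hK).mp (p.emb_B c), e1, mul_zero, mul_one, add_zero, zero_add]
    ring
  have hcross : ∀ c : Fin 4 → K, hb p.partner (p.emb c) + hb (p.emb c) p.partner =
      (∑ i, c i * hb (p.u i) p.partner) + (∑ i, c i * hb (p.u i) p.partner) ^ 2 := by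
    intro c
    rw [hb_conj hK (p.emb c) p.partner]
    simp only [PointBasis.emb, sum_hb_left]
    ring
  let L : (Fin 4 → K) → K := fun c => ∑ i, c i * hb (p.u i) p.partner
  have hiso : ∀ (α : K) (c : Fin 4 → K), hb (p.partner + α • u + p.emb c)
      (p.partner + α • u + p.emb c) = (α + L c) + (α + L c) ^ 2 + hq c := by
    intro α c
    rw [hform, hcross, sq_add hK]
    ring
  have hone : ∀ (α : K) (c : Fin 4 → K), hb (p.partner + α • u + p.emb c) u = 1 := by
    intro α c
    simp only [hb_add_left, hb_smul_left, p.pB, hu.2, p.emb_B, mul_zero, add_zero]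
  let φ : (Σ c : Fin 4 → K, {β : K // β + β ^ 2 = hq c}) → {x : Vec K | hb x x = 0 ∧ hb x u = 1} :=
    fun q => ⟨p.partner + (q.2.1 + L q.1) • u + p.emb q.1, by
      refine ⟨?_, hone _ _⟩
      rw [hiso, add_assoc q.2.1, add_self_zero hK, add_zero, q.2.2, add_self_zero hK], ⟩
  have hφ : Function.Bijective φ := by
    refine ⟨fun q q' e => ?_, fun ⟨x, hx, hxu⟩ => ?_⟩
    · have e' := congrArg Subtype.val e
      simp only [φ] at e'
      have ec : q.1 = q'.1 := by
        have := congrArg p.co e'
        simp only [p.co_add, p.co_smul, p.co_B hK, smul_zero, p.co_emb, add_zero] at this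
        exact add_left_cancel this
      obtain ⟨c, β, hβ⟩ := q
      obtain ⟨c', β', hβ'⟩ := q'
      dsimp only at ec e'
      subst ec
      have := smul_left_injective K hu.1 (add_left_cancel (add_right_cancel e'))
      obtain rfl := add_right_cancel this
      rfl
    · have h0 : hb (x + p.partner) u = 0 := by
        rw [hb_add_left, hxu, p.pB]; exact add_self_zero hK 1
      have ex := p.decomp' h0
      set α := hb (x + p.partner) p.partner
      set c := p.co (x + p.partner)
      have ex' : x = p.partner + α • u + p.emb c := by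
        calc x = p.partner + (x + p.partner) := by
              rw [add_comm x, ← add_assoc, vec_add_self hK, zero_add]
          _ = _ := by rw [ex, ← add_assoc]
      have hβ : (α + L c) + (α + L c) ^ 2 = hq c := by
        have := hx
        rw [ex', hiso] at this
        exact (add_eq_zero_iff_eq' hK).mp this
      refine ⟨⟨c, α + L c, hβ⟩, Subtype.ext ?_⟩
      show p.partner + (α + L c + L c) • u + p.emb c = x
      rw [add_assoc α, add_self_zero hK, add_zero, ← ex']
  have hfib : ∀ c : Fin 4 → K, Nat.card {β : K // β + β ^ 2 = hq c} = 2 := by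
    intro c
    have hc : hq c = 0 ∨ hq c = 1 := by
      have := hb_self_cases hK (p.emb c)
      rwa [p.hb_eq_co hK (p.emb_B c) (p.emb_B c), p.co_emb] at this
    obtain ⟨b, hb'⟩ := exists_trace hK hc
    have hb1 : b + 1 + (b + 1) ^ 2 = hq c := by
      linear_combination hb' + (b + 1) * two_zero hK
    refine Nat.card_eq_two_iff.mpr ⟨⟨b, hb'⟩, ⟨b + 1, hb1⟩, fun e => ?_, ?_⟩
    · exact one_ne_zero (add_left_cancel ((congrArg Subtype.val e).symm.trans (add_zero b).symm))
    · refine Set.eq_univ_of_forall fun β => ?_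
      have : (β.1 + b) * (β.1 + b + 1) = 0 := by
        linear_combination β.2 - hb' + (β.1 * b + b ^ 2 + b) * two_zero hK
      rcases mul_eq_zero.mp this with q | q
      · exact Or.inl (Subtype.ext ((add_eq_zero_iff_eq' hK).mp q))
      · exact Or.inr (Subtype.ext ((add_eq_zero_iff_eq' hK).mp (by linear_combination q)))
  rw [← Nat.card_coe_set_eq, ← Nat.card_eq_of_bijective φ hφ, Nat.card_sigma,
    Finset.sum_congr rfl fun c _ => hfib c, Finset.sum_const, Finset.card_univ, Fintype.card_fun,
    Fintype.card_fin, hK]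
  rfl

end Vectors

namespace Geo22

variable [Finite G] (h : Geo22 D K)

include h

/-- the order of the centraliser of a member -/
theorem card_member {a : G} (ha : a ∈ D) :
    Nat.card ↥(Subgroup.centralizer ({a} : Set G)) = 18393661440 := by
  obtain ⟨π, he, -⟩ := h.exists_space ha
  rw [card_cent_member h.hK h.core ha he, card_psu_six h.hK]
  norm_num

/-- each member has 693 neighbours -/
theorem card_nb {a : G} (ha : a ∈ D) : (nb D a).ncard = 693 := by
  obtain ⟨π, he, ⟨xs⟩⟩ := h.exists_space ha
  exact card_nb_member h.hK xs.sp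

/-- the neighbours of a neighbour not commuting with a member -/
theorem card_far_in_nb {a z : G} (ha : a ∈ D) (hz : z ∈ nb D a) :
    {d | d ∈ nb D z ∧ ¬ Commute a d}.ncard = 512 := by
  obtain ⟨π, he, ⟨xs⟩⟩ := h.exists_space hz.1
  obtain ⟨u, hu, hpu⟩ := xs.sp.surj a (nb_symm ha hz)
  rw [← card_value_one h.hK hu]
  refine (Set.ncard_congr (fun x _ => xs.sp.pt x) (fun x hx => ?_) (fun x y hx hy e => ?_)
    (fun d hd => ?_)).symm
  · have hp : IsPt x := ⟨fun q => by
      have := hx.2
      rw [q, hb_zero_left] at this; exact zero_ne_one this, hx.1⟩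
    exact ⟨xs.sp.mem hp, fun q => one_ne_zero (hx.2.symm.trans ((xs.sp.comm hp hu).mp
      (hpu.symm ▸ q.symm)))⟩
  · have hp : ∀ {t}, t ∈ {x : Vec K | hb x x = 0 ∧ hb x u = 1} → IsPt t := fun {t} ht =>
      ⟨fun q => by
        have := ht.2
        rw [q, hb_zero_left] at this; exact zero_ne_one this, ht.1⟩
    obtain ⟨r, hr⟩ := (xs.sp.same (hp hx) (hp hy)).mp e
    have := hy.2
    rw [hr, hb_smul_left, hx.2, mul_one] at this
    rw [hr, this, one_smul]
  · obtain ⟨x, hx, hpx, hxu⟩ := h.coords xs (nb_symm ha hz) hd.1 hu hpu hd.2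
    exact ⟨x, ⟨hx.2, hxu⟩, hpx⟩

/-- the centraliser of two commuting members -/
theorem card_two {a z : G} (ha : a ∈ D) (hz : z ∈ nb D a) :
    Nat.card ↥(Subgroup.centralizer ({a, z, z} : Set G)) = 26542080 := by
  obtain ⟨π, he, ⟨xs⟩⟩ := h.exists_space ha
  have horb := card_of_transitive (Subgroup.centralizer ({a} : Set G))
    ((fun y => (a, y, y)) '' nb D a) a z z (Subgroup.centralizer_le (by simp))
    (fun g hg => by
      have ga : g * a * g⁻¹ = a :=
        mul_inv_eq_iff_eq_mul.mpr (Subgroup.mem_centralizer_singleton_iff.mp hg)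
      refine ⟨g * z * g⁻¹, ?_, by simp [conj3, ga]⟩
      simpa [ga] using h.core.tt.nb_conj g hz)
    (fun t ht => by
      obtain ⟨y, hy, rfl⟩ := ht
      obtain ⟨g, e1, e2, -⟩ := exists_conj_nb h.core hz hy ha (xs.sp.sep h.hK)
      exact ⟨g, Subgroup.mem_centralizer_singleton_iff.mpr (mul_inv_eq_iff_eq_mul.mp e2),
        by simp only [conj3, e1, e2]⟩)
  rw [h.card_member ha, Set.ncard_image_of_injective _ (fun p q e => congrArg (fun t => t.2.1) e),
    h.card_nb ha] at horb
  omega

/-- the centraliser of a pair and a common neighbour -/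
theorem card_triple {a d z : G} (ha : a ∈ D) (hd : d ∈ D) (hn : ¬ Commute a d)
    (hz : z ∈ common D a d) :
    Nat.card ↥(Subgroup.centralizer ({a, z, d} : Set G)) = 51840 := by
  have htt := h.core.tt
  have horb := card_of_transitive (Subgroup.centralizer ({a, z, z} : Set G))
    ((fun y => (a, z, y)) '' {y | y ∈ nb D z ∧ ¬ Commute a y}) a z d
    (Subgroup.centralizer_le (by intro t; simp; tauto))
    (fun g hg => by
      have hg' := Subgroup.mem_centralizer_iff.mp hg
      have ga : g * a * g⁻¹ = a := mul_inv_eq_iff_eq_mul.mpr (hg' a (by simp)).symm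
      have gz : g * z * g⁻¹ = z := mul_inv_eq_iff_eq_mul.mpr (hg' z (by simp)).symm
      refine ⟨g * d * g⁻¹, ⟨?_, fun q => hn ?_⟩, by simp [conj3, ga, gz]⟩
      · simpa [gz] using htt.nb_conj g (nb_symm hd hz.2)
      · rw [← ga, commute_conj] at q; exact q)
    (fun t ht => by
      obtain ⟨y, ⟨hy, hny⟩, rfl⟩ := ht
      obtain ⟨g, c1, c2, e⟩ := h.residue_move hz.1.1 (nb_symm ha hz.1) hy (nb_symm hd hz.2) hny hn
      refine ⟨g, Subgroup.mem_centralizer_iff.mpr ?_, ?_⟩
      · rintro t (rfl | rfl | rfl)
        exacts [c2.symm.eq, c1.symm.eq, c1.symm.eq]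
      · simp only [conj3, e, mul_inv_eq_iff_eq_mul.mpr c2.eq, mul_inv_eq_iff_eq_mul.mpr c1.eq])
  rw [h.card_two ha hz.1, Set.ncard_image_of_injective _ (fun p q e => congrArg (fun t => t.2.2) e),
    h.card_far_in_nb ha hz.1] at horb
  omega

variable {a d : G} (ha : a ∈ D) (hd : d ∈ D) (hn : ¬ Commute a d)

include ha hd hn

/-- the centraliser of a pair, by the common neighbours -/
theorem card_pair :
    Nat.card ↥(Subgroup.centralizer ({a, d, d} : Set G)) = (common D a d).ncard * 51840 := by
  obtain ⟨z, hz⟩ := h.exists_common ha hd hn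
  have horb := card_of_transitive (Subgroup.centralizer ({a, d, d} : Set G))
    ((fun y => (a, y, d)) '' common D a d) a z d (Subgroup.centralizer_le (by intro t; simp; tauto))
    (fun g hg => by
      have hg' := Subgroup.mem_centralizer_iff.mp hg
      have ga : g * a * g⁻¹ = a := mul_inv_eq_iff_eq_mul.mpr (hg' a (by simp)).symm
      have gd : g * d * g⁻¹ = d := mul_inv_eq_iff_eq_mul.mpr (hg' d (by simp)).symm
      refine ⟨g * z * g⁻¹, ?_, by simp [conj3, ga, gd]⟩
      simpa [ga, gd] using h.core.tt.common_conj g hz)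
    (fun t ht => by
      obtain ⟨y, hy, rfl⟩ := ht
      obtain ⟨g, c1, c2, e⟩ := h.conj_common ha hd hn hz hy
      refine ⟨g, Subgroup.mem_centralizer_iff.mpr ?_, ?_⟩
      · rintro t (rfl | rfl | rfl)
        exacts [c1.symm.eq, c2.symm.eq, c2.symm.eq]
      · simp only [conj3, e, mul_inv_eq_iff_eq_mul.mpr c1.eq, mul_inv_eq_iff_eq_mul.mpr c2.eq])
  rw [h.card_triple ha hd hn hz,
    Set.ncard_image_of_injective _ (fun p q e => congrArg (fun t => t.2.1) e)] at horb
  exact horb

/-- far members against common neighbours -/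
theorem far_mul_common :
    {y | y ∈ D ∧ ¬ Commute a y}.ncard * (common D a d).ncard = 354816 := by
  have horb := card_of_transitive (Subgroup.centralizer ({a} : Set G))
    ((fun y => (a, y, y)) '' {y | y ∈ D ∧ ¬ Commute a y}) a d d
    (Subgroup.centralizer_le (by simp))
    (fun g hg => by
      have ga : g * a * g⁻¹ = a :=
        mul_inv_eq_iff_eq_mul.mpr (Subgroup.mem_centralizer_singleton_iff.mp hg)
      refine ⟨g * d * g⁻¹, ⟨h.core.tt.conj_mem g d hd, fun q => hn ?_⟩, by simp [conj3, ga]⟩
      rw [← ga, commute_conj] at q; exact q)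
    (fun t ht => by
      obtain ⟨y, ⟨hy, hny⟩, rfl⟩ := ht
      obtain ⟨g, c, e⟩ := h.conj_far ha hy hd hny hn
      exact ⟨g, Subgroup.mem_centralizer_singleton_iff.mpr c.eq,
        by simp only [conj3, e, mul_inv_eq_iff_eq_mul.mpr c.eq]⟩)
  rw [h.card_member ha, h.card_pair ha hd hn,
    Set.ncard_image_of_injective _ (fun p q e => congrArg (fun t => t.2.1) e), ← mul_assoc] at horb
  omega

/-- there are 126 common neighbours -/
theorem card_common : (common D a d).ncard = 126 := by
  classical
  haveI := Fintype.ofFinite G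
  have htt := h.core.tt
  obtain ⟨z, hz⟩ := h.exists_common ha hd hn
  set T := common D a d ∩ nb D z with hT
  set Fz := {w | w ∈ common D a d ∧ ¬ Commute z w} with hFz
  have hsplit : common D a d = insert z (T ∪ Fz) := by
    ext y
    constructor
    · intro hy
      by_cases e : y = z
      · exact Or.inl e
      right
      by_cases c : Commute z y
      · exact Or.inl ⟨hy, hy.1.1, e, c⟩
      · exact Or.inr ⟨hy, c⟩
    · rintro (rfl | hy | hy)
      exacts [hz, hy.1, hy.1]
  have hW : (common D a d).ncard = 46 + Fz.ncard := by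
    conv_lhs => rw [hsplit]
    rw [Set.ncard_insert_of_notMem, Set.ncard_union_eq, (h.forty ha hd hn hz).card]
    · omega
    · rw [Set.disjoint_left]
      exact fun y hy hy' => hy'.2 hy.2.2.2
    · rintro (hy | hy)
      exacts [hy.2.2.1 rfl, hy.2 (Commute.refl _)]
  -- each far one sees the same number of points
  let t : G → ℕ := fun w => (T.toFinset.filter fun y => y ∈ nb D w).card
  obtain ⟨w0, hw0, hzw0⟩ := h.exists_apart ha hd hn hz
  have teq : ∀ w ∈ Fz, t w = t w0 := by
    intro w hw
    obtain ⟨k, hk, e1, e2⟩ := h.conj_in_common ha hd hn hz hw0 hzw0 hz hw.1 hw.2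
    rw [← h.cent_eq ha hd hn, Subgroup.mem_centralizer_iff] at hk
    have ka : k * a * k⁻¹ = a := mul_inv_eq_iff_eq_mul.mpr (hk a (by simp)).symm
    have kd : k * d * k⁻¹ = d := mul_inv_eq_iff_eq_mul.mpr (hk d (by simp)).symm
    refine Finset.card_bij (fun y _ => k * y * k⁻¹) ?_ ?_ ?_
    · intro y hy
      simp only [Finset.mem_filter, Set.mem_toFinset] at hy ⊢
      refine ⟨⟨?_, ?_⟩, ?_⟩
      · simpa [ka, kd] using htt.common_conj k hy.1.1
      · simpa [e1] using htt.nb_conj k hy.1.2
      · simpa [e2] using htt.nb_conj k hy.2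
    · intro y _ y' _ e; exact mul_left_cancel (mul_right_cancel e)
    · intro y hy
      simp only [Finset.mem_filter, Set.mem_toFinset] at hy
      refine ⟨k⁻¹ * y * k, ?_, by group⟩
      have back : ∀ {p q : G}, k * p * k⁻¹ = q → k⁻¹ * q * k = p := fun e => by rw [← e]; group
      simp only [Finset.mem_filter, Set.mem_toFinset]
      refine ⟨⟨?_, ?_⟩, ?_⟩
      · simpa [back ka, back kd] using htt.common_conj k⁻¹ hy.1.1
      · simpa [back e1] using htt.nb_conj k⁻¹ hy.1.2
      · simpa [back e2] using htt.nb_conj k⁻¹ hy.2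
  have row : ∀ y ∈ T.toFinset, (Fz.toFinset.filter fun w => y ∈ nb D w).card = 32 := by
    intro y hy
    simp only [Set.mem_toFinset] at hy
    have hzy : z ∈ common D a d ∩ nb D y := ⟨hz, nb_symm hz.1.1 hy.2⟩
    have hTy := h.forty ha hd hn hy.1
    have hset : ((Fz.toFinset.filter fun w => y ∈ nb D w) : Set G) =
        (common D a d ∩ nb D y) \ insert z
          {w ∈ common D a d ∩ nb D y | w ≠ z ∧ Commute z w} := by
      ext w
      simp only [Finset.coe_filter, Set.mem_toFinset, Set.mem_ofPred_eq, Set.mem_sdiff,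
        Set.mem_insert_iff, not_or, not_and]
      constructor
      · rintro ⟨⟨hw, hzw⟩, hwy⟩
        exact ⟨⟨hw, nb_symm hw.1.1 hwy⟩, fun q => hzw (q ▸ Commute.refl z), fun _ _ => hzw⟩
      · rintro ⟨hw, hwz, himp⟩
        exact ⟨⟨hw.1, himp hw hwz⟩, nb_symm hy.1.1.1 hw.2⟩
    rw [← Set.ncard_coe_finset, hset, Set.ncard_sdiff, hTy.card,
      Set.ncard_insert_of_notMem (fun q => q.2.1 rfl), hTy.deg hzy]
    exact Set.insert_subset hzy fun w hw => hw.1
  have hsum := Finset.sum_card_bipartiteAbove_eq_sum_card_bipartiteBelow (s := T.toFinset)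
    (t := Fz.toFinset) (fun y w => y ∈ nb D w)
  simp only [Finset.bipartiteAbove, Finset.bipartiteBelow] at hsum
  rw [Finset.sum_congr rfl row, Finset.sum_congr rfl (g := fun _ => t w0)
    (fun w hw => teq w (Set.mem_toFinset.mp hw)), Finset.sum_const, Finset.sum_const,
    ← Set.ncard_eq_toFinset_card', ← Set.ncard_eq_toFinset_card', (h.forty ha hd hn hz).card,
    smul_eq_mul, smul_eq_mul] at hsum
  have ht45 : t w0 ≤ 45 := by
    refine (Finset.card_filter_le _ _).trans ?_
    rw [← Set.ncard_eq_toFinset_card', (h.forty ha hd hn hz).card]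
  have hfar := h.far_mul_common ha hd hn
  rw [hW] at hfar
  have hf : Fz.ncard = 80 := by
    refine half_arith _ ?_ ?_ ?_ ?_
    · by_contra hle
      have : 1441 * 1 ≤ Fz.ncard * t w0 := Nat.mul_le_mul (by omega) (Nat.pos_of_ne_zero fun q => by
        rw [q, mul_zero] at hsum; omega)
      omega
    · exact Nat.mod_eq_zero_of_dvd ⟨t w0, by omega⟩
    · exact Nat.mod_eq_zero_of_dvd ⟨_, (hfar.symm.trans (mul_comm _ _))⟩
    · have := Nat.mul_le_mul_left Fz.ncard ht45
      omega
  omega

/-- the centraliser of two members that do not commute -/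
theorem card_pair_num : Nat.card ↥(Subgroup.centralizer ({a, d} : Set G)) = 6531840 := by
  have := h.card_pair ha hd hn
  rw [h.card_common ha hd hn, show ({a, d, d} : Set G) = {a, d} by simp] at this
  exact this

omit ha hd hn in
/-- the number of members not commuting with a given one -/
theorem card_far {a : G} (ha : a ∈ D) : {y | y ∈ D ∧ ¬ Commute a y}.ncard = 2816 := by
  obtain ⟨π, he, ⟨xs⟩⟩ := h.exists_space ha
  obtain ⟨z, hz⟩ := h.core.edge a ha
  obtain ⟨d, hd, hn⟩ := Set.nonempty_of_ncard_ne_zero (s := {d | d ∈ nb D z ∧ ¬ Commute a d})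
    (by rw [h.card_far_in_nb ha hz]; norm_num)
  have := h.far_mul_common ha hd.1 hn
  rw [h.card_common ha hd.1 hn] at this
  omega

omit ha hd hn in
/-- the number of members -/
theorem card_members {a : G} (ha : a ∈ D) : D.ncard = 3510 := by
  have hsplit : D = insert a (nb D a) ∪ {y : G | y ∈ D ∧ ¬ Commute a y} := by
    ext y
    constructor
    · intro hy
      by_cases hc : Commute a y
      · by_cases e : y = a
        · exact Or.inl (Or.inl e)
        · exact Or.inl (Or.inr ⟨hy, e, hc⟩)
      · exact Or.inr ⟨hy, hc⟩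
    · rintro ((rfl | hy) | hy)
      exacts [ha, hy.1, hy.1]
  have hdisj : Disjoint (insert a (nb D a)) {y : G | y ∈ D ∧ ¬ Commute a y} := by
    rw [Set.disjoint_left]
    rintro y (rfl | hy) hy'
    exacts [hy'.2 (Commute.refl _), hy'.2 hy.2.2]
  conv_lhs => rw [hsplit]
  rw [Set.ncard_union_eq hdisj, Set.ncard_insert_of_notMem (fun q => q.2.1 rfl), h.card_nb ha,
    h.card_far ha]

omit ha hd hn in
/-- the order of the group -/
theorem card_group {a : G} (ha : a ∈ D) : Nat.card G = 3510 * 18393661440 := by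
  have horb := card_of_transitive (⊤ : Subgroup G) ((fun y => (y, y, y)) '' D) a a a le_top
    (fun g _ => ⟨g * a * g⁻¹, h.core.tt.conj_mem g a ha, rfl⟩)
    (fun t ht => by
      obtain ⟨y, hy, rfl⟩ := ht
      obtain ⟨g, hg⟩ := isConj_iff.mp (h.core.cls a ha y hy)
      exact ⟨g, Subgroup.mem_top g, by simp only [conj3, hg]⟩)
  rw [Subgroup.card_top, Set.ncard_image_of_injective _ (fun p q e => congrArg (fun t => t.1) e),
    h.card_members ha, show ({a, a, a} : Set G) = {a} by simp, h.card_member ha] at horb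
  exact horb

end Geo22

end Cfsg.Agent.H93
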