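import Cfsg.Agent.H93.Seven22

/-!
General facts on subgroups of prime order.
-/

set_option autoImplicit false

namespace Cfsg.Agent.H93

variable {G : Type*} [Group G] [Finite G] {p : ℕ} [Fact p.Prime]

/-- a prime order subgroup is a Sylow subgroup when its square does not divide the order -/
theorem exists_sylow_of_prime {X : Subgroup G} (hX : Nat.card X = p) (hp2 : ¬ p ^ 2 ∣ Nat.card G) :
    ∃ P : Sylow p G, X = (P : Subgroup G) := by
  obtain ⟨P, hP⟩ := (IsPGroup.of_card (p := p) (n := 1) (G := ↥X) (by rw [hX, pow_one])).exists_le_sylow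
  refine ⟨P, Subgroup.eq_of_le_of_card_ge hP ?_⟩
  obtain ⟨n, hn⟩ := IsPGroup.iff_card.mp P.isPGroup'
  have hdvd := Subgroup.card_subgroup_dvd_card (P : Subgroup G)
  rw [hn] at hdvd
  rw [hn, hX]
  rcases n with _ | _ | n
  · rw [pow_zero]; exact Nat.Prime.one_le Fact.out
  · rw [zero_add, pow_one]
  · exact absurd ((pow_dvd_pow p (by omega)).trans hdvd) hp2

/-- the number of conjugates of a prime order Sylow subgroup is one modulo `p` -/
theorem prime_index_mod {X : Subgroup G} (hX : Nat.card X = p) (hp2 : ¬ p ^ 2 ∣ Nat.card G) :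
    (Subgroup.normalizer (X : Set G)).index % p = 1 := by
  obtain ⟨P, rfl⟩ := exists_sylow_of_prime hX hp2
  have e : Nat.card (Sylow p G) = (Subgroup.normalizer ((P : Subgroup G) : Set G)).index :=
    Sylow.card_eq_index_normalizer P
  rw [← e]
  have := card_sylow_modEq_one p G
  rw [Nat.ModEq, Nat.mod_eq_of_lt (Nat.Prime.one_lt (Fact.out : p.Prime))] at this
  exact this

/-- subgroups of order `p` inside a subgroup are conjugate there -/
theorem prime_conj_in {A B K : Subgroup G} (hA : A ≤ K) (hB : B ≤ K) (cA : Nat.card A = p)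
    (cB : Nat.card B = p) (hp2 : ¬ p ^ 2 ∣ Nat.card K) :
    ∃ j ∈ K, A.map (MulAut.conj j).toMonoidHom = B := by
  obtain ⟨P, hP⟩ := exists_sylow_of_prime (G := ↥K) (X := A.subgroupOf K)
    (by rw [Nat.card_congr (Subgroup.subgroupOfEquivOfLe hA).toEquiv, cA]) hp2
  obtain ⟨Q, hQ⟩ := exists_sylow_of_prime (G := ↥K) (X := B.subgroupOf K)
    (by rw [Nat.card_congr (Subgroup.subgroupOfEquivOfLe hB).toEquiv, cB]) hp2
  obtain ⟨⟨j, hj⟩, hjQ⟩ := MulAction.exists_smul_eq ↥K P Q
  refine ⟨j, hj, ?_⟩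
  have h1 : (A.subgroupOf K).map (MulAut.conj (⟨j, hj⟩ : ↥K)).toMonoidHom = B.subgroupOf K := by
    rw [hP, hQ, ← hjQ, Sylow.coe_subgroup_smul]; rfl
  have h2 := congrArg (Subgroup.map K.subtype) h1
  rw [Subgroup.map_map, Subgroup.subgroupOf_map_subtype, inf_eq_left.mpr hB] at h2
  have h3 : (A.subgroupOf K).map ((MulAut.conj j).toMonoidHom.comp K.subtype) = B := h2
  rw [← Subgroup.map_map, Subgroup.subgroupOf_map_subtype, inf_eq_left.mpr hA] at h3
  exact h3

/-- the normaliser over the centraliser -/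
theorem norm_div_cent {X : Subgroup G} (hX : Nat.card X = p) :
    ∃ e : ℕ, e ∣ p - 1 ∧ Nat.card ↥(Subgroup.normalizer (X : Set G)) =
      e * Nat.card ↥(Subgroup.centralizer (X : Set G)) := by
  haveI := isCyclic_of_prime_card hX
  set f := Subgroup.normalizerMonoidHom X
  refine ⟨Nat.card ↥f.range, ?_, ?_⟩
  · have := Subgroup.card_subgroup_dvd_card f.range
    rwa [IsCyclic.card_mulAut, hX, Nat.totient_prime Fact.out] at this
  · have h1 := Subgroup.card_mul_index f.ker
    rw [Subgroup.index_ker, Subgroup.normalizerMonoidHom_ker,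
      Nat.card_congr (Subgroup.subgroupOfEquivOfLe Geo22.cent_le_normalizer).toEquiv] at h1
    rw [← h1, mul_comm]

/-- normalising elements of order prime to `p - 1` centralise -/
theorem norm_coprime_central {X : Subgroup G} (hX : Nat.card X = p) {z : G} {q : ℕ} (hq : z ^ q = 1)
    (hz : z ∈ Subgroup.normalizer (X : Set G)) (hcop : Nat.Coprime q (p - 1)) :
    z ∈ Subgroup.centralizer (X : Set G) := by
  haveI := isCyclic_of_prime_card hX
  set f := Subgroup.normalizerMonoidHom X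
  have h1 : (f ⟨z, hz⟩) ^ q = 1 := by
    rw [← map_pow, show (⟨z, hz⟩ : ↥(Subgroup.normalizer (X : Set G))) ^ q = 1 from Subtype.ext hq,
      map_one]
  have h2 : orderOf (f ⟨z, hz⟩) ∣ p - 1 := by
    have := orderOf_dvd_natCard (f ⟨z, hz⟩)
    rwa [IsCyclic.card_mulAut, hX, Nat.totient_prime Fact.out] at this
  have h3 : f ⟨z, hz⟩ = 1 := orderOf_eq_one_iff.mp
    (Nat.eq_one_of_dvd_coprimes hcop (orderOf_dvd_of_pow_eq_one h1) h2)
  have h4 : (⟨z, hz⟩ : ↥(Subgroup.normalizer (X : Set G))) ∈ f.ker := h3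
  rw [Subgroup.normalizerMonoidHom_ker] at h4
  exact h4

omit [Fact p.Prime] in
/-- an element of prime order in a subgroup -/
theorem exists_zpowers_of_dvd {H : Subgroup G} {q : ℕ} [Fact q.Prime] (hd : q ∣ Nat.card H) :
    ∃ z ∈ H, z ^ q = 1 ∧ Nat.card ↥(Subgroup.zpowers z) = q := by
  obtain ⟨⟨z, hz⟩, ho⟩ := exists_prime_orderOf_dvd_card' q hd
  rw [Subgroup.orderOf_mk] at ho
  exact ⟨z, hz, by rw [← ho, pow_orderOf_eq_one], by rw [Nat.card_zpowers, ho]⟩

omit [Finite G] [Fact p.Prime] in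
/-- subgroups centralised by an element -/
theorem zpowers_cent {X : Subgroup G} {z : G} :
    z ∈ Subgroup.centralizer (X : Set G) ↔ X ≤ Subgroup.centralizer (Subgroup.zpowers z : Set G) := by
  constructor
  · intro hz x hx
    refine Subgroup.mem_centralizer_iff.mpr ?_
    rintro _ ⟨n, rfl⟩
    exact ((show Commute z x from (Subgroup.mem_centralizer_iff.mp hz x hx).symm).zpow_left n).eq
  · exact fun h => Subgroup.mem_centralizer_iff.mpr fun x hx =>
      (Subgroup.mem_centralizer_iff.mp (h hx) z (Subgroup.mem_zpowers z)).symm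

/-- a group generated by involutions has no self-centralised Sylow subgroup of odd prime order -/
theorem norm_ne_cent {X : Subgroup G} (hX : Nat.card X = p) (hp2 : ¬ p ^ 2 ∣ Nat.card G) (hodd : p ≠ 2)
    {D : Set G} (hgen : Subgroup.closure D = ⊤) (hD : ∀ d ∈ D, d * d = 1) :
    Nat.card ↥(Subgroup.normalizer (X : Set G)) ≠ Nat.card ↥(Subgroup.centralizer (X : Set G)) := by
  intro he
  obtain ⟨P, rfl⟩ := exists_sylow_of_prime hX hp2
  have hP : Subgroup.normalizer ((P : Subgroup G) : Set G) ≤ Subgroup.centralizer ((P : Subgroup G) : Set G) :=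
    (Subgroup.eq_of_le_of_card_ge Geo22.cent_le_normalizer he.le).symm.le
  set τ := MonoidHom.transferSylow P hP
  have htop : τ.ker = ⊤ := by
    rw [← top_le_iff, ← hgen, Subgroup.closure_le]
    intro d hd
    have h2 : orderOf (τ d) ∣ 2 := orderOf_dvd_of_pow_eq_one (by rw [← map_pow, pow_two, hD d hd, map_one])
    have h1 : orderOf (τ d) ∣ p := (orderOf_dvd_natCard (τ d)).trans (dvd_of_eq hX)
    exact MonoidHom.mem_ker.mpr (orderOf_eq_one_iff.mp (Nat.eq_one_of_dvd_coprimes
      ((Nat.coprime_primes (Fact.out : p.Prime) Nat.prime_two).mpr hodd) h1 h2))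
  have h := (MonoidHom.ker_transferSylow_isComplement' P hP).card_mul_card
  rw [htop, Subgroup.card_top, hX] at h
  have hpos : 0 < Nat.card G := Nat.card_pos
  exact (Nat.Prime.ne_one (Fact.out : p.Prime)) (Nat.eq_of_mul_eq_mul_left hpos (h.trans (mul_one _).symm))

/-- the size of a set invariant under a subgroup is divisible by what divides every orbit -/
theorem dvd_of_orbits (Q : Subgroup G) (k : ℕ) : ∀ (n : ℕ) (S : Set G), S.ncard ≤ n →
    (∀ q ∈ Q, ∀ y ∈ S, q * y * q⁻¹ ∈ S) →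
    (∀ d ∈ S, k ∣ ((fun q => q * d * q⁻¹) '' (Q : Set G)).ncard) → k ∣ S.ncard := by
  intro n
  induction n with
  | zero => intro S hS _ _; rw [Nat.le_zero.mp hS]; exact dvd_zero k
  | succ n ih =>
    intro S hS hinv hk
    rcases S.eq_empty_or_nonempty with e | ⟨d, hd⟩
    · rw [e, Set.ncard_empty]; exact dvd_zero k
    set O := (fun q => q * d * q⁻¹) '' (Q : Set G)
    have hO : O ⊆ S := by rintro _ ⟨q, hq, rfl⟩; exact hinv q hq d hd
    have hdO : d ∈ O := ⟨1, Q.one_mem, by simp⟩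
    have hsum := Set.ncard_sdiff_add_ncard_of_subset hO (Set.toFinite S)
    have hpos : 0 < O.ncard := (Set.ncard_pos (Set.toFinite O)).mpr ⟨d, hdO⟩
    have hrest := ih (S \ O) (by omega) (fun q hq y hy => ⟨hinv q hq y hy.1, fun ⟨r, hr, e⟩ => hy.2
      ⟨q⁻¹ * r, Q.mul_mem (Q.inv_mem hq) hr, by
        calc q⁻¹ * r * d * (q⁻¹ * r)⁻¹ = q⁻¹ * (r * d * r⁻¹) * q := by group
          _ = y := by rw [show r * d * r⁻¹ = q * y * q⁻¹ from e]; group⟩⟩) (fun y hy => hk y hy.1)
    rw [← hsum]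
    exact dvd_add hrest (hk d hd)

end Cfsg.Agent.H93
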