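import Cfsg.Agent.H93.U6Vec

/-!
Transvections in `SU 6 F 2` and `PSU 6 F 2` for the field with four elements.
-/

set_option autoImplicit false

namespace Cfsg.Agent.H93

open scoped Matrix

variable {F : Type*} [Field F]

/-- the action of an element of `SU 6 F 2` on column vectors -/
def act (g : ↥(Cfsg.SU 6 F 2)) (x : Vec F) : Vec F :=
  ((g : Matrix.SpecialLinearGroup (Fin 6) F) : Matrix (Fin 6) (Fin 6) F) *ᵥ x

theorem act_mul (g g' : ↥(Cfsg.SU 6 F 2)) (x : Vec F) : act (g * g') x = act g (act g' x) := by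
  simp [act, Matrix.mulVec_mulVec]

theorem act_one (x : Vec F) : act (1 : ↥(Cfsg.SU 6 F 2)) x = x := by simp [act]

theorem act_inv_left (g : ↥(Cfsg.SU 6 F 2)) (x : Vec F) : act g⁻¹ (act g x) = x := by
  rw [← act_mul, inv_mul_cancel, act_one]

theorem act_inv_right (g : ↥(Cfsg.SU 6 F 2)) (x : Vec F) : act g (act g⁻¹ x) = x := by
  rw [← act_mul, mul_inv_cancel, act_one]

theorem act_add (g : ↥(Cfsg.SU 6 F 2)) (x y : Vec F) : act g (x + y) = act g x + act g y :=
  Matrix.mulVec_add _ _ _

theorem act_smul (g : ↥(Cfsg.SU 6 F 2)) (a : F) (x : Vec F) : act g (a • x) = a • act g x :=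
  Matrix.mulVec_smul _ _ _

theorem act_zero (g : ↥(Cfsg.SU 6 F 2)) : act g 0 = (0 : Vec F) :=
  Matrix.mulVec_zero _

theorem act_hb (g : ↥(Cfsg.SU 6 F 2)) (x y : Vec F) : hb (act g x) (act g y) = hb x y :=
  g.2 x y

theorem act_ext {g g' : ↥(Cfsg.SU 6 F 2)} (h : ∀ x, act g x = act g' x) : g = g' := by
  apply Subtype.ext; apply Subtype.ext
  exact Matrix.ext_iff_mulVec.mpr h

theorem act_eq_zero {g : ↥(Cfsg.SU 6 F 2)} {x : Vec F} (h : act g x = 0) : x = 0 := by
  rw [← act_inv_left g x, h, act_zero]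

/-- the matrix of a transvection -/
def tvMat (v : Vec F) : Matrix (Fin 6) (Fin 6) F := 1 + Matrix.vecMulVec v (fun i => (v i) ^ 2)

theorem tvMat_mulVec (v x : Vec F) : tvMat v *ᵥ x = x + hb x v • v := by
  rw [tvMat, Matrix.add_mulVec, Matrix.one_mulVec, Matrix.vecMulVec_mulVec]
  congr 1
  funext i
  simp [hb_eq, dotProduct, mul_comm]

section F4

variable [Fintype F] (hF : Fintype.card F = 4)

include hF

theorem tvMat_sq {v : Vec F} (hv : hb v v = 0) : tvMat v * tvMat v = 1 := by
  apply Matrix.ext_iff_mulVec.mpr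
  intro x
  rw [← Matrix.mulVec_mulVec, tvMat_mulVec, tvMat_mulVec, Matrix.one_mulVec, hb_add_left,
    hb_smul_left, hv, mul_zero, add_zero, add_assoc, vec_add_self hF, add_zero]

theorem tvMat_det {v : Vec F} (hv : hb v v = 0) : (tvMat v).det = 1 := by
  apply sq_eq_one hF
  rw [sq, ← Matrix.det_mul, tvMat_sq hF hv, Matrix.det_one]

theorem tvMat_preserves {v : Vec F} (hv : hb v v = 0) (x y : Vec F) :
    hb (tvMat v *ᵥ x) (tvMat v *ᵥ y) = hb x y := by
  rw [tvMat_mulVec, tvMat_mulVec, hb_add_left, hb_add_right hF, hb_add_right hF, hb_smul_left,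
    hb_smul_left, hb_smul_right, hb_smul_right, hv, hb_conj hF y v]
  have h2 := two_zero hF
  linear_combination (hb x v * (hb y v) ^ 2) * h2

/-- the transvection of an isotropic vector, the identity for other vectors -/
noncomputable def tv (v : Vec F) : ↥(Cfsg.SU 6 F 2) :=
  haveI := Classical.propDecidable (hb v v = 0)
  if h : hb v v = 0 then
    ⟨⟨tvMat v, tvMat_det hF h⟩, fun x y => tvMat_preserves hF h x y⟩
  else 1

theorem tv_act {v : Vec F} (hv : hb v v = 0) (x : Vec F) :
    act (tv hF v) x = x + hb x v • v := by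
  rw [tv, dif_pos hv]
  exact tvMat_mulVec v x

theorem tv_mul_self (v : Vec F) : tv hF v * tv hF v = 1 := by
  by_cases hv : hb v v = 0
  · apply act_ext
    intro x
    rw [act_mul, act_one, tv_act hF hv, tv_act hF hv, hb_add_left, hb_smul_left, hv, mul_zero,
      add_zero, add_assoc, vec_add_self hF, add_zero]
  · rw [tv, dif_neg hv, one_mul]

theorem tv_smul {a : F} (ha : a ≠ 0) (v : Vec F) : tv hF (a • v) = tv hF v := by
  by_cases hv : hb v v = 0
  · have hv' : hb (a • v) (a • v) = 0 := by rw [hb_self_smul hF, hv, mul_zero]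
    apply act_ext
    intro x
    rw [tv_act hF hv, tv_act hF hv', hb_smul_right, smul_smul]
    congr 2
    linear_combination hb x v * pow_three hF ha
  · have hv' : ¬ hb (a • v) (a • v) = 0 := by
      rw [hb_self_smul hF, pow_three hF ha, one_mul]; exact hv
    rw [tv, tv, dif_neg hv, dif_neg hv']

theorem tv_conj (g : ↥(Cfsg.SU 6 F 2)) (v : Vec F) :
    g * tv hF v * g⁻¹ = tv hF (act g v) := by
  have hiff : hb (act g v) (act g v) = hb v v := act_hb g v v
  by_cases hv : hb v v = 0
  · have hv' := hiff.trans hv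
    apply act_ext
    intro x
    rw [act_mul, act_mul, tv_act hF hv, tv_act hF hv', act_add, act_smul, act_inv_right]
    congr 2
    rw [← act_hb g, act_inv_right]
  · have hv' : ¬ hb (act g v) (act g v) = 0 := fun h => hv (hiff.symm.trans h)
    rw [tv, tv, dif_neg hv, dif_neg hv', mul_one, mul_inv_cancel]

theorem tv_eq {u v : Vec F} (hu : IsPt u) (hv : hb v v = 0) (h : tv hF u = tv hF v) :
    SamePt v u := by
  obtain ⟨x, -, hx⟩ := iso_one hF hu.1 1
  have := congrArg (fun g => act g x) h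
  simp only [tv_act hF hu.2, tv_act hF hv, hx, one_smul] at this
  exact ⟨hb x v, add_left_cancel this⟩

theorem tv_ne_one {v : Vec F} (hv : IsPt v) : tv hF v ≠ 1 := by
  intro h
  obtain ⟨x, -, hx⟩ := iso_one hF hv.1 1
  have := congrArg (fun g => act g x) h
  simp only [tv_act hF hv.2, act_one, hx, one_smul] at this
  exact hv.1 (add_eq_left.mp this)

omit [Fintype F] hF in
theorem act_pt (g : ↥(Cfsg.SU 6 F 2)) {v : Vec F} (hv : IsPt v) : IsPt (act g v) :=
  ⟨fun h => hv.1 (act_eq_zero h), (act_hb g v v).trans hv.2⟩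

/-- a central element is a scalar -/
theorem central_scalar {z : ↥(Cfsg.SU 6 F 2)} (hz : z ∈ Subgroup.center ↥(Cfsg.SU 6 F 2)) :
    ∃ a : F, a ≠ 0 ∧ ∀ x, act z x = a • x := by
  have fix : ∀ v, IsPt v → ∃ a : F, a ≠ 0 ∧ act z v = a • v := by
    intro v hv
    have h : tv hF (act z v) = tv hF v := by
      rw [← tv_conj hF, ← Subgroup.mem_center_iff.mp hz (tv hF v), mul_inv_cancel_right]
    have h1 := tv_eq hF (act_pt z hv) hv.2 h
    obtain ⟨a, ha⟩ := h1
    exact ⟨a, fun h0 => (act_pt z hv).1 (by rw [ha, h0, zero_smul]), ha⟩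
  have key : ∀ u v, IsPt u → IsPt v → hb u v ≠ 0 → ∀ a b : F, act z u = a • u → act z v = b • v →
      a ≠ 0 → b ≠ 0 → a = b := by
    intro u v _ _ huv a b ha hb_ _ hb0
    have := act_hb z u v
    rw [ha, hb_, hb_smul_left, hb_smul_right] at this
    have h1 : a * b ^ 2 = 1 := mul_right_cancel₀ huv (by rw [one_mul]; linear_combination this)
    calc a = a * b ^ 3 := by rw [pow_three hF hb0, mul_one]
      _ = b := by linear_combination b * h1
  have ind : ∃ v : Vec F, IsPt v := by
    obtain ⟨w, hw, hw1⟩ := iso_one hF (u := Pi.single 0 1) (by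
      intro h; simpa using congrFun h 0) 1
    exact ⟨w, fun h0 => by rw [h0, hb_zero_left] at hw1; exact zero_ne_one hw1, hw⟩
  obtain ⟨v₀, hv₀⟩ := ind
  obtain ⟨a, ha0, ha⟩ := fix v₀ hv₀
  have all : ∀ v, IsPt v → act z v = a • v := by
    intro v hv
    obtain ⟨b, hb0, hb_⟩ := fix v hv
    by_cases hcv : hb v₀ v = 0
    · by_cases hs : SamePt v₀ v
      · obtain ⟨c, hc⟩ := hs
        rw [hc, act_smul, ha, smul_comm]
      · obtain ⟨w, hw, hw0, hw1⟩ := iso_two hF hv₀.1 hs 1 1
        have hwp : IsPt w := ⟨fun h0 => by rw [h0, hb_zero_left] at hw0; exact zero_ne_one hw0, hw⟩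
        obtain ⟨c, hc0, hc⟩ := fix w hwp
        rw [hb_, ← key w v hwp hv (by rw [hw1]; exact one_ne_zero) c b hc hb_ hc0 hb0,
          key w v₀ hwp hv₀ (by rw [hw0]; exact one_ne_zero) c a hc ha hc0 ha0]
    · rw [hb_, key v₀ v hv₀ hv hcv a b ha hb_ ha0 hb0]
  refine ⟨a, ha0, fun x => ?_⟩
  have hx : act z x + a • x = 0 := by
    by_contra hne
    obtain ⟨w, hw, hw1⟩ := iso_one hF hne 1
    have hwp : IsPt w := ⟨fun h0 => by rw [h0, hb_zero_left] at hw1; exact zero_ne_one hw1, hw⟩
    have h1 := act_hb z x w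
    rw [all w hwp, hb_smul_right] at h1
    have h2 : hb (act z x + a • x) w = 0 := by
      rw [hb_add_left, hb_smul_left]
      linear_combination a * h1 - hb (act z x) w * pow_three hF ha0 + (a * hb x w) * two_zero hF
    rw [hb_eq_zero_comm hF, hw1] at h2
    exact one_ne_zero h2
  exact vec_eq_of_add hF hx

theorem central_pow_three {z : ↥(Cfsg.SU 6 F 2)} (hz : z ∈ Subgroup.center ↥(Cfsg.SU 6 F 2)) :
    z ^ 3 = 1 := by
  obtain ⟨a, ha0, ha⟩ := central_scalar hF hz
  apply act_ext
  intro x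
  rw [pow_succ, pow_two, act_mul, act_mul, ha, ha, ha, smul_smul, smul_smul, act_one]
  rw [show a * a * a = a ^ 3 by ring, pow_three hF ha0, one_smul]

theorem central_sq_eq_one {z : ↥(Cfsg.SU 6 F 2)} (hz : z ∈ Subgroup.center ↥(Cfsg.SU 6 F 2))
    (h : z * z = 1) : z = 1 := by
  have h3 := central_pow_three hF hz
  rwa [pow_succ, pow_two, h, one_mul] at h3

/-- the image of a transvection in `PSU 6 F 2` -/
noncomputable def ptv (v : Vec F) : Cfsg.PSU 6 F 2 := QuotientGroup.mk (tv hF v)

theorem ptv_mul_self (v : Vec F) : ptv hF v * ptv hF v = 1 := by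
  rw [ptv, ← QuotientGroup.mk_mul, tv_mul_self]; rfl

theorem ptv_smul {a : F} (ha : a ≠ 0) (v : Vec F) : ptv hF (a • v) = ptv hF v := by
  rw [ptv, tv_smul hF ha]; rfl

theorem ptv_ne_one {v : Vec F} (hv : IsPt v) : ptv hF v ≠ 1 := fun h =>
  tv_ne_one hF hv (central_sq_eq_one hF ((QuotientGroup.eq_one_iff _).mp h) (tv_mul_self hF v))

theorem ptv_eq {u v : Vec F} (hu : IsPt u) (hv : hb v v = 0) (h : ptv hF u = ptv hF v) :
    SamePt v u := by
  apply tv_eq hF hu hv
  have hz := QuotientGroup.eq.mp h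
  set z := (tv hF u)⁻¹ * tv hF v with hzdef
  have hv' : tv hF v = tv hF u * z := by rw [hzdef, mul_inv_cancel_left]
  have h1 : z * z = 1 := by
    have hc := Subgroup.mem_center_iff.mp hz (tv hF u)
    have := tv_mul_self hF v
    rwa [hv', mul_assoc, ← mul_assoc z, ← hc, mul_assoc, ← mul_assoc, tv_mul_self, one_mul] at this
  rw [hv', central_sq_eq_one hF hz h1, mul_one]

theorem ptv_conj (g : ↥(Cfsg.SU 6 F 2)) (v : Vec F) :
    (QuotientGroup.mk g : Cfsg.PSU 6 F 2) * ptv hF v * (QuotientGroup.mk g)⁻¹ = ptv hF (act g v) := by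
  rw [ptv, ptv, ← QuotientGroup.mk_inv, ← QuotientGroup.mk_mul, ← QuotientGroup.mk_mul, tv_conj]

theorem ptv_conj' {u : Vec F} (hu : hb u u = 0) (v : Vec F) :
    ptv hF u * ptv hF v * ptv hF u = ptv hF (v + hb v u • u) := by
  have hi : (tv hF u)⁻¹ = tv hF u := inv_eq_of_mul_eq_one_left (tv_mul_self hF u)
  rw [ptv, ptv, ptv, ← QuotientGroup.mk_mul, ← QuotientGroup.mk_mul]
  have h := tv_conj hF (tv hF u) v
  rw [hi, tv_act hF hu] at h
  rw [h]

/-- the five transvections of a totally isotropic line multiply to one -/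
theorem ptv_line {u v : Vec F} (hu : hb u u = 0) (hv : hb v v = 0) (huv : hb u v = 0) {w : F}
    (hw : w ^ 2 + w + 1 = 0) :
    ptv hF u * ptv hF v * ptv hF (u + v) * ptv hF (u + w • v) * ptv hF (u + w ^ 2 • v) = 1 := by
  have hvu := (hb_eq_zero_comm hF).mp huv
  have orth : ∀ a b c d : F, hb (a • u + b • v) (c • u + d • v) = 0 := fun a b c d => by
    simp [hb_add_left, hb_add_right hF, hb_smul_left, hb_smul_right, hu, hv, huv, hvu]
  have comb : ∀ (a b : F) (x : Vec F), hb x (a • u + b • v) = a ^ 2 * hb x u + b ^ 2 * hb x v :=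
    fun a b x => by rw [hb_add_right hF, hb_smul_right, hb_smul_right]
  simp only [ptv, ← QuotientGroup.mk_mul]
  rw [← QuotientGroup.mk_one]
  congr 1
  apply act_ext
  intro x
  have h00 : hb v u = 0 := hvu
  have i1 : hb (u + v) (u + v) = 0 := by simpa using orth 1 1 1 1
  have iw : ∀ b : F, hb (u + b • v) (u + b • v) = 0 := fun b => by simpa using orth 1 b 1 b
  simp only [act_mul, act_one, tv_act hF hu, tv_act hF hv, tv_act hF i1, tv_act hF (iw _),
    hb_add_left, hb_add_right hF, hb_smul_left, hb_smul_right, hu, hv, huv, hvu]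
  funext i
  simp only [Pi.add_apply, Pi.smul_apply, smul_eq_mul]
  have h2 := two_zero hF
  have hs := pow_four hF w
  grind

/-- `N x = g x + x` is self-adjoint for an involution -/
theorem invol_adjoint {g : ↥(Cfsg.SU 6 F 2)} (hg : g * g = 1) (y z : Vec F) :
    hb (act g y + y) z = hb y (act g z + z) := by
  rw [hb_add_left, hb_add_right hF]
  congr 1
  rw [← act_hb g y (act g z), ← act_mul, hg, act_one]

theorem invol_nn {g : ↥(Cfsg.SU 6 F 2)} (hg : g * g = 1) (y : Vec F) :
    act g (act g y + y) = act g y + y := by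
  rw [act_add, ← act_mul, hg, act_one, add_comm]

theorem invol_iso {g : ↥(Cfsg.SU 6 F 2)} (hg : g * g = 1) (y z : Vec F) :
    hb (act g y + y) (act g z + z) = 0 := by
  rw [invol_adjoint hF hg, invol_nn hF hg, vec_add_self hF, hb_zero_right]

/-- splitting one transvection off an involution -/
theorem invol_step {g : ↥(Cfsg.SU 6 F 2)} (hg : g * g = 1) (hne : g ≠ 1) :
    ∃ x v : Vec F, IsPt v ∧ hb x v = 1 ∧ v = act g x + x ∧ act g v = v ∧
      g * tv hF v * (g * tv hF v) = 1 ∧ act (g * tv hF v) x = x ∧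
      ∀ y, act g y = y → act (g * tv hF v) y = y := by
  -- some vector has value one for the Hermitian form `h(N y, z)`
  have hex : ∃ x, hb x (act g x + x) ≠ 0 := by
    by_contra hall
    simp only [not_exists, not_not] at hall
    apply hne
    apply act_ext
    intro z
    rw [act_one]
    apply vec_eq_of_add hF
    apply hb_nondeg' hF
    intro y
    have hsum : ∀ a : F, a * hb y (act g z + z) + (a * hb y (act g z + z)) ^ 2 = 0 := by
      intro a
      have h := hall (a • y + z)
      have e : act g (a • y + z) + (a • y + z) = a • (act g y + y) + (act g z + z) := by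
        rw [act_add, act_smul, smul_add]; abel
      rw [e, hb_add_left, hb_add_right hF (a • y) (a • _), hb_add_right hF z (a • _), hb_smul_left,
        hb_smul_left, hb_smul_right, hb_smul_right, hall y, hall z, ← invol_adjoint hF hg z y,
        hb_conj hF y (act g z + z)] at h
      linear_combination h
    by_contra hb0
    obtain ⟨c, hc⟩ := exists_trace hF (t := (1 : F)) (Or.inr rfl)
    have := hsum (c * (hb y (act g z + z))⁻¹)
    rw [inv_mul_cancel_right₀ hb0, hc] at this
    exact one_ne_zero this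
  obtain ⟨x, hx⟩ := hex
  set v := act g x + x with hvdef
  have hv : hb v v = 0 := invol_iso hF hg x x
  have hv1 : hb x v = 1 := by
    apply (mul_left_inj' hx).mp
    rw [one_mul, ← sq, ← hb_conj hF x v, hvdef, invol_adjoint hF hg]
  have hvp : IsPt v := ⟨fun h0 => by rw [h0, hb_zero_right] at hv1; exact zero_ne_one hv1, hv⟩
  have hgv : act g v = v := invol_nn hF hg x
  have hcomm : g * tv hF v = tv hF v * g := by
    have h := tv_conj hF g v
    rw [hgv] at h
    exact mul_inv_eq_iff_eq_mul.mp h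
  refine ⟨x, v, hvp, hv1, rfl, hgv, ?_, ?_, ?_⟩
  · calc g * tv hF v * (g * tv hF v) = g * tv hF v * (tv hF v * g) := by rw [← hcomm]
      _ = g * (tv hF v * tv hF v) * g := by group
      _ = 1 := by rw [tv_mul_self, mul_one, hg]
  · rw [act_mul, tv_act hF hv, hv1, one_smul, act_add, hgv, hvdef, ← add_assoc, vec_add_self hF, zero_add]
  · intro y hy
    have : hb y v = 0 := by
      rw [hvdef, ← invol_adjoint hF hg, hy, vec_add_self hF, hb_zero_left]
    rw [act_mul, tv_act hF hv, this, zero_smul, add_zero, hy]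

/-- an involution of `PSU` lifts to an involution of `SU` -/
theorem exists_invol_lift {e : Cfsg.PSU 6 F 2} (he : e * e = 1) :
    ∃ g : ↥(Cfsg.SU 6 F 2), g * g = 1 ∧ (QuotientGroup.mk g : Cfsg.PSU 6 F 2) = e := by
  obtain ⟨g, rfl⟩ := QuotientGroup.mk_surjective e
  have hz : g * g ∈ Subgroup.center ↥(Cfsg.SU 6 F 2) := by
    rwa [← QuotientGroup.eq_one_iff, QuotientGroup.mk_mul]
  refine ⟨g ^ 3, ?_, ?_⟩
  · rw [← pow_add, show 3 + 3 = 2 * 3 by norm_num, pow_mul, pow_two, central_pow_three hF hz]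
  · rw [QuotientGroup.mk_pow, pow_succ, pow_two, he, one_mul]

theorem act_fix_comm {r : ↥(Cfsg.SU 6 F 2)} {p : Vec F} (h : act r p = p) :
    r * tv hF p = tv hF p * r := by
  have := tv_conj hF r p
  rw [h] at this
  exact mul_inv_eq_iff_eq_mul.mp this

/-- the involutions forming a set of 3-transpositions are transvections -/
theorem three_transposition_is_ptv (E : Set (Cfsg.PSU 6 F 2)) (hord : ∀ a ∈ E, a * a = 1 ∧ a ≠ 1)
    (hinv : ∀ g : Cfsg.PSU 6 F 2, ∀ a ∈ E, g * a * g⁻¹ ∈ E)
    (h3 : ∀ a ∈ E, ∀ b ∈ E, (a * b) ^ 2 = 1 ∨ (a * b) ^ 3 = 1) :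
    ∀ a ∈ E, ∃ v, IsPt v ∧ a = ptv hF v := by
  intro e he
  obtain ⟨g, hg, hge⟩ := exists_invol_lift hF (hord e he).1
  have hg1 : g ≠ 1 := fun h => (hord e he).2 (by rw [← hge, h]; rfl)
  obtain ⟨x1, a, hap, hxa, hadef, hga, hg', hx1, hker1⟩ := invol_step hF hg hg1
  set g' := g * tv hF a with hg'def
  by_cases h1 : g' = 1
  · refine ⟨a, hap, ?_⟩
    have : g = tv hF a := by
      calc g = g' * tv hF a := by rw [hg'def, mul_assoc, tv_mul_self, mul_one]
        _ = tv hF a := by rw [h1, one_mul]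
    rw [← hge, this]; rfl
  exfalso
  obtain ⟨x2, b, hbp, hxb, hbdef, hgb, hr, hx2, hker2⟩ := invol_step hF hg' h1
  set r := g' * tv hF b with hrdef
  have hx1b : hb x1 b = 0 := by
    rw [hbdef, ← invol_adjoint hF hg', hx1, vec_add_self hF, hb_zero_left]
  have hga' : act g' a = a := by
    rw [hg'def, act_mul, tv_act hF hap.2, hap.2, zero_smul, add_zero, hga]
  have hab : hb a b = 0 := by
    rw [hbdef, ← invol_adjoint hF hg', hga', vec_add_self hF, hb_zero_left]
  have hba := (hb_eq_zero_comm hF).mp hab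
  have hr1 : act r x1 = x1 := hker2 _ hx1
  have hra : act r a = a := hker2 _ hga'
  have hrb : act r b = b := by
    rw [hrdef, act_mul, tv_act hF hbp.2, hbp.2, zero_smul, add_zero, hgb]
  have hax : hb a x1 = 1 := by rw [hb_conj hF x1 a, hxa, one_pow]
  have hbx : hb b x2 = 1 := by rw [hb_conj hF x2 b, hxb, one_pow]
  -- the isotropic vector p
  obtain ⟨c1, hc1⟩ := exists_trace hF (hb_self_cases hF x1)
  set p := x1 + c1 • a with hpdef
  have hp : hb p p = 0 := by
    simp only [hpdef, hb_add_left, hb_add_right hF, hb_smul_left, hb_smul_right, hap.2, hxa, hax]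
    linear_combination hc1 + hb x1 x1 * two_zero hF
  have hpa : hb p a = 1 := by rw [hpdef, hb_add_left, hb_smul_left, hxa, hap.2, mul_zero, add_zero]
  have hpb : hb p b = 0 := by rw [hpdef, hb_add_left, hb_smul_left, hx1b, hab, mul_zero, add_zero]
  have hrp : act r p = p := by rw [hpdef, act_add, act_smul, hr1, hra]
  -- the isotropic vector q
  set x2' := x2 + hb x2 a • x1 with hx2'def
  have hq2a : hb x2' a = 0 := by
    rw [hx2'def, hb_add_left, hb_smul_left, hxa, mul_one, add_self_zero hF]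
  have hq2b : hb x2' b = 1 := by
    rw [hx2'def, hb_add_left, hb_smul_left, hx1b, mul_zero, add_zero, hxb]
  have hr2 : act r x2' = x2' := by rw [hx2'def, act_add, act_smul, hx2, hr1]
  obtain ⟨c2, hc2⟩ := exists_trace hF (hb_self_cases hF x2')
  set q0 := x2' + c2 • b with hq0def
  have hb2 : hb b x2' = 1 := by rw [hb_conj hF x2' b, hq2b, one_pow]
  have hq0 : hb q0 q0 = 0 := by
    simp only [hq0def, hb_add_left, hb_add_right hF, hb_smul_left, hb_smul_right, hbp.2, hq2b, hb2]
    linear_combination hc2 + hb x2' x2' * two_zero hF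
  have hq0a : hb q0 a = 0 := by rw [hq0def, hb_add_left, hb_smul_left, hq2a, hba, mul_zero, add_zero]
  have hq0b : hb q0 b = 1 := by rw [hq0def, hb_add_left, hb_smul_left, hq2b, hbp.2, mul_zero, add_zero]
  set q := q0 + ((1 + hb p q0) ^ 2) • a with hqdef
  have haq0 : hb a q0 = 0 := (hb_eq_zero_comm hF).mp hq0a
  have hq : hb q q = 0 := by
    simp only [hqdef, hb_add_left, hb_add_right hF, hb_smul_left, hb_smul_right, hap.2, hq0, hq0a, haq0]
    ring
  have hqa : hb q a = 0 := by rw [hqdef, hb_add_left, hb_smul_left, hap.2, hq0a, mul_zero, add_zero]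
  have hqb : hb q b = 1 := by rw [hqdef, hb_add_left, hb_smul_left, hab, hq0b, mul_zero, add_zero]
  have hpq : hb p q = 1 := by
    rw [hqdef, hb_add_right hF, hb_smul_right, hpa, sq_sq hF, mul_one]
    linear_combination hb p q0 * two_zero hF
  have hrq : act r q = q := by
    rw [hqdef, hq0def, act_add, act_add, act_smul, act_smul, hr2, hrb, hra]
  -- conjugation
  set k := tv hF p * tv hF q with hkdef
  have hap' : hb a p = 1 := by rw [hb_conj hF p a, hpa, one_pow]
  have haq : hb a q = 0 := (hb_eq_zero_comm hF).mp hqa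
  have hbq : hb b q = 1 := by rw [hb_conj hF q b, hqb, one_pow]
  have hbp' : hb b p = 0 := (hb_eq_zero_comm hF).mp hpb
  have hqp : hb q p = 1 := by rw [hb_conj hF p q, hpq, one_pow]
  have hka : act k a = a + p := by
    rw [hkdef, act_mul, tv_act hF hq, haq, zero_smul, add_zero, tv_act hF hp, hap', one_smul]
  have hkb : act k b = b + q + p := by
    rw [hkdef, act_mul, tv_act hF hq, hbq, one_smul, tv_act hF hp, hb_add_left, hbp', hqp, zero_add,
      one_smul]
  have hrk : r * k = k * r := by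
    rw [hkdef, ← mul_assoc, act_fix_comm hF hrp, mul_assoc, act_fix_comm hF hrq, ← mul_assoc]
  have hge' : g = r * tv hF b * tv hF a := by
    rw [hrdef, mul_assoc g', tv_mul_self, mul_one, hg'def, mul_assoc, tv_mul_self, mul_one]
  set y := r * tv hF b * tv hF a * (r * tv hF (b + q + p) * tv hF (a + p)) with hydef
  have hkg : k * g * k⁻¹ = r * tv hF (b + q + p) * tv hF (a + p) := by
    rw [← hkb, ← hka, ← tv_conj hF k b, ← tv_conj hF k a, hge']
    calc k * (r * tv hF b * tv hF a) * k⁻¹ = (k * r) * tv hF b * tv hF a * k⁻¹ := by group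
      _ = r * k * tv hF b * tv hF a * k⁻¹ := by rw [hrk]
      _ = _ := by group
  have h3' := h3 _ he _ (hinv (QuotientGroup.mk k) e he)
  rw [← hge, ← QuotientGroup.mk_inv, ← QuotientGroup.mk_mul, ← QuotientGroup.mk_mul,
    ← QuotientGroup.mk_mul, hkg, hge', ← hydef] at h3'
  have ha'p : IsPt (a + p) := hka ▸ act_pt k hap
  have hb'p : IsPt (b + q + p) := hkb ▸ act_pt k hbp
  have ract : act r (a + p) = a + p := by rw [act_add, hra, hrp]
  have ract' : act r (b + q + p) = b + q + p := by rw [act_add, act_add, hrb, hrq, hrp]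
  have hapq : hb (a + p) (b + q + p) = 0 := by
    simp only [hb_add_left, hb_add_right hF, hab, haq, hap', hpb, hpq, hp]
    linear_combination two_zero hF
  have Y : ∀ z, act y z = act r (act (tv hF b) (act (tv hF a) (act r
      (act (tv hF (b + q + p)) (act (tv hF (a + p)) z))))) := fun z => by
    simp only [hydef, act_mul]
  have ev : ∀ {u : Vec F}, hb u u = 0 → ∀ z c : _, hb z u = c →
      act (tv hF u) z = z + c • u := fun {u} hu z c hc => by rw [tv_act hF hu, hc]
  have hqpa : hb (q + p) a = 1 := by rw [hb_add_left, hqa, hpa, zero_add]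
  have ya : act y a = q := by
    rw [Y, ev ha'p.2 a 1 (by rw [hb_add_right hF, hap.2, hap', zero_add]), one_smul,
      show a + (a + p) = p by rw [← add_assoc, vec_add_self hF, zero_add],
      ev hb'p.2 p 1 (by simp [hb_add_right hF, hpb, hpq, hp]), one_smul,
      show p + (b + q + p) = b + q + (p + p) by abel, vec_add_self hF, add_zero,
      act_add, hrb, hrq,
      ev hap.2 (b + q) 0 (by simp [hb_add_left, hba, hqa]), zero_smul, add_zero,
      ev hbp.2 (b + q) 1 (by simp [hb_add_left, hbp.2, hqb]), one_smul,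
      show b + q + b = q + (b + b) by abel, vec_add_self hF, add_zero, hrq]
  have yq : act y q = q + p + b := by
    rw [Y, ev ha'p.2 q 1 (by simp [hb_add_right hF, hqa, hqp]), one_smul,
      ev hb'p.2 (q + (a + p)) 0 (by
        simp only [hb_add_left, hb_add_right hF, hqb, hq, hqp, hab, haq, hap', hpb, hpq, hp]
        linear_combination (two_zero hF) + (two_zero hF)), zero_smul, add_zero,
      act_add, ract, hrq,
      ev hap.2 (q + (a + p)) 1 (by simp [hb_add_left, hqa, hap.2, hpa]), one_smul,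
      show q + (a + p) + a = q + p + (a + a) by abel, vec_add_self hF, add_zero,
      ev hbp.2 (q + p) 1 (by simp [hb_add_left, hqb, hpb]), one_smul,
      act_add, act_add, hrq, hrp, hrb]
  have yb' : act y (q + p + b) = q + p + a := by
    rw [Y, ev ha'p.2 (q + p + b) 0 (by
        simp only [hb_add_left, hb_add_right hF, hqa, hqp, hpa, hp, hba, hbp']
        linear_combination two_zero hF), zero_smul, add_zero,
      ev hb'p.2 (q + p + b) 0 (by
        rw [show q + p + b = b + q + p by abel]; exact hb'p.2), zero_smul, add_zero,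
      show q + p + b = b + q + p by abel, ract',
      ev hap.2 (b + q + p) 1 (by simp [hb_add_left, hba, hqa, hpa]), one_smul,
      ev hbp.2 (b + q + p + a) 1 (by simp [hb_add_left, hbp.2, hqb, hpb, hab]), one_smul,
      show b + q + p + a + b = q + p + a + (b + b) by abel, vec_add_self hF, add_zero,
      act_add, act_add, hrq, hrp, hra]
  have ypow : ∀ n, (QuotientGroup.mk y : Cfsg.PSU 6 F 2) ^ n = 1 →
      SamePt a (act (y ^ n) a) := by
    intro n hn
    apply SamePt.symm ?_ hap.1
    apply ptv_eq hF hap (act_pt _ hap).2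
    rw [← ptv_conj, QuotientGroup.mk_pow, hn, one_mul, inv_one, mul_one]
  rcases h3' with h2 | h2
  · have := ypow 2 h2
    rw [pow_two, act_mul, ya, yq] at this
    obtain ⟨c, hc⟩ := this
    have := congrArg (fun z => hb z b) hc
    simp [hb_add_left, hb_smul_left, hqb, hpb, hbp.2, hab] at this
  · have := ypow 3 h2
    rw [pow_succ, pow_two, act_mul, act_mul, ya, yq, yb'] at this
    obtain ⟨c, hc⟩ := this
    have := congrArg (fun z => hb z b) hc
    simp [hb_add_left, hb_smul_left, hqb, hpb, hab] at this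

omit [Fintype F] hF in
theorem vec_one_ne : (Pi.single 0 1 : Vec F) ≠ 0 := fun h => by simpa using congrFun h 0

theorem ptv_transitive {u v : Vec F} (hu : IsPt u) (hv : IsPt v) :
    ∃ g : Cfsg.PSU 6 F 2, g * ptv hF u * g⁻¹ = ptv hF v := by
  have step : ∀ s t : Vec F, IsPt s → IsPt t → hb s t ≠ 0 →
      ∃ g : Cfsg.PSU 6 F 2, g * ptv hF s * g⁻¹ = ptv hF t := by
    intro s t hs ht hst
    refine ⟨QuotientGroup.mk (tv hF s * tv hF t), ?_⟩
    rw [ptv_conj, act_mul, tv_act hF ht.2, tv_act hF hs.2, hb_add_left, hs.2, zero_add, hb_smul_left,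
      hb_conj hF s t, show hb s t * (hb s t) ^ 2 = 1 by linear_combination pow_three hF hst,
      one_smul, show s + hb s t • t + s = (s + s) + hb s t • t by abel, vec_add_self hF, zero_add,
      ptv_smul hF hst]
  by_cases h : hb u v = 0
  · by_cases hs : SamePt u v
    · obtain ⟨c, hc⟩ := hs
      refine ⟨1, ?_⟩
      rw [one_mul, inv_one, mul_one, hc, ptv_smul hF]
      rintro rfl; rw [zero_smul] at hc; exact hv.1 hc
    · obtain ⟨w, hw, h1, h2⟩ := iso_two hF hu.1 hs 1 1
      have hwp : IsPt w := ⟨fun h0 => by rw [h0, hb_zero_left] at h1; exact zero_ne_one h1, hw⟩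
      obtain ⟨g1, hg1⟩ := step u w hu hwp (by rw [hb_conj hF w u, h1]; simp)
      obtain ⟨g2, hg2⟩ := step w v hwp hv (by rw [h2]; exact one_ne_zero)
      exact ⟨g2 * g1, by rw [← hg2, ← hg1]; group⟩
  · exact step u v hu hv h


end F4

end Cfsg.Agent.H93
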