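import Cfsg.Agent.H93.Frame
import Cfsg.Agent.H93.U6Grp

/-!
Elementary abelian 2-subgroups of `SU 6 F 2` and `PSU 6 F 2` for the field with four elements:
the order is at most `2^9`, and a subgroup of that order is generated by the transvections it
contains.
-/

set_option autoImplicit false

namespace Cfsg.Agent.H93

variable {F : Type*} [Field F]

/-- the action as a linear map -/
def actL (g : ↥(Cfsg.SU 6 F 2)) : Vec F →ₗ[F] Vec F where
  toFun := act g
  map_add' := act_add g
  map_smul' := act_smul g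

variable [Fintype F]

/-- the elements of `F` equal to their squares -/
abbrev Bit (F : Type*) [Field F] := {t : F // t * t = t}

theorem card_bit : Nat.card (Bit F) = 2 := by
  classical
  rw [show Nat.card (Bit F) = ({t : F | t * t = t} : Set F).ncard from Nat.card_coe_set_eq _,
    show ({t : F | t * t = t} : Set F) = {0, 1} from Set.ext fun t => ?_, Set.ncard_pair zero_ne_one]
  constructor
  · intro h
    rcases mul_eq_zero.mp (show t * (t - 1) = 0 by rw [mul_sub, mul_one, sub_eq_zero]; exact h) with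
      q | q
    exacts [Or.inl q, Or.inr (sub_eq_zero.mp q)]
  · rintro (rfl | rfl) <;> simp

variable (hF : Fintype.card F = 4)

include hF

/-- a common fixed vector modulo an invariant submodule -/
theorem exists_fixed_mod (A : Subgroup ↥(Cfsg.SU 6 F 2)) (hc : ∀ g ∈ A, ∀ h ∈ A, Commute g h)
    (hs : ∀ g ∈ A, g * g = 1) (U S : Submodule F (Vec F))
    (hU : ∀ g ∈ A, ∀ x ∈ U, act g x ∈ U) (hS : ∀ g ∈ A, ∀ x ∈ S, act g x ∈ S)
    {x₀ : Vec F} (hx₀ : x₀ ∈ S) (hx₀U : x₀ ∉ U) :
    ∃ x ∈ S, x ∉ U ∧ ∀ g ∈ A, act g x + x ∈ U := by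
  classical
  suffices key : ∀ n : ℕ, ∀ x ∈ S, x ∉ U → {g : ↥A | act g.1 x + x ∉ U}.ncard ≤ n →
      ∃ x ∈ S, x ∉ U ∧ ∀ g ∈ A, act g x + x ∈ U from key _ x₀ hx₀ hx₀U le_rfl
  intro n
  induction n using Nat.strong_induction_on with
  | _ n ih =>
    intro x hx hxU hn
    by_cases hall : ∀ g ∈ A, act g x + x ∈ U
    · exact ⟨x, hx, hxU, hall⟩
    simp only [not_forall] at hall
    obtain ⟨g, hg, hbad⟩ := hall
    set x' := act g x + x with hx'
    have hlt : {h : ↥A | act h.1 x' + x' ∉ U}.ncard < {h : ↥A | act h.1 x + x ∉ U}.ncard := by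
      refine Set.ncard_lt_ncard ⟨fun h hh => ?_, fun hsub => ?_⟩ (Set.toFinite _)
      · by_contra hgood
        simp only [Set.mem_ofPred_eq, not_not] at hgood hh
        refine hh ?_
        have e : act h.1 x' + x' = act g (act h.1 x + x) + (act h.1 x + x) := by
          rw [hx', act_add, act_add, ← act_mul, ← act_mul, (hc g hg h.1 h.2).eq]
          abel
        rw [e]
        exact U.add_mem (hU g hg _ hgood) hgood
      · have := hsub (show (⟨g, hg⟩ : ↥A) ∈ {h : ↥A | act h.1 x + x ∉ U} from hbad)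
        refine this ?_
        show act g x' + x' ∈ U
        rw [hx', invol_nn hF (hs g hg), vec_add_self hF]
        exact U.zero_mem
    exact ih _ (lt_of_lt_of_le hlt hn) x' (S.add_mem (hS g hg x hx) hx) hbad le_rfl

theorem hb_span_zero {k : ℕ} {l : Fin k → Vec F} {y u : Vec F} (h : ∀ i, hb y (l i) = 0)
    (hu : u ∈ Submodule.span F (Set.range l)) : hb y u = 0 := by
  induction hu using Submodule.span_induction with
  | mem x hx => obtain ⟨i, rfl⟩ := hx; exact h i
  | zero => exact hb_zero_right y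
  | add x z _ _ hx hz => rw [hb_add_right hF, hx, hz, add_zero]
  | smul r x _ hx => rw [hb_smul_right, hx, mul_zero]

/-- one more point of an invariant flag -/
theorem exists_flag_step (A : Subgroup ↥(Cfsg.SU 6 F 2)) (hc : ∀ g ∈ A, ∀ h ∈ A, Commute g h)
    (hs : ∀ g ∈ A, g * g = 1) {k : ℕ} (hk : k ≤ 2) (l : Fin k → Vec F)
    (hl : LinearIndependent F l)
    (htri : ∀ g ∈ A, ∀ i, act g (l i) + l i ∈ Submodule.span F (Set.range l)) :
    ∃ P, IsPt P ∧ (∀ i, hb P (l i) = 0) ∧ P ∉ Submodule.span F (Set.range l) ∧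
      ∀ g ∈ A, act g P + P ∈ Submodule.span F (Set.range l) := by
  set U := Submodule.span F (Set.range l) with hUdef
  have hUinv : ∀ g ∈ A, ∀ x ∈ U, act g x ∈ U := by
    intro g hg
    have : U ≤ U.comap (actL g) := Submodule.span_le.mpr (by
      rintro _ ⟨i, rfl⟩
      show act g (l i) ∈ U
      have h := U.add_mem (htri g hg i) (Submodule.subset_span ⟨i, rfl⟩)
      rwa [add_assoc, vec_add_self hF, add_zero] at h)
    exact fun x hx => this hx
  have adj : ∀ {g}, g ∈ A → ∀ y z, hb (act g y) z = hb y (act g z) := fun {g} hg y z => by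
    rw [← act_hb g y (act g z), ← act_mul, hs g hg, act_one]
  let S := LinearMap.ker (evalMap l)
  have hSinv : ∀ g ∈ A, ∀ x ∈ S, act g x ∈ S := fun g hg x hx => funext fun i => by
    show hb (act g x) (l i) = 0
    rw [adj hg]
    exact hb_span_zero hF (fun j => congrFun hx j) (hUinv g hg _ (Submodule.subset_span ⟨i, rfl⟩))
  obtain ⟨u, hu, huU⟩ := exists_extra hF hl (Or.inl hk)
  obtain ⟨x, hxS, hxU, hxA⟩ := exists_fixed_mod hF A hc hs U S hUinv hSinv
    (show u ∈ S from funext hu) huU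
  have hxl : ∀ i, hb x (l i) = 0 := fun i => congrFun hxS i
  rcases hb_self_cases hF x with h0 | h1
  · exact ⟨x, ⟨fun q => hxU (q ▸ U.zero_mem), h0⟩, hxl, hxU, hxA⟩
  -- otherwise a second fixed vector orthogonal to the first
  have hl' : LinearIndependent F (Fin.snoc l x) := linearIndependent_finSnoc.mpr ⟨hl, hxU⟩
  obtain ⟨v, hv, hvU⟩ := exists_extra hF hl' (by
    rcases Nat.lt_or_ge k 2 with q | q
    · exact Or.inl (by omega)
    · exact Or.inr ⟨by omega, Fin.last k, Fin.last k, by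
        simp only [Fin.snoc_last, h1]; exact one_ne_zero⟩)
  let S' := S ⊓ LinearMap.ker (hbL x)
  have hS'inv : ∀ g ∈ A, ∀ y ∈ S', act g y ∈ S' := fun g hg y hy => ⟨hSinv g hg y hy.1, by
    show hb (act g y) x = 0
    have hyx : hb y x = 0 := hy.2
    rw [adj hg, show act g x = (act g x + x) + x by rw [add_assoc, vec_add_self hF, add_zero],
      hb_add_right hF, hyx, hb_span_zero hF (fun j => congrFun hy.1 j) (hxA g hg), add_zero]⟩
  obtain ⟨y, hyS, hyU, hyA⟩ := exists_fixed_mod hF A hc hs U S' hUinv hS'inv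
    (x₀ := v) ⟨funext fun i => (by
      show hb v (l i) = 0
      have := hv i.castSucc
      rwa [Fin.snoc_castSucc] at this), by
      show hb v x = 0
      have := hv (Fin.last k)
      rwa [Fin.snoc_last] at this⟩
    (fun q => hvU (Submodule.span_mono (by
      rintro _ ⟨i, rfl⟩; exact ⟨i.castSucc, Fin.snoc_castSucc ..⟩) q))
  have hyl : ∀ i, hb y (l i) = 0 := fun i => congrFun hyS.1 i
  rcases hb_self_cases hF y with h0 | h2
  · exact ⟨y, ⟨fun q => hyU (q ▸ U.zero_mem), h0⟩, hyl, hyU, hyA⟩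
  have hyx : hb y x = 0 := hyS.2
  have hxy : hb x y = 0 := (hb_eq_zero_comm hF).mp hyx
  have hzl : ∀ i, hb (x + y) (l i) = 0 := fun i => by rw [hb_add_left, hxl, hyl, add_zero]
  have hzU : x + y ∉ U := fun q => by
    have h3 := hb_span_zero hF hxl q
    rw [hb_add_right hF, h1, hxy, add_zero] at h3
    exact one_ne_zero h3
  refine ⟨x + y, ⟨fun q => hzU (q ▸ U.zero_mem), ?_⟩, hzl, hzU, fun g hg => ?_⟩
  · simp [hb_add_left, hb_add_right hF, h1, h2, hxy, hyx, add_self_zero hF]
  · rw [act_add, add_add_add_comm]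
    exact U.add_mem (hxA g hg) (hyA g hg)

omit [Fintype F] hF in
/-- a totally isotropic plane with a dual family -/
structure Plane (P Q : Fin 3 → Vec F) : Prop where
  li : LinearIndependent F P
  orth : ∀ i j, hb (P i) (P j) = 0
  dual : ∀ i j, hb (Q i) (P j) = if i = j then 1 else 0

/-- the subgroups in question fix a flag -/
theorem exists_flag (A : Subgroup ↥(Cfsg.SU 6 F 2)) (hc : ∀ g ∈ A, ∀ h ∈ A, Commute g h)
    (hs : ∀ g ∈ A, g * g = 1) :
    ∃ P Q : Fin 3 → Vec F, Plane P Q ∧ ∀ g ∈ A, act g (P 0) = P 0 ∧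
      (∃ α : F, act g (P 1) = P 1 + α • P 0) ∧
      ∃ β γ : F, act g (P 2) = P 2 + β • P 0 + γ • P 1 := by
  have add' : ∀ {x y z : Vec F}, x + y = z → x = y + z := fun {x y z} e => by
    rw [← e, add_comm x y, ← add_assoc, vec_add_self hF, zero_add]
  obtain ⟨p0, h0, -, -, t0⟩ := exists_flag_step hF A hc hs (k := 0) (by norm_num) ![]
    linearIndependent_empty_type (fun _ _ i => i.elim0)
  have fix0 : ∀ g ∈ A, act g p0 = p0 := fun g hg => by
    have h := t0 g hg
    rw [Matrix.range_empty, Submodule.span_empty, Submodule.mem_bot] at h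
    exact vec_eq_of_add hF h
  have hl1 : LinearIndependent F ![p0] := by
    rw [Fintype.linearIndependent_iff]
    intro c hc0 i
    simp only [Fin.sum_univ_one, Matrix.cons_val_zero] at hc0
    fin_cases i
    exact (smul_eq_zero.mp hc0).resolve_right h0.1
  obtain ⟨p1, h1, o1, n1, t1⟩ := exists_flag_step hF A hc hs (k := 1) (by norm_num) ![p0] hl1
    (fun g hg i => by
      fin_cases i
      simp [fix0 g hg, vec_add_self hF])
  have fix1 : ∀ g ∈ A, ∃ α : F, act g p1 = p1 + α • p0 := fun g hg => by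
    have h := t1 g hg
    rw [show Set.range ![p0] = {p0} by simp] at h
    obtain ⟨α, hα⟩ := Submodule.mem_span_singleton.mp h
    exact ⟨α, add' hα.symm⟩
  have hl2 : LinearIndependent F ![p0, p1] := by
    rw [LinearIndependent.pair_iff' h0.1]
    exact fun r hr => n1 (by rw [← hr]; exact Submodule.smul_mem _ _ (Submodule.subset_span ⟨0, rfl⟩))
  obtain ⟨p2, h2, o2, n2, t2⟩ := exists_flag_step hF A hc hs (k := 2) le_rfl ![p0, p1] hl2
    (fun g hg i => by
      fin_cases i
      · simp [fix0 g hg, vec_add_self hF]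
      · obtain ⟨α, hα⟩ := fix1 g hg
        show act g p1 + p1 ∈ _
        rw [hα, add_comm p1, add_assoc, vec_add_self hF, add_zero]
        exact Submodule.smul_mem _ _ (Submodule.subset_span ⟨0, rfl⟩))
  have hli : LinearIndependent F ![p0, p1, p2] := by
    have : Fin.snoc ![p0, p1] p2 = ![p0, p1, p2] := by funext i; fin_cases i <;> rfl
    rw [← this]
    exact linearIndependent_finSnoc.mpr ⟨hl2, n2⟩
  choose Q hQ using fun i : Fin 3 => solve hF hli (fun j => if i = j then 1 else 0)
  refine ⟨![p0, p1, p2], Q, ⟨hli, fun i j => ?_, hQ⟩, fun g hg => ⟨fix0 g hg, fix1 g hg, ?_⟩⟩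
  · have a10 : hb p1 p0 = 0 := o1 0
    have a20 : hb p2 p0 = 0 := o2 0
    have a21 : hb p2 p1 = 0 := o2 1
    have a01 := (hb_eq_zero_comm hF).mp a10
    have a02 := (hb_eq_zero_comm hF).mp a20
    have a12 := (hb_eq_zero_comm hF).mp a21
    fin_cases i <;> fin_cases j
    all_goals first
      | exact h0.2 | exact h1.2 | exact h2.2 | assumption
  · obtain ⟨c, hc2⟩ := (Submodule.mem_span_range_iff_exists_fun F).mp (t2 g hg)
    simp only [Fin.sum_univ_two, Matrix.cons_val_zero, Matrix.cons_val_one] at hc2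
    exact ⟨c 0, c 1, by
      show act g p2 = p2 + c 0 • p0 + c 1 • p1
      rw [add' hc2.symm, add_assoc]⟩

/-- the transvections of the plane -/
noncomputable def Plane.tvs {P Q : Fin 3 → Vec F} (_p : Plane P Q) : Set ↥(Cfsg.SU 6 F 2) :=
  {t | ∃ v, IsPt v ∧ v ∈ Submodule.span F (Set.range P) ∧ t = tv hF v}

namespace Plane

variable {P Q : Fin 3 → Vec F} (p : Plane P Q)

omit [Fintype F] in
/-- fixing the plane pointwise -/
def Fix (_p : Plane P Q) (g : ↥(Cfsg.SU 6 F 2)) : Prop := ∀ i, act g (P i) = P i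

/-- the form of an element fixing the plane -/
def H (g : ↥(Cfsg.SU 6 F 2)) (x y : Vec F) : F := hb (act g x + x) y

include p

theorem sum3 (c : Fin 3 → F) (y : Vec F) :
    hb (∑ i, c i • P i) y = ∑ i, c i * hb (P i) y := sum_hb_left c P y

theorem dual' (i j : Fin 3) : hb (P i) (Q j) = if j = i then 1 else 0 := by
  rw [hb_conj hF (Q j) (P i), p.dual]
  split <;> simp

theorem perp_mem {x : Vec F} (hx : ∀ i, hb x (P i) = 0) : x ∈ Submodule.span F (Set.range P) := by
  have hle : Submodule.span F (Set.range P) ≤ LinearMap.ker (evalMap P) := Submodule.span_le.mpr (by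
    rintro _ ⟨i, rfl⟩
    exact funext fun j => p.orth i j)
  have h1 := LinearMap.finrank_range_add_finrank_ker (evalMap P)
  rw [LinearMap.range_eq_top.mpr (evalMap_surjective hF p.li), finrank_top] at h1
  simp only [Module.finrank_fintype_fun_eq_card, Fintype.card_fin] at h1
  rw [Submodule.eq_of_le_of_finrank_le hle (by
    rw [finrank_span_eq_card p.li, Fintype.card_fin]; omega)]
  exact funext hx

theorem eq_of_coord {x : Vec F} (hx : ∀ i, hb x (P i) = 0) (hy : ∀ i, hb x (Q i) = 0) : x = 0 := by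
  obtain ⟨c, rfl⟩ := (Submodule.mem_span_range_iff_exists_fun F).mp (p.perp_mem hF hx)
  have : ∀ i, c i = 0 := fun i => by
    have := hy i
    rw [p.sum3 hF c, Finset.sum_eq_single i (fun j _ hj => by rw [p.dual' hF, if_neg hj.symm, mul_zero])
      (by simp), p.dual' hF, if_pos rfl, mul_one] at this
    exact this
  simp [this]

theorem fix_span {g : ↥(Cfsg.SU 6 F 2)} (hg : p.Fix g) {x : Vec F}
    (hx : x ∈ Submodule.span F (Set.range P)) : act g x = x := by
  induction hx using Submodule.span_induction with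
  | mem x hx => obtain ⟨i, rfl⟩ := hx; exact hg i
  | zero => exact act_zero g
  | add x y _ _ hx hy => rw [act_add, hx, hy]
  | smul r x _ hx => rw [act_smul, hx]

theorem move_mem {g : ↥(Cfsg.SU 6 F 2)} (hg : p.Fix g) (x : Vec F) :
    act g x + x ∈ Submodule.span F (Set.range P) := p.perp_mem hF fun i => by
  rw [hb_add_left]
  nth_rewrite 1 [← hg i]
  rw [act_hb, add_self_zero hF]

theorem hb_plane {u v : Vec F} (hu : u ∈ Submodule.span F (Set.range P))
    (hv : v ∈ Submodule.span F (Set.range P)) : hb u v = 0 := by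
  obtain ⟨c, rfl⟩ := (Submodule.mem_span_range_iff_exists_fun F).mp hu
  rw [p.sum3 hF c]
  exact Finset.sum_eq_zero fun i _ => by rw [hb_span_zero hF (p.orth i) hv, mul_zero]

theorem H_zero_left {g : ↥(Cfsg.SU 6 F 2)} (hg : p.Fix g) {x : Vec F}
    (hx : x ∈ Submodule.span F (Set.range P)) (y : Vec F) : H g x y = 0 := by
  rw [H, p.fix_span hF hg hx, vec_add_self hF, hb_zero_left]

theorem H_zero_right {g : ↥(Cfsg.SU 6 F 2)} (hg : p.Fix g) (x : Vec F) {y : Vec F}
    (hy : y ∈ Submodule.span F (Set.range P)) : H g x y = 0 :=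
  p.hb_plane hF (p.move_mem hF hg x) hy

omit p in
theorem H_add_left (g : ↥(Cfsg.SU 6 F 2)) (x x' y : Vec F) : H g (x + x') y = H g x y + H g x' y := by
  rw [H, H, H, act_add, add_add_add_comm, hb_add_left]

omit p in
theorem H_smul_left (g : ↥(Cfsg.SU 6 F 2)) (r : F) (x y : Vec F) : H g (r • x) y = r * H g x y := by
  rw [H, H, act_smul, ← smul_add, hb_smul_left]

omit p in
theorem H_add_right (g : ↥(Cfsg.SU 6 F 2)) (x y y' : Vec F) : H g x (y + y') = H g x y + H g x y' :=
  hb_add_right hF _ _ _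

omit p in
theorem H_smul_right (g : ↥(Cfsg.SU 6 F 2)) (r : F) (x y : Vec F) :
    H g x (r • y) = r ^ 2 * H g x y := hb_smul_right r _ y

theorem herm {g : ↥(Cfsg.SU 6 F 2)} (hg : p.Fix g) (x y : Vec F) : H g x y = H g y x ^ 2 := by
  have e : ∀ z, act g z = z + (act g z + z) := fun z => by
    rw [add_left_comm, vec_add_self hF, add_zero]
  have h := act_hb g x y
  rw [e x, e y, hb_add_left, hb_add_right hF x, hb_add_right hF (act g x + x),
    p.hb_plane hF (p.move_mem hF hg x) (p.move_mem hF hg y), add_zero,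
    hb_conj hF (act g y + y) x] at h
  rw [H, H]
  have h' : hb (act g y + y) x ^ 2 + hb (act g x + x) y = 0 := by linear_combination h
  exact ((add_eq_zero_iff_eq' hF).mp h').symm

theorem fix_mul {g g' : ↥(Cfsg.SU 6 F 2)} (hg : p.Fix g) (hg' : p.Fix g') : p.Fix (g * g') :=
  fun i => by rw [act_mul, hg' i, hg i]

theorem H_mul {g g' : ↥(Cfsg.SU 6 F 2)} (hg : p.Fix g) (hg' : p.Fix g') (x y : Vec F) :
    H (g * g') x y = H g x y + H g' x y := by
  simp only [H]
  rw [act_mul, show act g (act g' x) + x = (act g (act g' x + x) + (act g x + x)) by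
      rw [act_add]
      rw [add_assoc, ← add_assoc (act g x), vec_add_self hF, zero_add],
    p.fix_span hF hg (p.move_mem hF hg' x), hb_add_left, add_comm]

theorem coord (x : Vec F) :
    ∃ y ∈ Submodule.span F (Set.range P), x = (∑ j, hb x (P j) • Q j) + y := by
  refine ⟨x + ∑ j, hb x (P j) • Q j, p.perp_mem hF fun i => ?_, ?_⟩
  · rw [hb_add_left, sum_hb_left, Finset.sum_eq_single i
      (fun j _ hj => by rw [p.dual, if_neg hj, mul_zero]) (by simp), p.dual, if_pos rfl, mul_one,
      add_self_zero hF]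
  · rw [add_left_comm, vec_add_self hF, add_zero]

/-- an element fixing the plane is determined by its form -/
theorem inj {g g' : ↥(Cfsg.SU 6 F 2)} (hg : p.Fix g) (hg' : p.Fix g')
    (h : ∀ i j, H g (Q i) (Q j) = H g' (Q i) (Q j)) : g = g' := by
  have hQ : ∀ i, act g (Q i) = act g' (Q i) := fun i => by
    have h0 := p.eq_of_coord hF (x := (act g (Q i) + Q i) + (act g' (Q i) + Q i))
      (fun j => p.hb_plane hF (Submodule.add_mem _ (p.move_mem hF hg _) (p.move_mem hF hg' _))
        (Submodule.subset_span ⟨j, rfl⟩))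
      (fun j => by rw [hb_add_left, show hb (act g (Q i) + Q i) (Q j) = H g (Q i) (Q j) from rfl,
        h i j, H, add_self_zero hF])
    exact add_right_cancel (vec_eq_of_add hF h0)
  refine act_ext fun x => ?_
  obtain ⟨y, hy, e⟩ := p.coord hF x
  rw [e, act_add, act_add, p.fix_span hF hg hy, p.fix_span hF hg' hy]
  congr 1
  show actL g _ = actL g' _
  simp only [map_sum, map_smul]
  exact Finset.sum_congr rfl fun i _ => congrArg (hb x (P i) • ·) (hQ i)

/-- the form is invariant under commuting isometries -/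
theorem H_inv {g r : ↥(Cfsg.SU 6 F 2)} (hgr : Commute g r) (x y : Vec F) :
    H r (act g x) (act g y) = H r x y := by
  rw [H, ← act_mul, ← hgr.eq, act_mul, ← act_add, act_hb, H]

theorem tv_fix {v : Vec F} (hv : hb v v = 0) (hvP : v ∈ Submodule.span F (Set.range P)) :
    p.Fix (tv hF v) := fun i => by
  rw [tv_act hF hv, p.hb_plane hF (Submodule.subset_span ⟨i, rfl⟩) hvP, zero_smul, add_zero]

theorem H_tv {v : Vec F} (hv : hb v v = 0) (x y : Vec F) :
    H (tv hF v) x y = hb x v * hb v y := by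
  rw [H, tv_act hF hv, add_comm x, add_assoc, vec_add_self hF, add_zero, hb_smul_left]

theorem six {g g' : ↥(Cfsg.SU 6 F 2)} (hg : p.Fix g) (hg' : p.Fix g')
    (h00 : H g (Q 0) (Q 0) = H g' (Q 0) (Q 0)) (h11 : H g (Q 1) (Q 1) = H g' (Q 1) (Q 1))
    (h22 : H g (Q 2) (Q 2) = H g' (Q 2) (Q 2)) (h01 : H g (Q 0) (Q 1) = H g' (Q 0) (Q 1))
    (h02 : H g (Q 0) (Q 2) = H g' (Q 0) (Q 2)) (h12 : H g (Q 1) (Q 2) = H g' (Q 1) (Q 2)) :
    g = g' := p.inj hF hg hg' fun i j => by
  have h10 := p.herm hF hg (Q 1) (Q 0)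
  have h10' := p.herm hF hg' (Q 1) (Q 0)
  have h20 := p.herm hF hg (Q 2) (Q 0)
  have h20' := p.herm hF hg' (Q 2) (Q 0)
  have h21 := p.herm hF hg (Q 2) (Q 1)
  have h21' := p.herm hF hg' (Q 2) (Q 1)
  fin_cases i <;> fin_cases j
  all_goals first
    | assumption
    | (show H g (Q 1) (Q 0) = H g' (Q 1) (Q 0); rw [h10, h10', h01])
    | (show H g (Q 2) (Q 0) = H g' (Q 2) (Q 0); rw [h20, h20', h02])
    | (show H g (Q 2) (Q 1) = H g' (Q 2) (Q 1); rw [h21, h21', h12])

theorem diag_bit {g : ↥(Cfsg.SU 6 F 2)} (hg : p.Fix g) (i : Fin 3) :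
    H g (Q i) (Q i) * H g (Q i) (Q i) = H g (Q i) (Q i) := by
  rw [← pow_two, ← p.herm hF hg]

/-- every form is attained by products of transvections of the plane -/
theorem realise_tvs (d0 d1 d2 : Bit F) (u v z : F) :
    ∃ r ∈ Subgroup.closure (p.tvs hF), p.Fix r ∧ H r (Q 0) (Q 0) = d0.1 ∧
      H r (Q 1) (Q 1) = d1.1 ∧ H r (Q 2) (Q 2) = d2.1 ∧ H r (Q 0) (Q 1) = u ∧
      H r (Q 0) (Q 2) = v ∧ H r (Q 1) (Q 2) = z := by
  have hsub : ∀ x ∈ Subgroup.closure (p.tvs hF), p.Fix x := fun x hx => by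
    induction hx using Subgroup.closure_induction with
    | mem x hx => obtain ⟨v, hv, hvP, rfl⟩ := hx; exact p.tv_fix hF hv.2 hvP
    | one => exact fun i => act_one _
    | mul x y _ _ hx hy => exact p.fix_mul hF hx hy
    | inv x _ hx =>
        intro i
        have := congrArg (act x⁻¹) (hx i)
        rw [act_inv_left] at this
        exact this.symm
  have memS : ∀ i, P i ∈ Submodule.span F (Set.range P) := fun i => Submodule.subset_span ⟨i, rfl⟩
  let T : Set (Fin 3 → Fin 3 → F) :=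
    {f | ∃ x ∈ Subgroup.closure (p.tvs hF), ∀ i j, H x (Q i) (Q j) = f i j}
  have Tadd : ∀ {f f'}, f ∈ T → f' ∈ T → f + f' ∈ T := fun ⟨x, hx, e⟩ ⟨x', hx', e'⟩ =>
    ⟨x * x', mul_mem hx hx', fun i j => by
      rw [p.H_mul hF (hsub x hx) (hsub x' hx'), e, e']; rfl⟩
  have Tzero : (fun _ _ => (0 : F)) ∈ T :=
    ⟨1, one_mem _, fun i j => by rw [H, act_one, vec_add_self hF, hb_zero_left]⟩
  have Tv : ∀ c : Fin 3 → F, c ≠ 0 → (fun i j => c i ^ 2 * c j) ∈ T := fun c hc => by
    have hv : ∑ i, c i • P i ∈ Submodule.span F (Set.range P) :=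
      Submodule.sum_mem _ fun i _ => Submodule.smul_mem _ _ (memS i)
    have hval : ∀ j, hb (∑ i, c i • P i) (Q j) = c j := fun j => by
      rw [p.sum3 hF c, Finset.sum_eq_single j
        (fun i _ hi => by rw [p.dual' hF, if_neg hi.symm, mul_zero]) (by simp), p.dual' hF,
        if_pos rfl, mul_one]
    have hne : ∑ i, c i • P i ≠ 0 := fun q => hc (funext fun j => by
      rw [← hval j, q, hb_zero_left]; rfl)
    refine ⟨_, Subgroup.subset_closure ⟨_, ⟨hne, p.hb_plane hF hv hv⟩, hv, rfl⟩, fun i j => ?_⟩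
    rw [p.H_tv hF (p.hb_plane hF hv hv), hval, hb_conj hF (∑ i, c i • P i) (Q i), hval]
  have two := two_zero hF
  have dg : ∀ i, ∀ t : F, t * t = t → (fun k l => if k = i ∧ l = i then t else 0) ∈ T := fun i t ht => by
    by_cases q : t = 0
    · convert Tzero using 4 with k l
      split <;> simp [q]
    · have t1 : t = 1 := mul_right_cancel₀ q (by rw [ht, one_mul])
      convert Tv (Pi.single i 1) (fun h => by simpa using congrFun h i) using 3 with k l
      by_cases k1 : k = i <;> by_cases l1 : l = i <;> simp [k1, l1, t1]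
  have off : ∀ i j, i ≠ j → ∀ t : F,
      (fun k l => if k = i ∧ l = j then t else if k = j ∧ l = i then t ^ 2 else 0) ∈ T := by
    intro i j hij t
    by_cases q : t = 0
    · convert Tzero using 4 with k l
      split <;> [simp [q]; (split <;> simp [q])]
    · have h := Tadd (Tadd (Tv (Pi.single i 1 + Pi.single j t)
        (fun h => by simpa [hij] using congrFun h i)) (dg i 1 (one_mul 1))) (dg j 1 (one_mul 1))
      convert h using 3 with k l
      have h3 : t ^ 2 * t = 1 := by rw [← pow_succ, pow_three hF q]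
      by_cases k1 : k = i
      · by_cases l1 : l = i
        · subst k1 l1; simp [hij, hij.symm, add_self_zero hF]
        · by_cases l2 : l = j
          · subst k1 l2; simp [hij, hij.symm]
          · subst k1; simp [hij, hij.symm, l1, l2]
      · by_cases k2 : k = j
        · by_cases l1 : l = i
          · subst k2 l1; simp [hij, hij.symm]
          · by_cases l2 : l = j
            · subst k2 l2; simp [hij.symm, add_self_zero hF, h3]
            · subst k2; simp [hij.symm, l1, l2]
        · simp [k1, k2]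
  obtain ⟨x, hx, e⟩ := Tadd (Tadd (Tadd (Tadd (Tadd (dg 0 _ d0.2)
    (dg 1 _ d1.2)) (dg 2 _ d2.2))
    (off 0 1 (by decide) u)) (off 0 2 (by decide) v)) (off 1 2 (by decide) z)
  exact ⟨x, hx, hsub x hx, by simp [e], by simp [e], by simp [e], by simp [e], by simp [e],
    by simp [e]⟩

/-- the plane's transvections generate its pointwise stabiliser -/
theorem closure_tvs {g : ↥(Cfsg.SU 6 F 2)} (hg : p.Fix g) :
    g ∈ Subgroup.closure (p.tvs hF) := by
  obtain ⟨x, hx, hxf, e00, e11, e22, e01, e02, e12⟩ := p.realise_tvs hF ⟨_, p.diag_bit hF hg 0⟩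
    ⟨_, p.diag_bit hF hg 1⟩ ⟨_, p.diag_bit hF hg 2⟩ (H g (Q 0) (Q 1)) (H g (Q 0) (Q 2))
    (H g (Q 1) (Q 2))
  rw [p.six hF hg hxf e00.symm e11.symm e22.symm e01.symm e02.symm e12.symm]
  exact hx

/-- every form is attained -/
theorem realise (d0 d1 d2 : Bit F) (u v z : F) :
    ∃ r, p.Fix r ∧ H r (Q 0) (Q 0) = d0.1 ∧
      H r (Q 1) (Q 1) = d1.1 ∧ H r (Q 2) (Q 2) = d2.1 ∧ H r (Q 0) (Q 1) = u ∧
      H r (Q 0) (Q 2) = v ∧ H r (Q 1) (Q 2) = z :=
  (p.realise_tvs hF d0 d1 d2 u v z).imp fun _ h => h.2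

/-- the elements of a commuting family fixing the plane -/
theorem tvs_commute {s t : ↥(Cfsg.SU 6 F 2)} (hs : s ∈ p.tvs hF) (ht : t ∈ p.tvs hF) :
    Commute s t := by
  obtain ⟨u, hu, huP, rfl⟩ := hs
  obtain ⟨v, hv, hvP, rfl⟩ := ht
  exact act_fix_comm hF (by rw [tv_act hF hu.2, p.hb_plane hF hvP huP, zero_smul, add_zero])

end Plane

end Cfsg.Agent.H93
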