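import Cfsg.Agent.H93.Stab6
import Cfsg.Agent.H93.U6Elem
import Cfsg.Agent.Unitary.TIFrames

/-!
Totally isotropic planes of the six dimensional Hermitian space over the field with four elements:
transitivity, the shifts of a line, and the splitting of an involution into transvections.
-/

set_option autoImplicit false

namespace Cfsg.Agent.H93

open Cfsg.Agent.Unitary (perp Nondeg nondeg_pair nondeg_top nondeg_perp finrank_perp_add
  finrank_pair perp_span span_pair_le)

variable {F : Type*} [Field F]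

theorem actL_ker (g : ↥(Cfsg.SU 6 F 2)) : LinearMap.ker (actL g) = ⊥ :=
  LinearMap.ker_eq_bot'.mpr fun _ hx => act_eq_zero hx

theorem Plane.map {P Q : Fin 3 → Vec F} (p : Plane P Q) (g : ↥(Cfsg.SU 6 F 2)) :
    Plane (fun i => act g (P i)) (fun i => act g (Q i)) :=
  ⟨p.li.map' (actL g) (actL_ker g), fun i j => by rw [act_hb, p.orth],
    fun i j => by rw [act_hb, p.dual]⟩

theorem Plane.pt {P Q : Fin 3 → Vec F} (p : Plane P Q) (i : Fin 3) : IsPt (P i) :=
  ⟨p.li.ne_zero i, p.orth i i⟩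

theorem Plane.not_same {P Q : Fin 3 → Vec F} (p : Plane P Q) {i j : Fin 3} (h : i ≠ j) :
    ¬ SamePt (P i) (P j) := by
  rintro ⟨a, ha⟩
  have := congrArg (fun v => hb (Q j) v) ha
  simp [hb_smul_right, p.dual, h.symm] at this

variable [Fintype F] (hF : Fintype.card F = 4)

include hF

/-- any three vectors spanning a totally isotropic plane have dual vectors -/
theorem exists_plane_of_li {P : Fin 3 → Vec F} (hl : LinearIndependent F P)
    (ho : ∀ i j, hb (P i) (P j) = 0) : ∃ Q, Plane P Q := by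
  choose Q hQ using fun i : Fin 3 => solve hF hl (fun j => if i = j then (1 : F) else 0)
  exact ⟨Q, hl, ho, hQ⟩

/-- a line lies in a plane -/
theorem exists_plane_pair {u v : Vec F} (hu : IsPt u) (hv : IsPt v) (huv : hb u v = 0)
    (hs : ¬ SamePt u v) : ∃ P Q, Plane P Q ∧ P 0 = u ∧ P 1 = v := by
  obtain ⟨w, hw, ho, hn, -⟩ := exists_flag_step hF (⊥ : Subgroup ↥(Cfsg.SU 6 F 2))
    (fun g hg h _ => by rw [Subgroup.mem_bot.mp hg]; exact Commute.one_left h)
    (fun g hg => by rw [Subgroup.mem_bot.mp hg, mul_one]) (k := 2) le_rfl ![u, v]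
    (indep_pair hu.1 hs)
    (fun g hg i => by
      rw [Subgroup.mem_bot.mp hg, act_one, vec_add_self hF]; exact Submodule.zero_mem _)
  have h3 : Fin.snoc ![u, v] w = ![u, v, w] := by funext i; fin_cases i <;> rfl
  have hl : LinearIndependent F ![u, v, w] := h3 ▸ linearIndependent_finSnoc.mpr
    ⟨indep_pair hu.1 hs, hn⟩
  have wu : hb w u = 0 := ho 0
  have wv : hb w v = 0 := ho 1
  have uw := (hb_eq_zero_comm hF).mp wu
  have vw := (hb_eq_zero_comm hF).mp wv
  have vu := (hb_eq_zero_comm hF).mp huv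
  obtain ⟨Q, hQ⟩ := exists_plane_of_li hF hl (fun i j => by
    fin_cases i <;> fin_cases j
    all_goals first
      | exact hu.2 | exact hv.2 | exact hw.2 | assumption)
  exact ⟨_, Q, hQ, rfl, rfl⟩

theorem exists_plane : ∃ P Q : Fin 3 → Vec F, Plane P Q := by
  obtain ⟨P, Q, p, -⟩ := exists_flag hF (⊥ : Subgroup ↥(Cfsg.SU 6 F 2))
    (fun g hg h _ => by rw [Subgroup.mem_bot.mp hg]; exact Commute.one_left h)
    (fun g hg => by rw [Subgroup.mem_bot.mp hg, mul_one])
  exact ⟨P, Q, p⟩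

/-- a plane with mutually orthogonal isotropic dual vectors -/
theorem exists_hyp : ∃ P Q : Fin 3 → Vec F, Plane P Q ∧ ∀ i j, hb (Q i) (Q j) = 0 := by
  obtain ⟨P, Q, p⟩ := exists_plane hF
  obtain ⟨b⟩ := Cfsg.Agent.Unitary.exists_hypBasis (q := 2) (card_eq_sq hF)
    (⟨P, p.li, p.orth⟩ : Cfsg.Agent.Unitary.TIFrame 6 F 2 3)
  exact ⟨P, b.v, ⟨p.li, p.orth, b.vf⟩, b.vv⟩

/-- an element fixing the common first vector -/
theorem Plane.move_partner_step {P Q : Fin 3 → Vec F} (p : Plane P Q) :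
    ∃ f, hb f f = 0 ∧ hb f (P 0) = 1 ∧ hb f (P 1) = 0 ∧ hb f (P 2) = 0 := by
  obtain ⟨f, hf, hl⟩ := iso_solve_of_mem hF p.li ![1, 0, 0] 0 (p.orth 0) one_ne_zero
  exact ⟨f, hf, hl 0, hl 1, hl 2⟩

/-- `SU` is transitive on totally isotropic planes with a basis, up to one scalar -/
theorem Plane.move {P Q P' Q' : Fin 3 → Vec F} (p : Plane P Q) (p' : Plane P' Q') :
    ∃ g : ↥(Cfsg.SU 6 F 2), ∃ c : F, c ≠ 0 ∧ act g (P 0) = P' 0 ∧ act g (P 1) = P' 1 ∧
      act g (P 2) = c • P' 2 := by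
  have hF' := card_eq_sq hF
  have nT : Nondeg 2 (⊤ : Submodule F (Vec F)) := nondeg_top hF'
  have h6 : Module.finrank F (⊤ : Submodule F (Vec F)) = 6 := by
    rw [finrank_top, Module.finrank_fin_fun]
  obtain ⟨g1, -, e1⟩ := move_iso hF nT (by rw [h6]; norm_num) Submodule.mem_top Submodule.mem_top
    (p.orth 0 0) (p'.orth 0 0) (p.pt 0).1 (p'.pt 0).1
  suffices key : ∀ {R S : Fin 3 → Vec F}, Plane R S → R 0 = P' 0 →
      ∃ g : ↥(Cfsg.SU 6 F 2), ∃ c : F, c ≠ 0 ∧ act g (R 0) = P' 0 ∧ act g (R 1) = P' 1 ∧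
        act g (R 2) = c • P' 2 by
    obtain ⟨g, c, hc, a0, a1, a2⟩ := key (p.map g1) e1
    exact ⟨g * g1, c, hc, by rw [act_mul]; exact a0, by rw [act_mul]; exact a1,
      by rw [act_mul]; exact a2⟩
  intro R S r r0
  obtain ⟨f, hf, f0, f1, f2⟩ := p'.move_partner_step hF
  obtain ⟨f', hf', g0, g1', g2⟩ := r.move_partner_step hF
  rw [r0] at g0
  obtain ⟨t, ht, et⟩ := move_partner hF nT Submodule.mem_top (Submodule.mem_top (x := f))
    Submodule.mem_top (p'.orth 0 0) hf (v' := f') hf' f0 g0 (by rw [h6]; norm_num)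
  have tu : act t (P' 0) = P' 0 :=
    TS_fix hF (fun z hz => (hb_eq_zero_comm hF).mp hz.2) ht
  suffices key : ∀ {R S : Fin 3 → Vec F}, Plane R S → R 0 = P' 0 → hb f (R 1) = 0 → hb f (R 2) = 0 →
      ∃ g : ↥(Cfsg.SU 6 F 2), ∃ c : F, c ≠ 0 ∧ act g (R 0) = P' 0 ∧ act g (R 1) = P' 1 ∧
        act g (R 2) = c • P' 2 by
    obtain ⟨g, c, hc, a0, a1, a2⟩ := key (r.map t) (by show act t (R 0) = _; rw [r0, tu])
      (by show hb f (act t (R 1)) = 0; rw [← et, act_hb, g1'])
      (by show hb f (act t (R 2)) = 0; rw [← et, act_hb, g2])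
    exact ⟨g * t, c, hc, by rw [act_mul]; exact a0, by rw [act_mul]; exact a1,
      by rw [act_mul]; exact a2⟩
  clear! R S t f'
  intro R S r r0 r1 r2
  have z := fun {u v : Vec F} (e : hb u v = 0) => (hb_eq_zero_comm hF).mp e
  -- the orthogonal space of the first hyperbolic pair
  set Pl := Submodule.span F ({P' 0, f} : Set (Vec F)) with hPl
  have hu0f : hb (P' 0) f = 1 := hb_one_comm hF f0
  have hne : Cfsg.hermForm 6 F 2 (P' 0) f ≠ 0 := by
    rw [show Cfsg.hermForm 6 F 2 (P' 0) f = 1 from hu0f]; exact one_ne_zero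
  have hPnd : Nondeg 2 Pl := nondeg_pair hF' (p'.orth 0 0) hf hne
  set W := perp 2 (Pl : Set (Vec F)) with hWdef
  have hWnd : Nondeg 2 W := nondeg_perp hF' hPnd
  have hW4 : Module.finrank F W = 4 := by
    have h1 := finrank_perp_add hF' hPnd
    rw [finrank_pair (indep_pair (p'.pt 0).1 (fun ⟨c, hc⟩ => by
      rw [hc, hb_smul_left, p'.orth, mul_zero] at f0; exact zero_ne_one f0))] at h1
    have h1' : 2 + Module.finrank F ↥W = 6 := h1
    omega
  have inW : ∀ {x}, hb x (P' 0) = 0 → hb x f = 0 → x ∈ W := fun h1 h2 => by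
    rw [hWdef, perp_span hF', mem_pair_perp hF]; exact ⟨h1, h2⟩
  have hWP : ∀ {x}, x ∈ W → hb x (P' 0) = 0 ∧ hb x f = 0 := fun hx =>
    ⟨hx (P' 0) (Submodule.subset_span (Or.inl rfl)), hx f (Submodule.subset_span (Or.inr rfl))⟩
  have fixW : ∀ {t}, t ∈ TS hF (W : Set (Vec F)) → act t (P' 0) = P' 0 ∧ act t f = f := fun ht =>
    ⟨TS_fix hF (fun v hv => z (hWP hv).1) ht, TS_fix hF (fun v hv => z (hWP hv).2) ht⟩
  have p1W : P' 1 ∈ W := inW (p'.orth 1 0) (z f1)
  have r1W : R 1 ∈ W := inW (by rw [← r0]; exact r.orth 1 0) (z r1)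
  obtain ⟨t, ht, et⟩ := move_iso hF hWnd (by rw [hW4]; norm_num) r1W p1W (r.orth 1 1) (p'.orth 1 1)
    (r.pt 1).1 (p'.pt 1).1
  suffices key : ∀ {R S : Fin 3 → Vec F}, Plane R S → R 0 = P' 0 → R 1 = P' 1 → hb f (R 2) = 0 →
      ∃ g : ↥(Cfsg.SU 6 F 2), ∃ c : F, c ≠ 0 ∧ act g (R 0) = P' 0 ∧ act g (R 1) = P' 1 ∧
        act g (R 2) = c • P' 2 by
    obtain ⟨g, c, hc, a0, a1, a2⟩ := key (r.map t) (by show act t (R 0) = _; rw [r0, (fixW ht).1])
      et (by show hb f (act t (R 2)) = 0; rw [← (fixW ht).2, act_hb, r2])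
    exact ⟨g * t, c, hc, by rw [act_mul]; exact a0, by rw [act_mul]; exact a1,
      by rw [act_mul]; exact a2⟩
  clear! R S t
  intro R S r r0 r1 r2
  -- a partner of the second vector
  have mk : ∀ {T U : Fin 3 → Vec F}, Plane T U → T 0 = P' 0 → T 1 = P' 1 → hb f (T 2) = 0 →
      ∃ e ∈ W, hb e e = 0 ∧ hb e (P' 1) = 1 ∧ hb e (T 2) = 0 := by
    intro T U q q0 q1 q2
    obtain ⟨e, he, hl⟩ := iso_solve_of_mem hF q.li ![0, 1, 0] 1 (q.orth 1) one_ne_zero
    have e0 : hb e (P' 0) = 0 := q0 ▸ hl 0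
    have e1 : hb e (P' 1) = 1 := q1 ▸ hl 1
    have e2 : hb e (T 2) = 0 := hl 2
    have a0 : hb (P' 0) (P' 1) = 0 := p'.orth 0 1
    have a2 : hb (P' 0) (T 2) = 0 := q0 ▸ q.orth 0 2
    refine ⟨e + hb e f • P' 0, inW ?_ ?_, ?_, ?_, ?_⟩
    · rw [hb_add_left, hb_smul_left, e0, p'.orth, mul_zero, add_zero]
    · rw [hb_add_left, hb_smul_left, hu0f, mul_one, add_self_zero hF]
    · simp only [hb_add_left, hb_add_right hF, hb_smul_left, hb_smul_right, he, e0, z e0, p'.orth,
        mul_zero, add_zero]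
    · rw [hb_add_left, hb_smul_left, e1, a0, mul_zero, add_zero]
    · rw [hb_add_left, hb_smul_left, e2, a2, mul_zero, add_zero]
  obtain ⟨e, heW, he, he1, he2⟩ := mk p' rfl rfl f2
  obtain ⟨e', he'W, he', he1', he2'⟩ := mk r r0 r1 r2
  obtain ⟨t, ht, et⟩ := move_partner hF hWnd p1W heW he'W (p'.orth 1 1) he he' he1 he1' hW4.symm.le
  have htW : t ∈ TS hF (W : Set (Vec F)) := TS_mono hF (fun v hv => hv.1) ht
  suffices key : ∀ {R S : Fin 3 → Vec F}, Plane R S → R 0 = P' 0 → R 1 = P' 1 → hb f (R 2) = 0 →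
      hb e (R 2) = 0 →
      ∃ g : ↥(Cfsg.SU 6 F 2), ∃ c : F, c ≠ 0 ∧ act g (R 0) = P' 0 ∧ act g (R 1) = P' 1 ∧
        act g (R 2) = c • P' 2 by
    obtain ⟨g, c, hc, a0, a1, a2⟩ := key (r.map t) (by show act t (R 0) = _; rw [r0, (fixW htW).1])
      (by show act t (R 1) = _; rw [r1, TS_fix hF (fun v hv => z hv.2) ht])
      (by show hb f (act t (R 2)) = 0; rw [← (fixW htW).2, act_hb, r2])
      (by show hb e (act t (R 2)) = 0; rw [← et, act_hb, he2'])
    exact ⟨g * t, c, hc, by rw [act_mul]; exact a0, by rw [act_mul]; exact a1,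
      by rw [act_mul]; exact a2⟩
  clear! R S t e'
  intro R S r r0 r1 r2 r2e
  have a0 : hb (R 2) (P' 0) = 0 := r0 ▸ r.orth 2 0
  have a1 : hb (R 2) (P' 1) = 0 := r1 ▸ r.orth 2 1
  by_cases hs : hb (R 2) (P' 2) = 0
  · obtain ⟨k, hk⟩ := (Submodule.mem_span_range_iff_exists_fun F).mp
      (p'.perp_mem hF (x := R 2) fun i => by fin_cases i <;> assumption)
    simp only [Fin.sum_univ_three] at hk
    have k0 : k 0 = 0 := by
      have h := congrArg (fun v => hb v f) hk
      simpa [hb_add_left, hb_smul_left, hu0f, z f1, z f2, z r2] using h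
    have e0 : hb (P' 0) e = 0 := z (hWP heW).1
    have k1 : k 1 = 0 := by
      have h := congrArg (fun v => hb v e) hk
      simpa [hb_add_left, hb_smul_left, e0, hb_one_comm hF he1, z he2, z r2e] using h
    rw [k0, k1, zero_smul, zero_smul, zero_add, zero_add] at hk
    refine ⟨1, k 2, fun q => (r.pt 2).1 (by rw [← hk, q, zero_smul]), ?_, ?_, ?_⟩
    · rw [act_one, r0]
    · rw [act_one, r1]
    · rw [act_one, hk]
  · set s := hb (R 2) (P' 2) with hsdef
    have hy : hb (s • P' 2) (s • P' 2) = 0 := by rw [hb_self_smul hF, p'.orth, mul_zero]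
    have hxy : hb (R 2) (s • P' 2) = 1 := by
      rw [hb_smul_right, ← hsdef, ← pow_succ, pow_three hF hs]
    obtain ⟨hp, he3⟩ := step_iso hF (r.orth 2 2) hy hxy
    refine ⟨tv hF (R 2 + s • P' 2), s, hs, ?_, ?_, he3⟩
    · rw [r0, tv_act hF hp.2, hb_add_right hF, hb_smul_right, z a0, p'.orth, mul_zero, add_zero,
        zero_smul, add_zero]
    · rw [r1, tv_act hF hp.2, hb_add_right hF, hb_smul_right, z a1, p'.orth, mul_zero, add_zero,
        zero_smul, add_zero]

/-- an involution shifting the points of a line -/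
theorem exists_shift {u v : Vec F} (hu : IsPt u) (hv : IsPt v) (huv : hb u v = 0)
    (hs : ¬ SamePt u v) :
    ∃ a b, IsPt a ∧ IsPt b ∧ hb a b = 0 ∧ act (tv hF a * tv hF b) u = u ∧
      ∀ t : F, act (tv hF a * tv hF b) (v + t • u) = v + (t + 1) • u := by
  obtain ⟨w, hw, wu, wv⟩ := iso_two hF hu.1 hs 0 1
  have uw := (hb_eq_zero_comm hF).mp wu
  have vw := hb_one_comm hF wv
  have vu := (hb_eq_zero_comm hF).mp huv
  have haa : hb (w + u) (w + u) = 0 := by
    simp [hb_add_left, hb_add_right hF, hw, wu, uw, hu.2]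
  have hap : IsPt (w + u) := by
    refine ⟨fun e => ?_, haa⟩
    rw [vec_eq_of_add hF e, huv] at wv
    exact zero_ne_one wv
  have hwp : IsPt w := ⟨fun e => one_ne_zero (by rw [← wv, e, hb_zero_left]), hw⟩
  have eu : act (tv hF (w + u) * tv hF w) u = u := by
    rw [act_mul, tv_act hF hw, uw, zero_smul, add_zero, tv_act hF haa, hb_add_right hF, uw, hu.2,
      add_zero, zero_smul, add_zero]
  have ev : act (tv hF (w + u) * tv hF w) v = v + u := by
    rw [act_mul, tv_act hF hw, vw, one_smul, tv_act hF haa, hb_add_left, hb_add_right hF,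
      hb_add_right hF, vw, vu, hw, wu, add_zero, add_zero, add_zero, one_smul,
      show v + w + (w + u) = v + u + (w + w) by abel, vec_add_self hF, add_zero]
  refine ⟨w + u, w, hap, hwp, by rw [hb_add_left, hw, uw, add_zero], eu, fun t => ?_⟩
  rw [act_add, act_smul, eu, ev, add_smul, one_smul, add_assoc, add_comm u]

/-- splitting a transvection off an involution inside a subspace -/
theorem invol_split {g : ↥(Cfsg.SU 6 F 2)} (hg : g * g = 1) (hne : g ≠ 1) {S : Submodule F (Vec F)}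
    (hS : ∀ x, act g x + x ∈ S) :
    ∃ v, IsPt v ∧ v ∈ S ∧ ∃ (g' : ↥(Cfsg.SU 6 F 2)) (S' : Submodule F (Vec F)), S' ≤ S ∧ v ∉ S' ∧
      g' * g' = 1 ∧ (∀ x, act g' x + x ∈ S') ∧ g = g' * tv hF v := by
  obtain ⟨x, v, hv, hxv, hvdef, hgv, hg', hgx, -⟩ := invol_step hF hg hne
  have hvS : v ∈ S := hvdef ▸ hS x
  refine ⟨v, hv, hvS, g * tv hF v, S ⊓ LinearMap.ker (hbL x), inf_le_left, fun h => ?_, hg',
    fun z => ⟨?_, ?_⟩, by rw [mul_assoc, tv_mul_self, mul_one]⟩
  · exact one_ne_zero ((hb_one_comm hF hxv).symm.trans h.2)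
  · rw [act_mul, tv_act hF hv.2, act_add, act_smul, hgv, add_right_comm]
    exact S.add_mem (hS z) (S.smul_mem _ hvS)
  · show hb (act (g * tv hF v) z + z) x = 0
    rw [invol_adjoint hF hg', hgx, vec_add_self hF, hb_zero_right]

/-- an involution is a product of transvections of points in the range of `g + 1` -/
theorem invol_mem_closure : ∀ (n : ℕ) (g : ↥(Cfsg.SU 6 F 2)) (S : Submodule F (Vec F)),
    Module.finrank F S ≤ n → g * g = 1 → (∀ x, act g x + x ∈ S) →
      g ∈ Subgroup.closure {t | ∃ v, IsPt v ∧ v ∈ S ∧ t = tv hF v} := by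
  intro n
  induction n with
  | zero =>
    intro g S hn _ hS
    have h0 : S = ⊥ := Submodule.finrank_eq_zero.mp (Nat.le_zero.mp hn)
    rw [show g = 1 from act_ext fun x => by
      rw [act_one]; exact vec_eq_of_add hF ((Submodule.mem_bot F).mp (h0 ▸ hS x))]
    exact one_mem _
  | succ n ih =>
    intro g S hn hg hS
    by_cases h1 : g = 1
    · rw [h1]; exact one_mem _
    obtain ⟨v, hv, hvS, g', S', hle, hvn, hg', hS', rfl⟩ := invol_split hF hg h1 hS
    have hlt : S' < S := lt_of_le_not_ge hle fun h => hvn (h hvS)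
    have h2 := Submodule.finrank_lt_finrank_of_lt hlt
    refine mul_mem (Subgroup.closure_mono ?_ (ih g' S' (by omega) hg' hS'))
      (Subgroup.subset_closure ⟨v, hv, hvS, rfl⟩)
    rintro _ ⟨w, hw, hwS, rfl⟩
    exact ⟨w, hw, hle hwS, rfl⟩

theorem act_pair {a b : Vec F} (ha : hb a a = 0) (hb' : hb b b = 0) (hab : hb a b = 0) (x : Vec F) :
    act (tv hF a * tv hF b) x + x = hb x a • a + hb x b • b := by
  rw [act_mul, tv_act hF hb', tv_act hF ha, hb_add_left, hb_smul_left,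
    (hb_eq_zero_comm hF).mp hab, mul_zero, add_zero,
    show x + hb x b • b + hb x a • a + x = hb x a • a + hb x b • b + (x + x) by abel,
    vec_add_self hF, add_zero]

theorem act_triple {a b c : Vec F} (ha : hb a a = 0) (hb' : hb b b = 0) (hc : hb c c = 0)
    (hab : hb a b = 0) (hac : hb a c = 0) (hbc : hb b c = 0) (x : Vec F) :
    act (tv hF a * tv hF b * tv hF c) x + x = hb x a • a + hb x b • b + hb x c • c := by
  have z := fun {u v : Vec F} (e : hb u v = 0) => (hb_eq_zero_comm hF).mp e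
  rw [act_mul, tv_act hF hc, act_add, act_smul, act_mul, act_mul, tv_act hF hb' c, z hbc, zero_smul,
    add_zero, tv_act hF ha c, z hac, zero_smul, add_zero, add_right_comm]
  rw [← act_mul, act_pair hF ha hb' hab]

/-- independent vectors in the expression of an involution lie in every space containing its range -/
theorem mem_of_range_two {a b : Vec F} (hl : LinearIndependent F ![a, b]) (ha : hb a a = 0)
    (hb' : hb b b = 0) (hab : hb a b = 0) {S : Submodule F (Vec F)}
    (hS : ∀ x, act (tv hF a * tv hF b) x + x ∈ S) : a ∈ S ∧ b ∈ S := by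
  obtain ⟨x, hx⟩ := solve hF hl ![1, 0]
  obtain ⟨y, hy⟩ := solve hF hl ![0, 1]
  have x0 : hb x a = 1 := hx 0
  have x1 : hb x b = 0 := hx 1
  have y0 : hb y a = 0 := hy 0
  have y1 : hb y b = 1 := hy 1
  constructor
  · simpa [act_pair hF ha hb' hab, x0, x1] using hS x
  · simpa [act_pair hF ha hb' hab, y0, y1] using hS y

theorem mem_of_range_three {P Q : Fin 3 → Vec F} (p : Plane P Q) {S : Submodule F (Vec F)}
    (hS : ∀ x, act (tv hF (P 0) * tv hF (P 1) * tv hF (P 2)) x + x ∈ S) (i : Fin 3) : P i ∈ S := by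
  have h := hS (Q i)
  rw [act_triple hF (p.orth 0 0) (p.orth 1 1) (p.orth 2 2) (p.orth 0 1) (p.orth 0 2) (p.orth 1 2),
    p.dual, p.dual, p.dual] at h
  fin_cases i <;> simpa using h

/-- the product of two orthogonal transvections determines the two points -/
theorem pair_unique {a b c e : Vec F} (ha : IsPt a) (hb' : IsPt b) (hc : IsPt c) (he : IsPt e)
    (hab : hb a b = 0) (hce : hb c e = 0) (hl : ¬ SamePt a b) (hl' : ¬ SamePt c e)
    (heq : tv hF a * tv hF b = tv hF c * tv hF e) :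
    (tv hF a = tv hF c ∧ tv hF b = tv hF e) ∨ (tv hF a = tv hF e ∧ tv hF b = tv hF c) := by
  have hli := indep_pair ha.1 hl
  have hin := mem_of_range_two hF (indep_pair hc.1 hl') hc.2 he.2 hce
    (S := Submodule.span F ({a, b} : Set (Vec F))) (fun x => by
      rw [← heq, act_pair hF ha.2 hb'.2 hab]
      exact Submodule.add_mem _ (Submodule.smul_mem _ _ (Submodule.subset_span (Or.inl rfl)))
        (Submodule.smul_mem _ _ (Submodule.subset_span (Or.inr rfl))))
  obtain ⟨α, β, hcd⟩ := Submodule.mem_span_pair.mp hin.1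
  obtain ⟨γ, δ, hed⟩ := Submodule.mem_span_pair.mp hin.2
  obtain ⟨x, hx⟩ := solve hF hli ![1, 0]
  have x0 : hb x a = 1 := hx 0
  have x1 : hb x b = 0 := hx 1
  have xc : hb x c = α ^ 2 := by
    rw [← hcd, hb_add_right hF, hb_smul_right, hb_smul_right, x0, x1, mul_one, mul_zero, add_zero]
  have xe : hb x e = γ ^ 2 := by
    rw [← hed, hb_add_right hF, hb_smul_right, hb_smul_right, x0, x1, mul_one, mul_zero, add_zero]
  have key : a = α ^ 2 • c + γ ^ 2 • e := by
    have h := act_pair hF ha.2 hb'.2 hab x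
    rw [heq, act_pair hF hc.2 he.2 hce, x0, x1, xc, xe, one_smul, zero_smul, add_zero] at h
    exact h.symm
  rw [← hcd, ← hed, smul_add, smul_add, smul_smul, smul_smul, smul_smul, smul_smul] at key
  have k0 : α ^ 2 * α + γ ^ 2 * γ = 1 := by
    have h' : (α ^ 2 * α + γ ^ 2 * γ + 1) • a + (α ^ 2 * β + γ ^ 2 * δ) • b = 0 := by
      have h2 := vec_add_self hF a
      nth_rewrite 1 [key] at h2
      rw [← h2]
      module
    exact (add_eq_zero_iff_eq' hF).mp (LinearIndependent.pair_iff.mp hli _ _ h').1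
  have tb : ∀ {r : Vec F} {t : F}, IsPt r → t • b = r → tv hF r = tv hF b := fun {r t} hr et => by
    rw [← et, tv_smul hF]
    rintro rfl
    exact hr.1 (by rw [← et, zero_smul])
  by_cases hα : α = 0
  · rw [hα, zero_smul, zero_add] at hcd
    have e1 := tb hc hcd
    refine Or.inr ⟨mul_right_cancel (b := tv hF b) ?_, e1.symm⟩
    rw [heq, e1]
    refine (act_fix_comm hF ?_)
    rw [← hcd, hb_smul_left] at hce
    rw [tv_act hF hb'.2, (hb_eq_zero_comm hF).mp
      ((mul_eq_zero.mp hce).resolve_left fun q => hc.1 (by rw [← hcd, q, zero_smul])),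
      zero_smul, add_zero]
  · have hγ : γ = 0 := by
      by_contra hγ
      rw [← pow_succ, ← pow_succ, pow_three hF hα, pow_three hF hγ, add_self_zero hF] at k0
      exact zero_ne_one k0
    rw [hγ, zero_smul, zero_add] at hed
    have e1 := tb he hed
    exact Or.inl ⟨mul_right_cancel (b := tv hF b) (by rw [heq, e1]), e1.symm⟩

end Cfsg.Agent.H93
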