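import Cfsg.Agent.H93.Space

/-!
Lines in a space of transpositions, and the propagation lemma: an element commuting with two
closed neighbourhoods is central.
-/

set_option autoImplicit false

namespace Cfsg.Agent.H93

variable {G : Type*} [Group G] {F : Type*} [Field F] [Fintype F] (hF : Fintype.card F = 4)

include hF

theorem hb_zero_pair {u v x : Vec F} (hu : hb x u = 0) (hv : hb x v = 0) (a b : F) :
    hb x (a • u + b • v) = 0 := by
  rw [hb_add_right hF, hb_smul_right, hb_smul_right, hu, hv]; ring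

/-- the three further members of the line through two commuting members -/
theorem U6Space.exists_line {S : Set G} (sp : U6Space F S) (hS : ∀ y ∈ S, y * y = 1) {b c : G}
    (hb' : b ∈ S) (hc' : c ∈ S) (hne : b ≠ c) (hcm : Commute b c) :
    ∃ p q r : G, p ∈ S ∧ q ∈ S ∧ r ∈ S ∧ [b, c, p, q, r].Nodup ∧
      (∀ x ∈ [b, c, p, q, r], ∀ y ∈ [b, c, p, q, r], Commute x y) ∧
      (∀ z ∈ S, Commute z b → Commute z c → Commute z p ∧ Commute z q ∧ Commute z r) ∧
      (∀ y ∈ S, (∀ z ∈ S, Commute z b → Commute z c → Commute z y) → y ∈ [b, c, p, q, r]) ∧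
      (∀ y ∈ S, Commute y (b * c * p * q * r)) := by
  obtain ⟨u, hu, rfl⟩ := sp.surj b hb'
  obtain ⟨v, hv, rfl⟩ := sp.surj c hc'
  have huv : hb u v = 0 := (sp.comm hu hv).mp hcm
  have hvu := (hb_eq_zero_comm hF).mp huv
  have hs : ¬ SamePt u v := fun e => hne ((sp.same hu hv).mpr e)
  obtain ⟨w, hw0, hw1, hw⟩ := exists_omega hF
  have hli := indep_pair hu.1 hs
  have coef : ∀ a b a' b' : F, a • u + b • v = a' • u + b' • v → a = a' ∧ b = b' := fun a b a' b' e =>
    hli.eq_of_pair e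
  have hP : IsPt (u + v) := by simpa using isPt_line hF hu hv huv hs 1
  have hQ := isPt_line hF hu hv huv hs w
  have hR := isPt_line hF hu hv huv hs (w ^ 2)
  -- membership in the span
  let spn : Vec F → Prop := fun x => ∃ a b : F, x = a • u + b • v
  have s0 : spn u := ⟨1, 0, by simp⟩
  have s1 : spn v := ⟨0, 1, by simp⟩
  have s2 : spn (u + v) := ⟨1, 1, by simp⟩
  have s3 : spn (u + w • v) := ⟨1, w, by simp⟩
  have s4 : spn (u + w ^ 2 • v) := ⟨1, w ^ 2, by simp⟩
  have orth : ∀ x y, spn x → spn y → hb x y = 0 := by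
    rintro x y ⟨a, b, rfl⟩ ⟨a', b', rfl⟩
    simp [hb_add_left, hb_add_right hF, hb_smul_left, hb_smul_right, hu.2, hv.2, huv, hvu]
  have hwsq : w ^ 2 ≠ 0 := pow_ne_zero _ hw0
  have hwsq1 : w ^ 2 ≠ 1 := fun e => hw1 (sq_eq_one hF e)
  have hwsqw : w ≠ w ^ 2 := fun e => hw1 (mul_left_cancel₀ hw0 (by rw [mul_one]; linear_combination -e))
  have key : ∀ (x y : Vec F), IsPt x → IsPt y → ∀ a b a' b' : F, x = a • u + b • v →
      y = a' • u + b' • v → (∀ t : F, ¬ (a' = t * a ∧ b' = t * b)) → sp.pt x ≠ sp.pt y := by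
    intro x y hx hy a b a' b' ex ey hno e
    obtain ⟨t, ht⟩ := (sp.same hx hy).mp e
    rw [ex, ey, smul_add, smul_smul, smul_smul] at ht
    exact hno t (coef _ _ _ _ ht)
  have eu : u = (1 : F) • u + (0 : F) • v := by simp
  have ev : v = (0 : F) • u + (1 : F) • v := by simp
  have e2 : u + v = (1 : F) • u + (1 : F) • v := by simp
  have e3 : ∀ t : F, u + t • v = (1 : F) • u + t • v := fun t => by simp
  refine ⟨sp.pt (u + v), sp.pt (u + w • v), sp.pt (u + w ^ 2 • v), sp.mem hP, sp.mem hQ, sp.mem hR,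
    ?_, ?_, ?_, ?_, ?_⟩
  · simp only [List.nodup_cons, List.mem_cons, List.not_mem_nil, or_false, not_or, List.nodup_nil,
      and_true, not_false_eq_true]
    refine ⟨⟨hne, key _ _ hu hP _ _ _ _ eu e2 ?_, key _ _ hu hQ _ _ _ _ eu (e3 _) ?_,
      key _ _ hu hR _ _ _ _ eu (e3 _) ?_⟩,
      ⟨key _ _ hv hP _ _ _ _ ev e2 ?_, key _ _ hv hQ _ _ _ _ ev (e3 _) ?_,
        key _ _ hv hR _ _ _ _ ev (e3 _) ?_⟩,
      ⟨key _ _ hP hQ _ _ _ _ e2 (e3 _) ?_, key _ _ hP hR _ _ _ _ e2 (e3 _) ?_⟩,
      key _ _ hQ hR _ _ _ _ (e3 _) (e3 _) ?_⟩ <;> rintro t ⟨h1, h2⟩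
    · rw [mul_zero] at h2; exact one_ne_zero h2
    · rw [mul_zero] at h2; exact hw0 h2
    · rw [mul_zero] at h2; exact hwsq h2
    · rw [mul_zero] at h1; exact one_ne_zero h1
    · rw [mul_zero] at h1; exact one_ne_zero h1
    · rw [mul_zero] at h1; exact one_ne_zero h1
    · rw [mul_one] at h1 h2; exact hw1 (h2.trans h1.symm)
    · rw [mul_one] at h1 h2; exact hwsq1 (h2.trans h1.symm)
    · rw [mul_one] at h1; rw [← h1, one_mul] at h2; exact hwsqw h2.symm
  · intro x hx y hy
    simp only [List.mem_cons, List.not_mem_nil, or_false] at hx hy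
    rcases hx with rfl | rfl | rfl | rfl | rfl <;> rcases hy with rfl | rfl | rfl | rfl | rfl <;>
      exact (sp.comm (by assumption) (by assumption)).mpr (orth _ _ (by assumption) (by assumption))
  · intro z hz hzb hzc
    obtain ⟨x, hx, rfl⟩ := sp.surj z hz
    have xu := (sp.comm hx hu).mp hzb
    have xv := (sp.comm hx hv).mp hzc
    refine ⟨(sp.comm hx hP).mpr ?_, (sp.comm hx hQ).mpr ?_, (sp.comm hx hR).mpr ?_⟩
    · rw [e2]; exact hb_zero_pair hF xu xv _ _
    · rw [e3]; exact hb_zero_pair hF xu xv _ _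
    · rw [e3]; exact hb_zero_pair hF xu xv _ _
  · intro y hy hall
    obtain ⟨x, hx, rfl⟩ := sp.surj y hy
    have hux : hb x u = 0 :=
      (sp.comm hx hu).mp (hall _ (sp.mem hu) (Commute.refl _) hcm).symm
    have hvx : hb x v = 0 :=
      (sp.comm hx hv).mp (hall _ (sp.mem hv) hcm.symm (Commute.refl _)).symm
    have hspan : x ∈ Submodule.span F (Set.range ![u, v]) := by
      by_contra hns
      have hli' : LinearIndependent F (Fin.snoc ![u, v] x) := linearIndependent_finSnoc.mpr ⟨hli, hns⟩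
      obtain ⟨z, hz, hl⟩ := iso_solve_of_mem hF hli' (Fin.snoc ![0, 0] 1) (Fin.last 2)
        (fun i => by
          refine Fin.lastCases ?_ (fun i => ?_) i
          · simpa using hx.2
          · fin_cases i <;> simp [hux, hvx, Fin.snoc]) (by simp)
      have h0 : hb z u = 0 := by
        have := hl (0 : Fin 2).castSucc
        simpa only [Fin.snoc_castSucc, Matrix.cons_val_zero] using this
      have h0' : hb z v = 0 := by
        have := hl (1 : Fin 2).castSucc
        simpa only [Fin.snoc_castSucc, Matrix.cons_val_one, Matrix.cons_val_fin_one] using this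
      have h1 : hb z x = 1 := by simpa using hl (Fin.last 2)
      have hzp := pt_of_hb_eq_one hz h1
      have := (sp.comm hzp hx).mp
        (hall _ (sp.mem hzp) ((sp.comm hzp hu).mpr h0) ((sp.comm hzp hv).mpr h0'))
      rw [h1] at this
      exact one_ne_zero this
    obtain ⟨g, hg⟩ := (Submodule.mem_span_range_iff_exists_fun F).mp hspan
    simp only [Fin.sum_univ_two, Matrix.cons_val_zero, Matrix.cons_val_one] at hg
    simp only [List.mem_cons, List.not_mem_nil, or_false]
    have same : ∀ {z : Vec F}, IsPt z → ∀ t : F, x = t • z → sp.pt x = sp.pt z := fun hz t ht =>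
      ((sp.same hz hx).mpr ⟨t, ht⟩).symm
    by_cases h0 : g 0 = 0
    · exact Or.inr (Or.inl (same hv (g 1) (by rw [← hg, h0, zero_smul, zero_add])))
    by_cases h1 : g 1 = 0
    · exact Or.inl (same hu (g 0) (by rw [← hg, h1, zero_smul, add_zero]))
    have hsplit : x = g 0 • (u + (g 1 * (g 0)⁻¹) • v) := by
      rw [← hg, smul_add, smul_smul, mul_comm (g 1), mul_inv_cancel_left₀ h0]
    set t := g 1 * (g 0)⁻¹ with htdef
    have ht0 : t ≠ 0 := mul_ne_zero h1 (inv_ne_zero h0)
    have : (t - 1) * (t - w) * (t - w ^ 2) = 0 := by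
      have h3 := pow_three hF ht0
      have h2 := two_zero hF
      linear_combination h3 + (-t ^ 2 + w * t) * hw + ((1 : F) - w) * hw
    rcases mul_eq_zero.mp this with h | h
    · rcases mul_eq_zero.mp h with h | h
      · rw [sub_eq_zero] at h; rw [h, one_smul] at hsplit
        exact Or.inr (Or.inr (Or.inl (same hP _ hsplit)))
      · rw [sub_eq_zero] at h; rw [h] at hsplit
        exact Or.inr (Or.inr (Or.inr (Or.inl (same hQ _ hsplit))))
    · rw [sub_eq_zero] at h; rw [h] at hsplit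
      exact Or.inr (Or.inr (Or.inr (Or.inr (same hR _ hsplit))))
  · intro y hy
    exact sp.line hu hv huv hs hw y hy

omit [Fintype F] hF in
/-- the connectedness of the commuting graph when conjugation is primitive -/
theorem reach_all {D : Set G} (hD : Core D) (hprim : Cfsg.IsPrimitiveUnderConj D) {a : G} (ha : a ∈ D) :
    ∀ t ∈ D, Relation.ReflTransGen (fun s t => s ∈ D ∧ t ∈ nb D s) a t := by
  set r : G → G → Prop := fun s t => s ∈ D ∧ t ∈ nb D s with hr
  have hsymm : ∀ s t, r s t → r t s := fun s t h => ⟨h.2.1, nb_symm h.1 h.2⟩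
  have hrs : ∀ {s t}, Relation.ReflTransGen r s t → Relation.ReflTransGen r t s := by
    intro s t h
    induction h with
    | refl => exact .refl
    | tail _ h ih => exact .head (hsymm _ _ h) ih
  have hmap : ∀ (g : G) {s t}, Relation.ReflTransGen r s t →
      Relation.ReflTransGen r (g * s * g⁻¹) (g * t * g⁻¹) := fun g _ _ h =>
    h.lift (fun x => g * x * g⁻¹) fun x y hxy => ⟨hD.tt.conj_mem g x hxy.1, hD.tt.nb_conj g hxy.2⟩
  set B : Set G := {t | t ∈ D ∧ Relation.ReflTransGen r a t} with hB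
  have hblock : ∀ g : G, (fun x => g * x * g⁻¹) '' B = B ∨ Disjoint ((fun x => g * x * g⁻¹) '' B) B := by
    intro g
    by_cases hd : Disjoint ((fun x => g * x * g⁻¹) '' B) B
    · exact Or.inr hd
    left
    obtain ⟨_, ⟨x, hx, rfl⟩, hy⟩ := Set.not_disjoint_iff.mp hd
    have hga : Relation.ReflTransGen r a (g * a * g⁻¹) := hy.2.trans (hrs (hmap g hx.2))
    ext z
    constructor
    · rintro ⟨w, hw, rfl⟩
      exact ⟨hD.tt.conj_mem g w hw.1, hga.trans (hmap g hw.2)⟩
    · intro hz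
      refine ⟨g⁻¹ * z * g, ⟨?_, ?_⟩, by show g * (g⁻¹ * z * g) * g⁻¹ = z; group⟩
      · have := hD.tt.conj_mem g⁻¹ z hz.1; rwa [inv_inv] at this
      · have h1 := hmap g⁻¹ ((hrs hga).trans hz.2)
        rw [show g⁻¹ * (g * a * g⁻¹) * g⁻¹⁻¹ = a by group, inv_inv] at h1
        exact h1
  rcases hprim.2.2 B (fun x hx => hx.1) hblock with h | h
  · exfalso
    obtain ⟨b, hb⟩ := hD.edge a ha
    exact hb.2.1 (h ⟨hb.1, .single ⟨ha, hb⟩⟩ ⟨ha, .refl⟩)
  · intro t ht
    rw [← h] at ht
    exact ht.2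

omit [Fintype F] hF in
/-- neighbours of `a` are conjugate by elements commuting with anything that centralises them -/
theorem exists_conj_nb {D : Set G} (hD : Core D) {a s t : G} (hs : s ∈ nb D a) (ht : t ∈ nb D a)
    (ha : a ∈ D) (hsep : Sep (nb D a)) :
    ∃ h : G, h * s * h⁻¹ = t ∧ h * a * h⁻¹ = a ∧
      ∀ z : G, (∀ v ∈ nb D a, Commute z v) → Commute z h := by
  have step : ∀ s t, s ∈ nb D a → t ∈ nb D a → ¬ Commute s t →
      ∃ h : G, h * s * h⁻¹ = t ∧ h * a * h⁻¹ = a ∧
        ∀ z : G, (∀ v ∈ nb D a, Commute z v) → Commute z h := by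
    intro s t hs ht hn
    refine ⟨s * t, ?_, ?_, fun z hz => (hz s hs).mul_right (hz t ht)⟩
    · rw [mul_inv_rev, hD.tt.inv_eq ht.1, hD.tt.inv_eq hs.1, hD.tt.braid hs.1 ht.1 hn]
      calc t * s * t * (t * s) = t * s * (t * t) * s := by group
        _ = t := by rw [hD.tt.sq t ht.1, mul_one, mul_assoc, hD.tt.sq s hs.1, mul_one]
    · rw [(hs.2.2.symm.mul_left ht.2.2.symm).eq, mul_inv_cancel_right]
  by_cases he : s = t
  · exact ⟨1, by simp [he], by simp, fun z _ => Commute.one_right z⟩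
  by_cases hc : Commute s t
  · obtain ⟨w, hw, hws, hwt⟩ := hsep s hs t ht he hc
    obtain ⟨h1, e1, f1, g1⟩ := step s w hs hw (fun q => hws q.symm)
    obtain ⟨h2, e2, f2, g2⟩ := step w t hw ht hwt
    refine ⟨h2 * h1, ?_, ?_, fun z hz => (g2 z hz).mul_right (g1 z hz)⟩
    · rw [← e2, ← e1]; group
    · conv_rhs => rw [← f2, ← f1]
      group
  · exact step s t hs ht hc

omit [Fintype F] hF in
/-- an element centralising the closed neighbourhoods of two commuting members is central -/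
theorem central_of_two {D : Set G} (hD : Core D) (hprim : Cfsg.IsPrimitiveUnderConj D)
    (hgen : Subgroup.closure D = ⊤) (hsep : ∀ a ∈ D, Sep (nb D a)) {z a b : G} (ha : a ∈ D)
    (hb : b ∈ nb D a) (hza : Commute z a) (hna : ∀ v ∈ nb D a, Commute z v)
    (hnb : ∀ v ∈ nb D b, Commute z v) : z ∈ Subgroup.center G := by
  let P : G → Prop := fun v => Commute z v ∧ ∀ w ∈ nb D v, Commute z w
  have move : ∀ v ∈ D, P v → ∀ s ∈ nb D v, ∀ t ∈ nb D v, P s → P t := by
    intro v hv hPv s hs t ht hPs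
    obtain ⟨h, e, -, hz⟩ := exists_conj_nb hD hs ht hv (hsep v hv)
    have hzh : Commute z h := hz z hPv.2
    refine ⟨hPv.2 t ht, fun w hw => ?_⟩
    have hw' := hD.tt.nb_conj h⁻¹ hw
    rw [← e, show h⁻¹ * (h * s * h⁻¹) * h⁻¹⁻¹ = s by group] at hw'
    have h1 := hPs.2 _ hw'
    have e' : w = h * (h⁻¹ * w * h⁻¹⁻¹) * h⁻¹ := by group
    rw [e']
    exact (hzh.mul_right h1).mul_right hzh.inv_right
  have hPa : P a := ⟨hza, hna⟩
  have hPb : P b := ⟨hna b hb, hnb⟩
  have hall : ∀ t, Relation.ReflTransGen (fun s t => s ∈ D ∧ t ∈ nb D s) a t →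
      P t ∧ ∀ s ∈ nb D t, P s := by
    intro t h
    induction h with
    | refl => exact ⟨hPa, fun s hs => move a ha hPa b hb s hs hPb⟩
    | @tail x y _ hxy ih =>
      exact ⟨ih.2 y hxy.2, fun s hs => move y hxy.2.1 (ih.2 y hxy.2) x (nb_symm hxy.1 hxy.2) s hs ih.1⟩
  rw [Subgroup.mem_center_iff]
  intro g
  have hle : Subgroup.closure D ≤ Subgroup.centralizer ({z} : Set G) := by
    rw [Subgroup.closure_le]
    intro t ht
    exact Subgroup.mem_centralizer_singleton_iff.mpr ((hall t (reach_all hD hprim ha t ht)).1.1.symm.eq)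
  rw [hgen] at hle
  exact Subgroup.mem_centralizer_singleton_iff.mp (hle (Subgroup.mem_top g))

end Cfsg.Agent.H93
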