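import Cfsg.Agent.H93.SevenU6

/-!
Elements of order five of `SU 6 F 2`: the fixed vectors form at most a non-degenerate plane, so at
most three isotropic points are fixed and no two of them are orthogonal.
-/

set_option autoImplicit false

namespace Cfsg.Agent.H93

theorem five_dim_arith : ∀ n < 7, 4 ^ n % 5 = 1 → n = 0 ∨ n = 2 ∨ n = 4 ∨ n = 6 := by decide +kernel

variable {F : Type*} [Field F] [Fintype F] (hF : Fintype.card F = 4)

include hF

/-- an isotropic vector in the span of two isotropic vectors -/
theorem span_points {u v x : Vec F} (hu : IsPt u) (hv : IsPt v) (hc : hb v u ≠ 0) (hx : IsPt x)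
    {a b : F} (e : x = a • u + b • v) :
    SamePt u x ∨ SamePt v x ∨ SamePt (v + hb v u • u) x := by
  set c := hb v u with hcdef
  have huv : hb u v = c ^ 2 := hb_conj hF v u
  have h0 := hx.2
  rw [e] at h0
  simp only [hb_add_left, hb_add_right hF, hb_smul_left, hb_smul_right, hu.2, hv.2, huv, ← hcdef] at h0
  by_cases ha : a = 0
  · exact Or.inr (Or.inl ⟨b, by rw [e, ha, zero_smul, zero_add]⟩)
  by_cases hb0 : b = 0
  · exact Or.inl ⟨a, by rw [e, hb0, zero_smul, add_zero]⟩
  refine Or.inr (Or.inr ⟨b, ?_⟩)
  have h1 : a * b * c * (b * c + a) = 0 := by linear_combination h0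
  have h2 : b * c + a = 0 := (mul_eq_zero.mp h1).resolve_left (mul_ne_zero (mul_ne_zero ha hb0) hc)
  rw [e, ← (add_eq_zero_iff_eq' hF).mp h2, smul_add, smul_smul, add_comm]

variable {g : ↥(Cfsg.SU 6 F 2)} (hg : g ^ 5 = 1)

include hg

/-- the only eigenvalue is one -/
theorem five_eigen {x : Vec F} (hx : x ≠ 0) {t : F} (e : act g x = t • x) : act g x = x := by
  have hn : ∀ n : ℕ, act (g ^ n) x = t ^ n • x := by
    intro n
    induction n with
    | zero => rw [pow_zero, act_one, pow_zero, one_smul]
    | succ n ih => rw [pow_succ, act_mul, e, act_smul, ih, smul_smul, pow_succ, mul_comm]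
  have h5 := hn 5
  rw [hg, act_one] at h5
  have ht5 : t ^ 5 = 1 := by
    have h : (t ^ 5 - 1) • x = 0 := by rw [sub_smul, ← h5, one_smul, sub_self]
    exact sub_eq_zero.mp ((smul_eq_zero.mp h).resolve_right hx)
  have ht0 : t ≠ 0 := fun q => by rw [q] at ht5; simp at ht5
  have ht2 : t ^ 2 = 1 := by
    calc t ^ 2 = t ^ 3 * t ^ 2 := by rw [pow_three hF ht0, one_mul]
      _ = 1 := by rw [← pow_add]; exact ht5
  rw [e, sq_eq_one hF ht2, one_smul]

/-- an invariant subspace without fixed vectors has even dimension -/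
theorem invariant_dim_five (S : Submodule F (Vec F))
    (hinv : ∀ v ∈ S, act g v ∈ S) (hfix : ∀ v ∈ S, act g v = v → v = 0) :
    Module.finrank F S = 0 ∨ Module.finrank F S = 2 ∨ Module.finrank F S = 4 ∨
      Module.finrank F S = 6 := by
  classical
  have hpow : ∀ (n : ℕ), ∀ v ∈ S, act (g ^ n) v ∈ S := by
    intro n
    induction n with
    | zero => intro v hv; rwa [pow_zero, act_one]
    | succ n ih => intro v hv; rw [pow_succ', act_mul]; exact hinv _ (ih v hv)
  have hz : ∀ k ∈ Subgroup.zpowers g, ∀ v ∈ S, act k v ∈ S := by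
    intro k hk v hv
    obtain ⟨n, hn : g ^ n = k⟩ := (isOfFinOrder_of_finite g).mem_powers_iff_mem_zpowers.mpr hk
    rw [← hn]; exact hpow n v hv
  letI : MulAction ↥(Subgroup.zpowers g) ↥S :=
    { smul := fun k v => ⟨act k.1 v.1, hz k.1 k.2 v.1 v.2⟩
      one_smul := fun v => Subtype.ext (act_one v.1)
      mul_smul := fun k k' v => Subtype.ext (act_mul k.1 k'.1 v.1) }
  haveI : Fact (Nat.Prime 5) := ⟨by norm_num⟩
  have hp : IsPGroup 5 ↥(Subgroup.zpowers g) := by
    rintro ⟨k, i, rfl⟩
    refine ⟨1, Subtype.ext ?_⟩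
    show (g ^ i) ^ (5 ^ 1) = 1
    rw [pow_one, ← zpow_natCast, ← zpow_mul, mul_comm i, zpow_mul, zpow_natCast, hg, one_zpow]
  have hone : MulAction.fixedPoints ↥(Subgroup.zpowers g) ↥S = {0} := by
    ext v
    refine ⟨fun hv => Subtype.ext (hfix v.1 v.2 ?_), fun hv k => Subtype.ext ?_⟩
    · exact congrArg Subtype.val (hv ⟨g, Subgroup.mem_zpowers g⟩)
    · show act k.1 v.1 = v.1
      rw [show v = 0 from hv, Submodule.coe_zero, act_zero]
  have hmod := hp.card_modEq_card_fixedPoints ↥S
  rw [hone, Nat.card_coe_set_eq, Set.ncard_singleton, Module.natCard_eq_pow_finrank (K := F),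
    Nat.card_eq_fintype_card, hF] at hmod
  have hle : Module.finrank F S ≤ 6 := (Submodule.finrank_le S).trans (by simp)
  exact five_dim_arith _ (by omega) hmod

variable (hg1 : g ≠ 1)

include hg1

/-- two fixed points are not orthogonal and every fixed point is one of three -/
theorem five_plane {u v : Vec F} (hu : IsPt u) (hv : IsPt v) (gu : act g u = u) (gv : act g v = v)
    (hs : ¬ SamePt u v) :
    hb v u ≠ 0 ∧ ∀ x, IsPt x → act g x = x →
      SamePt u x ∨ SamePt v x ∨ SamePt (v + hb v u • u) x := by
  classical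
  set L : Vec F →ₗ[F] Vec F := actL g + LinearMap.id with hL
  set U := LinearMap.range L
  set W := LinearMap.ker L
  have hLa : ∀ x, L x = act g x + x := fun x => rfl
  have hU : ∀ v ∈ U, act g v ∈ U := by
    rintro _ ⟨x, rfl⟩
    exact ⟨act g x, by rw [hLa, hLa, act_add]⟩
  have hfix : ∀ v ∈ U, act g v = v → v = 0 := by
    rintro _ ⟨x, rfl⟩ hfx
    rw [hLa, act_add, ← act_mul, add_comm (act g x) x] at hfx
    have h2 : act (g * g) x = x := add_right_cancel hfx
    have h4 : act (g * g * (g * g)) x = x := by rw [act_mul, h2, h2]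
    have h5 : act g x = x := by
      conv_lhs => rw [← h4]
      rw [← act_mul, show g * (g * g * (g * g)) = g ^ 5 by simp only [pow_succ, pow_zero, one_mul, mul_assoc],
        hg, act_one]
    rw [hLa, h5, vec_add_self hF]
  have hWm : ∀ x, act g x = x → x ∈ W := fun x hx => by
    rw [LinearMap.mem_ker, hLa, hx, vec_add_self hF]
  have hWf : ∀ x ∈ W, act g x = x := fun x hx => vec_eq_of_add hF (by
    rw [LinearMap.mem_ker, hLa] at hx; exact hx)
  have hUW : ∀ y ∈ U, ∀ w ∈ W, hb y w = 0 := by
    rintro _ ⟨y, rfl⟩ w hw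
    have h1 := act_hb g y w
    rw [hWf w hw] at h1
    rw [hLa, hb_add_left, h1, add_self_zero hF]
  have hinf : U ⊓ W = ⊥ := by
    rw [eq_bot_iff]
    rintro y ⟨hyU, hyW⟩
    rw [Submodule.mem_bot]
    exact hfix y hyU (hWf y hyW)
  have hrn := L.finrank_range_add_finrank_ker
  rw [Module.finrank_fin_fun] at hrn
  change Module.finrank F U + Module.finrank F W = 6 at hrn
  have htop : U ⊔ W = ⊤ := Submodule.eq_top_of_finrank_eq (by
    have := Submodule.finrank_sup_add_finrank_inf_eq U W
    rw [hinf, finrank_bot] at this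
    rw [Module.finrank_fin_fun]
    omega)
  have hsplit : ∀ z : Vec F, ∃ p ∈ U, ∃ q ∈ W, p + q = z := fun z =>
    Submodule.mem_sup.mp (htop.symm ▸ Submodule.mem_top (x := z))
  have huW := hWm u gu
  have hvW := hWm v gv
  have hli := indep_pair hu.1 hs
  have hspanW : Submodule.span F (Set.range ![u, v]) ≤ W := by
    rw [Submodule.span_le]
    rintro _ ⟨i, rfl⟩
    fin_cases i <;> assumption
  have h2W : 2 ≤ Module.finrank F W := by
    have := Submodule.finrank_mono hspanW
    rwa [finrank_span_eq_card hli, Fintype.card_fin] at this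
  have hW2 : Module.finrank F W = 2 := by
    rcases invariant_dim_five hF hg U hU hfix with e | e | e | e
    · exfalso
      refine hg1 (act_ext fun y => ?_)
      rw [Submodule.finrank_eq_zero] at e
      have : L y ∈ U := ⟨y, rfl⟩
      rw [e, Submodule.mem_bot, hLa] at this
      rw [vec_eq_of_add hF this, act_one]
    · exfalso
      have hnd : ∀ y ∈ U, (∀ z ∈ U, hb y z = 0) → y = 0 := fun y hy hall => hb_nondeg hF fun z => by
        obtain ⟨p, hp, q, hq, rfl⟩ := hsplit z
        rw [hb_add_right hF, hall p hp, hUW y hy q hq, add_zero]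
      -- an isotropic vector
      obtain ⟨p, hpU, hp⟩ : ∃ p ∈ U, IsPt p := by
        obtain ⟨x, hxU, hx0⟩ := U.exists_mem_ne_zero_of_ne_bot (fun q => by
          rw [q, finrank_bot] at e; norm_num at e)
        rcases hb_self_cases hF x with hxx | hxx
        · exact ⟨x, hxU, hx0, hxx⟩
        obtain ⟨z, hzU, hz⟩ : ∃ z ∈ U, z ∉ Submodule.span F {x} :=
          SetLike.not_le_iff_exists.mp fun hle => by
            have := Submodule.finrank_mono hle
            rw [finrank_span_singleton hx0, e] at this
            omega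
        obtain ⟨y, hydef⟩ : ∃ y, y = z + hb z x • x := ⟨_, rfl⟩
        have hyU : y ∈ U := hydef ▸ U.add_mem hzU (U.smul_mem _ hxU)
        have hy0 : y ≠ 0 := fun q => hz (by
          rw [hydef] at q; rw [vec_eq_of_add hF q]; exact Submodule.smul_mem _ _ (Submodule.mem_span_singleton_self x))
        have hyx : hb y x = 0 := by
          rw [hydef, hb_add_left, hb_smul_left, hxx, mul_one, add_self_zero hF]
        rcases hb_self_cases hF y with hyy | hyy
        · exact ⟨y, hyU, hy0, hyy⟩
        refine ⟨x + y, U.add_mem hxU hyU, fun q => ?_, ?_⟩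
        · rw [← vec_eq_of_add hF q, hxx] at hyx; exact one_ne_zero hyx
        · rw [hb_add_left, hb_add_right hF, hb_add_right hF, hxx, hyy, hyx,
            (hb_eq_zero_comm hF).mp hyx]
          linear_combination two_zero hF
      have hnf : act g p ≠ p := fun q => hp.1 (hfix p hpU q)
      have hsp : ¬ SamePt p (act g p) := fun ⟨t, ht⟩ => hnf (five_eigen hF hg hp.1 ht)
      set w := act g p with hw
      have hwU : w ∈ U := hU p hpU
      have hwp : IsPt w := act_pt g hp
      have hli' := indep_pair hp.1 hsp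
      have hspanU : Submodule.span F (Set.range ![p, w]) = U := by
        refine Submodule.eq_of_le_of_finrank_le ?_ (by rw [finrank_span_eq_card hli', e]; simp)
        rw [Submodule.span_le]
        rintro _ ⟨i, rfl⟩
        fin_cases i <;> assumption
      have hcomb : ∀ z ∈ U, ∃ a b : F, z = a • p + b • w := by
        intro z hz
        rw [← hspanU, Submodule.mem_span_range_iff_exists_fun] at hz
        obtain ⟨f, hf⟩ := hz
        exact ⟨f 0, f 1, by simpa [Fin.sum_univ_two] using hf.symm⟩
      set c := hb w p with hcdef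
      have hpw : hb p w = c ^ 2 := hb_conj hF w p
      have hc0 : c ≠ 0 := fun q => hp.1 (hnd p hpU fun z hz => by
        obtain ⟨a, b, rfl⟩ := hcomb z hz
        rw [hb_add_right hF, hb_smul_right, hb_smul_right, hp.2, hpw, q]
        ring)
      obtain ⟨a, b, eab⟩ := hcomb (act g w) (hU w hwU)
      have h1 : hb (act g w) w = c := (act_hb g w p).trans hcdef.symm
      rw [eab, hb_add_left, hb_smul_left, hb_smul_left, hpw, hwp.2, mul_zero, add_zero] at h1
      have c3 := pow_three hF hc0
      have ha : a = c ^ 2 := by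
        calc a = a * (c ^ 3) := by rw [c3, mul_one]
          _ = (a * c ^ 2) * c := by ring
          _ = c ^ 2 := by rw [h1]; ring
      subst ha
      have h2 := (act_hb g w w).trans hwp.2
      rw [eab] at h2
      simp only [hb_add_left, hb_add_right hF, hb_smul_left, hb_smul_right, hp.2, hwp.2, hpw, ← hcdef] at h2
      have h3 : b * (b + c) = 0 := by
        linear_combination c ^ 2 * h2 - (b ^ 2 * (c ^ 3 + 1) + b * c * (c ^ 3 + 1)) * c3
      rcases mul_eq_zero.mp h3 with hb0 | hbc
      · subst hb0
        rw [zero_smul, add_zero] at eab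
        have h5 : act (g ^ 5) p = c • w := by
          have g2 : act g (act g p) = c ^ 2 • p := eab
          simp only [pow_succ, pow_zero, one_mul, mul_assoc, act_mul, g2, act_smul, smul_smul]
          rw [show c * (c * (c * c)) = c by linear_combination c * c3]
        rw [hg, act_one] at h5
        exact hsp (SamePt.symm ⟨c, h5⟩ hp.1)
      · rw [(add_eq_zero_iff_eq' hF).mp hbc] at eab
        have g3 : act g (act g (act g p)) = p := by
          show act g (act g w) = p
          rw [eab, act_add, act_smul, act_smul, eab, ← hw, smul_add, smul_smul, smul_smul,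
            show c * c ^ 2 = c ^ 3 by ring, c3, one_smul, show c * c = c ^ 2 by ring,
            ← add_assoc, add_comm (c ^ 2 • w), add_assoc, vec_add_self hF, add_zero]
        apply hnf
        have h5 : act (g ^ 5 * g) p = p := by
          simp only [pow_succ, pow_zero, one_mul, mul_assoc, act_mul, g3]
        rwa [hg, one_mul] at h5
    · omega
    · omega
  have hspan : Submodule.span F (Set.range ![u, v]) = W :=
    Submodule.eq_of_le_of_finrank_le hspanW (by rw [finrank_span_eq_card hli, hW2]; simp)
  have hcomb : ∀ z ∈ W, ∃ a b : F, z = a • u + b • v := by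
    intro z hz
    rw [← hspan, Submodule.mem_span_range_iff_exists_fun] at hz
    obtain ⟨f, hf⟩ := hz
    exact ⟨f 0, f 1, by simpa [Fin.sum_univ_two] using hf.symm⟩
  have hc : hb v u ≠ 0 := fun q => hu.1 (hb_nondeg hF fun z => by
    obtain ⟨p, hp, r, hr, rfl⟩ := hsplit z
    obtain ⟨a, b, rfl⟩ := hcomb r hr
    rw [hb_add_right hF, hb_add_right hF, hb_smul_right, hb_smul_right, hu.2,
      (hb_eq_zero_comm hF).mp q, (hb_eq_zero_comm hF).mp (hUW p hp u huW)]
    ring)
  refine ⟨hc, fun x hx gx => ?_⟩
  obtain ⟨a, b, e⟩ := hcomb x (hWm x gx)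
  exact span_points hF hu hv hc hx e

end Cfsg.Agent.H93
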