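import Cfsg.Agent.H93.Count22
import Cfsg.Agent.H93.FiveU6
import Cfsg.Agent.H93.FixTools

/-!
Subgroups of order five in groups of type M(22): a centralised member has three centralised
neighbours, and there are ten centralised members when there is one.
-/

set_option autoImplicit false

namespace Cfsg.Agent.H93

/-- the members centralised by a subgroup -/
abbrev fixSet {G : Type*} [Group G] (D : Set G) (X : Subgroup G) : Set G :=
  D ∩ (Subgroup.centralizer (X : Set G) : Set G)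

namespace Geo22

variable {G : Type*} [Group G] {D : Set G} {K : Type*} [Field K] [Fintype K] (h : Geo22 D K)
  [Finite G] {X : Subgroup G} (hX : Nat.card X = 5)

include h hX

/-- the centralised neighbours of a centralised member -/
theorem five_three {d : G} (hd : d ∈ fixSet D X) :
    (fixSet D X ∩ nb D d).ncard = 3 ∧
    ∀ p ∈ fixSet D X ∩ nb D d, ∀ q ∈ fixSet D X ∩ nb D d, Commute p q → p = q := by
  classical
  have hK := h.hK
  haveI : Fact (Nat.Prime 5) := ⟨by norm_num⟩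
  obtain ⟨hdD, hXd⟩ := mem_fix.mp hd
  obtain ⟨π, he, ⟨xs⟩⟩ := h.exists_space hdD
  obtain ⟨⟨x, hx⟩, hx1'⟩ : ∃ x : ↥X, x ≠ 1 := by
    haveI : Nontrivial ↥X := Finite.one_lt_card_iff_nontrivial.mp (by omega)
    exact exists_ne 1
  have hx1 : x ≠ 1 := fun e => hx1' (Subtype.ext e)
  have hx5 : x ^ 5 = 1 := by
    have := pow_card_eq_one' (G := ↥X) (x := ⟨x, hx⟩)
    rw [hX] at this
    exact congrArg Subtype.val this
  have hgen : Subgroup.zpowers x = X := Subgroup.eq_of_le_of_card_ge (Subgroup.zpowers_le.mpr hx)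
    (by rw [hX, Nat.card_zpowers, orderOf_eq_prime hx5 hx1])
  have hxC : x ∈ Subgroup.centralizer ({d} : Set G) :=
    Subgroup.mem_centralizer_singleton_iff.mpr (hXd x hx).eq
  obtain ⟨g0, hg0⟩ := QuotientGroup.mk_surjective (π ⟨x, hxC⟩)
  have hy5 : (π ⟨x, hxC⟩) ^ 5 = 1 := by
    rw [← map_pow, show (⟨x, hxC⟩ : ↥(Subgroup.centralizer ({d} : Set G))) ^ 5 = 1 from
      Subtype.ext hx5, map_one]
  have hy1 : π ⟨x, hxC⟩ ≠ 1 := fun q => by
    rcases he.ker _ q with e | e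
    · exact hx1 (congrArg Subtype.val e)
    · have : x = d := congrArg Subtype.val e
      rw [this] at hx5
      refine h.core.ne_one d hdD ?_
      calc d = (d * d) ^ 2 * d := by rw [h.core.tt.sq d hdD, one_pow, one_mul]
        _ = 1 := by rw [← pow_two, ← pow_mul, ← pow_succ, hx5]
  have hc5 : g0 ^ 5 ∈ Subgroup.center ↥(Cfsg.SU 6 K 2) := by
    rw [← QuotientGroup.eq_one_iff, QuotientGroup.mk_pow, hg0, hy5]
  obtain ⟨g, hg⟩ : ∃ g, g = g0 ^ 6 := ⟨_, rfl⟩
  have hg5 : g ^ 5 = 1 := by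
    rw [hg, ← pow_mul, show 6 * 5 = 5 * (3 * 2) by norm_num, pow_mul, pow_mul,
      central_pow_three hK hc5, one_pow]
  have hgy : π ⟨x, hxC⟩ = QuotientGroup.mk g := by
    rw [hg, QuotientGroup.mk_pow, hg0, pow_succ, hy5, one_mul]
  have hg1 : g ≠ 1 := fun q => hy1 (by rw [hgy, q, QuotientGroup.mk_one])
  have hfix : ∀ {v}, IsPt v → (xs.sp.pt v ∈ fixSet D X ↔ act g v = v) := by
    intro v hv
    have hl := h.lift hdD he xs hgy hv
    refine ⟨fun q => ?_, fun q => mem_fix.mpr ⟨(xs.sp.mem hv).1, fun z hz => ?_⟩⟩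
    · have := (mem_fix.mp q).2 x hx
      rw [show x * xs.sp.pt v * x⁻¹ = xs.sp.pt v from mul_inv_eq_iff_eq_mul.mpr this.eq] at hl
      obtain ⟨a, ha⟩ := (xs.sp.same hv (act_pt g hv)).mp hl
      exact five_eigen hK hg5 hv.1 ha
    · rw [q] at hl
      rw [← hgen] at hz
      obtain ⟨n, rfl⟩ := hz
      exact (show Commute x (xs.sp.pt v) from mul_inv_eq_iff_eq_mul.mp hl).zpow_left n
  set T := fixSet D X ∩ nb D d with hT
  have hmod : 693 ≡ T.ncard [MOD 5] := by
    have := fix_modEq (IsPGroup.of_card (p := 5) (n := 1) (by rw [hX, pow_one]) : IsPGroup 5 ↥X)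
      (nb D d) (fun z hz y hy => by
        have := h.core.tt.nb_conj z hy
        rwa [show z * d * z⁻¹ = d from mul_inv_eq_iff_eq_mul.mpr (hXd z hz).eq] at this)
    rw [h.card_nb hdD] at this
    rwa [show nb D d ∩ (Subgroup.centralizer (X : Set G) : Set G) = T from Set.ext fun y =>
      ⟨fun ⟨a, b⟩ => ⟨⟨a.1, b⟩, a⟩, fun ⟨a, b⟩ => ⟨b, a.2⟩⟩] at this
  have hmod' : T.ncard % 5 = 3 := hmod.symm
  have hvec : ∀ p ∈ T, ∃ v, IsPt v ∧ xs.sp.pt v = p ∧ act g v = v := by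
    intro p hp
    obtain ⟨v, hv, rfl⟩ := xs.sp.surj p hp.2
    exact ⟨v, hv, rfl, (hfix hv).mp hp.1⟩
  have hpair : ∀ p ∈ T, ∀ q ∈ T, p ≠ q → ¬ Commute p q ∧ ∃ r, T ⊆ {p, q, r} := by
    intro p hp q hq hne
    obtain ⟨u, hu, rfl, gu⟩ := hvec p hp
    obtain ⟨v, hv, rfl, gv⟩ := hvec q hq
    obtain ⟨hc, hall⟩ := five_plane hK hg5 hg1 hu hv gu gv fun s => hne ((xs.sp.same hu hv).mpr s)
    refine ⟨fun c => hc ((hb_eq_zero_comm hK).mp ((xs.sp.comm hu hv).mp c)),
      xs.sp.pt (v + hb v u • u), fun y hy => ?_⟩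
    obtain ⟨w, hw, rfl, gw⟩ := hvec y hy
    rcases hall w hw gw with s | s | s
    · exact Or.inl ((xs.sp.same hu hw).mpr s).symm
    · exact Or.inr (Or.inl ((xs.sp.same hv hw).mpr s).symm)
    · exact Or.inr (Or.inr ((xs.sp.same (isPt_third hK hu hv) hw).mpr s).symm)
  refine ⟨?_, fun p hp q hq c => by_contra fun hne => (hpair p hp q hq hne).1 c⟩
  obtain ⟨p, hp, q, hq, hne⟩ := (Set.one_lt_ncard (Set.toFinite T)).mp (by omega)
  obtain ⟨-, r, hr⟩ := hpair p hp q hq hne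
  have h3 := (Set.ncard_le_ncard hr (Set.toFinite _)).trans
    ((Set.ncard_insert_le _ _).trans (Nat.succ_le_succ ((Set.ncard_insert_le _ _).trans
      (Nat.succ_le_succ (Set.ncard_singleton r).le))))
  omega

/-- centralised members that do not commute have a centralised common neighbour -/
theorem five_common {d e : G} (hd : d ∈ fixSet D X) (he : e ∈ fixSet D X) (hn : ¬ Commute d e) :
    (fixSet D X ∩ common D d e).ncard % 5 = 1 := by
  haveI : Fact (Nat.Prime 5) := ⟨by norm_num⟩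
  obtain ⟨hdD, hXd⟩ := mem_fix.mp hd
  obtain ⟨heD, hXe⟩ := mem_fix.mp he
  have hm := fix_modEq (IsPGroup.of_card (p := 5) (n := 1) (by rw [hX, pow_one]) : IsPGroup 5 ↥X)
    (common D d e) (fun z hz y hy => by
      have h1 := h.core.tt.nb_conj z hy.1
      have h2 := h.core.tt.nb_conj z hy.2
      rw [show z * d * z⁻¹ = d from mul_inv_eq_iff_eq_mul.mpr (hXd z hz).eq] at h1
      rw [show z * e * z⁻¹ = e from mul_inv_eq_iff_eq_mul.mpr (hXe z hz).eq] at h2
      exact ⟨h1, h2⟩)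
  rw [h.card_common hdD heD hn,
    show common D d e ∩ (Subgroup.centralizer (X : Set G) : Set G) = fixSet D X ∩ common D d e from
      Set.ext fun y => ⟨fun ⟨a, b⟩ => ⟨⟨a.1.1, b⟩, a⟩, fun ⟨a, b⟩ => ⟨b, a.2⟩⟩] at hm
  exact hm.symm

/-- ten members are centralised if one is -/
theorem five_ten (hne : (fixSet D X).Nonempty) : (fixSet D X).ncard = 10 := by
  classical
  obtain ⟨d, hd⟩ := hne
  set Φ := fixSet D X
  set N := Φ ∩ nb D d with hN
  set F := {e | e ∈ Φ ∧ ¬ Commute d e} with hF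
  have h3 := h.five_three hX hd
  have e3 : N.ncard = 3 := h3.1
  have key := count_edges N F (fun f e => e ∈ nb D f) (k := 2) (m := 1) (fun f hf => ?_) (fun e he => ?_)
  · have hsplit : Φ = insert d (N ∪ F) := Set.ext fun y => ⟨fun hy => by
        by_cases e : y = d
        · exact Or.inl e
        by_cases c : Commute d y
        · exact Or.inr (Or.inl ⟨hy, hy.1, e, c⟩)
        · exact Or.inr (Or.inr ⟨hy, c⟩), by
      rintro (rfl | q | q)
      exacts [hd, q.1, q.1]⟩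
    rw [hsplit, Set.ncard_insert_of_notMem, Set.ncard_union_eq, e3]
    · omega
    · exact Set.disjoint_left.mpr fun y hy hy' => hy'.2 hy.2.2.2
    · rintro (q | q)
      exacts [q.2.2.1 rfl, q.2 (Commute.refl d)]
  · obtain ⟨h3f, hap⟩ := h.five_three hX hf.1
    have hdf : d ∈ Φ ∩ nb D f := ⟨hd, nb_symm hd.1 hf.2⟩
    rw [show {e | e ∈ F ∧ e ∈ nb D f} = (Φ ∩ nb D f) \ {d} from Set.ext fun y =>
      ⟨fun ⟨a, b⟩ => ⟨⟨a.1, b⟩, fun q => a.2 ((show y = d from q) ▸ Commute.refl d)⟩,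
        fun ⟨a, b⟩ => ⟨⟨a.1, fun c => b (hap y a d hdf c.symm)⟩, a.2⟩⟩,
      Set.ncard_sdiff (Set.singleton_subset_iff.mpr hdf), h3f, Set.ncard_singleton]
  · have hle : Φ ∩ common D d e ⊆ N := fun y hy => ⟨hy.1, hy.2.1⟩
    have hle' := Set.ncard_le_ncard hle (Set.toFinite _)
    have := h.five_common hX hd he.1 he.2
    rw [show {f | f ∈ N ∧ e ∈ nb D f} = Φ ∩ common D d e from Set.ext fun y =>
      ⟨fun ⟨a, b⟩ => ⟨a.1, a.2, nb_symm a.1.1 b⟩, fun ⟨a, b⟩ => ⟨⟨a, b.1⟩, nb_symm he.1.1 b.2⟩⟩]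
    change (Φ ∩ common D d e).ncard % 5 = 1 at this
    show (Φ ∩ common D d e).ncard = 1
    omega

end Geo22

end Cfsg.Agent.H93
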