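import Cfsg.Agent.H93.SevenU6

/-!
Subgroups of order seven in groups of type M(22): they centralise exactly three members, a line, and
their normalisers have order 252.
-/

set_option autoImplicit false

namespace Cfsg.Agent.H93

/-- a group of order twice an odd number has a subgroup of index two missing a given involution -/
theorem exists_index_two_missing {C : Type*} [Group C] [Finite C] {d : C} (hd : d * d = 1)
    (hd1 : d ≠ 1) {m : ℕ} (hm : Nat.card C = 2 * m) (hodd : Odd m) :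
    ∃ A : Subgroup C, A.index = 2 ∧ d ∉ A := by
  classical
  haveI := Fintype.ofFinite C
  let φ : C →* ℤˣ := Equiv.Perm.sign.comp (MulAction.toPermHom C C)
  have hφ : φ d = -1 := by
    show Equiv.Perm.sign (MulAction.toPerm d : Equiv.Perm C) = -1
    set σ : Equiv.Perm C := MulAction.toPerm d with hσ
    have hmove : ∀ x, σ x ≠ x := fun x e => hd1 (mul_eq_right.mp e)
    have hσ1 : σ ≠ 1 := fun e => hmove 1 (by rw [e]; rfl)
    haveI : Fact (Nat.Prime 2) := ⟨Nat.prime_two⟩
    have ho : orderOf σ = 2 := orderOf_eq_prime (by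
      ext x
      show d * (d * x) = x
      rw [← mul_assoc, hd, one_mul]) hσ1
    obtain ⟨n, hn⟩ := Equiv.Perm.cycleType_prime_order (σ := σ) (by rw [ho]; exact Nat.prime_two)
    have hsupp : σ.support = Finset.univ := Finset.eq_univ_of_forall fun x =>
      Equiv.Perm.mem_support.mpr (hmove x)
    have hsum := Equiv.Perm.sum_cycleType σ
    rw [hn, ho, hsupp, Multiset.sum_replicate, Finset.card_univ, ← Nat.card_eq_fintype_card, hm,
      smul_eq_mul] at hsum
    rw [Equiv.Perm.sign_of_cycleType, hn, ho, Multiset.sum_replicate, Multiset.card_replicate,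
      smul_eq_mul, show n + 1 = m by omega, show m * 2 + m = 2 * m + m by ring, pow_add, pow_mul,
      neg_one_sq, one_pow, one_mul, hodd.neg_one_pow]
  refine ⟨φ.ker, ?_, fun q => ?_⟩
  · rw [Subgroup.index_ker, MonoidHom.range_eq_top.mpr (fun u => ?_), Subgroup.card_top,
      Nat.card_eq_fintype_card, Fintype.card_units_int]
    rcases Int.units_eq_one_or u with rfl | rfl
    exacts [⟨1, map_one _⟩, ⟨d, hφ⟩]
  · rw [MonoidHom.mem_ker, hφ] at q
    exact absurd q (by decide)

set_option synthInstance.maxSize 2000 in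
theorem seven_norm_arith : ∀ n < 4, ∀ j < 7, n % 2 = 1 → 6 % j = 0 →
    (3510 * 18393661440 / (14 * n * j)) % 7 = 1 → n = 3 ∧ j = 6 := by decide +kernel

namespace Geo22

variable {G : Type*} [Group G] [Finite G] {D : Set G} {K : Type*} [Field K] [Fintype K]
  (h : Geo22 D K) {X : Subgroup G} (hX : Nat.card X = 7)

omit [Finite G] in
theorem mem_fixed {e : G} :
    e ∈ D ∩ (Subgroup.centralizer (X : Set G) : Set G) ↔ e ∈ D ∧ ∀ x ∈ X, Commute x e :=
  Iff.and Iff.rfl (Subgroup.mem_centralizer_iff.trans Iff.rfl)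

include h hX

/-- some member is centralised -/
theorem seven_nonempty : (D ∩ (Subgroup.centralizer (X : Set G) : Set G)).Nonempty := by
  classical
  haveI : Fact (Nat.Prime 7) := ⟨by norm_num⟩
  obtain ⟨a0, ha0⟩ : D.Nonempty := by
    by_contra hne
    rw [Set.not_nonempty_iff_eq_empty] at hne
    have htriv : ∀ g : G, g = 1 := fun g => h.cen g fun t ht => by simp [hne] at ht
    have : Subsingleton ↥X := ⟨fun x y => Subtype.ext ((htriv x).trans (htriv y).symm)⟩
    rw [Nat.card_of_subsingleton (1 : ↥X)] at hX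
    norm_num at hX
  letI : MulAction ↥X ↥D :=
    { smul := fun x y => ⟨x.1 * y.1 * x.1⁻¹, h.core.tt.conj_mem x.1 y.1 y.2⟩
      one_smul := fun y => Subtype.ext (by show (1 : G) * y.1 * (1 : G)⁻¹ = y.1; group)
      mul_smul := fun x x' y => Subtype.ext (by
        show x.1 * x'.1 * y.1 * (x.1 * x'.1)⁻¹ = x.1 * (x'.1 * y.1 * x'.1⁻¹) * x.1⁻¹; group) }
  have hp : IsPGroup 7 ↥X := IsPGroup.of_card (n := 1) (by rw [hX, pow_one])
  have hmod := hp.card_modEq_card_fixedPoints ↥D
  rw [Nat.card_coe_set_eq, h.card_members ha0] at hmod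
  obtain ⟨d, hd⟩ : (MulAction.fixedPoints ↥X ↥D).Nonempty := by
    by_contra hne
    rw [Set.not_nonempty_iff_eq_empty] at hne
    rw [hne, Nat.card_coe_set_eq, Set.ncard_empty] at hmod
    exact absurd hmod (by decide)
  exact ⟨d.1, mem_fixed.mpr ⟨d.2, fun x hx =>
    mul_inv_eq_iff_eq_mul.mp (congrArg Subtype.val (hd ⟨x, hx⟩))⟩⟩

/-- no two centralised members commute -/
theorem seven_apart {d e : G} (hd : d ∈ D ∩ (Subgroup.centralizer (X : Set G) : Set G))
    (he : e ∈ D ∩ (Subgroup.centralizer (X : Set G) : Set G)) (hc : Commute d e) : e = d := by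
  by_contra hne
  rw [mem_fixed] at hd he
  have h7 : 7 ∣ Nat.card ↥(Subgroup.centralizer ({d, e, e} : Set G)) := hX ▸
    Subgroup.card_dvd_of_le (fun x hx => Subgroup.mem_centralizer_iff.mpr (by
      rintro t (rfl | rfl | rfl)
      exacts [(hd.2 x hx).symm.eq, (he.2 x hx).symm.eq, (he.2 x hx).symm.eq]))
  rw [h.card_two hd.1 ⟨he.1, hne, hc⟩] at h7
  norm_num at h7

omit h in
theorem seven_abelian : X ≤ Subgroup.centralizer (X : Set G) := by
  intro p hp
  refine Subgroup.mem_centralizer_iff.mpr fun q hq => ?_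
  haveI : Fact (Nat.Prime 7) := ⟨by norm_num⟩
  haveI := isCyclic_of_prime_card hX
  letI := IsCyclic.commGroup (α := ↥X)
  exact congrArg Subtype.val (mul_comm (⟨q, hq⟩ : ↥X) ⟨p, hp⟩)

omit h in
theorem seven_pow {x : G} (hx : x ∈ X) : x ^ 7 = 1 := by
  have := pow_card_eq_one' (G := ↥X) (x := ⟨x, hx⟩)
  rw [hX] at this
  exact congrArg Subtype.val this

/-- the centraliser inside the centraliser of a member -/
theorem seven_cent_member {d : G} (hd : d ∈ D ∩ (Subgroup.centralizer (X : Set G) : Set G)) :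
    Nat.card ↥(Subgroup.centralizer (X : Set G) ⊓ Subgroup.centralizer ({d} : Set G)) = 14 := by
  classical
  have hK := h.hK
  haveI : Fact (Nat.Prime 7) := ⟨by norm_num⟩
  rw [mem_fixed] at hd
  obtain ⟨hd, hXd⟩ := hd
  obtain ⟨π, he, -⟩ := h.exists_space hd
  set C := Subgroup.centralizer (X : Set G) ⊓ Subgroup.centralizer ({d} : Set G) with hC
  have hXC : X ≤ C := le_inf (seven_abelian hX) fun x hx =>
    Subgroup.mem_centralizer_singleton_iff.mpr (hXd x hx).eq
  have hdC : d ∈ C := ⟨Subgroup.mem_centralizer_iff.mpr fun t ht => (hXd t ht).eq,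
    mem_cent (Commute.refl d)⟩
  refine Nat.dvd_antisymm ?_ ?_
  swap
  · refine Nat.Coprime.mul_dvd_of_dvd_of_dvd (m := 2) (n := 7) (by norm_num) ?_
      (hX ▸ Subgroup.card_dvd_of_le hXC)
    have := orderOf_dvd_natCard (⟨d, hdC⟩ : ↥C)
    rwa [Subgroup.orderOf_mk, orderOf_eq_prime (by rw [pow_two]; exact h.core.tt.sq d hd)
      (h.core.ne_one d hd)] at this
  obtain ⟨⟨x, hx⟩, hx1'⟩ : ∃ x : ↥X, x ≠ 1 := by
    haveI : Nontrivial ↥X := Finite.one_lt_card_iff_nontrivial.mp (by omega)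
    exact exists_ne 1
  have hx1 : x ≠ 1 := fun e => hx1' (Subtype.ext e)
  have hx7 := seven_pow hX hx
  have hxC : x ∈ Subgroup.centralizer ({d} : Set G) := (hXC hx).2
  set y := π ⟨x, hxC⟩ with hy
  obtain ⟨g0, hg0⟩ := QuotientGroup.mk_surjective y
  have hy7 : y ^ 7 = 1 := by
    rw [hy, ← map_pow, show (⟨x, hxC⟩ : ↥(Subgroup.centralizer ({d} : Set G))) ^ 7 = 1 from
      Subtype.ext hx7, map_one]
  have hy1 : y ≠ 1 := fun q => by
    rcases he.ker _ q with e | e
    · exact hx1 (congrArg Subtype.val e)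
    · have : x = d := congrArg Subtype.val e
      rw [this] at hx7
      refine h.core.ne_one d hd ?_
      calc d = (d * d) ^ 3 * d := by rw [h.core.tt.sq d hd, one_pow, one_mul]
        _ = 1 := by rw [← pow_two, ← pow_mul, ← pow_succ, hx7]
  have hc7 : g0 ^ 7 ∈ Subgroup.center ↥(Cfsg.SU 6 K 2) := by
    rw [← QuotientGroup.eq_one_iff, QuotientGroup.mk_pow, hg0, hy7]
  set g := g0 ^ 15 with hg
  have hg7 : g ^ 7 = 1 := by
    rw [hg, ← pow_mul, show 15 * 7 = 7 * (3 * 5) by norm_num, pow_mul, pow_mul,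
      central_pow_three hK hc7, one_pow]
  have hgy : (QuotientGroup.mk g : Cfsg.PSU 6 K 2) = y := by
    rw [hg, QuotientGroup.mk_pow, hg0, show 15 = 7 * 2 + 1 from rfl, pow_succ, pow_mul, hy7,
      one_pow, one_mul]
  have hg1 : g ≠ 1 := fun q => hy1 (by rw [← hgy, q, QuotientGroup.mk_one])
  set Z := Subgroup.center ↥(Cfsg.SU 6 K 2)
  set H := Subgroup.centralizer ({g} : Set ↥(Cfsg.SU 6 K 2))
  let mkH : ↥H →* Cfsg.PSU 6 K 2 := (QuotientGroup.mk' Z).comp H.subtype
  have hH7 : Nat.card ↥mkH.range = 7 := by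
    have hZ : Nat.card ↥mkH.ker = 3 := by
      rw [← Subgroup.card_map_of_injective (f := H.subtype) Subtype.val_injective,
        show mkH.ker.map H.subtype = Z from ?_]
      · rw [Cfsg.Agent.Unitary.card_center_SU (card_eq_sq hK) (by norm_num)]
        decide
      ext z
      constructor
      · rintro ⟨k, hk, rfl⟩
        exact (QuotientGroup.eq_one_iff _).mp hk
      · intro hz
        exact ⟨⟨z, Subgroup.mem_centralizer_singleton_iff.mpr
          (Subgroup.mem_center_iff.mp hz g).symm⟩, (QuotientGroup.eq_one_iff z).mpr hz, rfl⟩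
    have h1 := Subgroup.card_mul_index mkH.ker
    rw [Subgroup.index_ker, hZ, centralizer_seven hK hg7 hg1] at h1
    omega
  let f : ↥C →* Cfsg.PSU 6 K 2 := π.comp (Subgroup.inclusion inf_le_right)
  have himg : f.range ≤ mkH.range := by
    rintro _ ⟨k, rfl⟩
    set k' : ↥(Subgroup.centralizer ({d} : Set G)) := Subgroup.inclusion inf_le_right k
    obtain ⟨k0, hk0⟩ := QuotientGroup.mk_surjective (π k')
    refine ⟨⟨k0, Subgroup.mem_centralizer_singleton_iff.mpr ?_⟩, hk0⟩
    have hc : π k' * y = y * π k' := by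
      rw [hy, ← map_mul, ← map_mul]
      exact congrArg π (Subtype.ext (Subgroup.mem_centralizer_iff.mp k.2.1 x hx).symm)
    have hz : (k0 * g) * (g * k0)⁻¹ ∈ Z := by
      rw [← QuotientGroup.eq_one_iff, QuotientGroup.mk_mul, QuotientGroup.mk_inv,
        QuotientGroup.mk_mul, QuotientGroup.mk_mul, hk0, hgy, hc, mul_inv_cancel]
    set z := (k0 * g) * (g * k0)⁻¹ with hzdef
    have hconj : k0 * g * k0⁻¹ = z * g := by rw [hzdef]; group
    have h7 : (z * g) ^ 7 = 1 := by rw [← hconj, conj_pow, hg7, mul_one, mul_inv_cancel]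
    rw [(Commute.mul_pow (Subgroup.mem_center_iff.mp hz g).symm 7), hg7, mul_one] at h7
    have h3 := central_pow_three hK hz
    have hz1 : z = 1 := by
      calc z = z ^ 7 * ((z ^ 3) ^ 2)⁻¹ := by rw [← pow_mul]; group
        _ = 1 := by rw [h3, h7, one_pow, inv_one, mul_one]
    exact mul_inv_eq_one.mp hz1
  rw [← Subgroup.card_mul_index f.ker, Subgroup.index_ker]
  refine (mul_dvd_mul ?_ (hH7 ▸ Subgroup.card_dvd_of_le himg)).trans (dvd_of_eq (by norm_num : 2 * 7 = 14))
  have hker : f.ker.map C.subtype ≤ Subgroup.zpowers d := by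
    rintro _ ⟨k, hk, rfl⟩
    rcases he.ker _ hk with e | e
    · rw [show C.subtype k = 1 from congrArg (fun t : ↥(Subgroup.centralizer ({d} : Set G)) => t.1) e]
      exact one_mem _
    · rw [show C.subtype k = d from congrArg (fun t : ↥(Subgroup.centralizer ({d} : Set G)) => t.1) e]
      exact Subgroup.mem_zpowers _
  have h2 := Subgroup.card_dvd_of_le hker
  rw [Subgroup.card_map_of_injective Subtype.val_injective, Nat.card_zpowers,
    orderOf_eq_prime (by rw [pow_two]; exact h.core.tt.sq d hd) (h.core.ne_one d hd)] at h2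
  exact h2

omit hX in
theorem seven_conj_fixed {g d : G} (hg : g ∈ Subgroup.normalizer (X : Set G))
    (hd : d ∈ D ∩ (Subgroup.centralizer (X : Set G) : Set G)) :
    g * d * g⁻¹ ∈ D ∩ (Subgroup.centralizer (X : Set G) : Set G) := by
  rw [mem_fixed] at hd ⊢
  refine ⟨h.core.tt.conj_mem g d hd.1, fun x hx => ?_⟩
  have hm : g⁻¹ * x * g ∈ X := by
    have := (Subgroup.mem_normalizer_iff.mp (inv_mem hg) x).mp hx
    rwa [inv_inv] at this
  have c := (commute_conj (g := g)).mpr (hd.2 _ hm)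
  rwa [show g * (g⁻¹ * x * g) * g⁻¹ = x by group] at c

omit h hX [Finite G] in
theorem cent_le_normalizer : Subgroup.centralizer (X : Set G) ≤ Subgroup.normalizer (X : Set G) :=
  fun g hg => Subgroup.mem_normalizer_iff.mpr fun t => by
    rw [Subgroup.mem_centralizer_iff] at hg
    refine ⟨fun ht => by rwa [show g * t * g⁻¹ = t from mul_inv_eq_iff_eq_mul.mpr (hg t ht).symm],
      fun ht => ?_⟩
    have := mul_inv_eq_iff_eq_mul.mpr (hg _ ht).symm
    rwa [show t = g * t * g⁻¹ from mul_left_cancel (mul_right_cancel this.symm)]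

/-- the centralised members form one orbit -/
theorem seven_count {d : G} (hd : d ∈ D ∩ (Subgroup.centralizer (X : Set G) : Set G)) :
    Nat.card ↥(Subgroup.centralizer (X : Set G)) =
      14 * (D ∩ (Subgroup.centralizer (X : Set G) : Set G)).ncard := by
  classical
  set C := Subgroup.centralizer (X : Set G) with hC
  set Φ := D ∩ (C : Set G)
  letI : MulAction ↥C ↥Φ :=
    { smul := fun x y => ⟨x.1 * y.1 * x.1⁻¹, h.seven_conj_fixed (cent_le_normalizer x.2) y.2⟩
      one_smul := fun y => Subtype.ext (by show (1 : G) * y.1 * (1 : G)⁻¹ = y.1; group)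
      mul_smul := fun x x' y => Subtype.ext (by
        show x.1 * x'.1 * y.1 * (x.1 * x'.1)⁻¹ = x.1 * (x'.1 * y.1 * x'.1⁻¹) * x.1⁻¹; group) }
  haveI : MulAction.IsPretransitive ↥C ↥Φ := ⟨fun p q => by
    by_cases hc : Commute p.1 q.1
    · exact ⟨1, by rw [one_smul]; exact (Subtype.ext (h.seven_apart hX p.2 q.2 hc)).symm⟩
    refine ⟨⟨p.1 * q.1, mul_mem p.2.2 q.2.2⟩, Subtype.ext ?_⟩
    show p.1 * q.1 * p.1 * (p.1 * q.1)⁻¹ = q.1
    rw [mul_inv_rev, h.core.tt.inv_eq p.2.1, h.core.tt.inv_eq q.2.1,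
      h.core.tt.braid p.2.1 q.2.1 hc]
    calc q.1 * p.1 * q.1 * (q.1 * p.1) = q.1 * p.1 * (q.1 * q.1) * p.1 := by group
      _ = q.1 * (p.1 * p.1) := by rw [h.core.tt.sq _ q.2.1]; group
      _ = q.1 := by rw [h.core.tt.sq _ p.2.1, mul_one]⟩
  have h1 := Subgroup.card_mul_index (MulAction.stabilizer ↥C (⟨d, hd⟩ : ↥Φ))
  rw [MulAction.index_stabilizer_of_transitive, Nat.card_coe_set_eq] at h1
  rw [← h1]
  congr 1
  rw [← h.seven_cent_member hX hd, ← Subgroup.card_map_of_injective (f := C.subtype)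
    Subtype.val_injective]
  congr 2
  ext g
  constructor
  · rintro ⟨k, hk, rfl⟩
    exact ⟨k.2, Subgroup.mem_centralizer_singleton_iff.mpr
      (mul_inv_eq_iff_eq_mul.mp (congrArg Subtype.val hk))⟩
  · rintro ⟨hg, hgd⟩
    exact ⟨⟨g, hg⟩, Subtype.ext (mul_inv_eq_iff_eq_mul.mpr
      (Subgroup.mem_centralizer_singleton_iff.mp hgd)), rfl⟩

/-- their number is odd -/
theorem seven_odd {d : G} (hd : d ∈ D ∩ (Subgroup.centralizer (X : Set G) : Set G)) :
    Odd (D ∩ (Subgroup.centralizer (X : Set G) : Set G)).ncard := by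
  classical
  haveI : Fact (Nat.Prime 2) := ⟨Nat.prime_two⟩
  set Φ := D ∩ (Subgroup.centralizer (X : Set G) : Set G)
  have hzp : ∀ x ∈ Subgroup.zpowers d, x ∈ Subgroup.normalizer (X : Set G) := fun x hx =>
    (Subgroup.zpowers_le.mpr (cent_le_normalizer hd.2)) hx
  letI : MulAction ↥(Subgroup.zpowers d) ↥Φ :=
    { smul := fun x y => ⟨x.1 * y.1 * x.1⁻¹, h.seven_conj_fixed (hzp x.1 x.2) y.2⟩
      one_smul := fun y => Subtype.ext (by show (1 : G) * y.1 * (1 : G)⁻¹ = y.1; group)
      mul_smul := fun x x' y => Subtype.ext (by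
        show x.1 * x'.1 * y.1 * (x.1 * x'.1)⁻¹ = x.1 * (x'.1 * y.1 * x'.1⁻¹) * x.1⁻¹; group) }
  have hp : IsPGroup 2 ↥(Subgroup.zpowers d) := IsPGroup.of_card (n := 1) (by
    rw [Nat.card_zpowers, pow_one,
      orderOf_eq_prime (by rw [pow_two]; exact h.core.tt.sq d hd.1) (h.core.ne_one d hd.1)])
  have hfix : MulAction.fixedPoints ↥(Subgroup.zpowers d) ↥Φ = {⟨d, hd⟩} := by
    ext y
    refine ⟨fun hy => Subtype.ext (h.seven_apart hX hd y.2 ?_), fun hy k => ?_⟩
    · exact mul_inv_eq_iff_eq_mul.mp (congrArg Subtype.val (hy ⟨d, Subgroup.mem_zpowers d⟩))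
    · rw [show y = ⟨d, hd⟩ from hy]
      obtain ⟨k, i, rfl⟩ := k
      refine Subtype.ext (mul_inv_eq_iff_eq_mul.mpr ?_)
      exact ((Commute.refl d).zpow_left i).eq
  have hmod := hp.card_modEq_card_fixedPoints ↥Φ
  rw [hfix, Nat.card_coe_set_eq, Nat.card_coe_set_eq, Set.ncard_singleton] at hmod
  exact Nat.odd_iff.mpr hmod

/-- at most three members are centralised -/
theorem seven_le_three {d : G} (hd : d ∈ D ∩ (Subgroup.centralizer (X : Set G) : Set G)) :
    ∀ e ∈ D ∩ (Subgroup.centralizer (X : Set G) : Set G),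
      ∀ f ∈ D ∩ (Subgroup.centralizer (X : Set G) : Set G), e ≠ d →
        f = d ∨ f = e ∨ f = d * e * d := by
  classical
  set C := Subgroup.centralizer (X : Set G) with hC
  set Φ := D ∩ (C : Set G) with hΦ
  have htt := h.core.tt
  intro e he f hf hne
  by_cases hfd : f = d
  · exact Or.inl hfd
  have hcard := h.seven_count hX hd
  obtain ⟨A, hA, hdA⟩ := exists_index_two_missing (C := ↥C) (d := ⟨d, hd.2⟩)
    (Subtype.ext (htt.sq d hd.1)) (fun q => h.core.ne_one d hd.1 (congrArg Subtype.val q))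
    (m := 7 * Φ.ncard) (by rw [hcard]; ring) ((by decide : Odd 7).mul (h.seven_odd hX hd))
  -- every centralised member is outside the index two subgroup
  have hout : ∀ y : ↥C, y.1 ∈ D → y ∉ A := by
    intro y hy hyA
    have hyΦ : y.1 ∈ Φ := ⟨hy, y.2⟩
    by_cases hc : Commute d y.1
    · have : y = ⟨d, hd.2⟩ := Subtype.ext (h.seven_apart hX hd hyΦ hc)
      exact hdA (this ▸ hyA)
    · haveI : A.Normal := Subgroup.normal_of_index_eq_two hA
      refine hdA ?_
      have := Subgroup.Normal.conj_mem ‹A.Normal› y hyA (y * ⟨d, hd.2⟩)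
      convert this using 1
      refine Subtype.ext ?_
      show d = y.1 * d * y.1 * (y.1 * d)⁻¹
      rw [mul_inv_rev, htt.inv_eq hd.1, htt.inv_eq hy, htt.braid hy hd.1 (fun q => hc q.symm)]
      calc d = d * y.1 * (d * d) * y.1 := by
            rw [htt.sq d hd.1, mul_one, mul_assoc, htt.sq _ hy, mul_one]
        _ = d * y.1 * d * (d * y.1) := by group
  have hprodA : ∀ y ∈ Φ, ∃ a ∈ A, (a : G) = d * y := fun y hy =>
    ⟨⟨d, hd.2⟩ * ⟨y, hy.2⟩, (Subgroup.mul_mem_iff_of_index_two hA).mpr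
      (iff_of_false hdA (hout ⟨y, hy.2⟩ hy.1)), rfl⟩
  -- they represent every coset of the subgroup of order seven
  have hinvert : ∀ a ∈ A, ∃ y ∈ Φ, ∃ t ∈ X, (a : G) = d * y * t := by
    let Ψ : ↥Φ × ↥X → ↥A := fun p =>
      ⟨⟨d, hd.2⟩ * ⟨p.1.1, p.1.2.2⟩ * ⟨p.2.1, seven_abelian hX p.2.2⟩, by
        refine mul_mem ((Subgroup.mul_mem_iff_of_index_two hA).mpr
          (iff_of_false hdA (hout _ p.1.2.1))) ?_
        have h7 : (⟨p.2.1, seven_abelian hX p.2.2⟩ : ↥C) =
            ((⟨p.2.1, seven_abelian hX p.2.2⟩ : ↥C) ^ 4) ^ 2 := Subtype.ext (by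
          show p.2.1 = (p.2.1 ^ 4) ^ 2
          rw [← pow_mul, show 4 * 2 = 7 + 1 from rfl, pow_succ, seven_pow hX p.2.2, one_mul])
        rw [h7]
        exact Subgroup.sq_mem_of_index_two hA _⟩
    have hinj : Function.Injective Ψ := by
      intro p q hpq
      have e1 : d * p.1.1 * p.2.1 = d * q.1.1 * q.2.1 :=
        congrArg (fun t : ↥A => ((t : ↥C) : G)) hpq
      rw [mul_assoc, mul_assoc] at e1
      have e2 := mul_left_cancel e1
      have e3 : p.1.1 = q.1.1 * (q.2.1 * p.2.1⁻¹) := by rw [← mul_assoc, ← e2, mul_inv_cancel_right]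
      set t := q.2.1 * p.2.1⁻¹ with ht
      have htX : t ∈ X := mul_mem q.2.2 (inv_mem p.2.2)
      have hct : Commute q.1.1 t := ((mem_fixed.mp q.1.2).2 t htX).symm
      have hsq := htt.sq _ p.1.2.1
      rw [e3, show q.1.1 * t * (q.1.1 * t) = q.1.1 * (t * q.1.1) * t by group, ← hct.eq,
        ← mul_assoc q.1.1 q.1.1 t, htt.sq _ q.1.2.1, one_mul] at hsq
      have ht1 : t = 1 := by
        calc t = t ^ 7 * ((t * t) ^ 3)⁻¹ := by rw [← pow_two, ← pow_mul]; group
          _ = 1 := by rw [seven_pow hX htX, hsq, one_pow, inv_one, mul_one]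
      rw [ht1, mul_one] at e3
      rw [ht, mul_inv_eq_one] at ht1
      exact Prod.ext (Subtype.ext e3) (Subtype.ext ht1.symm)
    have hbij := (Nat.bijective_iff_injective_and_card Ψ).mpr ⟨hinj, by
      have h2 := Subgroup.card_mul_index A
      rw [hA, hcard] at h2
      rw [Nat.card_prod, Nat.card_coe_set_eq, hX]
      show Φ.ncard * 7 = _
      change Nat.card ↥A * 2 = 14 * Φ.ncard at h2
      omega⟩
    intro a ha
    obtain ⟨p, hp⟩ := hbij.2 ⟨a, ha⟩
    exact ⟨p.1.1, p.1.2, p.2.1, p.2.2,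
      (congrArg (fun t : ↥A => ((t : ↥C) : G)) hp).symm⟩
  -- inversion modulo the subgroup of order seven
  have hflip : ∀ a ∈ A, ∃ t ∈ X, d * (a : G) * d = (a : G)⁻¹ * t := by
    intro a ha
    obtain ⟨y, hy, t, ht, e'⟩ := hinvert a ha
    refine ⟨t * t, mul_mem ht ht, ?_⟩
    have c1 : Commute t d := (mem_fixed.mp hd).2 t ht
    have c2 : Commute t y := (mem_fixed.mp hy).2 t ht
    rw [e', mul_inv_rev, mul_inv_rev, htt.inv_eq hd.1, htt.inv_eq hy.1]
    calc d * (d * y * t) * d = d * d * y * (t * d) := by group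
      _ = y * d * t := by rw [htt.sq d hd.1, one_mul, c1.eq, mul_assoc]
      _ = t⁻¹ * (t * (y * d)) * t := by group
      _ = t⁻¹ * (y * d) * (t * t) := by rw [(c2.mul_right c1).eq]; group
  obtain ⟨u, hu, eu⟩ := hprodA e he
  obtain ⟨v, hv, ev⟩ := hprodA f hf
  obtain ⟨t, ht, et⟩ := hflip _ (mul_mem hu hv)
  rw [Subgroup.coe_mul, eu, ev] at et
  have cX : ∀ y ∈ Φ, Commute t y := fun y hy => (mem_fixed.mp hy).2 t ht
  -- the commutator lies in the subgroup of order seven and has order dividing three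
  have hne' : ¬ Commute d e := fun q => hne (h.seven_apart hX hd he q)
  set p := d * e with hp
  set q := d * f with hq
  have ep : d * p * d = p⁻¹ := htt.invert_left hd.1 he.1
  have eq' : d * q * d = q⁻¹ := htt.invert_left hd.1 hf.1
  have hc1 : p⁻¹ * q⁻¹ = q⁻¹ * p⁻¹ * t := by
    calc p⁻¹ * q⁻¹ = d * p * (d * d) * q * d := by rw [← ep, ← eq']; group
      _ = d * (p * q) * d := by rw [htt.sq d hd.1]; group
      _ = (p * q)⁻¹ * t := et
      _ = q⁻¹ * p⁻¹ * t := by rw [mul_inv_rev]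
  have ctp : Commute t p := (cX d hd).mul_right (cX e he)
  have ctq : Commute t q := (cX d hd).mul_right (cX f hf)
  have hconj : q * p⁻¹ * q⁻¹ = p⁻¹ * t := by
    calc q * p⁻¹ * q⁻¹ = q * (p⁻¹ * q⁻¹) := by group
      _ = p⁻¹ * t := by rw [hc1]; group
  have ht1 : t = 1 := by
    have h3 : (p⁻¹ * t) ^ 3 = 1 := by
      rw [← hconj, conj_pow, inv_pow, (htt.cube_pow hd.1 he.1 hne').1, inv_one, mul_one,
        mul_inv_cancel]
    rw [ctp.symm.inv_left.mul_pow, inv_pow, (htt.cube_pow hd.1 he.1 hne').1, inv_one, one_mul] at h3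
    calc t = t ^ 7 * ((t ^ 3) ^ 2)⁻¹ := by rw [← pow_mul]; group
      _ = 1 := by rw [seven_pow hX ht, h3, one_pow, inv_one, mul_one]
  rw [ht1, mul_one] at hconj
  have hcpq : Commute q p := by
    have : Commute q p⁻¹ := mul_inv_eq_iff_eq_mul.mp hconj
    simpa using this.inv_right
  have hfinal : f * p * f = p⁻¹ := by
    calc f * p * f = d * (q * p * q⁻¹) * d := by
          rw [hq, mul_inv_rev, htt.inv_eq hd.1, htt.inv_eq hf.1]
          calc f * p * f = (d * d) * f * p * f * (d * d) := by rw [htt.sq d hd.1, one_mul, mul_one]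
            _ = _ := by group
      _ = p⁻¹ := by rw [hcpq.eq, mul_inv_cancel_right, ep]
  exact h.inverting hd.1 he.1 hne' hf.1 hfinal

/-- the orders -/
theorem seven_orders :
    (D ∩ (Subgroup.centralizer (X : Set G) : Set G)).ncard = 3 ∧
      Nat.card ↥(Subgroup.normalizer (X : Set G)) = 252 ∧
      ∀ P : Sylow 7 G, Nat.card (P : Subgroup G) = 7 := by
  classical
  haveI : Fact (Nat.Prime 7) := ⟨by norm_num⟩
  obtain ⟨d, hd⟩ := h.seven_nonempty hX
  set C := Subgroup.centralizer (X : Set G) with hC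
  set N := Subgroup.normalizer (X : Set G) with hN
  set Φ := D ∩ (C : Set G)
  have hG := h.card_group hd.1
  have hsyl : ∀ P : Sylow 7 G, Nat.card (P : Subgroup G) = 7 := by
    intro P
    obtain ⟨n, hn⟩ := IsPGroup.iff_card.mp P.isPGroup'
    have hdvd := Subgroup.card_subgroup_dvd_card (P : Subgroup G)
    rw [hG, hn] at hdvd
    have hidx := Subgroup.card_mul_index (P : Subgroup G)
    rw [hG, hn] at hidx
    rcases n with _ | _ | n
    · exfalso
      rw [pow_zero, one_mul] at hidx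
      exact P.not_dvd_index (by rw [hidx]; norm_num)
    · rw [hn]; norm_num
    · exfalso
      have : 7 ^ 2 ∣ 3510 * 18393661440 := (pow_dvd_pow 7 (by omega)).trans hdvd
      norm_num at this
  obtain ⟨P, hP⟩ := (IsPGroup.of_card (p := 7) (n := 1) (G := ↥X) (by rw [hX, pow_one])).exists_le_sylow
  have hPX : X = (P : Subgroup G) := Subgroup.eq_of_le_of_card_ge hP (by rw [hX, hsyl P])
  have hn3 : Φ.ncard ≤ 3 := by
    by_cases hex : ∃ e ∈ Φ, e ≠ d
    · obtain ⟨e, he, hne⟩ := hex
      refine (Set.ncard_le_ncard (t := {d, e, d * e * d}) (fun f hf => ?_) (Set.toFinite _)).trans ?_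
      · rcases h.seven_le_three hX hd e he f hf hne with q | q | q <;> simp [q]
      · refine (Set.ncard_insert_le _ _).trans (Nat.succ_le_succ ?_)
        exact (Set.ncard_insert_le _ _).trans (by rw [Set.ncard_singleton])
    · simp only [not_exists, not_and, not_not] at hex
      refine (Set.ncard_le_ncard (t := {d}) (fun f hf => hex f hf) (Set.toFinite _)).trans ?_
      rw [Set.ncard_singleton]; norm_num
  have hNC : (C.subgroupOf N).index ∣ 6 := by
    have hker : C.subgroupOf N = X.normalizerMonoidHom.ker := X.normalizerMonoidHom_ker.symm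
    rw [hker, Subgroup.index_ker]
    haveI := isCyclic_of_prime_card hX
    have := Subgroup.card_subgroup_dvd_card X.normalizerMonoidHom.range
    rwa [IsCyclic.card_mulAut, hX, Nat.totient_prime (by norm_num)] at this
  obtain ⟨j, hj⟩ : ∃ j, (C.subgroupOf N).index = j := ⟨_, rfl⟩
  have hCN : Nat.card ↥(C.subgroupOf N) = Nat.card ↥C :=
    Nat.card_congr (Subgroup.subgroupOfEquivOfLe cent_le_normalizer).toEquiv
  have hmul := Subgroup.card_mul_index (C.subgroupOf N)
  rw [hCN, hj, h.seven_count hX hd] at hmul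
  rw [hj] at hNC
  have hsy := card_sylow_modEq_one 7 G
  rw [P.card_eq_index_normalizer] at hsy
  have hidx := Subgroup.card_mul_index N
  rw [hG, ← hmul] at hidx
  have hpos : 0 < Φ.ncard := Set.Nonempty.ncard_pos (Set.toFinite _) ⟨d, hd⟩
  have hj0 : 0 < j := Nat.pos_of_dvd_of_pos hNC (by norm_num)
  have hNi : N.index = 3510 * 18393661440 / (14 * Φ.ncard * j) :=
    (Nat.div_eq_of_eq_mul_right (by positivity) hidx.symm).symm
  rw [show Subgroup.normalizer (P : Set G) = N by rw [hN, hPX]; rfl] at hsy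
  have := seven_norm_arith Φ.ncard (by omega) j
    (Nat.lt_succ_of_le (Nat.le_of_dvd (by norm_num) hNC)) (Nat.odd_iff.mp (h.seven_odd hX hd)) (Nat.mod_eq_zero_of_dvd hNC)
    (by rw [← hNi]; exact hsy)
  refine ⟨this.1, ?_, hsyl⟩
  rw [← hmul, this.1, this.2]

/-- the normaliser is a product -/
theorem seven_product : ∃ F : Subgroup G, Nat.card ↥F = 42 ∧ X ≤ F ∧
    F ⊓ Subgroup.centralizer (X : Set G) = X ∧
    F ⊓ Subgroup.closure (D ∩ (Subgroup.centralizer (X : Set G) : Set G)) = ⊥ ∧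
    (∀ x ∈ F, ∀ y ∈ Subgroup.closure (D ∩ (Subgroup.centralizer (X : Set G) : Set G)),
      x * y = y * x) ∧
    F ⊔ Subgroup.closure (D ∩ (Subgroup.centralizer (X : Set G) : Set G)) =
      Subgroup.normalizer (X : Set G) ∧
    Nonempty (↥(Subgroup.closure (D ∩ (Subgroup.centralizer (X : Set G) : Set G))) ≃*
      Equiv.Perm (Fin 3)) := by
  classical
  obtain ⟨hn, hN, -⟩ := h.seven_orders hX
  set C := Subgroup.centralizer (X : Set G) with hC
  set N := Subgroup.normalizer (X : Set G) with hNdef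
  set Φ := D ∩ (C : Set G) with hΦ
  set S := Subgroup.closure Φ with hS
  obtain ⟨d, hd⟩ := h.seven_nonempty hX
  obtain ⟨e, he, hne⟩ := Set.exists_ne_of_one_lt_ncard (by rw [hn]; norm_num : 1 < Φ.ncard) d
  have htt := h.core.tt
  have hnc : ¬ Commute d e := fun q => hne (h.seven_apart hX hd he q)
  have hline : S = Subgroup.closure ({d, e} : Set G) := by
    refine le_antisymm ((Subgroup.closure_le _).mpr fun f hf => ?_) (Subgroup.closure_mono (by
      rintro t (rfl | rfl) <;> assumption))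
    have md : d ∈ Subgroup.closure ({d, e} : Set G) := Subgroup.subset_closure (by simp)
    have me : e ∈ Subgroup.closure ({d, e} : Set G) := Subgroup.subset_closure (by simp)
    rcases h.seven_le_three hX hd e he f hf hne with rfl | rfl | rfl
    exacts [md, me, mul_mem (mul_mem md me) md]
  set F := N ⊓ Subgroup.centralizer ({d, e} : Set G) with hF
  have hSN : S ≤ N := (Subgroup.closure_le _).mpr fun f hf => cent_le_normalizer hf.2
  have hScard : Nat.card ↥S = 6 := by rw [hline]; exact h.closure_pair_card hd.1 he.1 hnc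
  have hcomm : ∀ x ∈ F, ∀ y ∈ S, x * y = y * x := by
    intro x hx y hy
    rw [hline] at hy
    have hle : Subgroup.closure ({d, e} : Set G) ≤ Subgroup.centralizer ({x} : Set G) := by
      refine (Subgroup.closure_le _).mpr fun t ht => ?_
      exact Subgroup.mem_centralizer_singleton_iff.mpr (Subgroup.mem_centralizer_iff.mp hx.2 t ht)
    exact (Subgroup.mem_centralizer_singleton_iff.mp (hle hy)).symm
  have hFS : F ⊓ S = ⊥ := by
    rw [eq_bot_iff]
    intro k hk
    rw [Subgroup.mem_bot]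
    have hkL : k ∈ Subgroup.closure (common D d e) := by
      rw [← h.cent_eq hd.1 he.1 hnc]; exact hk.1.2
    have hkc : (⟨k, hkL⟩ : ↥(Subgroup.closure (common D d e))) ∈ Subgroup.center _ := by
      refine Subgroup.mem_center_iff.mpr fun l => Subtype.ext ?_
      show l.1 * k = k * l.1
      have hl : l.1 ∈ Subgroup.centralizer ({d, e} : Set G) := by
        rw [h.cent_eq hd.1 he.1 hnc]; exact l.2
      have hkS : k ∈ Subgroup.closure ({d, e} : Set G) := hline ▸ hk.2
      have hle : Subgroup.closure ({d, e} : Set G) ≤ Subgroup.centralizer ({l.1} : Set G) :=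
        (Subgroup.closure_le _).mpr fun t ht =>
          Subgroup.mem_centralizer_singleton_iff.mpr (Subgroup.mem_centralizer_iff.mp hl t ht)
      exact (Subgroup.mem_centralizer_singleton_iff.mp (hle hkS)).symm
    rw [h.center_common hd.1 he.1 hnc, Subgroup.mem_bot] at hkc
    exact congrArg Subtype.val hkc
  -- the kernel of the action on the three members
  letI : MulAction ↥N ↥Φ :=
    { smul := fun x y => ⟨x.1 * y.1 * x.1⁻¹, h.seven_conj_fixed x.2 y.2⟩
      one_smul := fun y => Subtype.ext (by show (1 : G) * y.1 * (1 : G)⁻¹ = y.1; group)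
      mul_smul := fun x x' y => Subtype.ext (by
        show x.1 * x'.1 * y.1 * (x.1 * x'.1)⁻¹ = x.1 * (x'.1 * y.1 * x'.1⁻¹) * x.1⁻¹; group) }
  have hlow : 42 ≤ Nat.card ↥F := by
    have h1 := Subgroup.card_mul_index (MulAction.toPermHom ↥N ↥Φ).ker
    rw [Subgroup.index_ker, hN] at h1
    have h2 := Subgroup.card_subgroup_dvd_card (MulAction.toPermHom ↥N ↥Φ).range
    rw [Nat.card_perm, Nat.card_coe_set_eq, hn] at h2
    have h6 : Nat.card ↥(MulAction.toPermHom ↥N ↥Φ).range ≤ 6 :=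
      Nat.le_of_dvd (by norm_num) (h2.trans (dvd_of_eq rfl))
    have hker : Nat.card ↥(MulAction.toPermHom ↥N ↥Φ).ker ≤ Nat.card ↥F := by
      refine Nat.card_le_card_of_injective
        (fun k => (⟨k.1.1, k.1.2, Subgroup.mem_centralizer_iff.mpr ?_⟩ : ↥F)) ?_
      · intro t ht
        have htΦ : t ∈ Φ := by rcases ht with rfl | rfl <;> assumption
        exact (mul_inv_eq_iff_eq_mul.mp (congrArg Subtype.val
          (Equiv.congr_fun (MonoidHom.mem_ker.mp k.2) ⟨t, htΦ⟩))).symm
      · intro p q e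
        exact Subtype.ext (Subtype.ext (congrArg (fun t : ↥F => t.1) e))
    nlinarith
  have hsup : F ⊔ S ≤ N := sup_le inf_le_left hSN
  let m : ↥F × ↥S → ↥(F ⊔ S) := fun p => ⟨p.1.1 * p.2.1, Subgroup.mul_mem_sup p.1.2 p.2.2⟩
  have hm : Function.Injective m := fun p q e => by
    have e' : p.1.1 * p.2.1 = q.1.1 * q.2.1 := congrArg Subtype.val e
    have : q.1.1⁻¹ * p.1.1 = q.2.1 * p.2.1⁻¹ := by
      rw [inv_mul_eq_iff_eq_mul, ← mul_assoc, ← e', mul_inv_cancel_right]
    have h1 : q.1.1⁻¹ * p.1.1 ∈ F ⊓ S :=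
      ⟨F.mul_mem (F.inv_mem q.1.2) p.1.2, this ▸ S.mul_mem q.2.2 (S.inv_mem p.2.2)⟩
    rw [hFS, Subgroup.mem_bot] at h1
    rw [h1] at this
    exact Prod.ext (Subtype.ext (inv_mul_eq_one.mp h1).symm)
      (Subtype.ext (mul_inv_eq_one.mp this.symm).symm)
  have hcm := Nat.card_le_card_of_injective m hm
  have hsupN := Subgroup.card_le_of_le hsup
  rw [Nat.card_prod, hScard] at hcm
  rw [hN] at hsupN
  have hF42 : Nat.card ↥F = 42 := by omega
  have hXF : X ≤ F := le_inf Subgroup.le_normalizer fun x hx => Subgroup.mem_centralizer_iff.mpr (by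
    rintro t (rfl | rfl)
    exacts [((mem_fixed.mp hd).2 x hx).symm.eq, ((mem_fixed.mp he).2 x hx).symm.eq])
  refine ⟨F, hF42, hXF, ?_, hFS, hcomm,
    Subgroup.eq_of_le_of_card_ge hsup (by rw [hN]; omega), hline ▸ h.closure_pair_equiv hd.1 he.1 hnc⟩
  refine (Subgroup.eq_of_le_of_card_ge (le_inf hXF (seven_abelian hX)) ?_).symm
  have hle : F ⊓ C ≤ C ⊓ Subgroup.centralizer ({d} : Set G) := fun k hk =>
    ⟨hk.2, Subgroup.mem_centralizer_singleton_iff.mpr
      (Subgroup.mem_centralizer_iff.mp hk.1.2 d (by simp)).symm⟩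
  have h14 := Subgroup.card_dvd_of_le hle
  rw [h.seven_cent_member hX hd] at h14
  have h7 := hX ▸ Subgroup.card_dvd_of_le (le_inf hXF (seven_abelian hX) : X ≤ F ⊓ C)
  obtain ⟨r, hr⟩ := h7
  rw [hr] at h14
  have hr2 : r ∣ 2 := (Nat.mul_dvd_mul_iff_left (show 0 < 7 by norm_num)).mp h14
  rcases (Nat.dvd_prime Nat.prime_two).mp hr2 with q | q
  · rw [hr, q, hX]
  exfalso
  have heq : F ⊓ C = C ⊓ Subgroup.centralizer ({d} : Set G) := Subgroup.eq_of_le_of_card_ge hle
    (by rw [h.seven_cent_member hX hd, hr, q])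
  have : d ∈ F ⊓ C := heq ▸ ⟨hd.2, mem_cent (Commute.refl d)⟩
  exact hnc (Subgroup.mem_centralizer_iff.mp this.1.2 e (by simp)).symm

end Geo22

end Cfsg.Agent.H93
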