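import Cfsg.Agent.H93.U6NonSplit
import Cfsg.Prelude.Def_Transfer

/-!
In a two-fold central extension of `PSU 6 F 2` the maximal elementary abelian 2-subgroups of order
`2^10` are the preimages of the groups of planes, one in every Sylow 2-subgroup, all conjugate, and
covering every involution up to conjugacy.
-/

set_option autoImplicit false

namespace Cfsg.Agent.H93

variable {F : Type*} [Field F] [Fintype F] (hF : Fintype.card F = 4) {C : Type*} [Group C]
  {π : C →* Cfsg.PSU 6 F 2} {d : C} {Y : Vec F → C}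

include hF

theorem ptv_braid {u v : Vec F} (hu : IsPt u) (hv : IsPt v) (h : hb u v ≠ 0) :
    (ptv hF u * ptv hF v) ^ 3 = 1 := by
  have ev : u + hb u v • v = hb u v • (v + hb v u • u) := by
    rw [smul_add, smul_smul, hb_conj hF u v, show hb u v * hb u v ^ 2 = 1 by
      linear_combination pow_three hF h, one_smul, add_comm]
  have e1 := ptv_conj' hF hv.2 u
  rw [ev, ptv_smul hF h, ← ptv_conj' hF hu.2 v] at e1
  calc (ptv hF u * ptv hF v) ^ 3
      = (ptv hF u * ptv hF v * ptv hF u) * (ptv hF v * ptv hF u * ptv hF v) := by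
        simp only [pow_succ, pow_zero, one_mul, mul_assoc]
    _ = (ptv hF u * ptv hF v * ptv hF u) * (ptv hF u * ptv hF v * ptv hF u) := by rw [e1]
    _ = ptv hF u * ptv hF v * (ptv hF u * ptv hF u) * ptv hF v * ptv hF u := by group
    _ = 1 := by rw [ptv_mul_self, mul_one, mul_assoc _ (ptv hF v) (ptv hF v), ptv_mul_self, mul_one,
        ptv_mul_self]

namespace PtClass

variable (K : PtClass hF π d Y)

include K

/-- lifts of transvections in a common 2-subgroup commute -/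
theorem orth_of_twoGroup {T : Subgroup C} (hT : IsPGroup 2 T) {x y : C} (hx : x ∈ T) (hy : y ∈ T)
    {u v : Vec F} (hu : IsPt u) (hv : IsPt v) (ex : π x = ptv hF u) (ey : π y = ptv hF v) :
    hb u v = 0 := by
  by_contra hne
  obtain ⟨n, hn⟩ := hT ⟨x * y, mul_mem hx hy⟩
  have h2 : (ptv hF u * ptv hF v) ^ 2 ^ n = 1 := by
    have := congrArg (fun z : ↥T => π z.1) hn
    simpa [ex, ey] using this
  have h1 : ptv hF u * ptv hF v = 1 := by
    have hg := pow_gcd_eq_one.mpr ⟨h2, ptv_braid hF hu hv hne⟩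
    rwa [show Nat.gcd (2 ^ n) 3 = 1 from Nat.Coprime.pow_left _ (by norm_num), pow_one] at hg
  have e : ptv hF u = ptv hF v := by
    rw [eq_inv_of_mul_eq_one_left h1, inv_eq_of_mul_eq_one_left (ptv_mul_self hF v)]
  obtain ⟨a, ha⟩ := ptv_eq hF hu hv.2 e
  exact hne (by rw [ha, hb_smul_left, hv.2, mul_zero])

theorem twoGroup_elem {T : Subgroup C} (hT : IsPGroup 2 T) :
    (∀ x ∈ Subgroup.closure (insert d {x | x ∈ T ∧ ∃ v, IsPt v ∧ π x = ptv hF v}),
      ∀ y ∈ Subgroup.closure (insert d {x | x ∈ T ∧ ∃ v, IsPt v ∧ π x = ptv hF v}), Commute x y) ∧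
    ∀ x ∈ Subgroup.closure (insert d {x | x ∈ T ∧ ∃ v, IsPt v ∧ π x = ptv hF v}), x * x = 1 := by
  refine elem_closure ?_ ?_
  · rintro x (rfl | ⟨-, v, hv, e⟩)
    · exact K.ext.sq
    · exact K.ext.sq_congr ((K.ext.π_lift hF v).trans e.symm) (K.ext.lift_sq hF hv)
  · rintro x (rfl | ⟨hx, u, hu, ex⟩) y (rfl | ⟨hy, v, hv, ey⟩)
    · exact Commute.refl _
    · exact K.ext.cen _
    · exact (K.ext.cen _).symm
    · exact K.ext.commute_congr ((K.ext.π_lift hF u).trans ex.symm)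
        ((K.ext.π_lift hF v).trans ey.symm)
        (K.ext.lift_commute hF hu hv (K.orth_of_twoGroup hF hT hx hy hu hv ex ey))

/-- the bound for elementary abelian 2-subgroups -/
theorem elem_le [Finite C] (B : Subgroup C) (hc : ∀ x ∈ B, ∀ y ∈ B, Commute x y)
    (hs : ∀ x ∈ B, x * x = 1) :
    Nat.card B ≤ 1024 ∧ (Nat.card B = 1024 →
      B ≤ Subgroup.closure (insert d {x | x ∈ B ∧ ∃ v, IsPt v ∧ π x = ptv hF v})) := by
  classical
  obtain ⟨b1, b2⟩ := elem_bound_psu hF (B.map π)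
    (by rintro _ ⟨x, hx, rfl⟩ _ ⟨y, hy, rfl⟩; exact (hc x hx y hy).map π)
    (by rintro _ ⟨x, hx, rfl⟩; rw [← map_mul, hs x hx, map_one])
  let f : ↥B →* Cfsg.PSU 6 F 2 := π.comp B.subtype
  have hr : f.range = B.map π := by rw [MonoidHom.range_comp, Subgroup.range_subtype]
  have hmul := Subgroup.card_mul_index f.ker
  rw [Subgroup.index_ker, hr] at hmul
  have hk : Nat.card f.ker ≤ 2 := by
    have : Nat.card f.ker ≤ ({1, d} : Set C).ncard := by
      rw [← Nat.card_coe_set_eq]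
      exact Nat.card_le_card_of_injective (fun x : ↥f.ker => (⟨x.1.1, K.ext.ker _ x.2⟩ : ({1, d} : Set C)))
        fun x y e => Subtype.ext (Subtype.ext (congrArg (fun z : ({1, d} : Set C) => z.1) e))
    exact this.trans ((Set.ncard_insert_le _ _).trans (by simp))
  refine ⟨hmul ▸ Nat.mul_le_mul hk b1, fun h => ?_⟩
  rw [h] at hmul
  have h512 : Nat.card (B.map π) = 512 := by
    have := Nat.mul_le_mul_right (Nat.card (B.map π)) hk
    omega
  intro x hx
  set H := Subgroup.closure (insert d {x | x ∈ B ∧ ∃ v, IsPt v ∧ π x = ptv hF v})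
  have hle : Subgroup.closure {t | t ∈ B.map π ∧ ∃ v, IsPt v ∧ t = ptv hF v} ≤ H.map π := by
    rw [Subgroup.closure_le]
    rintro _ ⟨⟨y, hy, rfl⟩, v, hv, e⟩
    exact ⟨y, Subgroup.subset_closure (Or.inr ⟨hy, v, hv, e⟩), rfl⟩
  obtain ⟨y, hy, e⟩ := hle (b2 h512 ⟨x, hx, rfl⟩)
  rcases K.ext.eq_or e with rfl | rfl
  exacts [hy, mul_mem hy (Subgroup.subset_closure (Or.inl rfl))]

theorem prePlane_congr {P Q P' Q' : Fin 3 → Vec F} (p : Plane P Q) (p' : Plane P' Q')
    (h : Submodule.span F (Set.range P) = Submodule.span F (Set.range P')) :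
    prePlane hF π p = prePlane hF π p' := by
  rw [K.prePlane_eq hF p, K.prePlane_eq hF p', h]

/-- conjugates of the preimages -/
theorem prePlane_map {P Q : Fin 3 → Vec F} (p : Plane P Q) {g : ↥(Cfsg.SU 6 F 2)} {k : C}
    (hk : π k = QuotientGroup.mk g) :
    prePlane hF π (p.map g) = (prePlane hF π p).map (MulAut.conj k).toMonoidHom := by
  rw [K.prePlane_eq hF (p.map g), K.prePlane_eq hF p, MonoidHom.map_closure]
  congr 1
  have hspan : Submodule.span F (Set.range fun i => act g (P i)) =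
      (Submodule.span F (Set.range P)).map (actL g) := by
    rw [Submodule.map_span, ← Set.range_comp]; rfl
  have hd : k * d * k⁻¹ = d := by rw [← (K.ext.cen k).eq, mul_inv_cancel_right]
  ext y
  simp only [Set.mem_insert_iff, Set.mem_image]
  constructor
  · rintro (rfl | ⟨v, hv, hm, rfl⟩)
    · exact ⟨_, Or.inl rfl, hd⟩
    · rw [hspan] at hm
      obtain ⟨u, hu, rfl⟩ := hm
      have hup : IsPt u := ⟨fun e => hv.1 (by rw [e]; exact act_zero g), by rw [← act_hb g]; exact hv.2⟩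
      exact ⟨_, Or.inr ⟨u, hup, hu, rfl⟩, K.conj_act hF hk hup⟩
  · rintro ⟨x, rfl | ⟨u, hu, hm, rfl⟩, rfl⟩
    · exact Or.inl hd
    · exact Or.inr ⟨_, act_pt g hu, hspan ▸ Submodule.mem_map_of_mem hm, K.conj_act hF hk hu⟩

/-- the preimages are conjugate -/
theorem prePlane_conj {P Q P' Q' : Fin 3 → Vec F} (p : Plane P Q) (p' : Plane P' Q') :
    ∃ k : C, prePlane hF π p' = (prePlane hF π p).map (MulAut.conj k).toMonoidHom := by
  obtain ⟨g, c, hc, g0, g1, g2⟩ := p.move hF p'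
  obtain ⟨k, hk⟩ := K.ext.surj (QuotientGroup.mk g)
  refine ⟨k, ?_⟩
  rw [← K.prePlane_map hF p hk]
  refine (K.prePlane_congr hF (p.map g) p' (le_antisymm ?_ ?_)).symm <;> rw [Submodule.span_le] <;>
    rintro _ ⟨i, rfl⟩
  · fin_cases i
    · show act g (P 0) ∈ Submodule.span F (Set.range P')
      rw [g0]; exact Submodule.subset_span ⟨0, rfl⟩
    · show act g (P 1) ∈ Submodule.span F (Set.range P')
      rw [g1]; exact Submodule.subset_span ⟨1, rfl⟩
    · show act g (P 2) ∈ Submodule.span F (Set.range P')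
      rw [g2]; exact Submodule.smul_mem _ _ (Submodule.subset_span ⟨2, rfl⟩)
  · fin_cases i
    · show P' 0 ∈ Submodule.span F (Set.range fun i => act g (P i))
      rw [← g0]; exact Submodule.subset_span ⟨0, rfl⟩
    · show P' 1 ∈ Submodule.span F (Set.range fun i => act g (P i))
      rw [← g1]; exact Submodule.subset_span ⟨1, rfl⟩
    · show P' 2 ∈ Submodule.span F (Set.range fun i => act g (P i))
      rw [← inv_smul_smul₀ hc (P' 2), ← g2]
      exact Submodule.smul_mem _ _ (Submodule.subset_span ⟨2, rfl⟩)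

/-- the preimage of a plane in a Sylow 2-subgroup -/
theorem sylow_plane [Finite C] (S : Sylow 2 C) :
    ∃ (P Q : Fin 3 → Vec F) (p : Plane P Q), prePlane hF π p ≤ (S : Subgroup C) ∧
      (∀ x ∈ (S : Subgroup C), (∃ v, IsPt v ∧ π x = ptv hF v) → x ∈ prePlane hF π p) ∧
      ∀ B : Subgroup C, B ≤ (S : Subgroup C) → (∀ x ∈ B, ∀ y ∈ B, Commute x y) →
        (∀ x ∈ B, x * x = 1) → Nat.card B = 1024 → B = prePlane hF π p := by
  classical
  haveI : Fact (Nat.Prime 2) := ⟨Nat.prime_two⟩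
  obtain ⟨P0, Q0, p0⟩ := exists_plane hF
  obtain ⟨T, hT⟩ := (show IsPGroup 2 ↥(prePlane hF π p0) from fun g => ⟨1, Subtype.ext (by
    show (g : C) ^ (2 ^ 1) = 1
    rw [pow_one, pow_two, (K.prePlane_elem hF p0).2 _ g.2])⟩).exists_le_sylow
  obtain ⟨k, hk⟩ := MulAction.exists_smul_eq C T S
  obtain ⟨g, hg⟩ := QuotientGroup.mk_surjective (π k)
  refine ⟨_, _, p0.map g, ?_, ?_⟩
  · rw [K.prePlane_map hF p0 hg.symm, ← hk]
    rintro _ ⟨x, hx, rfl⟩
    exact ⟨x, hT hx, rfl⟩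
  have hle : prePlane hF π (p0.map g) ≤ (S : Subgroup C) := by
    rw [K.prePlane_map hF p0 hg.symm, ← hk]
    rintro _ ⟨x, hx, rfl⟩
    exact ⟨x, hT hx, rfl⟩
  set X := Subgroup.closure (insert d {x | x ∈ (S : Subgroup C) ∧ ∃ v, IsPt v ∧ π x = ptv hF v})
  have big : ∀ B : Subgroup C, B ≤ (S : Subgroup C) → (∀ x ∈ B, ∀ y ∈ B, Commute x y) →
      (∀ x ∈ B, x * x = 1) → Nat.card B = 1024 → B = X := by
    intro B hB hc hs hcard
    obtain ⟨e1, e2⟩ := K.twoGroup_elem hF (T := (S : Subgroup C)) S.isPGroup'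
    have hBX : B ≤ X := ((K.elem_le hF B hc hs).2 hcard).trans
      (Subgroup.closure_mono (Set.insert_subset_insert fun x hx => ⟨hB hx.1, hx.2⟩))
    exact Subgroup.eq_of_le_of_card_ge hBX (hcard ▸ (K.elem_le hF X e1 e2).1)
  obtain ⟨c1, c2⟩ := K.prePlane_elem hF (p0.map g)
  have hX := big _ hle c1 c2 (K.card_prePlane hF (p0.map g))
  exact ⟨fun x hx hv => hX ▸ Subgroup.subset_closure (Or.inr ⟨hx, hv⟩),
    fun B hB hc hs hcard => (big B hB hc hs hcard).trans hX.symm⟩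

/-- the Thompson subgroup of a Sylow 2-subgroup -/
theorem thompson_sylow [Finite C] (S : Sylow 2 C) :
    ∃ (P Q : Fin 3 → Vec F) (p : Plane P Q),
      Cfsg.thompsonSubgroupOf 2 (S : Subgroup C) = prePlane hF π p := by
  classical
  obtain ⟨P, Q, p, hle, -, huniq⟩ := K.sylow_plane hF S
  refine ⟨P, Q, p, ?_⟩
  set A := prePlane hF π p
  obtain ⟨c1, c2⟩ := K.prePlane_elem hF p
  have hA1024 := K.card_prePlane hF p
  have conv : ∀ B : Subgroup ↥(S : Subgroup C), Cfsg.IsElementaryAbelian 2 B →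
      (∀ x ∈ B.map (S : Subgroup C).subtype, ∀ y ∈ B.map (S : Subgroup C).subtype, Commute x y) ∧
        ∀ x ∈ B.map (S : Subgroup C).subtype, x * x = 1 := by
    intro B hB
    obtain ⟨h1, h2⟩ := isElem_iff.mp hB
    refine ⟨?_, ?_⟩
    · rintro _ ⟨x, hx, rfl⟩ _ ⟨y, hy, rfl⟩; exact (h1 x hx y hy).map _
    · rintro _ ⟨x, hx, rfl⟩; rw [← map_mul, h2 x hx, map_one]
  have hcardmap : ∀ B : Subgroup ↥(S : Subgroup C),
      Nat.card (B.map (S : Subgroup C).subtype) = Nat.card B := fun B =>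
    (Nat.card_congr (B.equivMapOfInjective _ (Subgroup.subtype_injective _)).toEquiv).symm
  have helem : Cfsg.IsElementaryAbelian 2 (A.subgroupOf (S : Subgroup C)) :=
    isElem_iff.mpr ⟨fun x hx y hy => Subtype.ext (c1 _ hx _ hy).eq,
      fun x hx => Subtype.ext (c2 _ hx)⟩
  have hcA : Nat.card (A.subgroupOf (S : Subgroup C)) = 1024 := by
    rw [Nat.card_congr (Subgroup.subgroupOfEquivOfLe hle).toEquiv, hA1024]
  unfold Cfsg.thompsonSubgroupOf Cfsg.thompsonSubgroup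
  refine le_antisymm ?_ ?_
  · rw [Subgroup.map_le_iff_le_comap]
    refine sSup_le fun B ⟨hB, hBmax⟩ => ?_
    rw [← Subgroup.map_le_iff_le_comap]
    have h1 := hBmax _ helem
    rw [hcA, ← hcardmap B] at h1
    obtain ⟨b1, b2⟩ := conv B hB
    rw [huniq _ (Subgroup.map_subtype_le B) b1 b2 (le_antisymm (K.elem_le hF _ b1 b2).1 h1)]
  · intro x hx
    refine ⟨⟨x, hle hx⟩, Subgroup.mem_sSup_of_mem (show A.subgroupOf (S : Subgroup C) ∈
      Cfsg.maxElementaryAbelianSubgroups 2 ↥(S : Subgroup C) from ⟨helem, fun B hB => ?_⟩) hx, rfl⟩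
    rw [hcA, ← hcardmap B]
    exact (K.elem_le hF _ (conv B hB).1 (conv B hB).2).1

/-- a maximal elementary abelian subgroup is a conjugate of the preimage of a plane -/
theorem big_eq_conj [Finite C] {P Q : Fin 3 → Vec F} (p : Plane P Q) (B : Subgroup C)
    (hc : ∀ x ∈ B, ∀ y ∈ B, Commute x y) (hs : ∀ x ∈ B, x * x = 1) (hcard : Nat.card B = 1024) :
    ∃ k : C, B = (prePlane hF π p).map (MulAut.conj k).toMonoidHom := by
  haveI : Fact (Nat.Prime 2) := ⟨Nat.prime_two⟩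
  obtain ⟨S, hS⟩ := (show IsPGroup 2 ↥B from fun g => ⟨1, Subtype.ext (by
    show (g : C) ^ (2 ^ 1) = 1
    rw [pow_one, pow_two, hs _ g.2])⟩).exists_le_sylow
  obtain ⟨P', Q', p', -, -, huniq⟩ := K.sylow_plane hF S
  obtain ⟨k, hk⟩ := K.prePlane_conj hF p p'
  exact ⟨k, (huniq B hS hc hs hcard).trans hk⟩

/-- every involution has a conjugate in the preimage of a plane -/
theorem conj_into [Finite C] {P Q : Fin 3 → Vec F} (p : Plane P Q) {y : C} (hy : y * y = 1) :
    ∃ k : C, k * y * k⁻¹ ∈ prePlane hF π p := by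
  haveI : Fact (Nat.Prime 2) := ⟨Nat.prime_two⟩
  obtain ⟨g, hg, eg⟩ := exists_invol_lift hF (e := π y) (by rw [← map_mul, hy, map_one])
  let S : Submodule F (Vec F) := LinearMap.range (actL g + LinearMap.id)
  have hmem := invol_mem_closure hF (Module.finrank F S) g S le_rfl hg fun x => ⟨x, rfl⟩
  set T : Set C := insert d {z | ∃ v, IsPt v ∧ v ∈ S ∧ z = Y v}
  have hT : (∀ x ∈ Subgroup.closure T, ∀ z ∈ Subgroup.closure T, Commute x z) ∧
      ∀ x ∈ Subgroup.closure T, x * x = 1 := by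
    refine elem_closure ?_ ?_
    · rintro x (rfl | ⟨v, hv, -, rfl⟩)
      exacts [K.ext.sq, K.sq hF hv]
    · rintro x (rfl | ⟨u, hu, ⟨a, rfl⟩, rfl⟩) z (rfl | ⟨v, hv, ⟨b, rfl⟩, rfl⟩)
      exacts [Commute.refl _, K.ext.cen _, (K.ext.cen _).symm,
        K.commute hF hu hv (invol_iso hF hg a b)]
  have hle : Subgroup.closure {t | ∃ v, IsPt v ∧ v ∈ S ∧ t = tv hF v} ≤
      ((Subgroup.closure T).map π).comap (QuotientGroup.mk' _) := by
    rw [Subgroup.closure_le]
    rintro _ ⟨v, hv, hvS, rfl⟩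
    exact ⟨Y v, Subgroup.subset_closure (Or.inr ⟨v, hv, hvS, rfl⟩), K.img v hv⟩
  obtain ⟨z, hz, ez⟩ := hle hmem
  have hyT : y ∈ Subgroup.closure T := by
    rcases K.ext.eq_or (ez.trans eg) with rfl | rfl
    exacts [hz, mul_mem hz (Subgroup.subset_closure (Or.inl rfl))]
  obtain ⟨W, hW⟩ := (show IsPGroup 2 ↥(Subgroup.closure T) from fun g => ⟨1, Subtype.ext (by
    show (g : C) ^ (2 ^ 1) = 1
    rw [pow_one, pow_two, hT.2 _ g.2])⟩).exists_le_sylow
  obtain ⟨P', Q', p', -, hin, -⟩ := K.sylow_plane hF W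
  have hyp : y ∈ prePlane hF π p' := by
    refine ((Subgroup.closure_le _).mpr ?_) hyT
    rintro x (rfl | ⟨v, hv, hvS, rfl⟩)
    · exact K.d_mem hF p'
    · exact hin _ (hW (Subgroup.subset_closure (Or.inr ⟨v, hv, hvS, rfl⟩))) ⟨v, hv, K.img v hv⟩
  obtain ⟨k, hk⟩ := K.prePlane_conj hF p p'
  rw [hk] at hyp
  obtain ⟨x, hx, rfl⟩ := hyp
  refine ⟨k⁻¹, ?_⟩
  show k⁻¹ * (k * x * k⁻¹) * k⁻¹⁻¹ ∈ prePlane hF π p
  rw [show k⁻¹ * (k * x * k⁻¹) * k⁻¹⁻¹ = x by group]
  exact hx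

end PtClass

end Cfsg.Agent.H93
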