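import Cfsg.Agent.H93.Core

/-!
Relations among pairwise commuting transpositions: no short product is one, and consequences.
-/

set_option autoImplicit false

namespace Cfsg.Agent.H93

variable {G : Type*} [Group G]

/-- no product of at most `k` distinct pairwise commuting members is one -/
def Indep (D : Set G) (k : ℕ) : Prop :=
  ∀ l : List G, l.Nodup → l ≠ [] → l.length ≤ k → (∀ a ∈ l, a ∈ D) →
    (∀ a ∈ l, ∀ b ∈ l, Commute a b) → l.prod ≠ 1

theorem Indep.mono {D : Set G} {k k' : ℕ} (h : Indep D k) (hk : k' ≤ k) : Indep D k' :=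
  fun l h1 h2 h3 => h l h1 h2 (h3.trans hk)

theorem Core.indep_four {D : Set G} (h : Core D) : Indep D 4 := by
  intro l hnd hne hlen hmem hcom
  match l, hnd, hne, hlen, hmem, hcom with
  | [], _, hne, _, _, _ => exact absurd rfl hne
  | [a], _, _, _, hmem, _ => simpa using h.ne_one a (hmem a (by simp))
  | [a, b], hnd, _, _, hmem, _ =>
    simp only [List.prod_cons, List.prod_nil, mul_one]
    intro e
    have hb := h.tt.inv_eq (hmem b (by simp))
    have := eq_inv_of_mul_eq_one_left e
    rw [hb] at this
    simp [this] at hnd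
  | [a, b, c], hnd, _, _, hmem, hcom =>
    simp only [List.nodup_cons, List.mem_cons, List.not_mem_nil, or_false, not_or,
      List.nodup_nil, and_true, not_false_eq_true] at hnd
    have := h.indep3 (hmem a (by simp)) (hmem b (by simp)) (hmem c (by simp)) hnd.2 hnd.1.1
      (hcom a (by simp) b (by simp))
    simpa [mul_assoc] using this
  | [a, b, c, d], hnd, _, _, hmem, hcom =>
    simp only [List.nodup_cons, List.mem_cons, List.not_mem_nil, or_false, not_or,
      List.nodup_nil, and_true, not_false_eq_true] at hnd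
    obtain ⟨⟨h1, -, -⟩, ⟨h3, h4⟩, h5⟩ := hnd
    have := h.indep4 (hmem a (by simp)) (hmem b (by simp)) (hmem c (by simp)) (hmem d (by simp))
      h1 h5 h3 h4 (hcom a (by simp) b (by simp)) (hcom b (by simp) c (by simp))
      (hcom b (by simp) d (by simp)) (hcom c (by simp) d (by simp))
    simpa [mul_assoc] using this
  | a :: b :: c :: d :: e :: l, _, _, hlen, _, _ =>
    simp only [List.length_cons] at hlen; omega

/-- the step of the recursion -/
theorem indep_step {D : Set G} (hD : TT D) (h : Core (D \ {1})) {d : G} (hd : d ∈ D \ {1}) {k : ℕ}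
    (hres : Indep (resSet D d \ {1}) k) : Indep (D \ {1}) (k + 1) := by
  intro l hnd hne hlen hmem hcom hprod
  obtain ⟨a, l', rfl⟩ := List.exists_cons_of_ne_nil hne
  obtain ⟨g, hg⟩ := isConj_iff.mp (h.cls a (hmem a List.mem_cons_self) d hd)
  let φ := MulAut.conj g
  have hφ : ∀ x, φ x = g * x * g⁻¹ := MulAut.conj_apply g
  have hmem' : ∀ y ∈ l', φ y ∈ nb (D \ {1}) d := by
    intro y hy
    refine ⟨hφ y ▸ h.tt.conj_mem g y (hmem y (List.mem_cons_of_mem _ hy)), ?_, ?_⟩
    · intro e
      have : φ y = φ a := by rw [e, hφ a, hg]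
      exact (List.nodup_cons.mp hnd).1 (φ.injective this ▸ hy)
    · rw [← hg, hφ]
      exact commute_conj.mpr (hcom a List.mem_cons_self y (List.mem_cons_of_mem _ hy))
  -- the tail, in the neighbourhood subgroup
  let lift : {y // y ∈ l'} → ↥(nbSub D d) := fun y => nbElem (nb_diff_one.mp (hmem' y.1 y.2)).1
  let img : {y // y ∈ l'} → Residue D d := fun y => QuotientGroup.mk (lift y)
  have hl' : l' ≠ [] := by
    rintro rfl
    exact h.ne_one a (hmem a List.mem_cons_self) (by simpa using hprod)
  have hinj : Function.Injective img := by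
    intro x y e
    apply Subtype.ext
    apply φ.injective
    refine h.sameImage hd (hmem' x.1 x.2) (hmem' y.1 y.2) ?_
    rw [SameImage, isCentralIn_diff_one]
    exact (residue_mk_eq hD _ _).mp e
  have hprodval : ((l'.attach.map lift).prod : G) = d := by
    have e1 : (l'.attach.map lift).prod.1 = (l'.map φ).prod := by
      rw [← Subgroup.coe_subtype, map_list_prod, List.map_map]
      congr 1
      exact List.attach_map_val (f := fun y => φ y)
    rw [e1]
    have := congrArg φ hprod
    rw [List.prod_cons, map_mul, map_one, map_list_prod, hφ a, hg] at this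
    rw [eq_inv_of_mul_eq_one_right this, hD.inv_eq hd.1]
  apply hres (l'.attach.map img) (List.Nodup.map hinj (List.nodup_attach.mpr (List.nodup_cons.mp hnd).2))
    (by simpa using hl') (by simpa using Nat.succ_le_succ_iff.mp hlen)
  · intro x hx
    obtain ⟨y, -, rfl⟩ := List.mem_map.mp hx
    refine ⟨mem_resSet.mpr ⟨_, _, rfl⟩, fun e => ?_⟩
    obtain ⟨v, hv, hvy⟩ := h.nodom d hd _ (hmem' y.1 y.2)
    exact hvy ((residue_mk_eq_one _).mp e v (nb_diff_one.mp hv).1)
  · intro x hx z hz
    obtain ⟨x, -, rfl⟩ := List.mem_map.mp hx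
    obtain ⟨z, -, rfl⟩ := List.mem_map.mp hz
    refine (residue_commute hD _ _).mpr ?_
    simpa using (hcom x.1 (List.mem_cons_of_mem _ x.2) z.1 (List.mem_cons_of_mem _ z.2)).map φ.toMonoidHom
  · have e : (l'.attach.map img).prod = QuotientGroup.mk ((l'.attach.map lift).prod) := by
      rw [← QuotientGroup.mk'_apply, map_list_prod, List.map_map]; rfl
    rw [e, QuotientGroup.eq_one_iff, mem_center_nbSub, hprodval]
    exact fun v hv => hv.2.2.symm

theorem indep_of_M22 [Finite G] {D : Set G} (hD : TT D) (hgen : Subgroup.closure D = ⊤)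
    (h : Cfsg.IsOfTypeM22 G D) : Indep (D \ {1}) 5 := by
  have hc' := core_of_M22 hD hgen h
  obtain ⟨d, c, hd, hc, hdc, ⟨F, iF, iFF, hF, m, heq, hm⟩, -⟩ := residue_of_M22 hD h
  exact indep_step hD hc' ⟨hd, fun e => hdc (e ▸ Commute.one_left c)⟩ (heq ▸ hm.indep_four)

theorem indep_of_M23 [Finite G] {D : Set G} (hD : TT D) (hgen : Subgroup.closure D = ⊤)
    (h : Cfsg.IsOfTypeM23 G D) : Indep (D \ {1}) 6 := by
  have hc' := core_of_M23 hD hgen h
  obtain ⟨-, d, hd, c, hc, hdc, h22, -⟩ := h
  exact indep_step hD hc' ⟨hd, fun e => hdc (e ▸ Commute.one_left c)⟩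
    (indep_of_M22 (tt_resSet hD hd) (closure_resSet d) h22)

theorem indep_of_M24 [Finite G] {D : Set G} (hD : TT D) (hgen : Subgroup.closure D = ⊤)
    (h : Cfsg.IsOfTypeM24 G D) : Indep (D \ {1}) 7 := by
  have hc' := core_of_M24 hD hgen h
  obtain ⟨-, d, hd, c, hc, hdc, h23, -⟩ := h
  exact indep_step hD hc' ⟨hd, fun e => hdc (e ▸ Commute.one_left c)⟩
    (indep_of_M23 (tt_resSet hD hd) (closure_resSet d) h23)

/-- a member commuting with the product of at most three commuting members commutes with each -/
theorem TT.commute_of_commute_prod {D : Set G} (hD : TT D) {v : G} (hv : v ∈ D) (l : List G)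
    (hnd : l.Nodup) (hlen : l.length ≤ 3) (hmem : ∀ a ∈ l, a ∈ D)
    (hcom : ∀ a ∈ l, ∀ b ∈ l, Commute a b) (h : Commute v l.prod) : ∀ a ∈ l, Commute v a := by
  match l, hnd, hlen, hmem, hcom, h with
  | [], _, _, _, _, _ => simp
  | [a], _, _, _, _, h => simpa using h
  | [a, b], hnd, _, hmem, _, h =>
    have := hD.commute_of_commute_mul hv (hmem a (by simp)) (hmem b (by simp))
      (fun e => by simp [e] at hnd) (by simpa using h)
    simpa using this
  | [a, b, c], hnd, _, hmem, hcom, h =>
    simp only [List.nodup_cons, List.mem_cons, List.not_mem_nil, or_false, not_or,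
      List.nodup_nil, and_true, not_false_eq_true] at hnd
    have := hD.commute_of_commute_mul₃ hv (hmem a (by simp)) (hmem b (by simp)) (hmem c (by simp))
      hnd.1.1 hnd.1.2 hnd.2 (hcom a (by simp) b (by simp)) (hcom a (by simp) c (by simp))
      (hcom b (by simp) c (by simp)) (by simpa [mul_assoc] using h)
    simpa using this
  | a :: b :: c :: d :: l, _, hlen, _, _, _ => simp only [List.length_cons] at hlen; omega

theorem prod_eq_cons_erase [DecidableEq G] {l : List G} (hcom : ∀ a ∈ l, ∀ b ∈ l, Commute a b) {x : G}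
    (hx : x ∈ l) : l.prod = x * (l.erase x).prod := by
  rw [← List.prod_cons]
  refine (List.perm_cons_erase hx).prod_eq' ?_
  refine List.Pairwise.imp_of_mem (R := fun _ _ => True) ?_ (List.pairwise_of_forall fun _ _ => trivial)
  intro a b ha hb _
  exact hcom a ha b hb

theorem prod_sq_one {D : Set G} (hD : TT D) (l : List G) (hmem : ∀ a ∈ l, a ∈ D)
    (hcom : ∀ a ∈ l, ∀ b ∈ l, Commute a b) : l.prod * l.prod = 1 := by
  induction l with
  | nil => simp
  | cons a l ih =>
    have hc : Commute a l.prod := Commute.list_prod_right _ _ fun b hb =>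
      hcom a List.mem_cons_self b (List.mem_cons_of_mem _ hb)
    rw [List.prod_cons]
    calc a * l.prod * (a * l.prod) = a * (l.prod * a) * l.prod := by group
      _ = a * (a * l.prod) * l.prod := by rw [hc.eq]
      _ = (a * a) * (l.prod * l.prod) := by group
      _ = 1 := by
        rw [hD.sq a (hmem a List.mem_cons_self), ih (fun b hb => hmem b (List.mem_cons_of_mem _ hb))
          (fun b hb c hc => hcom b (List.mem_cons_of_mem _ hb) c (List.mem_cons_of_mem _ hc)), one_mul]

/-- factorisations into at most three commuting members are unique up to order when there is no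
relation of length twice as large -/
theorem unique_factor' {D : Set G} (hD : TT D) {k : ℕ} (h6 : Indep D k) (m : ℕ) (hm : m ≤ 3)
    (hk : 2 * m ≤ k) (j : G)
    (l l' : List G)
    (hl : l.Nodup ∧ l.length = m ∧ (∀ a ∈ l, a ∈ D) ∧ (∀ a ∈ l, ∀ b ∈ l, Commute a b) ∧ l.prod = j)
    (hl' : l'.Nodup ∧ l'.length = m ∧ (∀ a ∈ l', a ∈ D) ∧ (∀ a ∈ l', ∀ b ∈ l', Commute a b) ∧
      l'.prod = j) : ∀ x : G, x ∈ l ↔ x ∈ l' := by
  classical
  induction m generalizing j l l' with
  | zero =>
    rw [List.length_eq_zero_iff.mp hl.2.1, List.length_eq_zero_iff.mp hl'.2.1]; simp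
  | succ m ih =>
    obtain ⟨hnd, hlen, hmem, hcom, hp⟩ := hl
    obtain ⟨hnd', hlen', hmem', hcom', hp'⟩ := hl'
    by_cases hshare : ∃ x ∈ l, x ∈ l'
    · obtain ⟨x, hx, hx'⟩ := hshare
      have hsub : ∀ {ls : List G}, ∀ b ∈ ls.erase x, b ∈ ls := fun b hb => List.mem_of_mem_erase hb
      have e := prod_eq_cons_erase hcom hx
      have e' := prod_eq_cons_erase hcom' hx'
      have := ih (by omega) (by omega) (x * j) (l.erase x) (l'.erase x)
        ⟨hnd.erase x, by rw [List.length_erase_of_mem hx, hlen]; rfl, fun a ha => hmem a (hsub a ha),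
          fun a ha b hb => hcom a (hsub a ha) b (hsub b hb), by
            rw [← hp, e, ← mul_assoc, hD.sq x (hmem x hx), one_mul]⟩
        ⟨hnd'.erase x, by rw [List.length_erase_of_mem hx', hlen']; rfl,
          fun a ha => hmem' a (hsub a ha),
          fun a ha b hb => hcom' a (hsub a ha) b (hsub b hb), by
            rw [← hp', e', ← mul_assoc, hD.sq x (hmem' x hx'), one_mul]⟩
      intro y
      by_cases hy : y = x
      · subst hy; exact iff_of_true hx hx'
      · rw [← List.mem_erase_of_ne hy (l := l), ← List.mem_erase_of_ne hy (l := l')]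
        exact this y
    · exfalso
      simp only [not_exists, not_and] at hshare
      have hcross : ∀ v ∈ l', ∀ a ∈ l, Commute v a := fun v hv a ha =>
        hD.commute_of_commute_prod (hmem' v hv) l hnd (by omega) hmem hcom
          (by rw [hp, ← hp']; exact Commute.list_prod_right _ _ fun b hb => hcom' v hv b hb) a ha
      refine h6 (l ++ l') (List.nodup_append.mpr ⟨hnd, hnd', fun a ha b hb e => hshare a ha (e ▸ hb)⟩)
        (by
          intro e
          rw [List.append_eq_nil_iff] at e
          rw [e.1] at hlen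
          simp at hlen)
        (by rw [List.length_append]; omega)
        (fun a ha => (List.mem_append.mp ha).elim (hmem a) (hmem' a)) ?_ ?_
      · intro a ha b hb
        rcases List.mem_append.mp ha with ha | ha <;> rcases List.mem_append.mp hb with hb | hb
        · exact hcom a ha b hb
        · exact (hcross b hb a ha).symm
        · exact hcross a ha b hb
        · exact hcom' a ha b hb
      · rw [List.prod_append, hp, hp', ← hp]
        exact prod_sq_one hD l hmem hcom

/-- factorisations into at most three commuting members are unique up to order when there is no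
relation of length at most six -/
theorem unique_factor {D : Set G} (hD : TT D) (h6 : Indep D 6) (m : ℕ) (hm : m ≤ 3) (j : G)
    (l l' : List G)
    (hl : l.Nodup ∧ l.length = m ∧ (∀ a ∈ l, a ∈ D) ∧ (∀ a ∈ l, ∀ b ∈ l, Commute a b) ∧ l.prod = j)
    (hl' : l'.Nodup ∧ l'.length = m ∧ (∀ a ∈ l', a ∈ D) ∧ (∀ a ∈ l', ∀ b ∈ l', Commute a b) ∧
      l'.prod = j) : ∀ x : G, x ∈ l ↔ x ∈ l' :=
  unique_factor' hD h6 m hm (by omega) j l l' hl hl'

end Cfsg.Agent.H93
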