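import Cfsg.Agent.H93.Inner

/-!
Centralisers in a group of type M(22) that are two-fold extensions of `PSU 6 K 2`: the centralised
involution is a member, and every involution is a product of pairwise commuting members.
-/

set_option autoImplicit false

namespace Cfsg.Agent.H93

theorem mem_cent {G : Type*} [Group G] {x y : G} (h : Commute x y) :
    y ∈ Subgroup.centralizer ({x} : Set G) :=
  Subgroup.mem_centralizer_singleton_iff.mpr h.symm.eq

variable {G : Type*} [Group G] {D : Set G} {F : Type*} [Field F] [Fintype F]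
  {K : Type*} [Field K] [Fintype K] (hK : Fintype.card K = 4)

include hK

omit [Field F] [Fintype F] in
/-- the neighbours of the centralised involution map to transvections, and to all of them -/
theorem members_of_ext (hD : Core D) {x : G} {hx : x ∈ Subgroup.centralizer ({x} : Set G)}
    {π : ↥(Subgroup.centralizer ({x} : Set G)) →* Cfsg.PSU 6 K 2} (he : TwoExt π ⟨x, hx⟩)
    (hT : (nb D x).Nonempty) :
    (∀ y, ∀ hy : y ∈ nb D x, ∃ v, IsPt v ∧ π ⟨y, mem_cent hy.2.2⟩ = ptv hK v) ∧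
      ∀ v, IsPt v → ∃ y, ∃ hy : y ∈ nb D x, π ⟨y, mem_cent hy.2.2⟩ = ptv hK v := by
  have htt := hD.tt
  set E : Set (Cfsg.PSU 6 K 2) := {p | ∃ y, ∃ hy : y ∈ nb D x, π ⟨y, mem_cent hy.2.2⟩ = p} with hE
  have hinv : ∀ g : Cfsg.PSU 6 K 2, ∀ a ∈ E, g * a * g⁻¹ ∈ E := by
    rintro g _ ⟨y, hy, rfl⟩
    obtain ⟨k, rfl⟩ := he.surj g
    have hk : (k : G) * x * (k : G)⁻¹ = x :=
      mul_inv_eq_iff_eq_mul.mpr (Subgroup.mem_centralizer_singleton_iff.mp k.2)
    have hm := htt.nb_conj (k : G) hy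
    rw [hk] at hm
    refine ⟨_, hm, ?_⟩
    rw [← map_inv, ← map_mul, ← map_mul]
    exact congrArg π (Subtype.ext rfl)
  have first : ∀ a ∈ E, ∃ v, IsPt v ∧ a = ptv hK v := by
    refine three_transposition_is_ptv hK E ?_ hinv ?_
    · rintro _ ⟨y, hy, rfl⟩
      refine ⟨?_, fun e => ?_⟩
      · rw [← map_mul, show (⟨y, mem_cent hy.2.2⟩ : ↥(Subgroup.centralizer ({x} : Set G))) *
          ⟨y, mem_cent hy.2.2⟩ = 1 from Subtype.ext (htt.sq y hy.1), map_one]
      · rcases he.ker _ e with q | q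
        · exact hD.ne_one y hy.1 (congrArg Subtype.val q)
        · exact hy.2.1 (congrArg Subtype.val q)
    · rintro _ ⟨y, hy, rfl⟩ _ ⟨z, hz, rfl⟩
      rcases htt.pair y hy.1 z hz.1 with q | q
      · left
        rw [← map_mul, ← map_pow, ← map_one π]
        exact congrArg π (Subtype.ext q)
      · right
        rw [← map_mul, ← map_pow, ← map_one π]
        exact congrArg π (Subtype.ext q)
  refine ⟨fun y hy => first _ ⟨y, hy, rfl⟩, fun v hv => ?_⟩
  obtain ⟨y0, hy0⟩ := hT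
  obtain ⟨v0, hv0, e0⟩ := first _ ⟨y0, hy0, rfl⟩
  obtain ⟨g, hg⟩ := ptv_transitive hK hv0 hv
  have := hinv g _ (e0 ▸ ⟨y0, hy0, rfl⟩ : ptv hK v0 ∈ E)
  rwa [hg] at this

omit [Field F] [Fintype F] in
/-- commuting of members is orthogonality of their images -/
theorem member_comm {x : G} {hx : x ∈ Subgroup.centralizer ({x} : Set G)}
    {π : ↥(Subgroup.centralizer ({x} : Set G)) →* Cfsg.PSU 6 K 2} (he : TwoExt π ⟨x, hx⟩)
    {y z : G} (hy : y ∈ Subgroup.centralizer ({x} : Set G))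
    (hz : z ∈ Subgroup.centralizer ({x} : Set G)) {u v : Vec K} (hu : IsPt u) (hv : IsPt v)
    (ey : π ⟨y, hy⟩ = ptv hK u) (ez : π ⟨z, hz⟩ = ptv hK v) : Commute y z ↔ hb u v = 0 := by
  constructor
  · intro h
    have h' : Commute (π ⟨y, hy⟩) (π ⟨z, hz⟩) := Commute.map (Subtype.ext h.eq) π
    rw [ey, ez] at h'
    exact (hb_eq_zero_comm hK).mp (ptv_hb_zero hK hu hv h')
  · intro h
    exact (he.commute_congr ((he.π_lift hK u).trans ey.symm) ((he.π_lift hK v).trans ez.symm)
      (he.lift_commute hK hu hv h)).map (Subgroup.centralizer ({x} : Set G)).subtype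

/-- an involution whose centraliser is a two-fold extension of `PSU` is a member -/
theorem M22Data.mem_of_ext (h : M22Data D F) {x : G} {hx : x ∈ Subgroup.centralizer ({x} : Set G)}
    (hx1 : x ≠ 1) {π : ↥(Subgroup.centralizer ({x} : Set G)) →* Cfsg.PSU 6 K 2}
    (he : TwoExt π ⟨x, hx⟩) : x ∈ D := by
  classical
  have hF := h.hF
  have htt := h.core.tt
  have hxx : x * x = 1 := congrArg Subtype.val he.sq
  obtain ⟨c, hc, hxc⟩ := h.exists_commute hxx
  by_contra hnx
  have hT : (nb D x).Nonempty := ⟨c, hc, fun e => hnx (e ▸ hc), hxc⟩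
  obtain ⟨img, cov⟩ := members_of_ext hK h.core he hT
  -- nothing in `D` commuting with `x` commutes with all its neighbours
  have nocentral : ∀ a ∈ D, Commute x a → ¬ ∀ t ∈ nb D x, Commute a t := by
    intro a ha hxa hall
    have hat : a ∈ nb D x := ⟨ha, fun e => hnx (e ▸ ha), hxa⟩
    obtain ⟨v, hv, ev⟩ := img a hat
    obtain ⟨w, hw, hwv⟩ := iso_one hK hv.1 1
    obtain ⟨t, ht, et⟩ := cov w (pt_of_hb_eq_one hw hwv)
    have := (member_comm hK he _ _ hv (pt_of_hb_eq_one hw hwv) ev et).mp (hall t ht)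
    rw [hb_one_comm hK hwv] at this
    exact one_ne_zero this
  -- a point and a line through it
  obtain ⟨P, hP⟩ : ∃ P : Vec K, IsPt P := by
    obtain ⟨v, hv, -⟩ := img c ⟨hc, fun e => hnx (e ▸ hc), hxc⟩
    exact ⟨v, hv⟩
  obtain ⟨e, f, he1, hf1, pe, pf, ef, hs⟩ := exists_hyperbolic hK hP
  obtain ⟨o, ho0, ho1, ho⟩ := exists_omega hK
  have ho2 : o ^ 2 ≠ 0 := pow_ne_zero _ ho0
  have ho21 : o ^ 2 ≠ 1 := fun q => ho1 (sq_eq_one hK q)
  have hoo : o ≠ o ^ 2 := fun q => ho1 (mul_left_cancel₀ ho0 (by linear_combination -q))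
  have p1 : IsPt (P + e) := by simpa using isPt_line hK hP he1 pe hs 1
  have p2 := isPt_line hK hP he1 pe hs o
  have p3 := isPt_line hK hP he1 pe hs (o ^ 2)
  obtain ⟨u, hu, eu⟩ := cov P hP
  obtain ⟨y1, hy1, ey1⟩ := cov e he1
  obtain ⟨y2, hy2, ey2⟩ := cov _ p1
  obtain ⟨y3, hy3, ey3⟩ := cov _ p2
  obtain ⟨y4, hy4, ey4⟩ := cov _ p3
  obtain ⟨z, hz, ez⟩ := cov f hf1
  -- every two of the five members commute
  let OnL : G → Prop := fun y => ∃ (hy : y ∈ nb D x) (a b : K), IsPt (a • P + b • e) ∧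
    π ⟨y, mem_cent hy.2.2⟩ = ptv hK (a • P + b • e)
  have onu : OnL u := ⟨hu, 1, 0, by simpa using hP, by simpa using eu⟩
  have on1 : OnL y1 := ⟨hy1, 0, 1, by simpa using he1, by simpa using ey1⟩
  have on2 : OnL y2 := ⟨hy2, 1, 1, by simpa using p1, by simpa using ey2⟩
  have on3 : OnL y3 := ⟨hy3, 1, o, by simpa using p2, by simpa using ey3⟩
  have on4 : OnL y4 := ⟨hy4, 1, o ^ 2, by simpa using p3, by simpa using ey4⟩
  have com : ∀ {y y'}, OnL y → OnL y' → Commute y y' := by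
    rintro y y' ⟨hy, a, b, hp, ep⟩ ⟨hy', a', b', hp', ep'⟩
    refine (member_comm hK he _ _ hp hp' ep ep').mpr ?_
    simp [hb_add_left, hb_add_right hK, hb_smul_left, hb_smul_right, hP.2, he1.2, pe,
      (hb_eq_zero_comm hK).mp pe]
  -- they are distinct, and none but `u` commutes with `z`
  have hli := indep_pair hP.1 hs
  have sne : ∀ {y y' : G} (hy : y ∈ nb D x) (hy' : y' ∈ nb D x) {a b a' b' : K},
      IsPt (a • P + b • e) → IsPt (a' • P + b' • e) →
      π ⟨y, mem_cent hy.2.2⟩ = ptv hK (a • P + b • e) →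
      π ⟨y', mem_cent hy'.2.2⟩ = ptv hK (a' • P + b' • e) →
      a * b' ≠ a' * b → y ≠ y' := by
    intro y y' hy hy' a b a' b' hp hp' ep ep' hne q
    subst q
    obtain ⟨t, ht⟩ := ptv_eq hK hp hp'.2 (ep.symm.trans ep')
    rw [smul_add, smul_smul, smul_smul] at ht
    obtain ⟨h1, h2⟩ := hli.eq_of_pair ht
    exact hne (by rw [h1, h2]; ring)
  have eu' : π ⟨u, mem_cent hu.2.2⟩ = ptv hK ((1 : K) • P + (0 : K) • e) := by simpa using eu
  have ey1' : π ⟨y1, mem_cent hy1.2.2⟩ = ptv hK ((0 : K) • P + (1 : K) • e) := by simpa using ey1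
  have ey2' : π ⟨y2, mem_cent hy2.2.2⟩ = ptv hK ((1 : K) • P + (1 : K) • e) := by simpa using ey2
  have ey3' : π ⟨y3, mem_cent hy3.2.2⟩ = ptv hK ((1 : K) • P + o • e) := by simpa using ey3
  have ey4' : π ⟨y4, mem_cent hy4.2.2⟩ = ptv hK ((1 : K) • P + o ^ 2 • e) := by simpa using ey4
  have qu : IsPt ((1 : K) • P + (0 : K) • e) := by simpa using hP
  have q1 : IsPt ((0 : K) • P + (1 : K) • e) := by simpa using he1
  have q2 : IsPt ((1 : K) • P + (1 : K) • e) := by simpa using p1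
  have q3 : IsPt ((1 : K) • P + o • e) := by simpa using p2
  have q4 : IsPt ((1 : K) • P + o ^ 2 • e) := by simpa using p3
  have u1 := sne hu hy1 qu q1 eu' ey1' (by simp)
  have u2 := sne hu hy2 qu q2 eu' ey2' (by simp)
  have u3 := sne hu hy3 qu q3 eu' ey3' (by simpa using ho0)
  have u4 := sne hu hy4 qu q4 eu' ey4' (by simpa using ho2)
  have n12 := sne hy1 hy2 q1 q2 ey1' ey2' (by simp)
  have n13 := sne hy1 hy3 q1 q3 ey1' ey3' (by simp)
  have n14 := sne hy1 hy4 q1 q4 ey1' ey4' (by simp)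
  have n23 := sne hy2 hy3 q2 q3 ey2' ey3' (by simpa using ho1)
  have n24 := sne hy2 hy4 q2 q4 ey2' ey4' (by simpa using ho21)
  have n34 := sne hy3 hy4 q3 q4 ey3' ey4' (by simpa using hoo.symm)
  have zu : Commute z u :=
    (member_comm hK he _ _ hf1 hP ez eu).mpr ((hb_eq_zero_comm hK).mp pf)
  have znot : ∀ {y : G} (hy : y ∈ nb D x) {a b : K}, IsPt (a • P + b • e) → b ≠ 0 →
      π ⟨y, mem_cent hy.2.2⟩ = ptv hK (a • P + b • e) → ¬ Commute z y := by
    intro y hy a b hp hb0 ep q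
    have := (member_comm hK he _ _ hp hf1 ep ez).mp q.symm
    rw [hb_add_left, hb_smul_left, hb_smul_left, pf, ef, mul_zero, mul_one, zero_add] at this
    exact hb0 this
  have nz1 := znot hy1 q1 one_ne_zero ey1'
  have nz2 := znot hy2 q2 one_ne_zero ey2'
  have nz3 := znot hy3 q3 ho0 ey3'
  have nz4 := znot hy4 q4 ho2 ey4'
  -- their product is `x`
  have hx5 : x = u * (y1 * y2 * y3 * y4) := by
    have hπ : π (⟨u, mem_cent hu.2.2⟩ * ⟨y1, mem_cent hy1.2.2⟩ * ⟨y2, mem_cent hy2.2.2⟩ *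
        ⟨y3, mem_cent hy3.2.2⟩ * ⟨y4, mem_cent hy4.2.2⟩) = 1 := by
      rw [map_mul, map_mul, map_mul, map_mul, eu, ey1, ey2, ey3, ey4]
      exact ptv_line hK hP.2 he1.2 pe ho
    rcases he.ker _ hπ with q | q
    · exfalso
      refine h.ind [u, y1, y2, y3, y4] (by simp [u1, u2, u3, u4, n12, n13, n14, n23, n24, n34])
        (by simp) (by simp) (by simp [hu.1, hy1.1, hy2.1, hy3.1, hy4.1]) ?_ ?_
      · intro a ha b hb'
        simp only [List.mem_cons, List.not_mem_nil, or_false] at ha hb'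
        rcases ha with rfl | rfl | rfl | rfl | rfl <;>
          rcases hb' with rfl | rfl | rfl | rfl | rfl <;> exact com (by assumption) (by assumption)
      · have := congrArg Subtype.val q
        simpa [mul_assoc] using this
    · have := congrArg Subtype.val q
      simpa [mul_assoc] using this.symm
  -- the neighbourhood of `u` as a space
  obtain ⟨sp⟩ := h.spaces u hu.1
  have inu : ∀ {y}, y ∈ nb D x → y ≠ u → Commute u y → y ∈ nb D u := fun hy hne hc =>
    ⟨hy.1, hne, hc⟩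
  have hzu : z ∈ nb D u := inu hz (fun q => nz1 (q ▸ com onu on1)) zu.symm
  obtain ⟨Z, hZ, eZ⟩ := sp.surj z hzu
  have scaled : ∀ {y}, OnL y → y ≠ u → ¬ Commute z y →
      ∃ V, IsPt V ∧ sp.pt V = y ∧ hb Z V = 1 := by
    intro y hon hne hn
    obtain ⟨V0, hV0, e0⟩ := sp.surj y (inu hon.1 hne (com onu hon))
    have h0 : hb Z V0 ≠ 0 := fun q => hn (by
      rw [← eZ, ← e0]; exact (sp.comm hZ hV0).mpr q)
    obtain ⟨hV, eV⟩ := sp.smul_pt h0 hV0
    exact ⟨_, hV, eV.trans e0, by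
      rw [hb_smul_right]; linear_combination pow_three hF h0⟩
  obtain ⟨V1, hV1, eV1, z1⟩ := scaled on1 u1.symm nz1
  obtain ⟨V2, hV2, eV2, z2⟩ := scaled on2 u2.symm nz2
  obtain ⟨V3, hV3, eV3, z3⟩ := scaled on3 u3.symm nz3
  obtain ⟨V4, hV4, eV4, z4⟩ := scaled on4 u4.symm nz4
  have orth : ∀ {V W : Vec F}, IsPt V → IsPt W → OnL (sp.pt V) → OnL (sp.pt W) → hb V W = 0 :=
    fun hV hW a b => (sp.comm hV hW).mp (com a b)
  rw [← eV1] at on1
  rw [← eV2] at on2
  rw [← eV3] at on3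
  rw [← eV4] at on4
  have o12 := orth hV1 hV2 on1 on2
  have o13 := orth hV1 hV3 on1 on3
  have o14 := orth hV1 hV4 on1 on4
  have o23 := orth hV2 hV3 on2 on3
  have o24 := orth hV2 hV4 on2 on4
  have o34 := orth hV3 hV4 on3 on4
  have o21 := (hb_eq_zero_comm hF).mp o12
  have o31 := (hb_eq_zero_comm hF).mp o13
  have o41 := (hb_eq_zero_comm hF).mp o14
  have o32 := (hb_eq_zero_comm hF).mp o23
  have o42 := (hb_eq_zero_comm hF).mp o24
  have o43 := (hb_eq_zero_comm hF).mp o34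
  -- conjugation by `x` on the neighbourhood of `u`
  set W := y1 * y2 * y3 * y4 with hWdef
  have cuW : Commute u W :=
    (((com onu (eV1 ▸ on1)).mul_right (com onu (eV2 ▸ on2))).mul_right
      (com onu (eV3 ▸ on3))).mul_right (com onu (eV4 ▸ on4))
  have act4 : ∀ X, IsPt X →
      IsPt (X + hb X V4 • V4 + hb X V3 • V3 + hb X V2 • V2 + hb X V1 • V1) ∧
      x * sp.pt X * x⁻¹ =
        sp.pt (X + hb X V4 • V4 + hb X V3 • V3 + hb X V2 • V2 + hb X V1 • V1) := by
    intro X hX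
    have ct : Commute u (sp.pt X) := (sp.mem hX).2.2
    have h4 := isPt_third hF hV4 hX
    obtain ⟨hp, e⟩ := sp.conj_three hF hV1 hV2 hV3 h4 o32 o31 o21
    rw [hb_step o43, hb_step o42, hb_step o41] at hp e
    refine ⟨hp, ?_⟩
    rw [← e, ← sp.third hV4 hX, eV1, eV2, eV3, eV4]
    have hW' : W⁻¹ = y4 * y3 * y2 * y1 := by
      rw [hWdef]
      simp [mul_inv_rev, htt.inv_eq hy1.1, htt.inv_eq hy2.1, htt.inv_eq hy3.1, htt.inv_eq hy4.1,
        mul_assoc]
    have hcc : Commute u (W * sp.pt X * W⁻¹) := (cuW.mul_right ct).mul_right cuW.inv_right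
    calc x * sp.pt X * x⁻¹ = u * (W * sp.pt X * W⁻¹) * u⁻¹ := by rw [hx5]; group
      _ = W * sp.pt X * W⁻¹ := by rw [hcc.eq, mul_inv_cancel_right]
      _ = _ := by rw [hW', hWdef]; group
  obtain ⟨hZ', eZ'⟩ := act4 Z hZ
  rw [z1, z2, z3, z4, one_smul, one_smul, one_smul, one_smul] at hZ' eZ'
  have hfix : x * sp.pt Z * x⁻¹ = sp.pt Z := by
    rw [eZ]; exact mul_inv_eq_iff_eq_mul.mpr hz.2.2.eq
  obtain ⟨l, hl⟩ := (sp.same hZ hZ').mp (hfix.symm.trans eZ')
  have hl1 : l = 1 := by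
    have := congrArg (fun v => hb v V1) hl
    simp only [hb_add_left, hb_smul_left, z1, o41, o31, o21, hV1.2, add_zero, mul_one] at this
    exact this.symm
  rw [hl1, one_smul, add_assoc, add_assoc, add_assoc, add_eq_left] at hl
  have hV4eq : V4 = V3 + V2 + V1 := vec_eq_of_add hF (by rw [← hl]; abel)
  obtain ⟨w, hw0, -, hw⟩ := exists_omega hF
  -- two members of the plane induce the same
  set r := (1 : F) • V1 + w • V2 + w ^ 2 • V3 with hrdef
  set s := (1 : F) • V1 + w ^ 2 • V2 + w • V3 with hsdef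
  have hr0 : hb r r = 0 := hb_comb3 hF hV1.2 hV2.2 hV3.2 o12 o13 o23 _ _ _ _ _ _
  have hs0 : hb s s = 0 := hb_comb3 hF hV1.2 hV2.2 hV3.2 o12 o13 o23 _ _ _ _ _ _
  have hrs : hb r s = 0 := hb_comb3 hF hV1.2 hV2.2 hV3.2 o12 o13 o23 _ _ _ _ _ _
  obtain ⟨kr, hkr, actr⟩ := sp.exists_op hF hr0
  obtain ⟨ks, hks, acts⟩ := sp.exists_op hF hs0
  have opmem : ∀ {t : Vec F} {k : G}, ((t = 0 ∧ k = 1) ∨ (IsPt t ∧ k = sp.pt t)) →
      (k ∈ D ∨ k = 1) ∧ Commute u k ∧ k * k = 1 := by
    rintro t k (⟨-, rfl⟩ | ⟨ht, rfl⟩)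
    · exact ⟨Or.inr rfl, Commute.one_right u, one_mul 1⟩
    · exact ⟨Or.inl (sp.mem ht).1, (sp.mem ht).2.2, htt.sq _ (sp.mem ht).1⟩
  obtain ⟨mr, cr, sr⟩ := opmem hkr
  obtain ⟨ms, cs, ss⟩ := opmem hks
  have crs : Commute kr ks := by
    rcases hkr with ⟨-, rfl⟩ | ⟨hr, rfl⟩
    · exact Commute.one_left _
    rcases hks with ⟨-, rfl⟩ | ⟨hs', rfl⟩
    · exact Commute.one_right _
    · exact (sp.comm hr hs').mpr hrs
  have hkk : kr * ks * (kr * ks) = 1 := by
    calc kr * ks * (kr * ks) = kr * (ks * kr) * ks := by group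
      _ = (kr * kr) * (ks * ks) := by rw [← crs.eq]; group
      _ = 1 := by rw [sr, ss, one_mul]
  have hker : kr * ks * x = 1 ∨ kr * ks * x = u := by
    refine h.kernel_nb hu.1 ((cr.symm.mul_left cs.symm).mul_left hu.2.2) fun t ht => ?_
    obtain ⟨X, hX, rfl⟩ := sp.surj t ht
    obtain ⟨hX1, e1⟩ := acts X hX
    obtain ⟨hX2, e2⟩ := actr _ hX1
    rw [hb_step ((hb_eq_zero_comm hF).mp hrs)] at e2
    obtain ⟨-, eX⟩ := act4 X hX
    have heq : X + hb X V4 • V4 + hb X V3 • V3 + hb X V2 • V2 + hb X V1 • V1 =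
        X + hb X s • s + hb X r • r := by
      rw [hV4eq, hrdef, hsdef]
      funext i
      simp only [hb_add_right hF, hb_smul_right, Pi.add_apply, Pi.smul_apply, smul_eq_mul]
      have h2 := two_zero hF
      have h4 := pow_four hF w
      grind
    have hk : x * sp.pt X * x⁻¹ = kr * ks * sp.pt X * (kr * ks) := by
      rw [eX, heq, ← e2, ← e1]
      calc kr * (ks * sp.pt X * ks) * kr = (kr * ks) * sp.pt X * (ks * kr) := by group
        _ = _ := congrArg (fun t => kr * ks * sp.pt X * t) crs.eq.symm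
    show kr * ks * x * sp.pt X = sp.pt X * (kr * ks * x)
    calc kr * ks * x * sp.pt X = kr * ks * (x * sp.pt X * x⁻¹) * x := by group
      _ = (kr * ks * (kr * ks)) * sp.pt X * (kr * ks * x) := by rw [hk]; group
      _ = _ := by rw [hkk, one_mul]
  -- products of at most three commuting members
  have two : ∀ a b : G, (a ∈ D ∨ a = 1) → (b ∈ D ∨ b = 1) → Commute a b → x = a * b → False := by
    intro a b ha hb' hab e
    rcases ha with ha | rfl
    swap
    · rw [one_mul] at e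
      rcases hb' with q | q
      · exact hnx (e ▸ q)
      · exact hx1 (e.trans q)
    rcases hb' with hb' | rfl
    swap
    · exact hnx (by rw [e, mul_one]; exact ha)
    by_cases q : a = b
    · exact hx1 (by rw [e, ← q, htt.sq a ha])
    · refine nocentral a ha ?_ fun t ht => ?_
      · rw [e]; exact (Commute.refl a).mul_left hab.symm
      · exact (htt.commute_of_commute_mul ht.1 ha hb' q (e ▸ ht.2.2.symm)).1.symm
  have hxk : x = kr * ks ∨ x = kr * ks * u := by
    rcases hker with q | q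
    · left
      rw [eq_inv_of_mul_eq_one_right q]
      exact inv_eq_of_mul_eq_one_left hkk
    · right
      calc x = (kr * ks * (kr * ks)) * x := by rw [hkk, one_mul]
        _ = kr * ks * (kr * ks * x) := by group
        _ = _ := by rw [q]
  rcases hxk with e | e
  · exact two kr ks mr ms crs e
  rcases mr with hr | rfl
  swap
  · exact two ks u ms (Or.inl hu.1) cs.symm (by rw [e, one_mul])
  rcases ms with hs' | rfl
  swap
  · exact two kr u (Or.inl hr) (Or.inl hu.1) cr.symm (by rw [e, mul_one])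
  by_cases hA : kr = ks
  · exact hu.2.1 (by rw [e, hA, htt.sq ks hs', one_mul])
  by_cases hB : kr = u
  · refine hnx ?_
    rw [e, hB, cs.eq, mul_assoc, htt.sq u hu.1, mul_one]
    exact hs'
  by_cases hC : ks = u
  · refine hnx ?_
    rw [e, hC, mul_assoc, htt.sq u hu.1, mul_one]
    exact hr
  refine nocentral kr hr ?_ fun t ht => ?_
  · rw [e]; exact ((Commute.refl kr).mul_left crs.symm).mul_left cr
  · exact (htt.commute_of_commute_mul₃ ht.1 hr hs' hu.1 hA hB hC crs cr.symm cs.symm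
      (e ▸ ht.2.2.symm)).1.symm

omit [Field F] [Fintype F] [Fintype K] hK in
/-- conjugate members have centralisers of the same shape -/
theorem ext_of_conj {x : G} {hx : x ∈ Subgroup.centralizer ({x} : Set G)}
    {π : ↥(Subgroup.centralizer ({x} : Set G)) →* Cfsg.PSU 6 K 2} (he : TwoExt π ⟨x, hx⟩) (g : G) :
    ∃ (π' : ↥(Subgroup.centralizer ({g * x * g⁻¹} : Set G)) →* Cfsg.PSU 6 K 2),
      TwoExt π' ⟨g * x * g⁻¹, mem_cent (Commute.refl _)⟩ := by
  have back : ∀ y : ↥(Subgroup.centralizer ({g * x * g⁻¹} : Set G)),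
      g⁻¹ * (y : G) * g ∈ Subgroup.centralizer ({x} : Set G) := fun y => by
    refine mem_cent (commute_conj (g := g) |>.mp ?_)
    rw [show g * (g⁻¹ * (y : G) * g) * g⁻¹ = y by group]
    exact (Subgroup.mem_centralizer_singleton_iff.mp y.2).symm
  let ρ : ↥(Subgroup.centralizer ({g * x * g⁻¹} : Set G)) →* ↥(Subgroup.centralizer ({x} : Set G)) :=
    MonoidHom.mk' (fun y => ⟨g⁻¹ * (y : G) * g, back y⟩) fun y z => Subtype.ext (by
      show g⁻¹ * ((y : G) * z) * g = g⁻¹ * y * g * (g⁻¹ * z * g)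
      group)
  refine ⟨π.comp ρ, ⟨fun p => ?_, fun y hy => ?_, Subtype.ext ?_, fun y => Subtype.ext ?_⟩⟩
  · obtain ⟨k, rfl⟩ := he.surj p
    refine ⟨⟨g * k * g⁻¹, mem_cent (commute_conj.mpr
      (Subgroup.mem_centralizer_singleton_iff.mp k.2).symm)⟩, ?_⟩
    show π _ = π k
    exact congrArg π (Subtype.ext (by show g⁻¹ * (g * k * g⁻¹) * g = k; group))
  · rcases he.ker _ hy with q | q <;> have q' : g⁻¹ * (y : G) * g = _ := congrArg Subtype.val q
    · refine Or.inl (Subtype.ext ?_)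
      show (y : G) = 1
      calc (y : G) = g * (g⁻¹ * (y : G) * g) * g⁻¹ := by group
        _ = 1 := by rw [q']; simp
    · refine Or.inr (Subtype.ext ?_)
      show (y : G) = g * x * g⁻¹
      calc (y : G) = g * (g⁻¹ * (y : G) * g) * g⁻¹ := by group
        _ = _ := by rw [q']
  · show g * x * g⁻¹ * (g * x * g⁻¹) = 1
    have : x * x = 1 := congrArg Subtype.val he.sq
    rw [show g * x * g⁻¹ * (g * x * g⁻¹) = g * (x * x) * g⁻¹ by group, this]; group
  · exact (Subgroup.mem_centralizer_singleton_iff.mp y.2).symm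

omit [Field F] [Fintype F] in
/-- an involution of `SU` is a product of pairwise orthogonal transvections -/
theorem invol_factor : ∀ n : ℕ, ∀ g : ↥(Cfsg.SU 6 K 2), g * g = 1 →
    {z | act g z ≠ z}.ncard ≤ n →
    ∃ l : List (Vec K), (∀ v ∈ l, IsPt v) ∧ (∀ v ∈ l, ∀ v' ∈ l, hb v v' = 0) ∧
      (l.map (ptv hK)).prod = QuotientGroup.mk g ∧ ∀ v ∈ l, ∀ u, act g u = u → hb v u = 0 := by
  intro n
  induction n with
  | zero =>
    intro g _ hn
    have he : {z | act g z ≠ z} = ∅ := (Set.ncard_eq_zero (Set.toFinite _)).mp (Nat.le_zero.mp hn)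
    have hg1 : g = 1 := act_ext fun z => by
      rw [act_one]
      by_contra hz
      have : z ∈ {z | act g z ≠ z} := hz
      rw [he] at this
      exact this
    subst hg1
    exact ⟨[], by simp, by simp, by simp, by simp⟩
  | succ n ih =>
    intro g hg hn
    by_cases hg1 : g = 1
    · subst hg1
      exact ⟨[], by simp, by simp, by simp, by simp⟩
    obtain ⟨x, v, hvp, hxv, hvdef, hgv, hg', hx', hkeep⟩ := invol_step hK hg hg1
    set g' := g * tv hK v with hg'def
    have hlt : {z | act g' z ≠ z} ⊂ {z | act g z ≠ z} := by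
      refine ⟨fun z hz hgz => hz (hkeep z hgz), fun hsub => ?_⟩
      have hgx : act g x ≠ x := fun e => hvp.1 (by rw [hvdef, e, vec_add_self hK])
      exact hsub hgx hx'
    have hlt' := Set.ncard_lt_ncard hlt (Set.toFinite _)
    obtain ⟨l, lp, lo, lprod, lfix⟩ := ih g' hg' (by omega)
    have hv_fix : ∀ u, act g u = u → hb v u = 0 := fun u hu => by
      rw [hvdef, invol_adjoint hK hg, hu, vec_add_self hK, hb_zero_right]
    refine ⟨l ++ [v], ?_, ?_, ?_, ?_⟩
    · intro a ha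
      simp only [List.mem_append, List.mem_singleton] at ha
      rcases ha with ha | rfl
      exacts [lp a ha, hvp]
    · intro a ha b hb'
      simp only [List.mem_append, List.mem_singleton] at ha hb'
      rcases ha with ha | rfl <;> rcases hb' with hb' | rfl
      exacts [lo a ha b hb', lfix a ha _ (hkeep _ hgv),
        (hb_eq_zero_comm hK).mp (lfix b hb' _ (hkeep _ hgv)), hvp.2]
    · rw [List.map_append, List.prod_append, lprod]
      simp only [List.map_cons, List.map_nil, List.prod_cons, List.prod_nil, mul_one]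
      rw [ptv, ← QuotientGroup.mk_mul, hg'def, mul_assoc, tv_mul_self, mul_one]
    · intro a ha u hu
      simp only [List.mem_append, List.mem_singleton] at ha
      rcases ha with ha | rfl
      exacts [lfix a ha u (hkeep u hu), hv_fix u hu]

/-- every involution is a product of pairwise commuting members -/
theorem M22Data.invol_prod (h : M22Data D F)
    (hext : ∀ c ∈ D, ∃ π : ↥(Subgroup.centralizer ({c} : Set G)) →* Cfsg.PSU 6 K 2,
      TwoExt π ⟨c, mem_cent (Commute.refl c)⟩) {x : G} (hx : x * x = 1) :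
    ∃ l : List G, (∀ a ∈ l, a ∈ D) ∧ (∀ a ∈ l, ∀ b ∈ l, Commute a b) ∧ l.prod = x := by
  classical
  obtain ⟨c, hc, hxc⟩ := h.exists_commute hx
  obtain ⟨π, he⟩ := hext c hc
  obtain ⟨b, hb'⟩ := h.core.edge c hc
  obtain ⟨-, cov⟩ := members_of_ext hK h.core he ⟨b, hb'⟩
  choose m hm em using cov
  let xC : ↥(Subgroup.centralizer ({c} : Set G)) := ⟨x, mem_cent hxc.symm⟩
  obtain ⟨g, hg, ge⟩ := exists_invol_lift hK (e := π xC) (by
    rw [← map_mul, show xC * xC = 1 from Subtype.ext hx, map_one])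
  obtain ⟨l, lp, lo, lprod, -⟩ := invol_factor hK _ g hg le_rfl
  let mC : {v // v ∈ l} → ↥(Subgroup.centralizer ({c} : Set G)) := fun v =>
    ⟨m v.1 (lp v.1 v.2), mem_cent (hm v.1 (lp v.1 v.2)).2.2⟩
  have hπ : π (l.attach.map mC).prod = π xC := by
    rw [map_list_prod, List.map_map, ← ge, ← lprod]
    congr 1
    rw [show (π ∘ mC) = fun v : {v // v ∈ l} => ptv hK v.1 from funext fun v => em v.1 (lp v.1 v.2)]
    exact List.attach_map_val (f := ptv hK)
  set l' := (l.attach.map mC).map Subtype.val with hl'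
  have hmem : ∀ a ∈ l', a ∈ nb D c := by
    intro a ha
    simp only [hl', List.mem_map] at ha
    obtain ⟨_, ⟨v, -, rfl⟩, rfl⟩ := ha
    exact hm v.1 (lp v.1 v.2)
  have hcom : ∀ a ∈ l', ∀ b ∈ l', Commute a b := by
    intro a ha b hb''
    simp only [hl', List.mem_map] at ha hb''
    obtain ⟨_, ⟨v, -, rfl⟩, rfl⟩ := ha
    obtain ⟨_, ⟨v', -, rfl⟩, rfl⟩ := hb''
    exact (member_comm hK he _ _ (lp v.1 v.2) (lp v'.1 v'.2) (em _ _) (em _ _)).mpr
      (lo v.1 v.2 v'.1 v'.2)
  have hprod : ((l.attach.map mC).prod : G) = l'.prod := by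
    rw [← Subgroup.coe_subtype, map_list_prod]; rfl
  rcases he.eq_or hπ with q | q
  · exact ⟨l', fun a ha => (hmem a ha).1, hcom, by
      rw [← hprod]; exact congrArg Subtype.val q.symm⟩
  · refine ⟨l' ++ [c], fun a ha => ?_, fun a ha b hb'' => ?_, ?_⟩
    · simp only [List.mem_append, List.mem_singleton] at ha
      rcases ha with ha | rfl
      exacts [(hmem a ha).1, hc]
    · simp only [List.mem_append, List.mem_singleton] at ha hb''
      rcases ha with ha | rfl <;> rcases hb'' with hb'' | rfl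
      exacts [hcom a ha b hb'', (hmem a ha).2.2.symm, (hmem b hb'').2.2, Commute.refl _]
    · rw [List.prod_append, List.prod_singleton, ← hprod]
      exact congrArg Subtype.val q.symm

end Cfsg.Agent.H93
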