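import Cfsg.Agent.H93.Count23G
import Cfsg.Agent.H93.Members
import Cfsg.Agent.H93.Indep
import Cfsg.Agent.H93.FixTools

/-!
Involutions of groups of type M(23): each is the product of at most three pairwise commuting
members, so the centraliser permutes a set of at most three members.
-/

set_option autoImplicit false

namespace Cfsg.Agent.H93

namespace M23Data

variable {G : Type*} [Group G] {D : Set G} (h : M23Data D)

include h

/-- four commuting members have the product of three, each commuting with what commutes with the four -/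
theorem four_three {x y u v : G} (hnd : [x, y, u, v].Nodup) (hmem : ∀ a ∈ [x, y, u, v], a ∈ D)
    (hcom : ∀ a ∈ [x, y, u, v], ∀ b ∈ [x, y, u, v], Commute a b) :
    ∃ p q r : G, (∀ a ∈ [p, q, r], a ∈ D) ∧ (∀ a ∈ [p, q, r], ∀ b ∈ [p, q, r], Commute a b) ∧
      p * q * r = x * y * u * v ∧
      ∀ w ∈ D, w ≠ x → w ≠ y → (∀ a ∈ [x, y, u, v], Commute w a) → ∀ a ∈ [p, q, r], Commute w a := by
  classical
  have htt := h.core.tt
  simp only [List.nodup_cons, List.mem_cons, List.not_mem_nil, or_false, not_or, List.nodup_nil,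
    and_true, not_false_eq_true] at hnd
  obtain ⟨⟨hxy, hxu, hxv⟩, ⟨hyu, hyv⟩, huv⟩ := hnd
  have hx := hmem x (by simp)
  have hy : y ∈ nb D x := ⟨hmem y (by simp), Ne.symm hxy, hcom x (by simp) y (by simp)⟩
  obtain ⟨F, iF, iFF, hF, sp, hsp⟩ := h.pair_space hx hy
  have mu : u ∈ nb D x ∩ nb D y := ⟨⟨hmem u (by simp), Ne.symm hxu, hcom x (by simp) u (by simp)⟩,
    hmem u (by simp), Ne.symm hyu, hcom y (by simp) u (by simp)⟩
  have mv : v ∈ nb D x ∩ nb D y := ⟨⟨hmem v (by simp), Ne.symm hxv, hcom x (by simp) v (by simp)⟩,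
    hmem v (by simp), Ne.symm hyv, hcom y (by simp) v (by simp)⟩
  obtain ⟨a, ha, ea⟩ := sp.surj u mu
  obtain ⟨b, hb', eb⟩ := sp.surj v mv
  subst ea eb
  have hab : hb a b = 0 := (sp.comm ha hb').mp (hcom _ (by simp) _ (by simp))
  have hba := (hb_eq_zero_comm hF).mp hab
  have hs : ¬ SamePt a b := fun e => huv ((sp.same ha hb').mpr e)
  obtain ⟨w, hw0, hw1, hw⟩ := exists_omega hF
  obtain ⟨-, hprod⟩ := hsp ha hb' hab hs hw0 hw1 hw
  have hpt : ∀ t : F, IsPt (a + t • b) := fun t => isPt_line hF ha hb' hab hs t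
  have h1 : IsPt (a + b) := by simpa using hpt 1
  have horth : ∀ {z}, hb z a = 0 → hb z b = 0 → ∀ t : F, hb z (a + t • b) = 0 := fun za zb t => by
    simp [hb_add_right hF, hb_smul_right, za, zb]
  have oo : ∀ t t' : F, hb (a + t • b) (a + t' • b) = 0 := fun t t' => by
    simp [hb_add_left, hb_add_right hF, hb_smul_left, hb_smul_right, ha.2, hb'.2, hab, hba]
  refine ⟨sp.pt (a + b), sp.pt (a + w • b), sp.pt (a + w ^ 2 • b), ?_, ?_, ?_, ?_⟩
  · intro c hc
    simp only [List.mem_cons, List.not_mem_nil, or_false] at hc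
    rcases hc with rfl | rfl | rfl
    exacts [(sp.mem h1).1.1, (sp.mem (hpt w)).1.1, (sp.mem (hpt (w ^ 2))).1.1]
  · have e1 : a + b = a + (1 : F) • b := by rw [one_smul]
    intro c hc c' hc'
    simp only [List.mem_cons, List.not_mem_nil, or_false, e1] at hc hc'
    rcases hc with rfl | rfl | rfl <;> rcases hc' with rfl | rfl | rfl <;>
      exact (sp.comm (hpt _) (hpt _)).mpr (oo _ _)
  · simp only [List.prod_cons, List.prod_nil, mul_one] at hprod
    set U := sp.pt a
    set V := sp.pt b
    set R := sp.pt (a + b) * sp.pt (a + w • b) * sp.pt (a + w ^ 2 • b) with hR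
    have hcUV : Commute (U * V) R := by
      have cc : ∀ {z}, IsPt z → hb z a = 0 → hb z b = 0 → Commute (sp.pt z) R := fun hz za zb =>
        ((((sp.comm hz h1).mpr (by simpa using horth za zb 1)).mul_right
          ((sp.comm hz (hpt w)).mpr (horth za zb w))).mul_right
            ((sp.comm hz (hpt (w ^ 2))).mpr (horth za zb (w ^ 2))))
      exact (cc ha ha.2 hab).mul_left (cc hb' hba hb'.2)
    have hsq : U * V * (U * V) = 1 := by
      have := prod_sq_one htt [U, V] (fun c hc => by
        simp only [List.mem_cons, List.not_mem_nil, or_false] at hc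
        rcases hc with rfl | rfl <;> exact hmem _ (by simp))
        (fun c hc c' hc' => by
          simp only [List.mem_cons, List.not_mem_nil, or_false] at hc hc'
          rcases hc with rfl | rfl <;> rcases hc' with rfl | rfl <;> exact hcom _ (by simp) _ (by simp))
      simpa [mul_assoc] using this
    calc R = R * (U * V * (U * V)) := by rw [hsq, mul_one]
      _ = (R * (U * V)) * (U * V) := by group
      _ = (U * V * R) * (U * V) := by rw [hcUV.eq]
      _ = (x * y) * (U * V) := by rw [← hprod, hR]; simp only [mul_assoc]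
      _ = _ := by simp only [mul_assoc]
  · intro z hz hzx hzy hzc c hc
    have mz : z ∈ nb D x ∩ nb D y := ⟨⟨hz, hzx, (hzc x (by simp)).symm⟩, hz, hzy, (hzc y (by simp)).symm⟩
    obtain ⟨z', hz', rfl⟩ := sp.surj z mz
    have za := (sp.comm hz' ha).mp (hzc _ (by simp))
    have zb := (sp.comm hz' hb').mp (hzc _ (by simp))
    simp only [List.mem_cons, List.not_mem_nil, or_false] at hc
    rcases hc with rfl | rfl | rfl
    · exact (sp.comm hz' h1).mpr (by simpa using horth za zb 1)
    · exact (sp.comm hz' (hpt w)).mpr (horth za zb w)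
    · exact (sp.comm hz' (hpt (w ^ 2))).mpr (horth za zb (w ^ 2))

/-- a product of commuting members is a product of at most three distinct ones -/
theorem shorten : ∀ (n : ℕ) (l : List G), l.length ≤ n → (∀ a ∈ l, a ∈ D) →
    (∀ a ∈ l, ∀ b ∈ l, Commute a b) → ∃ l' : List G, l'.Nodup ∧ l'.length ≤ 3 ∧ (∀ a ∈ l', a ∈ D) ∧
      (∀ a ∈ l', ∀ b ∈ l', Commute a b) ∧ l'.prod = l.prod := by
  classical
  intro n
  induction n with
  | zero =>
    intro l hl _ _
    obtain rfl := List.length_eq_zero_iff.mp (Nat.le_zero.mp hl)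
    exact ⟨[], by simp, by simp, by simp, by simp, rfl⟩
  | succ n ih =>
    intro l hl hmem hcom
    by_cases hnd : l.Nodup
    · by_cases h4 : l.length ≤ 3
      · exact ⟨l, hnd, h4, hmem, hcom, rfl⟩
      match l, h4, hl, hnd, hmem, hcom with
      | [], h4, _, _, _, _ => simp at h4
      | [_], h4, _, _, _, _ => simp at h4
      | [_, _], h4, _, _, _, _ => simp at h4
      | [_, _, _], h4, _, _, _, _ => simp at h4
      | x :: y :: u :: v :: rest, _, hl, hnd, hmem, hcom =>
        have hsub : ∀ a ∈ [x, y, u, v], a ∈ x :: y :: u :: v :: rest := fun a ha => by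
          simp only [List.mem_cons, List.not_mem_nil, or_false] at ha ⊢; tauto
        obtain ⟨p, q, r, pm, pc, pe, pw⟩ := h.four_three
          (hnd.sublist (l₁ := [x, y, u, v]) (List.Sublist.cons_cons x (List.Sublist.cons_cons y
            (List.Sublist.cons_cons u (List.Sublist.cons_cons v (List.nil_sublist _))))))
          (fun a ha => hmem a (hsub a ha)) (fun a ha b hb' => hcom a (hsub a ha) b (hsub b hb'))
        have hrest : ∀ w ∈ rest, w ∈ x :: y :: u :: v :: rest := fun w hw => by simp [hw]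
        have hcw : ∀ w ∈ rest, ∀ a ∈ [p, q, r], Commute w a := fun w hw => by
          simp only [List.nodup_cons, List.mem_cons, not_or] at hnd
          exact pw w (hmem w (hrest w hw)) (fun e => hnd.1.2.2.2 (e ▸ hw)) (fun e => hnd.2.1.2.2 (e ▸ hw))
            (fun a ha => hcom w (hrest w hw) a (hsub a ha))
        obtain ⟨l', a1, a2, a3, a4, a5⟩ := ih (p :: q :: r :: rest)
          (by simp only [List.length_cons] at hl ⊢; omega)
          (fun a ha => by
            have : a ∈ [p, q, r] ∨ a ∈ rest := by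
              simp only [List.mem_cons, List.not_mem_nil, or_false] at ha ⊢; tauto
            exact this.elim (pm a) fun q' => hmem a (hrest a q'))
          (fun a ha b hb' => by
            have split : ∀ c ∈ p :: q :: r :: rest, c ∈ [p, q, r] ∨ c ∈ rest := fun c hc => by
              simp only [List.mem_cons, List.not_mem_nil, or_false] at hc ⊢; tauto
            rcases split a ha with a' | a' <;> rcases split b hb' with b' | b'
            exacts [pc a a' b b', (hcw b b' a a').symm, hcw a a' b b',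
              hcom a (hrest a a') b (hrest b b')])
        refine ⟨l', a1, a2, a3, a4, ?_⟩
        rw [a5]
        simp only [List.prod_cons]
        rw [show p * (q * (r * rest.prod)) = p * q * r * rest.prod by group, pe]
        group
    · obtain ⟨a, ha⟩ := List.exists_duplicate_iff_not_nodup.mpr hnd
      have ha2 := List.duplicate_iff_two_le_count.mp ha
      have hal := ha.mem
      have hal' : a ∈ l.erase a := by
        rw [← List.count_pos_iff, List.count_erase_self]; omega
      have hs : ∀ c ∈ (l.erase a).erase a, c ∈ l := fun c hc =>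
        List.mem_of_mem_erase (List.mem_of_mem_erase hc)
      obtain ⟨l', a1, a2, a3, a4, a5⟩ := ih ((l.erase a).erase a)
        (by rw [List.length_erase_of_mem hal', List.length_erase_of_mem hal]; omega)
        (fun c hc => hmem c (hs c hc)) (fun c hc c' hc' => hcom c (hs c hc) c' (hs c' hc'))
      refine ⟨l', a1, a2, a3, a4, ?_⟩
      rw [a5, prod_eq_cons_erase hcom hal, prod_eq_cons_erase
        (fun c hc c' hc' => hcom c (List.mem_of_mem_erase hc) c' (List.mem_of_mem_erase hc')) hal',
        ← mul_assoc, h.core.tt.sq a (hmem a hal), one_mul]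

/-- an involution commuting with a member is a product of commuting members -/
theorem invol_list {t d : G} (ht : t * t = 1) (hd : d ∈ D) (htd : t ∈ nbSub D d) :
    ∃ l : List G, (∀ a ∈ l, a ∈ D) ∧ (∀ a ∈ l, ∀ b ∈ l, Commute a b) ∧ l.prod = t := by
  classical
  obtain ⟨F, iF, iFF, hM, -, K, iK, iKF, hK, hext⟩ := h.res d hd
  set tb : Residue D d := QuotientGroup.mk (⟨t, htd⟩ : ↥(nbSub D d)) with htb
  have htb2 : tb * tb = 1 := by
    rw [htb, ← QuotientGroup.mk_mul, show (⟨t, htd⟩ : ↥(nbSub D d)) * ⟨t, htd⟩ = 1 from Subtype.ext ht,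
      QuotientGroup.mk_one]
  obtain ⟨l, lm, lc, lp⟩ := hM.invol_prod hK hext htb2
  choose f hf ef using fun e (he : e ∈ l) => rimg_surj (lm e he)
  let m := l.attach.map fun e => f e.1 e.2
  have hm : ∀ a ∈ m, a ∈ nb D d := by
    intro a ha
    obtain ⟨e, -, rfl⟩ := List.mem_map.mp ha
    exact hf _ _
  have hc : ∀ a ∈ m, ∀ b ∈ m, Commute a b := by
    intro a ha b hb'
    obtain ⟨e, -, rfl⟩ := List.mem_map.mp ha
    obtain ⟨e', -, rfl⟩ := List.mem_map.mp hb'
    refine (h.core.rimg_comm (hf _ _) (hf _ _)).mp ?_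
    rw [ef, ef]
    exact lc _ e.2 _ e'.2
  obtain ⟨hpm, epm⟩ := rimg_prod hm
  have emap : (m.map (rimg D d)).prod = tb := by
    rw [List.map_map, show (rimg D d ∘ fun e : {e // e ∈ l} => f e.1 e.2) = fun e => e.1 from
      funext fun e => ef e.1 e.2, List.attach_map_subtype_val, lp]
  rw [emap, htb] at epm
  have hk : (QuotientGroup.mk ((⟨m.prod, hpm⟩ : ↥(nbSub D d))⁻¹ * ⟨t, htd⟩) : Residue D d) = 1 := by
    rw [QuotientGroup.mk_mul, QuotientGroup.mk_inv, epm, inv_mul_cancel]
  rcases h.center_two hd (mul_mem (inv_mem hpm) htd) hk with e | e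
  · exact ⟨m, fun a ha => (hm a ha).1, hc, inv_mul_eq_one.mp e⟩
  · refine ⟨m ++ [d], fun a ha => ?_, fun a ha b hb' => ?_, ?_⟩
    · rcases List.mem_append.mp ha with q | q
      exacts [(hm a q).1, (List.mem_singleton.mp q).symm ▸ hd]
    · rcases List.mem_append.mp ha with q | q <;> rcases List.mem_append.mp hb' with q' | q'
      · exact hc a q b q'
      · exact (List.mem_singleton.mp q').symm ▸ (hm a q).2.2.symm
      · exact (List.mem_singleton.mp q).symm ▸ (hm b q').2.2
      · rw [List.mem_singleton.mp q, List.mem_singleton.mp q']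
    · rw [List.prod_append, List.prod_singleton]
      exact (inv_mul_eq_iff_eq_mul.mp e).symm

/-- the few members attached to an involution -/
theorem invol_set [Finite G] (hgeo : Geo23 D) {t : G} (ht : t * t = 1) (ht1 : t ≠ 1) :
    ∃ Φ : Set G, Φ ⊆ D ∧ 1 ≤ Φ.ncard ∧ Φ.ncard ≤ 3 ∧ (∀ a ∈ Φ, ∀ b ∈ Φ, Commute a b) ∧
      ∀ g : G, Commute g t → ∀ a ∈ Φ, g * a * g⁻¹ ∈ Φ := by
  classical
  haveI : Fact (Nat.Prime 2) := ⟨Nat.prime_two⟩
  obtain ⟨a0, ha0⟩ := h.nonempty
  have hord : orderOf t = 2 := orderOf_eq_prime (by rw [pow_two]; exact ht) ht1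
  have hp : IsPGroup 2 ↥(Subgroup.zpowers t) := IsPGroup.of_card (n := 1) (by
    rw [Nat.card_zpowers, hord, pow_one])
  have hm := fix_modEq hp D (fun z _ y hy => h.core.tt.conj_mem z y hy)
  rw [hgeo.card_members ha0] at hm
  obtain ⟨d, hd⟩ : (D ∩ (Subgroup.centralizer (Subgroup.zpowers t : Set G) : Set G)).Nonempty := by
    refine Set.nonempty_iff_ne_empty.mpr fun e => ?_
    rw [e, Set.ncard_empty] at hm
    exact absurd hm (by decide)
  obtain ⟨hdD, hdt⟩ := mem_fix.mp hd
  have htd : t ∈ nbSub D d := by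
    rw [← hgeo.cent d hdD]
    exact Subgroup.mem_centralizer_singleton_iff.mpr (hdt t (Subgroup.mem_zpowers t)).eq
  obtain ⟨l, lm, lc, lp⟩ := h.invol_list ht hdD htd
  obtain ⟨l', nd, len, mem, com, pr⟩ := h.shorten l.length l le_rfl lm lc
  rw [lp] at pr
  have hpos : l' ≠ [] := fun e => ht1 (by rw [← pr, e, List.prod_nil])
  refine ⟨{a | a ∈ l'}, fun a ha => mem a ha, ?_, ?_, com, fun g hg a ha => ?_⟩
  · rw [show {a | a ∈ l'} = (l'.toFinset : Set G) by ext; simp, Set.ncard_coe_finset,
      List.toFinset_card_of_nodup nd]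
    exact List.length_pos_of_ne_nil hpos
  · rwa [show {a | a ∈ l'} = (l'.toFinset : Set G) by ext; simp, Set.ncard_coe_finset,
      List.toFinset_card_of_nodup nd]
  · set σ : G →* G := (MulAut.conj g).toMonoidHom
    have key := unique_factor h.core.tt h.ind l'.length len t (l'.map σ) l'
      ⟨nd.map (MulAut.conj g).injective, List.length_map _, fun c hc => by
        obtain ⟨c', hc', rfl⟩ := List.mem_map.mp hc
        exact h.core.tt.conj_mem g c' (mem c' hc'), fun c hc c' hc' => by
        obtain ⟨e, he, rfl⟩ := List.mem_map.mp hc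
        obtain ⟨e', he', rfl⟩ := List.mem_map.mp hc'
        exact (com e he e' he').map σ, by
        rw [← map_list_prod, pr]
        exact mul_inv_eq_iff_eq_mul.mpr hg.eq⟩
      ⟨nd, rfl, mem, com, pr⟩
    exact (key _).mp (List.mem_map.mpr ⟨a, ha, rfl⟩)

end M23Data

end Cfsg.Agent.H93
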