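import Cfsg.Agent.H93.Members

/-!
In a group of type M(22) seven commuting members multiply to one; hence in a central extension by a
group of order two every involution is the image of an involution.
-/

set_option autoImplicit false

namespace Cfsg.Agent.H93

variable {G : Type*} [Group G] {D : Set G} {F : Type*} [Field F] [Fintype F]

theorem prod_sq_one_of {C : Type*} [Group C] {l : List C} (hsq : ∀ a ∈ l, a * a = 1)
    (hcom : ∀ a ∈ l, ∀ b ∈ l, Commute a b) : l.prod * l.prod = 1 := by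
  induction l with
  | nil => simp
  | cons a l ih =>
    have hc : Commute a l.prod := Commute.list_prod_right _ _ fun b hb =>
      hcom a List.mem_cons_self b (List.mem_cons_of_mem _ hb)
    rw [List.prod_cons]
    calc a * l.prod * (a * l.prod) = a * (l.prod * a) * l.prod := by group
      _ = (a * a) * (l.prod * l.prod) := by rw [← hc.eq]; group
      _ = 1 := by
        rw [hsq a List.mem_cons_self, ih (fun b hb => hsq b (List.mem_cons_of_mem _ hb))
          (fun b hb c hc => hcom b (List.mem_cons_of_mem _ hb) c (List.mem_cons_of_mem _ hc)), one_mul]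

/-- seven pairwise commuting neighbours of some member with product one -/
theorem M22Data.seven (h : M22Data D F) :
    ∃ w ∈ D, ∃ l : List G, l.length = 7 ∧ (∀ a ∈ l, a ∈ nb D w) ∧
      (∀ a ∈ l, ∀ b ∈ l, Commute a b) ∧ l.prod = 1 := by
  classical
  have hF := h.hF
  have htt := h.core.tt
  obtain ⟨c, hc⟩ := h.nonempty
  obtain ⟨sp⟩ := h.spaces c hc
  obtain ⟨b0, hb0⟩ := h.core.edge c hc
  obtain ⟨P, hP, -⟩ := sp.surj b0 hb0
  obtain ⟨e₁, f₁, he1, hf1, pe, pf, ef, -⟩ := exists_hyperbolic hF hP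
  obtain ⟨e₂, f₂, fr⟩ := exists_frame hF hP he1.2 hf1.2 ef pe pf
  let v : F → F → F → Vec F := fun a b d => a • P + b • e₁ + d • e₂
  have vval : ∀ a b d, v a b d = 0 → a = 0 ∧ b = 0 ∧ d = 0 := by
    intro a b d e
    obtain ⟨-, -, v2, -, v4⟩ := fr.val hF a b 0 d 0
    have e' : a • P + b • e₁ + (0 : F) • f₁ + d • e₂ + (0 : F) • f₂ = 0 := by
      simpa [v] using e
    rw [e', hb_zero_left] at v2 v4
    refine ⟨?_, v2.symm, v4.symm⟩
    simp only [v, ← v2, ← v4, zero_smul, add_zero] at e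
    exact (smul_eq_zero.mp e).resolve_right hP.1
  have orth : ∀ a b d a' b' d', hb (v a b d) (v a' b' d') = 0 := fun a b d a' b' d' =>
    hb_comb3 hF hP.2 fr.e11 fr.e22 fr.pe1 fr.pe2 fr.ee a b d a' b' d'
  have pts : ∀ a b d, (a ≠ 0 ∨ b ≠ 0 ∨ d ≠ 0) → IsPt (v a b d) := fun a b d hne =>
    ⟨fun e => by obtain ⟨x, y, z⟩ := vval a b d e; tauto, orth _ _ _ _ _ _⟩
  have ne : ∀ a b d a' b' d', IsPt (v a b d) → IsPt (v a' b' d') →
      (∀ t : F, a' = t * a → b' = t * b → d' = t * d → False) →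
      sp.pt (v a b d) ≠ sp.pt (v a' b' d') := by
    intro a b d a' b' d' hp hp' hno e
    obtain ⟨t, ht⟩ := (sp.same hp hp').mp e
    have hz : v (a' + t * a) (b' + t * b) (d' + t * d) = 0 := by
      have : v (a' + t * a) (b' + t * b) (d' + t * d) = v a' b' d' + t • v a b d := by
        simp only [v]; module
      rw [this, ← ht, vec_add_self hF]
    obtain ⟨x, y, z⟩ := vval _ _ _ hz
    exact hno t ((add_eq_zero_iff_eq' hF).mp x) ((add_eq_zero_iff_eq' hF).mp y)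
      ((add_eq_zero_iff_eq' hF).mp z)
  have com : ∀ {a b d a' b' d'}, IsPt (v a b d) → IsPt (v a' b' d') →
      Commute (sp.pt (v a b d)) (sp.pt (v a' b' d')) := fun hp hp' =>
    (sp.comm hp hp').mpr (orth _ _ _ _ _ _)
  have q1 := pts 1 0 0 (Or.inl one_ne_zero)
  have q2 := pts 0 1 0 (Or.inr (Or.inl one_ne_zero))
  have q3 := pts 0 0 1 (Or.inr (Or.inr one_ne_zero))
  have qw := pts 1 1 0 (Or.inl one_ne_zero)
  set m1 := sp.pt (v 1 0 0)
  set m2 := sp.pt (v 0 1 0)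
  set m3 := sp.pt (v 0 0 1)
  set w := sp.pt (v 1 1 0)
  have mD : ∀ {a b d}, IsPt (v a b d) → sp.pt (v a b d) ∈ D := fun hp => (sp.mem hp).1
  have i1 : (m1 * m2 * m3)⁻¹ = m3 * m2 * m1 := by
    simp [mul_inv_rev, htt.inv_eq (mD q1), htt.inv_eq (mD q2), htt.inv_eq (mD q3), mul_assoc, m1,
      m2, m3]
  -- for a primitive cube root
  let T : F → G := fun o => sp.pt (v 1 1 o) * sp.pt (v 1 o 1) * sp.pt (v o 1 1)
  have same : ∀ o : F, o ^ 2 + o + 1 = 0 → m1 * m2 * m3 = T o ∨ m1 * m2 * m3 = T o * c := by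
    intro o ho
    have r1 := pts 1 1 o (Or.inl one_ne_zero)
    have r2 := pts 1 o 1 (Or.inl one_ne_zero)
    have r3 := pts o 1 1 (Or.inr (Or.inl one_ne_zero))
    have cT : Commute c (T o) :=
      ((sp.mem r1).2.2.mul_right (sp.mem r2).2.2).mul_right (sp.mem r3).2.2
    have cy : Commute c (m1 * m2 * m3) :=
      ((sp.mem q1).2.2.mul_right (sp.mem q2).2.2).mul_right (sp.mem q3).2.2
    have iT : (T o)⁻¹ = sp.pt (v o 1 1) * sp.pt (v 1 o 1) * sp.pt (v 1 1 o) := by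
      simp [T, mul_inv_rev, htt.inv_eq (mD r1), htt.inv_eq (mD r2), htt.inv_eq (mD r3), mul_assoc]
    rcases h.kernel_nb (g := (T o)⁻¹ * (m1 * m2 * m3)) hc
      ((cT.inv_right.mul_right cy).symm) (fun t ht => by
        obtain ⟨X, hX, rfl⟩ := sp.surj t ht
        have e1 := (sp.conj_three hF q1 q2 q3 hX (orth _ _ _ _ _ _) (orth _ _ _ _ _ _)
          (orth _ _ _ _ _ _)).2
        have e2 := (sp.conj_three hF r1 r2 r3 hX (orth _ _ _ _ _ _) (orth _ _ _ _ _ _)
          (orth _ _ _ _ _ _)).2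
        have hid : X + hb X (v 0 0 1) • v 0 0 1 + hb X (v 0 1 0) • v 0 1 0 +
            hb X (v 1 0 0) • v 1 0 0 =
          X + hb X (v o 1 1) • v o 1 1 + hb X (v 1 o 1) • v 1 o 1 + hb X (v 1 1 o) • v 1 1 o := by
          funext i
          simp only [v, hb_add_right hF, hb_smul_right, Pi.add_apply, Pi.smul_apply, smul_eq_mul]
          have h2 := two_zero hF
          have h4 := pow_four hF o
          grind
        rw [hid, ← e2] at e1
        have e : m1 * m2 * m3 * sp.pt X * (m1 * m2 * m3)⁻¹ = T o * sp.pt X * (T o)⁻¹ := by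
          rw [i1, iT]; exact e1
        show (T o)⁻¹ * (m1 * m2 * m3) * sp.pt X = sp.pt X * ((T o)⁻¹ * (m1 * m2 * m3))
        calc (T o)⁻¹ * (m1 * m2 * m3) * sp.pt X
            = (T o)⁻¹ * (m1 * m2 * m3 * sp.pt X * (m1 * m2 * m3)⁻¹) * (m1 * m2 * m3) := by group
          _ = _ := by rw [e]; group) with q | q
    · exact Or.inl (inv_mul_eq_one.mp q).symm
    · exact Or.inr (inv_mul_eq_iff_eq_mul.mp q)
  obtain ⟨o, ho0, ho1, ho⟩ := exists_omega hF
  have ho' : (o ^ 2) ^ 2 + o ^ 2 + 1 = 0 := by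
    linear_combination pow_four hF o + ho
  have ho2 : o ^ 2 ≠ 0 := pow_ne_zero _ ho0
  have ho21 : o ^ 2 ≠ 1 := fun q => ho1 (sq_eq_one hF q)
  -- the seven
  have done : ∀ p : F, p ≠ 0 → p ≠ 1 → m1 * m2 * m3 = T p * c →
      ∃ w ∈ D, ∃ l : List G, l.length = 7 ∧ (∀ a ∈ l, a ∈ nb D w) ∧
        (∀ a ∈ l, ∀ b ∈ l, Commute a b) ∧ l.prod = 1 := by
    intro p hp0 hp1 e
    have r1 := pts 1 1 p (Or.inl one_ne_zero)
    have r2 := pts 1 p 1 (Or.inl one_ne_zero)
    have r3 := pts p 1 1 (Or.inr (Or.inl one_ne_zero))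
    refine ⟨w, mD qw, [m3, m2, m1, sp.pt (v 1 1 p), sp.pt (v 1 p 1), sp.pt (v p 1 1), c], rfl,
      ?_, ?_, ?_⟩
    · intro a ha
      simp only [List.mem_cons, List.not_mem_nil, or_false] at ha
      rcases ha with rfl | rfl | rfl | rfl | rfl | rfl | rfl
      · exact ⟨mD q3, ne _ _ _ _ _ _ q3 qw (fun t h1 _ _ => by simp at h1), com qw q3⟩
      · exact ⟨mD q2, ne _ _ _ _ _ _ q2 qw (fun t h1 _ _ => by simp at h1), com qw q2⟩
      · exact ⟨mD q1, ne _ _ _ _ _ _ q1 qw (fun t _ h1 _ => by simp at h1), com qw q1⟩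
      · exact ⟨mD r1, (ne _ _ _ _ _ _ qw r1 (fun t _ _ h1 => by simp [hp0] at h1)).symm, com qw r1⟩
      · exact ⟨mD r2, (ne _ _ _ _ _ _ qw r2 (fun t _ _ h1 => by simp at h1)).symm, com qw r2⟩
      · exact ⟨mD r3, (ne _ _ _ _ _ _ qw r3 (fun t _ _ h1 => by simp at h1)).symm, com qw r3⟩
      · exact nb_symm hc (sp.mem qw)
    · have onc : ∀ a ∈ [m3, m2, m1, sp.pt (v 1 1 p), sp.pt (v 1 p 1), sp.pt (v p 1 1), c],
          a = c ∨ ∃ x y z, IsPt (v x y z) ∧ a = sp.pt (v x y z) := by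
        intro a ha
        simp only [List.mem_cons, List.not_mem_nil, or_false] at ha
        rcases ha with rfl | rfl | rfl | rfl | rfl | rfl | rfl
        exacts [Or.inr ⟨_, _, _, q3, rfl⟩, Or.inr ⟨_, _, _, q2, rfl⟩, Or.inr ⟨_, _, _, q1, rfl⟩,
          Or.inr ⟨_, _, _, r1, rfl⟩, Or.inr ⟨_, _, _, r2, rfl⟩, Or.inr ⟨_, _, _, r3, rfl⟩,
          Or.inl rfl]
      intro a ha b hb'
      rcases onc a ha with rfl | ⟨x, y, z, hp, rfl⟩ <;>
        rcases onc b hb' with rfl | ⟨x', y', z', hp', rfl⟩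
      exacts [Commute.refl _, (sp.mem hp').2.2, (sp.mem hp).2.2.symm, com hp hp']
    · simp only [List.prod_cons, List.prod_nil, mul_one]
      calc _ = (m3 * m2 * m1) * (T p * c) := by simp only [T]; group
        _ = 1 := by rw [← e, ← i1, inv_mul_cancel]
  rcases same o ho with e1 | e1
  swap
  · exact done o ho0 ho1 e1
  rcases same _ ho' with e2 | e2
  swap
  · exact done _ ho2 ho21 e2
  -- both products cannot be the same
  exfalso
  have ha : m1 ∈ D := mD q1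
  obtain ⟨sa⟩ := h.spaces m1 ha
  have n12 : m1 ≠ m2 := ne _ _ _ _ _ _ q1 q2 (fun t _ h1 _ => by simp at h1)
  have n13 : m1 ≠ m3 := ne _ _ _ _ _ _ q1 q3 (fun t _ _ h1 => by simp at h1)
  have n23 : m2 ≠ m3 := ne _ _ _ _ _ _ q2 q3 (fun t _ _ h1 => by simp at h1)
  obtain ⟨p, q, r, -, -, -, -, -, -, hup, -⟩ := sa.exists_line hF (fun y hy => htt.sq y hy.1)
    (⟨mD q2, n12.symm, com q1 q2⟩ : m2 ∈ nb D m1) (⟨mD q3, n13.symm, com q1 q3⟩ : m3 ∈ nb D m1)
    n23 (com q2 q3)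
  have inline : ∀ x : F, x ≠ 0 → x ≠ 1 → m1 * m2 * m3 = T x →
      ∀ a ∈ [sp.pt (v 1 1 x), sp.pt (v 1 x 1), sp.pt (v x 1 1)], a ∈ [p, q, r] := by
    intro x hx0 hx1 e a ha'
    have r1 := pts 1 1 x (Or.inl one_ne_zero)
    have r2 := pts 1 x 1 (Or.inl one_ne_zero)
    have r3 := pts x 1 1 (Or.inr (Or.inl one_ne_zero))
    have d12 : sp.pt (v 1 1 x) ≠ sp.pt (v 1 x 1) :=
      ne _ _ _ _ _ _ r1 r2 (fun t h1 h2 _ => hx1 (by rw [h2, ← h1]))
    have d13 : sp.pt (v 1 1 x) ≠ sp.pt (v x 1 1) :=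
      ne _ _ _ _ _ _ r1 r3 (fun t h1 h2 _ => hx1 (by rw [h1, ← h2]))
    have d23 : sp.pt (v 1 x 1) ≠ sp.pt (v x 1 1) :=
      ne _ _ _ _ _ _ r2 r3 (fun t h1 h2 _ => hx1 (sq_eq_one hF (by
        rw [mul_one] at h1; rw [pow_two, ← h1] at *; exact h2.symm)))
    obtain ⟨A, B, E, hA, rfl, hAB, hBne⟩ : ∃ A B E, IsPt (v A B E) ∧ a = sp.pt (v A B E) ∧
        A ≠ 0 ∧ B ≠ 0 ∧ E ≠ 0 := by
      simp only [List.mem_cons, List.not_mem_nil, or_false] at ha'
      rcases ha' with rfl | rfl | rfl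
      exacts [⟨_, _, _, r1, rfl, one_ne_zero, one_ne_zero, hx0⟩,
        ⟨_, _, _, r2, rfl, one_ne_zero, hx0, one_ne_zero⟩,
        ⟨_, _, _, r3, rfl, hx0, one_ne_zero, one_ne_zero⟩]
    have na : sp.pt (v A B E) ≠ m1 :=
      (ne _ _ _ _ _ _ q1 hA (fun t _ h1 _ => hBne.1 (by simpa using h1))).symm
    have nm2 : sp.pt (v A B E) ≠ m2 :=
      (ne _ _ _ _ _ _ q2 hA (fun t h1 _ _ => hAB (by simpa using h1))).symm
    have nm3 : sp.pt (v A B E) ≠ m3 :=
      (ne _ _ _ _ _ _ q3 hA (fun t h1 _ _ => hAB (by simpa using h1))).symm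
    have := hup _ (⟨mD hA, na, com q1 hA⟩ : sp.pt (v A B E) ∈ nb D m1) fun z hz z2 z3 => by
      have hzy : Commute z (T x) := e ▸ (hz.2.2.symm.mul_right z2).mul_right z3
      obtain ⟨c1, c2, c3⟩ := htt.commute_of_commute_mul₃ hz.1 (mD r1) (mD r2) (mD r3) d12 d13 d23
        (com r1 r2) (com r1 r3) (com r2 r3) hzy
      simp only [List.mem_cons, List.not_mem_nil, or_false] at ha'
      rcases ha' with q | q | q <;> rw [q] <;> assumption
    simp only [List.mem_cons, List.not_mem_nil, or_false] at this ⊢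
    rcases this with q | q | q | q | q
    exacts [absurd q nm2, absurd q nm3, Or.inl q, Or.inr (Or.inl q), Or.inr (Or.inr q)]
  have hnd : [sp.pt (v 1 1 o), sp.pt (v 1 o 1), sp.pt (v o 1 1), sp.pt (v 1 1 (o ^ 2))].Nodup := by
    have r1 := pts 1 1 o (Or.inl one_ne_zero)
    have r2 := pts 1 o 1 (Or.inl one_ne_zero)
    have r3 := pts o 1 1 (Or.inr (Or.inl one_ne_zero))
    have r4 := pts 1 1 (o ^ 2) (Or.inl one_ne_zero)
    simp only [List.nodup_cons, List.mem_cons, List.not_mem_nil, or_false, not_or, List.nodup_nil,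
      and_true, not_false_eq_true]
    refine ⟨⟨ne _ _ _ _ _ _ r1 r2 ?_, ne _ _ _ _ _ _ r1 r3 ?_, ne _ _ _ _ _ _ r1 r4 ?_⟩,
      ⟨ne _ _ _ _ _ _ r2 r3 ?_, ne _ _ _ _ _ _ r2 r4 ?_⟩, ne _ _ _ _ _ _ r3 r4 ?_⟩ <;>
      intro t h1 h2 h3
    · exact ho1 (by rw [h2, ← h1])
    · exact ho1 (by rw [h1, ← h2])
    · rw [mul_one] at h1; rw [← h1, one_mul] at h3
      exact ho1 (mul_left_cancel₀ ho0 (by linear_combination h3))
    · rw [mul_one] at h1; rw [← h1] at h2
      exact ho21 (by linear_combination -h2)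
    · rw [mul_one] at h1; rw [← h1, one_mul] at h2; exact ho1 h2.symm
    · rw [mul_one] at h2; rw [← h2, one_mul] at h1; exact ho1 h1.symm
  have hsub : [sp.pt (v 1 1 o), sp.pt (v 1 o 1), sp.pt (v o 1 1), sp.pt (v 1 1 (o ^ 2))] ⊆
      [p, q, r] := by
    intro a ha'
    simp only [List.mem_cons, List.not_mem_nil, or_false] at ha'
    rcases ha' with rfl | rfl | rfl | rfl
    exacts [inline o ho0 ho1 e1 _ (by simp), inline o ho0 ho1 e1 _ (by simp),
      inline o ho0 ho1 e1 _ (by simp), inline _ ho2 ho21 e2 _ (by simp)]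
  have := (List.subperm_of_subset hnd hsub).length_le
  simp at this

/-- every member has seven such neighbours -/
theorem M22Data.seven_at (h : M22Data D F) {a : G} (ha : a ∈ D) :
    ∃ l : List G, l.length = 7 ∧ (∀ t ∈ l, t ∈ nb D a) ∧
      (∀ s ∈ l, ∀ t ∈ l, Commute s t) ∧ l.prod = 1 := by
  obtain ⟨w, hw, l, h7, hmem, hcom, hprod⟩ := h.seven
  obtain ⟨g, rfl⟩ := isConj_iff.mp (h.core.cls w hw a ha)
  refine ⟨l.map (MulAut.conj g), by simpa using h7, fun t ht => ?_, fun s hs t ht => ?_, ?_⟩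
  · obtain ⟨u, hu, rfl⟩ := List.mem_map.mp ht
    exact h.core.tt.nb_conj g (hmem u hu)
  · obtain ⟨u, hu, rfl⟩ := List.mem_map.mp hs
    obtain ⟨u', hu', rfl⟩ := List.mem_map.mp ht
    exact (hcom u hu u' hu').map (MulAut.conj g).toMonoidHom
  · rw [← map_list_prod, hprod, map_one]

variable {K : Type*} [Field K] [Fintype K] (hK : Fintype.card K = 4)

include hK

/-- involutions lift to involutions in central extensions by a group of order two -/
theorem M22Data.lift_invol (h : M22Data D F)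
    (hext : ∀ c ∈ D, ∃ π : ↥(Subgroup.centralizer ({c} : Set G)) →* Cfsg.PSU 6 K 2,
      TwoExt π ⟨c, mem_cent (Commute.refl c)⟩)
    {C : Type*} [Group C] (ρ : C →* G) (hρ : Function.Surjective ρ) {e : C}
    (hker : ∀ y, ρ y = 1 → y = 1 ∨ y = e) (hee : e * e = 1) (hce : ∀ y, Commute e y)
    {x : G} (hx : x * x = 1) : ∃ y, ρ y = x ∧ y * y = 1 := by
  have htt := h.core.tt
  choose ℓ hℓ using hρ
  have kc : ∀ {y}, ρ y = 1 → ∀ z, Commute y z := fun hy z => by
    rcases hker _ hy with q | q <;> rw [q]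
    exacts [Commute.one_left z, hce z]
  have k2 : ∀ {y}, ρ y = 1 → y * y = 1 := fun hy => by
    rcases hker _ hy with q | q <;> rw [q]
    exacts [one_mul 1, hee]
  have congr1 : ∀ {y y'}, ρ y = ρ y' → ∃ k, ρ k = 1 ∧ y' = y * k := fun {y y'} q =>
    ⟨y⁻¹ * y', by rw [map_mul, map_inv, q, inv_mul_cancel], (mul_inv_cancel_left y y').symm⟩
  have comCongr : ∀ {a a' b b'}, ρ a = ρ a' → ρ b = ρ b' →
      a' * b' * a'⁻¹ * b'⁻¹ = a * b * a⁻¹ * b⁻¹ := by
    intro a a' b b' ea eb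
    obtain ⟨k, hk, rfl⟩ := congr1 ea
    obtain ⟨j, hj, rfl⟩ := congr1 eb
    calc a * k * (b * j) * (a * k)⁻¹ * (b * j)⁻¹
        = a * (k * (b * j) * k⁻¹) * a⁻¹ * j⁻¹ * b⁻¹ := by group
      _ = a * b * (j * a⁻¹ * j⁻¹) * b⁻¹ := by rw [(kc hk (b * j)).eq, mul_inv_cancel_right]; group
      _ = _ := by rw [(kc hj a⁻¹).eq, mul_inv_cancel_right]
  have sqCongr : ∀ {a a'}, ρ a = ρ a' → a' * a' = a * a := by
    intro a a' ea
    obtain ⟨k, hk, rfl⟩ := congr1 ea
    calc a * k * (a * k) = a * (k * a) * k := by group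
      _ = a * (a * k) * k := by rw [(kc hk a).eq]
      _ = a * a * (k * k) := by group
      _ = a * a := by rw [k2 hk, mul_one]
  let val : G → G → C := fun a b => ℓ a * ℓ b * (ℓ a)⁻¹ * (ℓ b)⁻¹
  have val_ker : ∀ {a b}, Commute a b → ρ (val a b) = 1 := fun {a b} hab => by
    simp only [val, map_mul, map_inv, hℓ]
    rw [hab.eq]; group
  have val_conj : ∀ {a b} (g : G), Commute a b →
      val (g * a * g⁻¹) (g * b * g⁻¹) = val a b := by
    intro a b g hab
    show ℓ (g * a * g⁻¹) * ℓ (g * b * g⁻¹) * (ℓ (g * a * g⁻¹))⁻¹ * (ℓ (g * b * g⁻¹))⁻¹ = _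
    rw [comCongr (a := ℓ g * ℓ a * (ℓ g)⁻¹) (b := ℓ g * ℓ b * (ℓ g)⁻¹) (by simp [hℓ]) (by simp [hℓ]),
      show ℓ g * ℓ a * (ℓ g)⁻¹ * (ℓ g * ℓ b * (ℓ g)⁻¹) * (ℓ g * ℓ a * (ℓ g)⁻¹)⁻¹ *
        (ℓ g * ℓ b * (ℓ g)⁻¹)⁻¹ = ℓ g * val a b * (ℓ g)⁻¹ by simp only [val]; group,
      ← (kc (val_ker hab) (ℓ g)).eq, mul_inv_cancel_right]
  -- lifts of commuting members commute
  have one_near : ∀ a ∈ D, ∀ b ∈ nb D a, Commute (ℓ a) (ℓ b) := by
    intro a ha b hb'
    set s := val a b with hs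
    have const : ∀ t ∈ nb D a, val a t = s := by
      intro t ht
      obtain ⟨k, k1, k2, -⟩ := exists_conj_nb h.core hb' ht ha (h.sep a ha)
      have := val_conj k hb'.2.2
      rwa [k1, k2] at this
    obtain ⟨l, h7, hmem, -, hprod⟩ := h.seven_at ha
    have hzp : ρ (l.map ℓ).prod = 1 := by
      rw [map_list_prod, List.map_map, show (ρ ∘ ℓ) = id from funext hℓ, List.map_id, hprod]
    have hs1 : ρ s = 1 := val_ker hb'.2.2
    have move : ∀ m : List G, (∀ t ∈ m, t ∈ nb D a) →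
        ℓ a * (m.map ℓ).prod * (ℓ a)⁻¹ = s ^ m.length * (m.map ℓ).prod := by
      intro m
      induction m with
      | nil => intro _; simp
      | cons t m ih =>
        intro hm
        have e1 : ℓ a * ℓ t * (ℓ a)⁻¹ = s * ℓ t := by
          rw [← const t (hm t List.mem_cons_self)]; simp only [val]; group
        rw [List.map_cons, List.prod_cons, List.length_cons, pow_succ']
        calc ℓ a * (ℓ t * (m.map ℓ).prod) * (ℓ a)⁻¹
            = (ℓ a * ℓ t * (ℓ a)⁻¹) * (ℓ a * (m.map ℓ).prod * (ℓ a)⁻¹) := by group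
          _ = s * (ℓ t * s ^ m.length) * (m.map ℓ).prod := by
              rw [e1, ih fun x hx => hm x (List.mem_cons_of_mem _ hx)]; group
          _ = _ := by rw [← ((kc hs1 (ℓ t)).pow_left m.length).eq]; group
    have := move l hmem
    rw [(kc hzp (ℓ a)).symm.eq, mul_inv_cancel_right, h7] at this
    have h1 : s ^ 7 = 1 := mul_eq_right.mp this.symm
    rw [show 7 = 2 * 3 + 1 from rfl, pow_succ, pow_mul, pow_two, k2 hs1, one_pow, one_mul] at h1
    show ℓ a * ℓ b = ℓ b * ℓ a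
    exact mul_inv_eq_iff_eq_mul.mp (mul_inv_eq_one.mp h1)
  have hcom : ∀ a ∈ D, ∀ b ∈ D, Commute a b → Commute (ℓ a) (ℓ b) := by
    intro a ha b hb' hab
    by_cases q : b = a
    · rw [q]
    · exact one_near a ha b ⟨hb', q, hab⟩
  -- lifts of members are involutions
  have sq_ker : ∀ a ∈ D, ρ (ℓ a * ℓ a) = 1 := fun a ha => by rw [map_mul, hℓ, htt.sq a ha]
  have sq_same : ∀ a ∈ D, ∀ b ∈ D, ℓ b * ℓ b = ℓ a * ℓ a := by
    intro a ha b hb'
    obtain ⟨g, rfl⟩ := isConj_iff.mp (h.core.cls a ha b hb')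
    rw [sqCongr (a := ℓ g * ℓ a * (ℓ g)⁻¹) (by simp [hℓ]),
      show ℓ g * ℓ a * (ℓ g)⁻¹ * (ℓ g * ℓ a * (ℓ g)⁻¹) = ℓ g * (ℓ a * ℓ a) * (ℓ g)⁻¹ by group,
      ← (kc (sq_ker a ha) (ℓ g)).eq, mul_inv_cancel_right]
  have sq_one : ∀ a ∈ D, ℓ a * ℓ a = 1 := by
    intro a ha
    obtain ⟨l, h7, hmem, hc', hprod⟩ := h.seven_at ha
    set ε := ℓ a * ℓ a with hε
    have hε2 : ε * ε = 1 := k2 (sq_ker a ha)
    have sqp : ∀ m : List G, (∀ t ∈ m, t ∈ D) → (∀ s ∈ m, ∀ t ∈ m, Commute s t) →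
        (m.map ℓ).prod * (m.map ℓ).prod = ε ^ m.length := by
      intro m
      induction m with
      | nil => intro _ _; simp
      | cons t m ih =>
        intro hm hc''
        have ct : Commute (ℓ t) (m.map ℓ).prod := Commute.list_prod_right _ _ fun y hy => by
          obtain ⟨u, hu, rfl⟩ := List.mem_map.mp hy
          exact hcom t (hm t List.mem_cons_self) u (hm u (List.mem_cons_of_mem _ hu))
            (hc'' t List.mem_cons_self u (List.mem_cons_of_mem _ hu))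
        rw [List.map_cons, List.prod_cons, List.length_cons, pow_succ']
        calc ℓ t * (m.map ℓ).prod * (ℓ t * (m.map ℓ).prod)
            = ℓ t * ((m.map ℓ).prod * ℓ t) * (m.map ℓ).prod := by group
          _ = (ℓ t * ℓ t) * ((m.map ℓ).prod * (m.map ℓ).prod) := by rw [← ct.eq]; group
          _ = _ := by
            rw [sq_same a ha t (hm t List.mem_cons_self),
              ih (fun u hu => hm u (List.mem_cons_of_mem _ hu))
                fun u hu u' hu' => hc'' u (List.mem_cons_of_mem _ hu) u' (List.mem_cons_of_mem _ hu')]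
    have := sqp l (fun t ht => (hmem t ht).1) hc'
    rw [k2 (by rw [map_list_prod, List.map_map, show (ρ ∘ ℓ) = id from funext hℓ, List.map_id,
      hprod]), h7, show 7 = 2 * 3 + 1 from rfl, pow_succ, pow_mul, pow_two, hε2, one_pow, one_mul]
      at this
    exact this.symm
  obtain ⟨l, hl, hlc, rfl⟩ := h.invol_prod hK hext hx
  refine ⟨(l.map ℓ).prod, by
    rw [map_list_prod, List.map_map, show (ρ ∘ ℓ) = id from funext hℓ, List.map_id], ?_⟩
  refine prod_sq_one_of ?_ ?_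
  · intro y hy
    obtain ⟨a, ha, rfl⟩ := List.mem_map.mp hy
    exact sq_one a (hl a ha)
  · intro y hy z hz
    obtain ⟨a, ha, rfl⟩ := List.mem_map.mp hy
    obtain ⟨b, hb', rfl⟩ := List.mem_map.mp hz
    exact hcom a (hl a ha) b (hl b hb') (hlc a ha b hb')

end Cfsg.Agent.H93
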