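import Cfsg.Agent.H93.Count22
import Cfsg.Agent.H93.U6Move

/-!
Elements of order eleven: their centralisers in `SU 6 F 2` and their normalisers in groups of type
M(22).
-/

set_option autoImplicit false

namespace Cfsg.Agent.H93

/-- a free action: the order of the group divides the number of points -/
theorem free_dvd {H α : Type*} [Group H] [MulAction H α] [Finite H] [Finite α]
    (hfree : ∀ (h : H) (x : α), h • x = x → h = 1) : Nat.card H ∣ Nat.card α := by
  classical
  haveI := Fintype.ofFinite (MulAction.orbitRel.Quotient H α)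
  rw [Nat.card_congr (MulAction.selfEquivSigmaOrbits H α), Nat.card_sigma]
  refine Finset.dvd_sum fun q _ => ?_
  have hst : MulAction.stabilizer H q.out = ⊥ := by
    rw [eq_bot_iff]
    exact fun h hh => Subgroup.mem_bot.mpr (hfree h _ hh)
  rw [Nat.card_congr (MulAction.orbitEquivQuotientStabilizer H q.out), hst,
    Nat.card_congr (QuotientGroup.quotientBot (G := H)).toEquiv]

theorem eleven_norm_arith : ∀ k < 91, 90 % k = 0 →
    (3510 * 18393661440) % (22 * k) = 0 → (3510 * 18393661440 / (22 * k)) % 11 = 1 → k = 5 := by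
  decide +kernel

theorem eleven_dim_arith : ∀ n < 7, 4 ^ n % 11 = 1 → n = 0 ∨ n = 5 := by decide +kernel

section Linear

variable {F : Type*} [Field F] [Fintype F] (hF : Fintype.card F = 4)

include hF

/-- an invariant subspace without fixed vectors has dimension zero or five -/
theorem invariant_dim {g : ↥(Cfsg.SU 6 F 2)} (hg : g ^ 11 = 1) (S : Submodule F (Vec F))
    (hinv : ∀ v ∈ S, act g v ∈ S) (hfix : ∀ v ∈ S, act g v = v → v = 0) :
    Module.finrank F S = 0 ∨ Module.finrank F S = 5 := by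
  classical
  have hpow : ∀ (n : ℕ), ∀ v ∈ S, act (g ^ n) v ∈ S := by
    intro n
    induction n with
    | zero => intro v hv; rwa [pow_zero, act_one]
    | succ n ih => intro v hv; rw [pow_succ', act_mul]; exact hinv _ (ih v hv)
  have hz : ∀ k ∈ Subgroup.zpowers g, ∀ v ∈ S, act k v ∈ S := by
    intro k hk v hv
    obtain ⟨n, hn : g ^ n = k⟩ := (isOfFinOrder_of_finite g).mem_powers_iff_mem_zpowers.mpr hk
    rw [← hn]; exact hpow n v hv
  letI : MulAction ↥(Subgroup.zpowers g) ↥S :=
    { smul := fun k v => ⟨act k.1 v.1, hz k.1 k.2 v.1 v.2⟩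
      one_smul := fun v => Subtype.ext (act_one v.1)
      mul_smul := fun k k' v => Subtype.ext (act_mul k.1 k'.1 v.1) }
  haveI : Fact (Nat.Prime 11) := ⟨by norm_num⟩
  have hp : IsPGroup 11 ↥(Subgroup.zpowers g) := by
    rintro ⟨k, i, rfl⟩
    refine ⟨1, Subtype.ext ?_⟩
    show (g ^ i) ^ (11 ^ 1) = 1
    rw [pow_one, ← zpow_natCast, ← zpow_mul, mul_comm i, zpow_mul, zpow_natCast, hg, one_zpow]
  have hone : MulAction.fixedPoints ↥(Subgroup.zpowers g) ↥S = {0} := by
    ext v
    refine ⟨fun hv => Subtype.ext (hfix v.1 v.2 ?_), fun hv k => Subtype.ext ?_⟩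
    · exact congrArg Subtype.val (hv ⟨g, Subgroup.mem_zpowers g⟩)
    · show act k.1 v.1 = v.1
      rw [show v = 0 from hv, Submodule.coe_zero, act_zero]
  have hmod := hp.card_modEq_card_fixedPoints ↥S
  rw [hone, Nat.card_coe_set_eq, Set.ncard_singleton, Module.natCard_eq_pow_finrank (K := F),
    Nat.card_eq_fintype_card, hF] at hmod
  have hle : Module.finrank F S ≤ 6 := (Submodule.finrank_le S).trans (by simp)
  exact eleven_dim_arith _ (by omega) hmod

/-- the centraliser of an element of order eleven -/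
theorem centralizer_eleven {g : ↥(Cfsg.SU 6 F 2)} (hg : g ^ 11 = 1) (hg1 : g ≠ 1) :
    Nat.card ↥(Subgroup.centralizer ({g} : Set ↥(Cfsg.SU 6 F 2))) ∣ 3069 := by
  classical
  set L : Vec F →ₗ[F] Vec F := actL g - LinearMap.id with hL
  set U := LinearMap.range L
  set W := LinearMap.ker L
  have hLa : ∀ x, L x = act g x - x := fun x => rfl
  have hU : ∀ v ∈ U, act g v ∈ U := by
    rintro _ ⟨x, rfl⟩
    exact ⟨act g x, by rw [hLa, hLa, sub_eq_add_neg, sub_eq_add_neg, act_add]; congr 1
                       rw [← neg_one_smul F x, act_smul, neg_one_smul]⟩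
  have hfix : ∀ v ∈ U, act g v = v → v = 0 := by
    rintro _ ⟨x, rfl⟩ hfx
    set v := L x
    have hx : act g x = x + v := by rw [show v = act g x - x from hLa x]; abel
    have hn : ∀ n : ℕ, act (g ^ n) x = x + (n : F) • v := by
      intro n
      induction n with
      | zero => rw [pow_zero, act_one, Nat.cast_zero, zero_smul, add_zero]
      | succ n ih =>
        rw [pow_succ', act_mul, ih, act_add, act_smul, hfx, hx, Nat.cast_succ, add_smul, one_smul]
        abel
    have := hn 11
    rw [hg, act_one, show ((11 : ℕ) : F) = 1 by linear_combination (5 : F) * two_zero hF,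
      one_smul] at this
    exact left_eq_add.mp this
  have hu5 : Module.finrank F U = 5 := by
    rcases invariant_dim hF hg U hU hfix with e | e
    · exfalso
      refine hg1 (act_ext fun x => ?_)
      rw [Submodule.finrank_eq_zero] at e
      have : L x ∈ U := ⟨x, rfl⟩
      rw [e, Submodule.mem_bot, hLa, sub_eq_zero] at this
      rw [this, act_one]
    · exact e
  have hw1 : Module.finrank F W = 1 := by
    have h6 := L.finrank_range_add_finrank_ker
    rw [Module.finrank_fin_fun] at h6
    change Module.finrank F U + Module.finrank F W = 6 at h6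
    omega
  have hinf : U ⊓ W = ⊥ := by
    rw [eq_bot_iff]
    rintro v ⟨hvU, hvW⟩
    rw [Submodule.mem_bot]
    exact hfix v hvU (sub_eq_zero.mp hvW)
  have htop : U ⊔ W = ⊤ := Submodule.eq_top_of_finrank_eq (by
    have := Submodule.finrank_sup_add_finrank_inf_eq U W
    rw [hinf, finrank_bot, hu5, hw1] at this
    rw [Module.finrank_fin_fun]
    omega)
  set H := Subgroup.centralizer ({g} : Set ↥(Cfsg.SU 6 F 2))
  have hcomm : ∀ h ∈ H, ∀ x, act h (act g x) = act g (act h x) := by
    intro h hh x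
    rw [← act_mul, ← act_mul, Subgroup.mem_centralizer_singleton_iff.mp hh]
  have hHU : ∀ h ∈ H, ∀ v ∈ U, act h v ∈ U := by
    rintro h hh _ ⟨x, rfl⟩
    refine ⟨act h x, ?_⟩
    rw [hLa, hLa, sub_eq_add_neg, sub_eq_add_neg, act_add, hcomm h hh]
    congr 1
    rw [← neg_one_smul F x, act_smul, neg_one_smul]
  have hHW : ∀ h ∈ H, ∀ v ∈ W, act h v ∈ W := by
    intro h hh v hv
    rw [LinearMap.mem_ker, hLa, sub_eq_zero] at hv ⊢
    rw [← hcomm h hh, hv]
  let α := {v : ↥U // v ≠ 0} × {v : ↥W // v ≠ 0}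
  letI : MulAction ↥H α :=
    { smul := fun h p => (⟨⟨act h.1 p.1.1.1, hHU _ h.2 _ p.1.1.2⟩, fun e => p.1.2 (Subtype.ext
          (act_eq_zero (congrArg Subtype.val e)))⟩,
        ⟨⟨act h.1 p.2.1.1, hHW _ h.2 _ p.2.1.2⟩, fun e => p.2.2 (Subtype.ext
          (act_eq_zero (congrArg Subtype.val e)))⟩)
      one_smul := fun p => Prod.ext (Subtype.ext (Subtype.ext (act_one _)))
        (Subtype.ext (Subtype.ext (act_one _)))
      mul_smul := fun h h' p => Prod.ext (Subtype.ext (Subtype.ext (act_mul _ _ _)))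
        (Subtype.ext (Subtype.ext (act_mul _ _ _))) }
  have hfree : ∀ (h : ↥H) (p : α), h • p = p → h = 1 := by
    rintro ⟨h, hh⟩ ⟨⟨⟨u, hu⟩, hu0⟩, ⟨⟨w, hw⟩, hw0⟩⟩ e
    have eu : act h u = u := congrArg (fun q : α => q.1.1.1) e
    have ew : act h w = w := congrArg (fun q : α => q.2.1.1) e
    set Fx := LinearMap.ker (actL h - LinearMap.id) with hFx
    have hmem : ∀ x, x ∈ Fx ↔ act h x = x := fun x => by
      rw [LinearMap.mem_ker, LinearMap.sub_apply, LinearMap.id_apply, sub_eq_zero]
      rfl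
    have hS : U ≤ Fx := by
      rcases invariant_dim hF hg (U ⊓ Fx) (fun v hv => ⟨hU v hv.1, (hmem _).mpr (by
        rw [hcomm h hh, (hmem v).mp hv.2])⟩) (fun v hv => hfix v hv.1) with e' | e'
      · rw [Submodule.finrank_eq_zero] at e'
        have : u ∈ U ⊓ Fx := ⟨hu, (hmem u).mpr eu⟩
        rw [e', Submodule.mem_bot] at this
        exact absurd (Subtype.ext this) hu0
      · exact inf_eq_left.mp (Submodule.eq_of_le_of_finrank_le inf_le_left (by rw [e', hu5]))
    have hT : W ≤ Fx := by
      have hww : W = Submodule.span F {w} := by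
        refine (Submodule.eq_of_le_of_finrank_le ((Submodule.span_singleton_le_iff_mem _ _).mpr hw)
          ?_).symm
        rw [finrank_span_singleton (fun q => hw0 (Subtype.ext q)), hw1]
      rw [hww, Submodule.span_singleton_le_iff_mem]
      exact (hmem w).mpr ew
    refine Subtype.ext (act_ext fun x => ?_)
    have hx : x ∈ Fx := sup_le hS hT (htop.symm ▸ Submodule.mem_top)
    rw [(hmem x).mp hx]
    exact (act_one x).symm
  refine (free_dvd hfree).trans (dvd_of_eq ?_)
  rw [Nat.card_prod]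
  have hnz : ∀ S : Submodule F (Vec F), Nat.card {v : ↥S // v ≠ 0} = 4 ^ Module.finrank F S - 1 := by
    intro S
    have : Nat.card {v : ↥S // v ≠ 0} = ({0}ᶜ : Set ↥S).ncard := Nat.card_coe_set_eq _
    rw [this, Set.ncard_compl, Set.ncard_singleton, Module.natCard_eq_pow_finrank (K := F),
      Nat.card_eq_fintype_card, hF]
  rw [hnz, hnz, hu5, hw1]
  norm_num

end Linear

namespace Geo22

variable {G : Type*} [Group G] [Finite G] {D : Set G} {K : Type*} [Field K] [Fintype K]
  (h : Geo22 D K)

include h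

/-- a subgroup of order eleven fixes exactly one member -/
theorem eleven_fixed {X : Subgroup G} (hX : Nat.card X = 11) :
    ∃ d ∈ D, ∀ e ∈ D, ((∀ x ∈ X, Commute x e) ↔ e = d) := by
  classical
  haveI : Fact (Nat.Prime 11) := ⟨by norm_num⟩
  obtain ⟨a0, ha0⟩ : D.Nonempty := by
    by_contra hne
    rw [Set.not_nonempty_iff_eq_empty] at hne
    have htriv : ∀ g : G, g = 1 := fun g => h.cen g fun t ht => by simp [hne] at ht
    have : Subsingleton ↥X := ⟨fun x y => Subtype.ext ((htriv x).trans (htriv y).symm)⟩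
    rw [Nat.card_of_subsingleton (1 : ↥X)] at hX
    norm_num at hX
  letI : MulAction ↥X ↥D :=
    { smul := fun x y => ⟨x.1 * y.1 * x.1⁻¹, h.core.tt.conj_mem x.1 y.1 y.2⟩
      one_smul := fun y => Subtype.ext (by show (1 : G) * y.1 * (1 : G)⁻¹ = y.1; group)
      mul_smul := fun x x' y => Subtype.ext (by
        show x.1 * x'.1 * y.1 * (x.1 * x'.1)⁻¹ = x.1 * (x'.1 * y.1 * x'.1⁻¹) * x.1⁻¹; group) }
  have hp : IsPGroup 11 ↥X := IsPGroup.of_card (n := 1) (by rw [hX, pow_one])
  have hmod := hp.card_modEq_card_fixedPoints ↥D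
  rw [Nat.card_coe_set_eq, h.card_members ha0] at hmod
  obtain ⟨d, hd⟩ : (MulAction.fixedPoints ↥X ↥D).Nonempty := by
    by_contra hne
    rw [Set.not_nonempty_iff_eq_empty] at hne
    rw [hne, Nat.card_coe_set_eq, Set.ncard_empty] at hmod
    exact absurd hmod (by decide)
  have hdc : ∀ x ∈ X, Commute x (d : G) := fun x hx =>
    mul_inv_eq_iff_eq_mul.mp (congrArg Subtype.val (hd ⟨x, hx⟩))
  refine ⟨d, d.2, fun e he => ⟨fun hec => ?_, fun q => q ▸ hdc⟩⟩
  by_contra hne
  have key : ∀ S : Set G, X ≤ Subgroup.centralizer S →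
      11 ∣ Nat.card ↥(Subgroup.centralizer S) := fun S hS => hX ▸ Subgroup.card_dvd_of_le hS
  by_cases hc : Commute (d : G) e
  · have h11 := key {(d : G), e, e} fun x hx => Subgroup.mem_centralizer_iff.mpr (by
      rintro t (rfl | rfl | rfl)
      exacts [(hdc x hx).symm.eq, (hec x hx).symm.eq, (hec x hx).symm.eq])
    rw [h.card_two d.2 ⟨he, hne, hc⟩] at h11
    norm_num at h11
  · have h11 := key {(d : G), e} fun x hx => Subgroup.mem_centralizer_iff.mpr (by
      rintro t (rfl | rfl)
      exacts [(hdc x hx).symm.eq, (hec x hx).symm.eq])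
    rw [h.card_pair_num d.2 he hc] at h11
    norm_num at h11

/-- the centraliser of a subgroup of order eleven is small -/
theorem eleven_centralizer_dvd {X : Subgroup G} (hX : Nat.card X = 11) :
    Nat.card ↥(Subgroup.centralizer (X : Set G)) ∣ 198 ∧
      22 ∣ Nat.card ↥(Subgroup.centralizer (X : Set G)) := by
  classical
  have hK := h.hK
  haveI : Fact (Nat.Prime 11) := ⟨by norm_num⟩
  obtain ⟨d, hd, huniq⟩ := h.eleven_fixed hX
  have hXd : ∀ x ∈ X, Commute x d := (huniq d hd).mpr rfl
  have hCd : Subgroup.centralizer (X : Set G) ≤ Subgroup.centralizer ({d} : Set G) := by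
    intro g hg
    rw [Subgroup.mem_centralizer_iff] at hg
    have : g * d * g⁻¹ = d := (huniq _ (h.core.tt.conj_mem g d hd)).mp fun x hx => by
      have c := commute_conj (g := g) |>.mpr (hXd x hx)
      rwa [show g * x * g⁻¹ = x from mul_inv_eq_iff_eq_mul.mpr (hg x hx).symm] at c
    exact Subgroup.mem_centralizer_singleton_iff.mpr (mul_inv_eq_iff_eq_mul.mp this)
  obtain ⟨π, he, -⟩ := h.exists_space hd
  obtain ⟨⟨x, hx⟩, hgen⟩ := (isCyclic_of_prime_card hX).exists_generator
  have hx1 : x ≠ 1 := by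
    rintro rfl
    have : Subsingleton ↥X := ⟨fun p q => by
      have a1 : ∀ r : ↥X, r = 1 := fun r => by
        obtain ⟨i, hi⟩ := hgen r
        exact hi.symm.trans (one_zpow i)
      rw [a1 p, a1 q]⟩
    rw [Nat.card_of_subsingleton (1 : ↥X)] at hX
    norm_num at hX
  have hx11 : x ^ 11 = 1 := by
    have := pow_card_eq_one' (G := ↥X) (x := ⟨x, hx⟩)
    rw [hX] at this
    exact congrArg Subtype.val this
  have hxC : x ∈ Subgroup.centralizer ({d} : Set G) :=
    Subgroup.mem_centralizer_singleton_iff.mpr (hXd x hx).eq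
  set y := π ⟨x, hxC⟩ with hy
  obtain ⟨g0, hg0⟩ := QuotientGroup.mk_surjective y
  have hy11 : y ^ 11 = 1 := by
    rw [hy, ← map_pow, show (⟨x, hxC⟩ : ↥(Subgroup.centralizer ({d} : Set G))) ^ 11 = 1 from
      Subtype.ext hx11, map_one]
  have hy1 : y ≠ 1 := fun q => by
    rcases he.ker _ q with e | e
    · exact hx1 (congrArg Subtype.val e)
    · have : x = d := congrArg Subtype.val e
      rw [this] at hx11
      refine h.core.ne_one d hd ?_
      calc d = (d * d) ^ 5 * d := by rw [h.core.tt.sq d hd, one_pow, one_mul]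
        _ = 1 := by rw [← pow_two, ← pow_mul, ← pow_succ, hx11]
  have hc11 : g0 ^ 11 ∈ Subgroup.center ↥(Cfsg.SU 6 K 2) := by
    rw [← QuotientGroup.eq_one_iff, QuotientGroup.mk_pow, hg0, hy11]
  set g := g0 ^ 12 with hg
  have hg11 : g ^ 11 = 1 := by
    rw [hg, ← pow_mul, show 12 * 11 = 11 * (3 * 4) by norm_num, pow_mul, pow_mul,
      central_pow_three hK hc11, one_pow]
  have hgy : (QuotientGroup.mk g : Cfsg.PSU 6 K 2) = y := by
    rw [hg, QuotientGroup.mk_pow, hg0, pow_succ, hy11, one_mul]
  have hg1 : g ≠ 1 := fun q => hy1 (by rw [← hgy, q, QuotientGroup.mk_one])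
  -- the image of the centraliser
  set H := Subgroup.centralizer ({g} : Set ↥(Cfsg.SU 6 K 2))
  have himg : ((Subgroup.centralizer (X : Set G)).subgroupOf
      (Subgroup.centralizer ({d} : Set G))).map π ≤ H.map (QuotientGroup.mk' _) := by
    rintro _ ⟨k, hk, rfl⟩
    obtain ⟨k0, hk0⟩ := QuotientGroup.mk_surjective (π k)
    refine ⟨k0, Subgroup.mem_centralizer_singleton_iff.mpr ?_, hk0⟩
    have hc : π k * y = y * π k := by
      rw [hy, ← map_mul, ← map_mul]
      exact congrArg π (Subtype.ext (Subgroup.mem_centralizer_iff.mp hk x hx).symm)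
    have hz : (k0 * g) * (g * k0)⁻¹ ∈ Subgroup.center ↥(Cfsg.SU 6 K 2) := by
      rw [← QuotientGroup.eq_one_iff, QuotientGroup.mk_mul, QuotientGroup.mk_inv,
        QuotientGroup.mk_mul, QuotientGroup.mk_mul, hk0, hgy, hc, mul_inv_cancel]
    set z := (k0 * g) * (g * k0)⁻¹ with hzdef
    have hconj : k0 * g * k0⁻¹ = z * g := by rw [hzdef]; group
    have h11 : (z * g) ^ 11 = 1 := by
      rw [← hconj, conj_pow, hg11, mul_one, mul_inv_cancel]
    rw [(Commute.mul_pow (Subgroup.mem_center_iff.mp hz g).symm 11), hg11, mul_one] at h11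
    have h3 := central_pow_three hK hz
    have hz1 : z = 1 := by
      calc z = (z ^ 3) ^ 4 * (z ^ 11)⁻¹ := by rw [← pow_mul]; group
        _ = 1 := by rw [h3, h11, one_pow, inv_one, mul_one]
    exact mul_inv_eq_one.mp hz1
  have hdvd : Nat.card ↥(((Subgroup.centralizer (X : Set G)).subgroupOf
      (Subgroup.centralizer ({d} : Set G))).map π) ∣ 99 := by
    have h1 : Nat.card ↥(((Subgroup.centralizer (X : Set G)).subgroupOf
      (Subgroup.centralizer ({d} : Set G))).map π) ∣ 3069 :=
      (Subgroup.card_dvd_of_le himg).trans ((Subgroup.card_map_dvd _ _).trans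
        (centralizer_eleven hK hg11 hg1))
    have h2 := Subgroup.card_subgroup_dvd_card (((Subgroup.centralizer (X : Set G)).subgroupOf
      (Subgroup.centralizer ({d} : Set G))).map π)
    rw [card_psu_six hK] at h2
    have := Nat.dvd_gcd h1 h2
    rw [show Nat.gcd 3069 (2 ^ 15 * 280665) = 99 by norm_num] at this
    exact this
  refine ⟨?_, ?_⟩
  · set C := (Subgroup.centralizer (X : Set G)).subgroupOf (Subgroup.centralizer ({d} : Set G))
    rw [← Nat.card_congr (Subgroup.subgroupOfEquivOfLe hCd).toEquiv]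
    let f : ↥C →* Cfsg.PSU 6 K 2 := π.comp C.subtype
    have hr : f.range = C.map π := by
      rw [MonoidHom.range_comp, Subgroup.range_subtype]
    rw [← Subgroup.card_mul_index f.ker, Subgroup.index_ker, hr]
    refine (mul_dvd_mul ?_ hdvd).trans (dvd_of_eq (by norm_num : 2 * 99 = 198))
    have hker : f.ker.map C.subtype ≤ Subgroup.zpowers
        (⟨d, mem_cent (Commute.refl d)⟩ : ↥(Subgroup.centralizer ({d} : Set G))) := by
      rintro _ ⟨k, hk, rfl⟩
      rcases he.ker _ hk with e | e
      · exact e ▸ one_mem _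
      · exact e ▸ Subgroup.mem_zpowers _
    have h2 := Subgroup.card_dvd_of_le hker
    rw [Subgroup.card_map_of_injective Subtype.val_injective, Nat.card_zpowers,
      orderOf_eq_prime (by rw [pow_two]; exact he.sq)
        (fun q => h.core.ne_one d hd (congrArg Subtype.val q))] at h2
    exact h2
  · refine Nat.Coprime.mul_dvd_of_dvd_of_dvd (m := 2) (n := 11) (by norm_num) ?_ ?_
    · have hmem : d ∈ Subgroup.centralizer (X : Set G) :=
        Subgroup.mem_centralizer_iff.mpr fun t ht => (hXd t ht).eq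
      have := orderOf_dvd_natCard (⟨d, hmem⟩ : ↥(Subgroup.centralizer (X : Set G)))
      rwa [Subgroup.orderOf_mk, orderOf_eq_prime (by rw [pow_two]; exact h.core.tt.sq d hd)
        (h.core.ne_one d hd)] at this
    · have hle : X ≤ Subgroup.centralizer (X : Set G) := fun p hp =>
        Subgroup.mem_centralizer_iff.mpr fun q hq => by
          obtain ⟨i, hi⟩ := hgen ⟨p, hp⟩
          obtain ⟨j, hj⟩ := hgen ⟨q, hq⟩
          have ep : x ^ i = p := congrArg Subtype.val hi
          have eq' : x ^ j = q := congrArg Subtype.val hj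
          rw [← ep, ← eq', ← zpow_add, ← zpow_add, add_comm]
      exact hX ▸ Subgroup.card_dvd_of_le hle

/-- the Sylow 11-subgroups have order eleven -/
theorem eleven_sylow {a : G} (ha : a ∈ D) (P : Sylow 11 G) : Nat.card (P : Subgroup G) = 11 := by
  haveI : Fact (Nat.Prime 11) := ⟨by norm_num⟩
  obtain ⟨n, hn⟩ := (IsPGroup.iff_card.mp P.isPGroup')
  have hdvd := Subgroup.card_subgroup_dvd_card (P : Subgroup G)
  rw [h.card_group ha, hn] at hdvd
  have hidx := Subgroup.card_mul_index (P : Subgroup G)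
  rw [h.card_group ha, hn] at hidx
  rcases n with _ | _ | n
  · exfalso
    rw [pow_zero, one_mul] at hidx
    exact P.not_dvd_index (by rw [hidx]; norm_num)
  · rw [hn]; norm_num
  · exfalso
    have : 11 ^ 2 ∣ 3510 * 18393661440 := (pow_dvd_pow 11 (by omega)).trans hdvd
    norm_num at this

/-- the normaliser of a subgroup of order eleven has order 110 -/
theorem eleven_normalizer {X : Subgroup G} (hX : Nat.card X = 11) :
    Nat.card ↥(Subgroup.normalizer (X : Set G)) = 110 ∧
      Nat.card ↥(Subgroup.centralizer (X : Set G)) = 22 := by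
  classical
  haveI : Fact (Nat.Prime 11) := ⟨by norm_num⟩
  obtain ⟨d, hd, -⟩ := h.eleven_fixed hX
  obtain ⟨hC, hC22⟩ := h.eleven_centralizer_dvd hX
  obtain ⟨P, hP⟩ := (IsPGroup.of_card (p := 11) (n := 1) (G := ↥X) (by rw [hX, pow_one])).exists_le_sylow
  have hPX : X = (P : Subgroup G) :=
    Subgroup.eq_of_le_of_card_ge hP (by rw [hX, h.eleven_sylow hd P])
  set N := Subgroup.normalizer (X : Set G) with hN
  set C := Subgroup.centralizer (X : Set G) with hCdef
  have hCN : C ≤ N := fun g hg => Subgroup.mem_normalizer_iff.mpr fun t => by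
    rw [Subgroup.mem_centralizer_iff] at hg
    refine ⟨fun ht => by rwa [show g * t * g⁻¹ = t from mul_inv_eq_iff_eq_mul.mpr (hg t ht).symm],
      fun ht => ?_⟩
    have := mul_inv_eq_iff_eq_mul.mpr (hg _ ht).symm
    rwa [show t = g * t * g⁻¹ from mul_left_cancel (mul_right_cancel this.symm)]
  have hsyl := card_sylow_modEq_one 11 G
  rw [P.card_eq_index_normalizer] at hsyl
  have hidx := Subgroup.card_mul_index N
  rw [h.card_group hd, hN, hPX] at hidx
  have hNC : (C.subgroupOf N).index ∣ 10 := by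
    have hker : (C.subgroupOf N) = X.normalizerMonoidHom.ker := X.normalizerMonoidHom_ker.symm
    rw [hker, Subgroup.index_ker]
    haveI := isCyclic_of_prime_card hX
    have := Subgroup.card_subgroup_dvd_card X.normalizerMonoidHom.range
    rwa [IsCyclic.card_mulAut, hX, Nat.totient_prime (by norm_num)] at this
  have hCcard : Nat.card ↥(C.subgroupOf N) = Nat.card ↥C :=
    Nat.card_congr (Subgroup.subgroupOfEquivOfLe hCN).toEquiv
  have hNdvd : Nat.card ↥N ∣ 198 * 10 := by
    rw [← Subgroup.card_mul_index (C.subgroupOf N), hCcard]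
    exact mul_dvd_mul hC hNC
  obtain ⟨k, hk⟩ : 22 ∣ Nat.card ↥N := hC22.trans (Subgroup.card_dvd_of_le hCN)
  have hNcard : Nat.card ↥N = 110 := by
    have hNP : Nat.card ↥N = Nat.card ↥(Subgroup.normalizer ((P : Subgroup G) : Set G)) := by
      rw [hN, hPX]
    rw [← hNP] at hidx
    have hk90 : k ∣ 90 := by
      rw [hk, show 198 * 10 = 22 * 90 by norm_num] at hNdvd
      exact (Nat.mul_dvd_mul_iff_left (by norm_num)).mp hNdvd
    have hkle : k < 91 := Nat.lt_succ_of_le (Nat.le_of_dvd (by norm_num) hk90)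
    have hk5 := eleven_norm_arith k hkle (Nat.mod_eq_zero_of_dvd hk90)
      (Nat.mod_eq_zero_of_dvd (hk ▸ ⟨_, hidx.symm⟩)) (by
        rw [← hk, ← hidx, Nat.mul_div_cancel_left _ Nat.card_pos]
        exact hsyl)
    rw [hk, hk5]
  refine ⟨hNcard, Nat.dvd_antisymm ?_ hC22⟩
  have h1 := Subgroup.card_dvd_of_le hCN
  rw [hNcard] at h1
  exact (Nat.dvd_gcd hC h1).trans (dvd_of_eq (by norm_num))

end Geo22

end Cfsg.Agent.H93
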