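import Cfsg.Agent.H93.Over23
import Cfsg.Agent.H93.Eleven22

/-!
Subgroups of order eleven in groups of type M(23).
-/

set_option autoImplicit false

namespace Cfsg.Agent.H93

namespace Geo23

variable {G : Type*} [Group G] {D : Set G} (h : Geo23 D) [Finite G] {X : Subgroup G}
  (hX : Nat.card X = 11)

include h hX

/-- two members are centralised, and they commute -/
theorem eleven_two :
    ∃ d b, d ∈ D ∧ b ∈ nb D d ∧ (D ∩ (Subgroup.centralizer (X : Set G) : Set G)) = {d, b} ∧
      Nat.card ↥(Subgroup.centralizer (X : Set G) ⊓ Subgroup.centralizer ({d} : Set G)) = 44 ∧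
      Nat.card ↥(Subgroup.normalizer (X : Set G) ⊓ Subgroup.centralizer ({d} : Set G)) = 220 := by
  classical
  haveI : Fact (Nat.Prime 11) := ⟨by norm_num⟩
  obtain ⟨a0, ha0⟩ : D.Nonempty := by
    by_contra hne
    rw [Set.not_nonempty_iff_eq_empty] at hne
    have htriv : ∀ g : G, g = 1 := fun g => h.cen g fun t ht => by simp [hne] at ht
    have : Subsingleton ↥X := ⟨fun x y => Subtype.ext ((htriv x).trans (htriv y).symm)⟩
    rw [Nat.card_of_subsingleton (1 : ↥X)] at hX
    norm_num at hX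
  letI : MulAction ↥X ↥D :=
    { smul := fun x y => ⟨x.1 * y.1 * x.1⁻¹, h.core.tt.conj_mem x.1 y.1 y.2⟩
      one_smul := fun y => Subtype.ext (by show (1 : G) * y.1 * (1 : G)⁻¹ = y.1; group)
      mul_smul := fun x x' y => Subtype.ext (by
        show x.1 * x'.1 * y.1 * (x.1 * x'.1)⁻¹ = x.1 * (x'.1 * y.1 * x'.1⁻¹) * x.1⁻¹; group) }
  have hp : IsPGroup 11 ↥X := IsPGroup.of_card (n := 1) (by rw [hX, pow_one])
  have hmod := hp.card_modEq_card_fixedPoints ↥D
  rw [Nat.card_coe_set_eq, h.card_members ha0] at hmod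
  obtain ⟨d, hd⟩ : (MulAction.fixedPoints ↥X ↥D).Nonempty := by
    by_contra hne
    rw [Set.not_nonempty_iff_eq_empty] at hne
    rw [hne, Nat.card_coe_set_eq, Set.ncard_empty] at hmod
    exact absurd hmod (by decide)
  have hXd : ∀ x ∈ X, Commute x (d : G) := fun x hx =>
    mul_inv_eq_iff_eq_mul.mp (congrArg Subtype.val (hd ⟨x, hx⟩))
  have hle : X ≤ Subgroup.centralizer ({(d : G)} : Set G) := fun x hx =>
    Subgroup.mem_centralizer_singleton_iff.mpr (hXd x hx).eq
  have hodd : Odd (Nat.card X) := by rw [hX]; decide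
  obtain ⟨K, iK, iKF, h22⟩ := h.res d d.2
  have hX' : Nat.card ↥(resImage D (d : G) X) = 11 := (h.over_card d.2 hle hodd).trans hX
  obtain ⟨e', he', huniq⟩ := h22.eleven_fixed hX'
  obtain ⟨hN, hC⟩ := h22.eleven_normalizer hX'
  obtain ⟨b, hb', rfl⟩ := rimg_surj he'
  have hfix : ∀ {y}, y ∈ nb D (d : G) → ((∀ x ∈ X, Commute x y) ↔ y = b) := by
    intro y hy
    rw [h.over_fixed d.2 hle hodd hy, Subgroup.mem_centralizer_iff, ← h.core.rimg_inj d.2 hy hb']
    exact huniq _ (rimg_mem hy)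
  refine ⟨d, b, d.2, hb', ?_, by rw [h.over_centralizer d.2 hle hodd, hC],
    by rw [h.over_normalizer d.2 hle hodd, hN]⟩
  ext y
  constructor
  · rintro ⟨hy, hyc⟩
    have hXy : ∀ x ∈ X, Commute x y := Subgroup.mem_centralizer_iff.mp hyc
    by_cases hc : Commute (d : G) y
    · by_cases e : y = d
      · exact Or.inl e
      · exact Or.inr ((hfix ⟨hy, e, hc⟩).mp hXy)
    · exfalso
      have h11 : 11 ∣ Nat.card ↥(Subgroup.centralizer ({(d : G), y} : Set G)) := hX ▸
        Subgroup.card_dvd_of_le (fun x hx => Subgroup.mem_centralizer_iff.mpr (by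
          rintro t (rfl | rfl)
          exacts [(hXd x hx).symm.eq, (hXy x hx).symm.eq]))
      rw [h.card_pair_num d.2 hy hc] at h11
      norm_num at h11
  · rintro (rfl | rfl)
    exacts [⟨d.2, Subgroup.mem_centralizer_iff.mpr hXd⟩,
      ⟨hb'.1, Subgroup.mem_centralizer_iff.mpr ((hfix hb').mpr rfl)⟩]

/-- the Sylow 11-subgroups have order eleven and the normaliser is twice the stabiliser -/
theorem eleven_norm :
    (∀ P : Sylow 11 G, Nat.card (P : Subgroup G) = 11) ∧
      Nat.card ↥(Subgroup.normalizer (X : Set G)) = 440 := by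
  classical
  haveI : Fact (Nat.Prime 11) := ⟨by norm_num⟩
  obtain ⟨d, b, hd, hb', hΦ, -, hN⟩ := h.eleven_two hX
  have hG := h.card_group hd
  have hsyl : ∀ P : Sylow 11 G, Nat.card (P : Subgroup G) = 11 := by
    intro P
    obtain ⟨n, hn⟩ := IsPGroup.iff_card.mp P.isPGroup'
    have hdvd := Subgroup.card_subgroup_dvd_card (P : Subgroup G)
    rw [hG, hn] at hdvd
    have hidx := Subgroup.card_mul_index (P : Subgroup G)
    rw [hG, hn] at hidx
    rcases n with _ | _ | n
    · exfalso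
      rw [pow_zero, one_mul] at hidx
      exact P.not_dvd_index (by rw [hidx]; norm_num)
    · rw [hn]; norm_num
    · exfalso
      have : 11 ^ 2 ∣ 31671 * (2 * 3510 * 18393661440) := (pow_dvd_pow 11 (by omega)).trans hdvd
      norm_num at this
  refine ⟨hsyl, ?_⟩
  set N := Subgroup.normalizer (X : Set G) with hNdef
  have hmem : ∀ n ∈ N, ∀ y ∈ D ∩ (Subgroup.centralizer (X : Set G) : Set G),
      n * y * n⁻¹ ∈ D ∩ (Subgroup.centralizer (X : Set G) : Set G) := by
    intro n hn y hy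
    refine ⟨h.core.tt.conj_mem n y hy.1, Subgroup.mem_centralizer_iff.mpr fun x hx => ?_⟩
    have hm : n⁻¹ * x * n ∈ X := by
      have := (Subgroup.mem_normalizer_iff.mp (inv_mem hn) x).mp hx
      rwa [inv_inv] at this
    have c := (commute_conj (g := n)).mpr (Subgroup.mem_centralizer_iff.mp hy.2 _ hm)
    rw [show n * (n⁻¹ * x * n) * n⁻¹ = x by group] at c
    exact c
  rw [hΦ] at hmem
  -- at most two cosets
  have hi : ((N ⊓ Subgroup.centralizer ({d} : Set G)).subgroupOf N).index ≤ 2 := by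
    rw [Subgroup.index_eq_card]
    refine (Nat.card_le_card_of_injective
      (f := Quotient.lift (fun n : ↥N => (⟨n.1 * d * n.1⁻¹, hmem n.1 n.2 d (Or.inl rfl)⟩ :
        ↥({d, b} : Set G))) ?_) ?_).trans ?_
    · intro p q hpq
      have hpq' : p.1⁻¹ * q.1 * d = d * (p.1⁻¹ * q.1) := Subgroup.mem_centralizer_singleton_iff.mp
        (Subgroup.mem_subgroupOf.mp (QuotientGroup.leftRel_apply.mp hpq)).2
      refine Subtype.ext ?_
      calc p.1 * d * p.1⁻¹ = p.1 * (d * (p.1⁻¹ * q.1)) * q.1⁻¹ := by group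
        _ = p.1 * (p.1⁻¹ * q.1 * d) * q.1⁻¹ := by rw [← hpq']
        _ = q.1 * d * q.1⁻¹ := by group
    · rintro ⟨p⟩ ⟨q⟩ e
      have e' : p.1 * d * p.1⁻¹ = q.1 * d * q.1⁻¹ := congrArg Subtype.val e
      refine QuotientGroup.eq.mpr (Subgroup.mem_subgroupOf.mpr ⟨(p⁻¹ * q).2,
        Subgroup.mem_centralizer_singleton_iff.mpr ?_⟩)
      show p.1⁻¹ * q.1 * d = d * (p.1⁻¹ * q.1)
      calc p.1⁻¹ * q.1 * d = p.1⁻¹ * (q.1 * d * q.1⁻¹) * q.1 := by group
        _ = p.1⁻¹ * (p.1 * d * p.1⁻¹) * q.1 := by rw [e']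
        _ = d * (p.1⁻¹ * q.1) := by group
    · rw [Nat.card_coe_set_eq]
      exact (Set.ncard_insert_le _ _).trans (by rw [Set.ncard_singleton])
  have hmul := Subgroup.card_mul_index ((N ⊓ Subgroup.centralizer ({d} : Set G)).subgroupOf N)
  rw [Nat.card_congr (Subgroup.subgroupOfEquivOfLe inf_le_left).toEquiv, hN] at hmul
  obtain ⟨P, hP⟩ := (IsPGroup.of_card (p := 11) (n := 1) (G := ↥X) (by rw [hX, pow_one])).exists_le_sylow
  have hPX : X = (P : Subgroup G) := Subgroup.eq_of_le_of_card_ge hP (by rw [hX, hsyl P])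
  have hsy := card_sylow_modEq_one 11 G
  rw [P.card_eq_index_normalizer, show Subgroup.normalizer (P : Set G) = N by rw [hNdef, hPX]; rfl] at hsy
  have hidx := Subgroup.card_mul_index N
  rw [hG, ← hmul] at hidx
  generalize ((N ⊓ Subgroup.centralizer ({d} : Set G)).subgroupOf N).index = i at hi hmul hidx
  rcases i with _ | _ | _ | i
  · simp at hidx
  · exfalso
    have : N.index = 31671 * (2 * 3510 * 18393661440) / 220 := by omega
    rw [this] at hsy
    exact absurd hsy (by decide +kernel)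
  · omega
  · omega

end Geo23

end Cfsg.Agent.H93
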