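import Cfsg.Agent.H93.Seven23
import Cfsg.Agent.H93.Eleven23
import Cfsg.Agent.H93.FixTools
import Cfsg.Agent.H93.PrimeTools
import Cfsg.Agent.H93.Five22

/-!
Subgroups of order thirteen in groups of type M(23): the centralised members pairwise do not
commute, and their number is not a multiple of seventeen or twenty three.
-/

set_option autoImplicit false

namespace Cfsg.Agent.H93

theorem coprime_of_no_prime {n q : ℕ} (hq : q.Prime) (h : ¬ q ∣ n) (i : ℕ) : Nat.Coprime n (q ^ i) :=
  ((hq.coprime_iff_not_dvd.mpr h).pow_left i).symm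

/-- the test on the number of the other centralised members -/
def thirteenBad (m : ℕ) : Bool :=
  decide (m < 28161) && decide (m % 13 = 2) && (decide ((m + 1) % 17 = 0) || decide ((m + 1) % 23 = 0)) &&
    decide ((31671 * (2 * 3510 * 18393661440)) % (m + 1) = 0)

theorem thirteen_far_arith : ∀ i < 19, ∀ j < 10, ∀ k < 3, thirteenBad (2 ^ i * 3 ^ j * 5 ^ k) = false := by
  decide +kernel

theorem thirteen_far_dvd {m : ℕ} (hm : m ∣ 2 * 3510 * 18393661440) (h7 : ¬ 7 ∣ m) (h11 : ¬ 11 ∣ m)
    (h13 : ¬ 13 ∣ m) : ∃ i < 19, ∃ j < 10, ∃ k < 3, m = 2 ^ i * 3 ^ j * 5 ^ k := by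
  have hcop : Nat.Coprime m (7 ^ 1 * 11 ^ 1 * 13 ^ 1) := Nat.Coprime.mul_right (Nat.Coprime.mul_right
    (coprime_of_no_prime (by norm_num) h7 1) (coprime_of_no_prime (by norm_num) h11 1))
    (coprime_of_no_prime (by norm_num) h13 1)
  have hd : m ∣ 2 ^ 18 * 3 ^ 9 * 5 ^ 2 := hcop.dvd_of_dvd_mul_right (by
    rwa [show 2 ^ 18 * 3 ^ 9 * 5 ^ 2 * (7 ^ 1 * 11 ^ 1 * 13 ^ 1) = 2 * 3510 * 18393661440 by norm_num])
  obtain ⟨y, z, hy, hz, rfl⟩ := Nat.dvd_mul.mp hd
  obtain ⟨u, v, hu, hv, rfl⟩ := Nat.dvd_mul.mp hy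
  obtain ⟨i, hi, rfl⟩ := (Nat.dvd_prime_pow Nat.prime_two).mp hu
  obtain ⟨j, hj, rfl⟩ := (Nat.dvd_prime_pow Nat.prime_three).mp hv
  obtain ⟨k, hk, rfl⟩ := (Nat.dvd_prime_pow Nat.prime_five).mp hz
  exact ⟨i, by omega, j, by omega, k, by omega, rfl⟩

namespace Geo23

variable {G : Type*} [Group G] {D : Set G} (h : Geo23 D) [Finite G]

include h

/-- the centraliser of two commuting members -/
theorem card_commuting_pair {d e : G} (hd : d ∈ D) (he : e ∈ nb D d) :
    Nat.card ↥(Subgroup.centralizer ({d, e} : Set G)) = 2 * 18393661440 := by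
  have := h.card_two hd he
  rwa [show ({e, d, e} : Set G) = {d, e} from Set.ext fun x => by simp] at this

/-- the order of the normaliser of a subgroup of order seven -/
theorem seven_norm {Z : Subgroup G} (hZ : Nat.card Z = 7) :
    Nat.card ↥(Subgroup.normalizer (Z : Set G)) = 5040 := by
  obtain ⟨F, hF, -, -, hinf, hcom, hsup, ⟨e⟩⟩ := h.seven_product hZ
  set S := Subgroup.closure (D ∩ (Subgroup.centralizer (Z : Set G) : Set G))
  have hc : ∀ (x : ↥F) (y : ↥S), Commute (F.subtype x) (S.subtype y) := fun x y => hcom x.1 x.2 y.1 y.2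
  let f : ↥F × ↥S →* G := MonoidHom.noncommCoprod F.subtype S.subtype hc
  have hr : f.range = Subgroup.normalizer (Z : Set G) := by
    show (MonoidHom.noncommCoprod F.subtype S.subtype hc).range = _
    rw [MonoidHom.noncommCoprod_range, Subgroup.range_subtype, Subgroup.range_subtype, hsup]
  have hinj : Function.Injective f := by
    rw [← f.ker_eq_bot_iff, eq_bot_iff]
    rintro ⟨x, y⟩ hxy
    have e1 : x.1 * y.1 = 1 := hxy
    have hx : x.1 ∈ F ⊓ S := ⟨x.2, (eq_inv_of_mul_eq_one_left e1).symm ▸ S.inv_mem y.2⟩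
    rw [hinf, Subgroup.mem_bot] at hx
    rw [hx, one_mul] at e1
    exact Prod.ext (Subtype.ext hx) (Subtype.ext e1)
  rw [← hr, ← Nat.card_congr (MonoidHom.ofInjective hinj).toEquiv, Nat.card_prod, hF,
    Nat.card_congr e.toEquiv, Nat.card_perm, Nat.card_fin]
  rfl

/-- members centralised by a subgroup of order thirteen do not commute -/
theorem thirteen_apart {Y : Subgroup G} (hY : Nat.card Y = 13) {d e : G} (hd : d ∈ fixSet D Y)
    (he : e ∈ fixSet D Y) (hc : Commute d e) : d = e := by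
  by_contra hne
  obtain ⟨hdD, hYd⟩ := mem_fix.mp hd
  obtain ⟨heD, hYe⟩ := mem_fix.mp he
  have hle : Y ≤ Subgroup.centralizer ({d, e} : Set G) := fun y hy => by
    refine Subgroup.mem_centralizer_iff.mpr ?_
    rintro t (rfl | rfl)
    exacts [(hYd y hy).symm.eq, (hYe y hy).symm.eq]
  have h13 := Subgroup.card_dvd_of_le hle
  rw [hY, h.card_commuting_pair hdD ⟨heD, Ne.symm hne, hc⟩] at h13
  norm_num at h13

/-- no element of order seven or eleven normalises a subgroup of order thirteen -/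
theorem thirteen_no_seven_eleven {Y : Subgroup G} (hY : Nat.card Y = 13) {q : ℕ} (hq : q = 7 ∨ q = 11) :
    ¬ q ∣ Nat.card ↥(Subgroup.normalizer (Y : Set G)) := by
  intro hdvd
  haveI : Fact (Nat.Prime 13) := ⟨by norm_num⟩
  haveI : Fact q.Prime := ⟨by rcases hq with rfl | rfl <;> norm_num⟩
  obtain ⟨z, hz, hzq, hcard⟩ := exists_zpowers_of_dvd hdvd
  have hc := norm_coprime_central hY hzq hz (by rcases hq with rfl | rfl <;> norm_num)
  have hle := Subgroup.card_dvd_of_le ((zpowers_cent.mp hc).trans Geo22.cent_le_normalizer)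
  rw [hY] at hle
  rcases hq with rfl | rfl
  · rw [h.seven_norm hcard] at hle; norm_num at hle
  · rw [(h.eleven_norm hcard).2] at hle; norm_num at hle

/-- seventeen or twenty three elements cannot permute the centralised members freely -/
theorem thirteen_free {Y X : Subgroup G} (hY : Nat.card Y = 13) {p : ℕ} (hp : p = 17 ∨ p = 23)
    (hX : Nat.card X = p) (hXY : X ≤ Subgroup.centralizer (Y : Set G))
    (hfree : ∀ d ∈ D, ¬ ∀ x ∈ X, Commute x d) {a : G} (ha : a ∈ D) : False := by
  classical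
  haveI : Fact (Nat.Prime 13) := ⟨by norm_num⟩
  haveI : Fact p.Prime := ⟨by rcases hp with rfl | rfl <;> norm_num⟩
  set Φ := fixSet D Y with hΦ
  have htt := h.core.tt
  have hmod : Φ.ncard % 13 = 3 := by
    have := fix_modEq (IsPGroup.of_card (p := 13) (n := 1) (by rw [hY, pow_one]) : IsPGroup 13 ↥Y) D
      (fun z _ y hy => htt.conj_mem z y hy)
    rw [h.card_members ha] at this
    exact this.symm
  have hmap : ∀ g ∈ Subgroup.normalizer (Y : Set G), ∀ y ∈ Φ, g * y * g⁻¹ ∈ Φ := fun g hg y hy =>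
    h.fixed_conj hg hy
  have hpd : p ∣ Φ.ncard := fix_dvd (IsPGroup.of_card (p := p) (n := 1) (by rw [hX, pow_one])) Φ
    (fun x hx y hy => hmap x (Geo22.cent_le_normalizer (hXY hx)) y hy) fun y hy => hfree y hy.1
  obtain ⟨d, hd⟩ : Φ.Nonempty := Set.nonempty_of_ncard_ne_zero (by omega)
  obtain ⟨hdD, hYd⟩ := mem_fix.mp hd
  -- the centraliser is transitive
  have hG : Φ.ncard ∣ Nat.card G := by
    have := card_orbit_conj (Subgroup.centralizer (Y : Set G)) Φ hd
      (fun g hg => hmap g (Geo22.cent_le_normalizer hg)) fun e he => by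
        by_cases q : d = e
        · exact ⟨1, one_mem _, by simp [q]⟩
        refine ⟨d * e, mul_mem hd.2 he.2, ?_⟩
        rw [mul_inv_rev, htt.inv_eq hdD, htt.inv_eq he.1,
          htt.braid hdD he.1 fun c => q (h.thirteen_apart hY hd he c)]
        calc e * d * e * (e * d) = e * d * (e * e) * d := by group
          _ = e := by rw [htt.sq e he.1, mul_one, mul_assoc, htt.sq d hdD, mul_one]
    exact ((Dvd.intro _ this.symm).trans (Subgroup.card_subgroup_dvd_card _))
  -- the others are one orbit of the stabiliser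
  set H := Subgroup.normalizer (Y : Set G) ⊓ Subgroup.centralizer ({d} : Set G) with hH
  set F := Φ \ {d} with hF
  have hFn : ∀ e ∈ F, ¬ Commute d e := fun e he c => he.2 (h.thirteen_apart hY hd he.1 c).symm
  have hF1 : F.ncard = Φ.ncard - 1 := by
    rw [hF, Set.ncard_sdiff (Set.singleton_subset_iff.mpr hd), Set.ncard_singleton]
  obtain ⟨e, he⟩ : F.Nonempty := Set.nonempty_of_ncard_ne_zero (by omega)
  have horb := card_orbit_conj H F he (fun g hg y hy => ⟨hmap g hg.1 y hy.1, fun q => hy.2 (by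
      have hgd : g * d * g⁻¹ = d := mul_inv_eq_iff_eq_mul.mpr (Subgroup.mem_centralizer_singleton_iff.mp hg.2)
      exact mul_left_cancel (mul_right_cancel ((show g * y * g⁻¹ = d from q).trans hgd.symm)))⟩)
    fun y hy => by
      obtain ⟨k, kd, ke⟩ := h.conj_far hdD hy.1.1 he.1.1 (hFn y hy) (hFn e he)
      set K := Subgroup.centralizer ({d, y} : Set G)
      have inK : ∀ {t}, (∀ x ∈ t, Commute x d ∧ Commute x y) → ∀ x ∈ (t : Set G), x ∈ K := fun ht x hx => by
        refine Subgroup.mem_centralizer_iff.mpr ?_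
        rintro s (rfl | rfl)
        exacts [(ht x hx).1.symm.eq, (ht x hx).2.symm.eq]
      have hYK : Y ≤ K := fun x hx => inK (t := (Y : Set G))
        (fun x hx => ⟨hYd x hx, (mem_fix.mp hy.1).2 x hx⟩) x hx
      have hkK : Y.map (MulAut.conj k).toMonoidHom ≤ K := by
        rintro _ ⟨x, hx, rfl⟩
        refine inK (t := {k * x * k⁻¹}) ?_ _ rfl
        rintro _ rfl
        constructor
        · have := (commute_conj (g := k)).mpr (hYd x hx)
          rwa [mul_inv_eq_iff_eq_mul.mpr kd.eq] at this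
        · have := (commute_conj (g := k)).mpr ((mem_fix.mp he.1).2 x hx)
          rwa [ke] at this
      obtain ⟨j, hj, ej⟩ := prime_conj_in hkK hYK
        (by rw [Subgroup.card_map_of_injective (MulAut.conj k).injective, hY]) hY
        (by rw [h.card_pair_num hdD hy.1.1 (hFn y hy)]; norm_num)
      have hjd : Commute j d := (Subgroup.mem_centralizer_iff.mp hj d (Or.inl rfl)).symm
      have hjy : Commute j y := (Subgroup.mem_centralizer_iff.mp hj y (Or.inr rfl)).symm
      refine ⟨j * k, ⟨?_, Subgroup.mem_centralizer_singleton_iff.mpr (hjd.mul_left kd).eq⟩, ?_⟩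
      · rw [Subgroup.map_map] at ej
        have hcomp : Y.map (MulAut.conj (j * k)).toMonoidHom = Y := by
          rw [map_mul]; exact ej
        refine Subgroup.mem_normalizer_iff.mpr fun x => ?_
        constructor
        · intro hx
          have := Subgroup.mem_map_of_mem (MulAut.conj (j * k)).toMonoidHom hx
          rwa [hcomp] at this
        · intro hx
          have hx' : j * k * x * (j * k)⁻¹ ∈ Y.map (MulAut.conj (j * k)).toMonoidHom := by rwa [hcomp]
          obtain ⟨x', hx', e'⟩ := hx'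
          exact (mul_left_cancel (mul_right_cancel e') : x' = x) ▸ hx'
      · rw [show j * k * e * (j * k)⁻¹ = j * (k * e * k⁻¹) * j⁻¹ by group, ke]
        exact mul_inv_eq_iff_eq_mul.mpr hjy.eq
  have hmH : F.ncard ∣ Nat.card ↥H := Dvd.intro _ horb.symm
  have hmd : F.ncard ∣ 2 * 3510 * 18393661440 := h.card_member hdD ▸
    hmH.trans (Subgroup.card_dvd_of_le inf_le_right)
  have hno : ∀ q, q = 7 ∨ q = 11 → ¬ q ∣ F.ncard := fun q hq c =>
    h.thirteen_no_seven_eleven hY hq (c.trans (hmH.trans (Subgroup.card_dvd_of_le inf_le_left)))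
  have hlt : F.ncard < 28161 := by
    have := Set.ncard_le_ncard (s := F) (t := {y | y ∈ D ∧ ¬ Commute d y}) (fun y hy =>
      ⟨hy.1.1, hFn y hy⟩) (Set.toFinite _)
    rw [h.card_far hdD] at this
    omega
  have h2 : F.ncard % 13 = 2 := by omega
  obtain ⟨i, hi, j, hj, k, hk, e'⟩ := thirteen_far_dvd hmd (hno 7 (Or.inl rfl)) (hno 11 (Or.inr rfl))
    (fun c => by have := Nat.mod_eq_zero_of_dvd c; omega)
  have hΦ1 : Φ.ncard = 2 ^ i * 3 ^ j * 5 ^ k + 1 := by omega
  rw [hΦ1] at hpd hG
  rw [e'] at h2 hlt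
  have hbad := thirteen_far_arith i hi j hj k hk
  have hor : (2 ^ i * 3 ^ j * 5 ^ k + 1) % 17 = 0 ∨ (2 ^ i * 3 ^ j * 5 ^ k + 1) % 23 = 0 := by
    rcases hp with rfl | rfl
    exacts [Or.inl (Nat.mod_eq_zero_of_dvd hpd), Or.inr (Nat.mod_eq_zero_of_dvd hpd)]
  have hGm := h.card_group ha ▸ Nat.mod_eq_zero_of_dvd hG
  simp only [thirteenBad, hlt, h2, hor, hGm, decide_true, Bool.true_and, ← Bool.decide_or,
    Bool.and_self, reduceCtorEq] at hbad

end Geo23

end Cfsg.Agent.H93
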