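import Cfsg.Prelude.Def_FischerSpaces

/-!
Sets of 3-transpositions: braid relations, neighbourhoods in the commuting graph, and the two
general structure lemmas used for groups of type M(22), M(23), M(24):
* a residue criterion for "one conjugacy class" (`all_conj`);
* a residue criterion for "no central transposition in a residue" (`noCentral_of_noDom`).
-/

set_option autoImplicit false

namespace Cfsg.Agent.H93

variable {G : Type*} [Group G]

/-- a conjugation invariant set of 3-transpositions (not necessarily generating; the identity is allowed) -/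
structure TT (D : Set G) : Prop where
  sq : ∀ a ∈ D, a * a = 1
  pair : ∀ a ∈ D, ∀ b ∈ D, (a * b) ^ 2 = 1 ∨ (a * b) ^ 3 = 1
  conj_mem : ∀ g : G, ∀ a ∈ D, g * a * g⁻¹ ∈ D

/-- the neighbours of `a` in the commuting graph on `D` -/
def nb (D : Set G) (a : G) : Set G := {y : G | y ∈ D ∧ y ≠ a ∧ Commute a y}

theorem mem_nb {D : Set G} {a y : G} : y ∈ nb D a ↔ y ∈ D ∧ y ≠ a ∧ Commute a y := Iff.rfl

theorem nb_symm {D : Set G} {a y : G} (ha : a ∈ D) (h : y ∈ nb D a) : a ∈ nb D y :=
  ⟨ha, h.2.1.symm, h.2.2.symm⟩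

theorem TT.of_group {D : Set G} (h : Cfsg.IsThreeTranspositionGroup D) : TT D where
  sq a ha := by
    have e := pow_orderOf_eq_one a
    rwa [h.1.1 a ha, pow_two] at e
  pair := h.1.2
  conj_mem := h.2.1

theorem TT.of_class {D : Set G} (h : Cfsg.IsThreeTranspositionClass D) : TT D where
  sq a ha := by
    have e := pow_orderOf_eq_one a
    rwa [h.1.1 a ha, pow_two] at e
  pair := h.1.2
  conj_mem g a ha := by
    obtain ⟨d, hd, rfl⟩ := h.2.1
    exact IsConj.trans ha (isConj_iff.mpr ⟨g, rfl⟩)

variable {D : Set G}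

theorem TT.inv_eq (hD : TT D) {a : G} (ha : a ∈ D) : a⁻¹ = a :=
  inv_eq_of_mul_eq_one_left (hD.sq a ha)

theorem TT.cancel (hD : TT D) {a : G} (ha : a ∈ D) (x : G) : a * (a * x) = x := by
  rw [← mul_assoc, hD.sq a ha, one_mul]

theorem TT.conj_self_mem (hD : TT D) {a b : G} (ha : a ∈ D) (hb : b ∈ D) : a * b * a ∈ D := by
  have := hD.conj_mem a b hb
  rwa [hD.inv_eq ha] at this

theorem TT.commute_of_sq (hD : TT D) {a b : G} (ha : a ∈ D) (hb : b ∈ D) (h : (a * b) ^ 2 = 1) :
    Commute a b := by
  rw [pow_two] at h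
  have := eq_inv_of_mul_eq_one_left h
  rwa [mul_inv_rev, hD.inv_eq ha, hD.inv_eq hb] at this

theorem TT.sq_of_commute (hD : TT D) {a b : G} (ha : a ∈ D) (hb : b ∈ D) (h : Commute a b) :
    a * b * (a * b) = 1 := by
  calc a * b * (a * b) = a * (b * a) * b := by group
    _ = a * (a * b) * b := by rw [h.eq]
    _ = 1 := by rw [hD.cancel ha, hD.sq b hb]

theorem TT.cube (hD : TT D) {a b : G} (ha : a ∈ D) (hb : b ∈ D) (h : ¬ Commute a b) :
    (a * b) ^ 3 = 1 :=
  (hD.pair a ha b hb).resolve_left fun e => h (hD.commute_of_sq ha hb e)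

theorem TT.braid (hD : TT D) {a b : G} (ha : a ∈ D) (hb : b ∈ D) (h : ¬ Commute a b) :
    a * b * a = b * a * b := by
  have h3 := hD.cube ha hb h
  have e : a * b * a * (b * a * b) = 1 := by rw [← h3, pow_succ, pow_two]; group
  have := eq_inv_of_mul_eq_one_left e
  rwa [mul_inv_rev, mul_inv_rev, hD.inv_eq ha, hD.inv_eq hb, ← mul_assoc] at this

theorem TT.conj_of_not_commute (hD : TT D) {a b : G} (ha : a ∈ D) (hb : b ∈ D) (h : ¬ Commute a b) :
    IsConj a b := by
  refine isConj_iff.mpr ⟨a * b, ?_⟩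
  rw [hD.braid ha hb h, mul_inv_rev, hD.inv_eq ha, hD.inv_eq hb]
  calc b * a * b * (b * a) = b * a * (b * b) * a := by group
    _ = b * (a * a) := by rw [hD.sq b hb]; group
    _ = b := by rw [hD.sq a ha, mul_one]

/-- a member commuting with the product of two members commutes with both -/
theorem TT.commute_of_commute_mul (hD : TT D) {v b y : G} (hv : v ∈ D) (hb : b ∈ D) (hy : y ∈ D)
    (hne : b ≠ y) (h : Commute v (b * y)) : Commute v b ∧ Commute v y := by
  by_cases hvb : Commute v b
  · exact ⟨hvb, by simpa [hD.cancel hb] using hvb.mul_right h⟩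
  by_cases hvy : Commute v y
  · have e : b * y * y = b := by rw [mul_assoc, hD.sq y hy, mul_one]
    exact ⟨e ▸ h.mul_right hvy, hvy⟩
  exfalso
  have e1 : b * v * b = y * v * y := by
    calc b * v * b = b * v * b * (y * y) := by rw [hD.sq y hy, mul_one]
      _ = b * (v * (b * y)) * y := by group
      _ = b * ((b * y) * v) * y := by rw [h.eq]
      _ = y * v * y := by rw [← mul_assoc b (b * y), hD.cancel hb]
  rw [← hD.braid hv hb hvb, ← hD.braid hv hy hvy] at e1
  exact hne (mul_left_cancel (mul_right_cancel e1))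

/-- a member commuting with a product of three pairwise commuting members commutes with each -/
theorem TT.commute_of_commute_mul₃ (hD : TT D) {v a b c : G} (hv : v ∈ D) (ha : a ∈ D) (hb : b ∈ D)
    (hc : c ∈ D) (hab : a ≠ b) (hac : a ≠ c) (hbc : b ≠ c) (cab : Commute a b) (cac : Commute a c)
    (cbc : Commute b c) (h : Commute v (a * b * c)) : Commute v a ∧ Commute v b ∧ Commute v c := by
  by_cases hva : Commute v a
  · have : Commute v (b * c) := by
      have := hva.mul_right h
      rwa [← mul_assoc, ← mul_assoc, hD.sq a ha, one_mul] at this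
    exact ⟨hva, hD.commute_of_commute_mul hv hb hc hbc this⟩
  by_cases hvb : Commute v b
  · have : Commute v (a * c) := by
      have := hvb.mul_right h
      rwa [show b * (a * b * c) = b * b * (a * c) by rw [cab.eq]; group, hD.sq b hb, one_mul] at this
    obtain ⟨h1, h2⟩ := hD.commute_of_commute_mul hv ha hc hac this
    exact ⟨h1, hvb, h2⟩
  by_cases hvc : Commute v c
  · have : Commute v (a * b) := by
      have := h.mul_right hvc
      rwa [mul_assoc, hD.sq c hc, mul_one] at this
    obtain ⟨h1, h2⟩ := hD.commute_of_commute_mul hv ha hb hab this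
    exact ⟨h1, h2, hvc⟩
  exfalso
  have bv := hD.braid hv hb hvb
  have cv := hD.braid hv hc hvc
  have av := hD.braid hv ha hva
  -- `b c v c b = v a v`
  have h1 : b * (c * v * c) * b = v * a * v := by
    calc b * (c * v * c) * b = (b * c) * v * (c * b) := by group
      _ = a * (a * b * c * v) * (c * b) := by
          rw [show a * (a * b * c * v) = a * (a * (b * c * v)) by group, hD.cancel ha]
      _ = a * (v * (a * b * c)) * (c * b) := by rw [h.eq]
      _ = a * v * a * b * (c * c) * b := by group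
      _ = a * v * a * (b * b) := by rw [hD.sq c hc]; group
      _ = v * a * v := by rw [hD.sq b hb, mul_one, av]
  rw [← cv] at h1
  -- `(v b v) c (v b v) = v a v`
  have h2 : v * (b * v * c * v * b) * v = v * a * v := by
    calc v * (b * v * c * v * b) * v = (v * b * v) * c * (v * b * v) := by group
      _ = (b * v * b) * c * (b * v * b) := by rw [bv]
      _ = b * v * (b * c) * b * v * b := by group
      _ = b * v * c * (b * b) * v * b := by rw [cbc.eq]; group
      _ = b * v * c * v * b := by rw [hD.sq b hb, mul_one]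
      _ = v * a * v := by rw [← h1]; group
  have h3 : b * v * c * v * b = a := mul_left_cancel (mul_right_cancel h2)
  have h4 : v * c * v = a := by
    calc v * c * v = b * (b * v * c * v * b) * b := by
          rw [show b * (b * v * c * v * b) * b = (b * b) * (v * c * v) * (b * b) by group, hD.sq b hb,
            one_mul, mul_one]
      _ = b * a * b := by rw [h3]
      _ = a := by rw [← cab.eq, mul_assoc, hD.sq b hb, mul_one]
  rw [cv] at h4
  apply hva
  have : v = a := by
    calc v = c * (c * v * c) * c := by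
          rw [show c * (c * v * c) * c = (c * c) * v * (c * c) by group, hD.sq c hc, one_mul, mul_one]
      _ = c * a * c := by rw [h4]
      _ = a := by rw [← cac.eq, mul_assoc, hD.sq c hc, mul_one]
  exact this ▸ Commute.refl v

theorem TT.nb_conj (hD : TT D) (g : G) {a y : G} (h : y ∈ nb D a) :
    g * y * g⁻¹ ∈ nb D (g * a * g⁻¹) :=
  ⟨hD.conj_mem g y h.1, fun e => h.2.1 (mul_left_cancel (mul_right_cancel e)),
    by simpa [MulAut.conj_apply] using h.2.2.map (MulAut.conj g).toMonoidHom⟩

theorem commute_conj {g a b : G} : Commute (g * a * g⁻¹) (g * b * g⁻¹) ↔ Commute a b := by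
  constructor
  · intro h
    have h' := h.map (MulAut.conj g⁻¹).toMonoidHom
    simpa [mul_assoc] using h'
  · intro h
    simpa using h.map (MulAut.conj g).toMonoidHom

/-- `y` commutes with every member of the neighbourhood of `a` -/
def IsCentralIn (D : Set G) (a y : G) : Prop := ∀ v ∈ nb D a, Commute v y

/-- the images of `p` and `q` in the residue of `a` coincide -/
def SameImage (D : Set G) (a p q : G) : Prop := IsCentralIn D a (p * q)

/-- no image in the residue of `a` dominates another commuting one -/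
def NoDomImage (D : Set G) (a : G) : Prop :=
  ∀ p ∈ nb D a, ∀ q ∈ nb D a, ¬ IsCentralIn D a p → ¬ IsCentralIn D a q → Commute p q →
    ¬ SameImage D a p q → ∃ v ∈ nb D a, Commute v p ∧ ¬ Commute v q

/-- the data of a residue are the same at conjugate points -/
theorem TT.isCentralIn_conj (hD : TT D) (g a y : G) :
    IsCentralIn D (g * a * g⁻¹) (g * y * g⁻¹) ↔ IsCentralIn D a y := by
  constructor
  · intro h v hv
    exact commute_conj.mp (h _ (hD.nb_conj g hv))
  · intro h v hv
    have hv' := hD.nb_conj g⁻¹ hv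
    have e1 : g⁻¹ * (g * a * g⁻¹) * g⁻¹⁻¹ = a := by group
    rw [e1] at hv'
    have := commute_conj (g := g) |>.mpr (h _ hv')
    have e2 : g * (g⁻¹ * v * g⁻¹⁻¹) * g⁻¹ = v := by group
    rwa [e2] at this

theorem TT.noDomImage_conj (hD : TT D) (g : G) {a : G} (h : NoDomImage D a) :
    NoDomImage D (g * a * g⁻¹) := by
  intro p hp q hq hcp hcq hpq hs
  have back : ∀ y ∈ nb D (g * a * g⁻¹), ∃ x ∈ nb D a, y = g * x * g⁻¹ := fun y hy => by
    refine ⟨g⁻¹ * y * g⁻¹⁻¹, ?_, by group⟩
    have := hD.nb_conj g⁻¹ hy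
    have e1 : g⁻¹ * (g * a * g⁻¹) * g⁻¹⁻¹ = a := by group
    rwa [e1] at this
  obtain ⟨p, hp', rfl⟩ := back p hp
  obtain ⟨q, hq', rfl⟩ := back q hq
  obtain ⟨v, hv, h1, h2⟩ := h p hp' q hq' (fun c => hcp ((hD.isCentralIn_conj g a p).mpr c))
    (fun c => hcq ((hD.isCentralIn_conj g a q).mpr c)) (commute_conj.mp hpq)
    (fun c => hs (by
      have := (hD.isCentralIn_conj g a (p * q)).mpr c
      have e : g * (p * q) * g⁻¹ = g * p * g⁻¹ * (g * q * g⁻¹) := by group
      rw [e] at this; exact this))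
  exact ⟨_, hD.nb_conj g hv, commute_conj.mpr h1, fun c => h2 (commute_conj.mp c)⟩

variable [Finite G]

theorem TT.ncard_nb_le (hD : TT D) {a b : G} (h : IsConj a b) :
    (nb D b).ncard ≤ (nb D a).ncard := by
  obtain ⟨g, rfl⟩ := isConj_iff.mp h
  refine Set.ncard_le_ncard_of_injOn (fun y => g⁻¹ * y * g) ?_
    (fun x _ y _ e => mul_left_cancel (mul_right_cancel e)) (Set.toFinite _)
  intro y hy
  have := hD.nb_conj g⁻¹ hy
  have e1 : g⁻¹ * (g * a * g⁻¹) * g⁻¹⁻¹ = a := by group
  rw [e1, inv_inv] at this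
  exact this

/-- conjugate commuting members whose closed neighbourhoods are nested have equal ones -/
theorem TT.closed_nb_eq (hD : TT D) {a b : G} (ha : a ∈ D) (hab : IsConj a b) (hb : b ∈ nb D a)
    (h : IsCentralIn D a b) : IsCentralIn D b a := by
  intro v hv
  by_cases hva : v = a
  · exact hva ▸ Commute.refl v
  have hsub : insert a (nb D a \ {b}) ⊆ nb D b := by
    rintro y (rfl | ⟨hy, hyb⟩)
    · exact nb_symm ha hb
    · exact ⟨hy.1, hyb, (h y hy).symm⟩
  have hcard : (nb D b).ncard ≤ (insert a (nb D a \ {b})).ncard := by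
    rw [Set.ncard_insert_of_notMem (fun e => e.1.2.1 rfl), Set.ncard_sdiff_singleton_add_one hb]
    exact hD.ncard_nb_le hab
  have heq := Set.eq_of_subset_of_ncard_le hsub hcard
  rw [← heq] at hv
  rcases hv with rfl | ⟨hv, -⟩
  · exact absurd rfl hva
  · exact hv.2.2.symm

/-- if residues do not have dominated images then no member is central in a residue -/
theorem noCentral_of_noDom (hD : TT D) (hcl : ∀ a ∈ D, ∀ b ∈ D, IsConj a b)
    (hnd : ∀ a ∈ D, NoDomImage D a) (hex : ∀ a ∈ D, ∃ s ∈ nb D a, ¬ IsCentralIn D a s) :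
    ∀ a ∈ D, ∀ y ∈ nb D a, ¬ IsCentralIn D a y := by
  intro d hd y hy hyc
  have hdy := hD.closed_nb_eq hd (hcl d hd y hy.1) hy hyc
  obtain ⟨s, hs, hsc⟩ := hex d hd
  have hsy : s ≠ y := fun e => hsc (e ▸ hyc)
  have hd_s : d ∈ nb D s := nb_symm hd hs
  have hy_s : y ∈ nb D s := ⟨hy.1, hsy.symm, hyc s hs⟩
  have hdnc : ¬ IsCentralIn D s d := fun c =>
    hsc (hD.closed_nb_eq hs.1 (hcl s hs.1 d hd) hd_s c)
  have hync : ¬ IsCentralIn D s y := by
    intro c
    apply hdnc
    intro v hv
    by_cases hvy : v = y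
    · exact hvy ▸ hy.2.2.symm
    exact hdy v ⟨hv.1, hvy, (c v hv).symm⟩
  have hsame : ¬ SameImage D s d y := fun c => hdnc fun v hv =>
    (hD.commute_of_commute_mul hv.1 hd hy.1 hy.2.1.symm (c v hv)).1
  obtain ⟨v, hv, hvd, hvy⟩ := hnd s hs.1 d hd_s y hy_s hdnc hync hy.2.2 hsame
  apply hvy
  by_cases e : v = d
  · exact e ▸ hy.2.2
  · exact hyc v ⟨hv.1, e, hvd.symm⟩

/-! ### the residue group -/

omit [Finite G] in
/-- the subgroup generated by the neighbours of `a` -/
abbrev nbSub (D : Set G) (a : G) : Subgroup G :=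
  Subgroup.closure {y : G | y ∈ D ∧ y ≠ a ∧ Commute a y}

omit [Finite G] in
/-- the residue group at `a` -/
abbrev Residue (D : Set G) (a : G) : Type _ := ↥(nbSub D a) ⧸ Subgroup.center ↥(nbSub D a)

omit [Finite G] in
/-- a neighbour, as an element of the subgroup generated by the neighbours -/
def nbElem {D : Set G} {a y : G} (h : y ∈ nb D a) : ↥(nbSub D a) := ⟨y, Subgroup.subset_closure h⟩

omit [Finite G] in
theorem mem_center_nbSub {a : G} {x : ↥(nbSub D a)} :
    x ∈ Subgroup.center ↥(nbSub D a) ↔ IsCentralIn D a (x : G) := by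
  constructor
  · intro h v hv
    exact congrArg Subtype.val (Subgroup.mem_center_iff.mp h (nbElem hv))
  · intro h
    rw [Subgroup.mem_center_iff]
    intro g
    apply Subtype.ext
    have hle : nbSub D a ≤ Subgroup.centralizer ({(x : G)} : Set G) := by
      rw [Subgroup.closure_le]
      intro v hv
      exact Subgroup.mem_centralizer_singleton_iff.mpr (h v hv).eq
    exact Subgroup.mem_centralizer_singleton_iff.mp (hle g.2)

omit [Finite G] in
theorem residue_mk_eq_one {a y : G} (h : y ∈ nb D a) :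
    (QuotientGroup.mk (nbElem h) : Residue D a) = 1 ↔ IsCentralIn D a y :=
  (QuotientGroup.eq_one_iff _).trans mem_center_nbSub

omit [Finite G] in
theorem residue_mk_eq (hD : TT D) {a p q : G} (hp : p ∈ nb D a) (hq : q ∈ nb D a) :
    (QuotientGroup.mk (nbElem hp) : Residue D a) = QuotientGroup.mk (nbElem hq) ↔
      SameImage D a p q := by
  rw [QuotientGroup.eq, mem_center_nbSub]
  show IsCentralIn D a (p⁻¹ * q) ↔ _
  rw [hD.inv_eq hp.1]; rfl

omit [Finite G] in
theorem residue_commute (hD : TT D) {a p q : G} (hp : p ∈ nb D a) (hq : q ∈ nb D a) :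
    Commute (QuotientGroup.mk (nbElem hp) : Residue D a) (QuotientGroup.mk (nbElem hq)) ↔
      Commute p q := by
  constructor
  · intro h
    by_contra hc
    have hsq : ((QuotientGroup.mk (nbElem hp * nbElem hq) : Residue D a)) ^ 2 = 1 := by
      rw [QuotientGroup.mk_mul, pow_two]
      calc (QuotientGroup.mk (nbElem hp) : Residue D a) * QuotientGroup.mk (nbElem hq) *
            (QuotientGroup.mk (nbElem hp) * QuotientGroup.mk (nbElem hq))
          = QuotientGroup.mk (nbElem hp) * (QuotientGroup.mk (nbElem hq) * QuotientGroup.mk (nbElem hp)) *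
            QuotientGroup.mk (nbElem hq) := by group
        _ = QuotientGroup.mk (nbElem hp) * (QuotientGroup.mk (nbElem hp) * QuotientGroup.mk (nbElem hq)) *
            QuotientGroup.mk (nbElem hq) := by rw [h.eq]
        _ = QuotientGroup.mk (nbElem hp * nbElem hp * (nbElem hq * nbElem hq)) := by
            simp only [QuotientGroup.mk_mul]; group
        _ = 1 := by
            have ep : nbElem hp * nbElem hp = 1 := Subtype.ext (hD.sq p hp.1)
            have eq_ : nbElem hq * nbElem hq = 1 := Subtype.ext (hD.sq q hq.1)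
            rw [ep, eq_, one_mul]; rfl
    have h3 : ((QuotientGroup.mk (nbElem hp * nbElem hq) : Residue D a)) ^ 3 = 1 := by
      rw [← QuotientGroup.mk_pow]
      have : (nbElem hp * nbElem hq) ^ 3 = 1 := Subtype.ext (hD.cube hp.1 hq.1 hc)
      rw [this]; rfl
    rw [pow_succ, hsq, one_mul] at h3
    have hcen : IsCentralIn D a (p * q) := mem_center_nbSub.mp ((QuotientGroup.eq_one_iff _).mp h3)
    exact hc (hD.commute_of_commute_mul hp.1 hp.1 hq.1 (fun e => hc (e ▸ Commute.refl p)) (hcen p hp)).2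
  · intro h
    show _ = _
    rw [← QuotientGroup.mk_mul, ← QuotientGroup.mk_mul]
    exact congrArg _ (Subtype.ext h.eq)

omit [Finite G] in
theorem nb_noncentral_exists {a : G} {g : Residue D a} (hg : g ≠ 1) :
    ∃ s ∈ nb D a, ¬ IsCentralIn D a s := by
  by_contra hall
  simp only [not_exists, not_and, not_not] at hall
  obtain ⟨h, rfl⟩ := QuotientGroup.mk_surjective g
  apply hg
  rw [QuotientGroup.eq_one_iff, mem_center_nbSub]
  intro v hv
  have hle : nbSub D a ≤ Subgroup.centralizer ({v} : Set G) := by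
    rw [Subgroup.closure_le]
    intro w hw
    exact Subgroup.mem_centralizer_singleton_iff.mpr (hall v hv w hw).eq
  exact (Subgroup.mem_centralizer_singleton_iff.mp (hle h.2)).symm

omit [Finite G] in
/-- residue criterion for a single class -/
theorem all_conj (hD : TT D) (hgen : Subgroup.closure D = ⊤) (hcen : Subgroup.center G = ⊥)
    {d c : G} (hd : d ∈ D) (hc : c ∈ D) (hdc : ¬ Commute d c)
    (htr : ∀ p, ∀ hp : p ∈ nb D d, ∀ q, ∀ hq : q ∈ nb D d, ¬ IsCentralIn D d p → ¬ IsCentralIn D d q →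
      ∃ h : Residue D d, h * QuotientGroup.mk (nbElem hp) * h⁻¹ = QuotientGroup.mk (nbElem hq))
    (h11 : ∃ g : Residue D d, g ≠ 1 ∧ g ^ 11 = 1)
    (hL : ∀ g : ↥(Subgroup.closure ({y : G | y ∈ D ∧ y ≠ d ∧ Commute d y} ∩
        {y : G | y ∈ D ∧ y ≠ c ∧ Commute c y})) ⧸
      Subgroup.center ↥(Subgroup.closure ({y : G | y ∈ D ∧ y ≠ d ∧ Commute d y} ∩
        {y : G | y ∈ D ∧ y ≠ c ∧ Commute c y})), g ^ 11 = 1 → g = 1) :
    ∀ y ∈ D, y ≠ 1 → IsConj d y := by
  intro y hy hy1
  by_contra hyn
  -- members outside the class commute with the class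
  have hcomm : ∀ z ∈ D, ¬ IsConj d z → ∀ x ∈ D, IsConj d x → Commute x z := fun z hz hzn x hx hxc => by
    by_contra hn
    exact hzn (hxc.trans (hD.conj_of_not_commute hx hz hn))
  have hcd : IsConj d c := hD.conj_of_not_commute hd hc hdc
  have hmem : ∀ z ∈ D, ¬ IsConj d z → z ∈ nb D d ∧ z ∈ nb D c := fun z hz hzn =>
    ⟨⟨hz, fun e => hzn (e ▸ IsConj.refl _), hcomm z hz hzn d hd (IsConj.refl _)⟩,
      ⟨hz, fun e => hzn (e ▸ hcd), hcomm z hz hzn c hc hcd⟩⟩
  -- some member outside the class is not central at `d`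
  obtain ⟨y0, hy0, hy0n, hy0c⟩ : ∃ z ∈ D, ¬ IsConj d z ∧ ¬ IsCentralIn D d z := by
    by_contra hall
    simp only [not_exists, not_and, not_not] at hall
    have hyc : y ∈ Subgroup.center G := by
      rw [Subgroup.mem_center_iff]
      intro g
      have hle : Subgroup.closure D ≤ Subgroup.centralizer ({y} : Set G) := by
        rw [Subgroup.closure_le]
        intro x hx
        refine Subgroup.mem_centralizer_singleton_iff.mpr ?_
        by_cases hxc : IsConj d x
        · exact (hcomm y hy hyn x hx hxc).eq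
        · exact (hall y hy hyn x (hmem x hx hxc).1).eq
      rw [hgen] at hle
      exact Subgroup.mem_centralizer_singleton_iff.mp (hle (Subgroup.mem_top g))
    rw [hcen, Subgroup.mem_bot] at hyc
    exact hy1 hyc
  -- the members of the class at `d` are central at `d`
  have hclass : ∀ s ∈ nb D d, IsConj d s → IsCentralIn D d s := by
    intro s hs hsc
    by_contra hsn
    have hy0d := (hmem y0 hy0 hy0n).1
    obtain ⟨h, hh⟩ := htr y0 hy0d s hs hy0c hsn
    obtain ⟨h, rfl⟩ := QuotientGroup.mk_surjective h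
    have hy1n : ¬ IsConj d ((h : G) * y0 * (h : G)⁻¹) := fun e =>
      hy0n (e.trans (isConj_iff.mpr ⟨(h : G)⁻¹, by group⟩))
    have hy1 := (hmem _ (hD.conj_mem (h : G) y0 hy0) hy1n).1
    have hsame : SameImage D d ((h : G) * y0 * (h : G)⁻¹) s := by
      rw [← residue_mk_eq hD hy1 hs, ← hh]
      rfl
    apply hsn
    intro v hv
    refine (hD.commute_of_commute_mul hv.1 hy1.1 hs.1 (fun e => hy1n ?_) (hsame v hv)).2
    rw [e]; exact hsc
  -- so the residue is generated by the common neighbours modulo its centre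
  set L := Subgroup.closure ({y : G | y ∈ D ∧ y ≠ d ∧ Commute d y} ∩
    {y : G | y ∈ D ∧ y ≠ c ∧ Commute c y}) with hLdef
  have hLH : L ≤ nbSub D d := Subgroup.closure_mono Set.inter_subset_left
  have hdec : nbSub D d ≤ L ⊔ (Subgroup.center ↥(nbSub D d)).map (nbSub D d).subtype := by
    rw [Subgroup.closure_le]
    intro s hs
    by_cases hsc : IsConj d s
    · exact Subgroup.mem_sup_right
        ⟨nbElem hs, mem_center_nbSub.mpr (hclass s hs hsc), rfl⟩
    · exact Subgroup.mem_sup_left (Subgroup.subset_closure (hmem s hs.1 hsc))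
  obtain ⟨g, hg1, hg11⟩ := h11
  obtain ⟨h, rfl⟩ := QuotientGroup.mk_surjective g
  set Z := (Subgroup.center ↥(nbSub D d)).map (nbSub D d).subtype with hZdef
  have hnorm : L ≤ Subgroup.normalizer (Z : Set G) := by
    intro l hl
    rw [Subgroup.mem_normalizer_iff]
    have key : ∀ l ∈ nbSub D d, ∀ z ∈ Z, l * z * l⁻¹ = z := by
      rintro l hl z ⟨z, hz, rfl⟩
      have := congrArg Subtype.val (Subgroup.mem_center_iff.mp hz ⟨l, hl⟩)
      simp only [Subgroup.coe_mul] at this
      show l * (z : G) * l⁻¹ = (z : G)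
      rw [this, mul_inv_cancel_right]
    intro z
    constructor
    · intro hz; rw [key l (hLH hl) z hz]; exact hz
    · intro hz
      have := key l⁻¹ (Subgroup.inv_mem _ (hLH hl)) _ hz
      have e : l⁻¹ * (l * z * l⁻¹) * l⁻¹⁻¹ = z := by group
      rw [e] at this
      exact this.symm ▸ hz
  have hh' : (h : G) ∈ ((L ⊔ Z : Subgroup G) : Set G) := hdec h.2
  rw [Subgroup.coe_mul_of_left_le_normalizer_right L Z hnorm] at hh'
  obtain ⟨l, hl, z, hz, hlz⟩ := hh'
  obtain ⟨z, hzc, rfl⟩ := hz
  have hhl : h = ⟨l, hLH hl⟩ * z := Subtype.ext hlz.symm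
  have hcl : (QuotientGroup.mk h : Residue D d) = QuotientGroup.mk (⟨l, hLH hl⟩ : ↥(nbSub D d)) := by
    rw [hhl, QuotientGroup.mk_mul, (QuotientGroup.eq_one_iff z).mpr hzc, mul_one]
  rw [hcl] at hg1 hg11
  apply hg1
  rw [← QuotientGroup.mk_pow, QuotientGroup.eq_one_iff] at hg11
  have hl11 : (QuotientGroup.mk ((⟨l, hl⟩ : ↥L) ^ 11) : ↥L ⧸ Subgroup.center ↥L) = 1 := by
    rw [QuotientGroup.eq_one_iff, Subgroup.mem_center_iff]
    intro x
    apply Subtype.ext
    have := congrArg Subtype.val (Subgroup.mem_center_iff.mp hg11 ⟨x, hLH x.2⟩)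
    simpa using this
  have hlc := hL (QuotientGroup.mk (⟨l, hl⟩ : ↥L)) (by rw [← QuotientGroup.mk_pow]; exact hl11)
  rw [QuotientGroup.eq_one_iff] at hlc ⊢
  rw [mem_center_nbSub]
  intro v hv
  by_cases hvc : IsConj d v
  · have hle : nbSub D d ≤ Subgroup.centralizer ({v} : Set G) := by
      rw [Subgroup.closure_le]
      intro w hw
      exact Subgroup.mem_centralizer_singleton_iff.mpr (hclass v hv hvc w hw).eq
    exact (Subgroup.mem_centralizer_singleton_iff.mp (hle (hLH hl))).symm
  · exact congrArg Subtype.val (Subgroup.mem_center_iff.mp hlc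
      ⟨v, Subgroup.subset_closure (hmem v hv.1 hvc)⟩)

end Cfsg.Agent.H93
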