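import Cfsg.Agent.H93.Geo23

/-!
Groups of type M(23): 351 common neighbours of a pair, 31671 members, and the order of the group.
-/

set_option autoImplicit false

namespace Cfsg.Agent.H93

theorem thirteen_arith : ∀ t < 127, 10080 % t = 0 → 9884160 % (127 + 10080 / t) = 0 → 0 < t →
    t = 45 := by decide +kernel

namespace Geo23

variable {G : Type*} [Group G] {D : Set G} (h : Geo23 D) [Finite G]

include h

/-- the order of the centraliser of two neighbours, from the residue -/
theorem card_over {z y y' : G} (hz : z ∈ D) (hy : y ∈ nb D z) (hy' : y' ∈ nb D z) :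
    Nat.card ↥(Subgroup.centralizer ({y, z, y'} : Set G)) =
      2 * Nat.card ↥(Subgroup.centralizer ({rimg D z y, rimg D z y'} : Set (Residue D z))) := by
  classical
  have htt := h.core.tt
  set C := Subgroup.centralizer ({y, z, y'} : Set G)
  have hle : C ≤ nbSub D z := fun g hg => by
    rw [← h.cent z hz]
    exact Subgroup.mem_centralizer_singleton_iff.mpr (Subgroup.mem_centralizer_iff.mp hg z (by simp)).symm
  let f : ↥C →* Residue D z := (QuotientGroup.mk' _).comp (Subgroup.inclusion hle)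
  have hrange : f.range = Subgroup.centralizer ({rimg D z y, rimg D z y'} : Set (Residue D z)) := by
    ext γ
    constructor
    · rintro ⟨g, rfl⟩
      refine Subgroup.mem_centralizer_iff.mpr ?_
      have hfix : ∀ {x}, x ∈ nb D z → x ∈ ({y, z, y'} : Set G) →
          rimg D z x * f g = f g * rimg D z x := by
        intro x hx hxm
        have hc := Subgroup.mem_centralizer_iff.mp g.2 x hxm
        rw [rimg_eq hx]
        exact congrArg QuotientGroup.mk (Subtype.ext hc : nbElem hx * Subgroup.inclusion hle g =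
          Subgroup.inclusion hle g * nbElem hx)
      rintro x (rfl | rfl)
      exacts [hfix hy (by simp), hfix hy' (by simp)]
    · intro hγ
      obtain ⟨⟨k, hk⟩, rfl⟩ := QuotientGroup.mk_surjective γ
      have hc := Subgroup.mem_centralizer_iff.mp hγ
      have hfix : ∀ {x}, x ∈ nb D z → rimg D z x ∈ ({rimg D z y, rimg D z y'} : Set (Residue D z)) →
          x * k = k * x := by
        intro x hx hxm
        obtain ⟨hm, e⟩ := rimg_conj htt hz hk hx
        refine ((mul_inv_eq_iff_eq_mul.mp ((h.core.rimg_inj hz hm hx).mp ?_))).symm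
        rw [e, ← hc _ hxm, mul_inv_cancel_right]
      refine ⟨⟨k, Subgroup.mem_centralizer_iff.mpr ?_⟩, rfl⟩
      rintro x (rfl | rfl | rfl)
      exacts [hfix hy (by simp), (nbSub_commute hk).eq, hfix hy' (by simp)]
  have hzC : z ∈ C := Subgroup.mem_centralizer_iff.mpr (by
    rintro x (rfl | rfl | rfl)
    exacts [hy.2.2.symm.eq, rfl, hy'.2.2.symm.eq])
  have hker : Nat.card ↥f.ker = 2 := by
    rw [← Subgroup.card_map_of_injective (f := C.subtype) Subtype.val_injective,
      show f.ker.map C.subtype = Subgroup.zpowers z from ?_, Nat.card_zpowers,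
      orderOf_eq_prime (by rw [pow_two]; exact htt.sq z hz) (h.core.ne_one z hz)]
    refine le_antisymm ?_ (Subgroup.zpowers_le.mpr ⟨⟨z, hzC⟩, ?_, rfl⟩)
    · rintro _ ⟨g, hg, rfl⟩
      rcases h.two z hz (Subgroup.inclusion hle g) ((QuotientGroup.eq_one_iff _).mp hg) with e | e
      · rw [show C.subtype g = 1 from e]; exact one_mem _
      · rw [show C.subtype g = z from e]; exact Subgroup.mem_zpowers z
    · refine (QuotientGroup.eq_one_iff _).mpr (Subgroup.mem_center_iff.mpr fun w => Subtype.ext ?_)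
      exact (nbSub_commute w.2).symm.eq
  rw [← Subgroup.card_mul_index f.ker, Subgroup.index_ker, hrange, hker]

omit [Finite G] in
theorem exists_nb {a : G} (ha : a ∈ D) : ∃ z, z ∈ nb D a := h.core.edge a ha

/-- the centraliser of two commuting members -/
theorem card_two {a z : G} (hz : z ∈ D) (ha : a ∈ nb D z) :
    Nat.card ↥(Subgroup.centralizer ({a, z, a} : Set G)) = 2 * 18393661440 := by
  obtain ⟨K, iK, iKF, h22⟩ := h.res z hz
  rw [h.card_over hz ha ha,
    show ({rimg D z a, rimg D z a} : Set (Residue D z)) = {rimg D z a} by simp,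
    h22.card_member (rimg_mem ha)]

/-- the number of neighbours -/
theorem card_nb {a : G} (ha : a ∈ D) : (nb D a).ncard = 3510 := by
  obtain ⟨K, iK, iKF, h22⟩ := h.res a ha
  obtain ⟨z, hz⟩ := h.exists_nb ha
  rw [← h22.card_members (rimg_mem hz)]
  refine Set.BijOn.ncard_eq (f := rimg D a) ⟨fun y hy => rimg_mem hy, fun y hy y' hy' e =>
    (h.core.rimg_inj ha hy hy').mp e, fun e he => ?_⟩
  obtain ⟨y, hy, rfl⟩ := rimg_surj he
  exact ⟨y, hy, rfl⟩

/-- the centraliser of a member -/
theorem card_member {a : G} (ha : a ∈ D) :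
    Nat.card ↥(Subgroup.centralizer ({a} : Set G)) = 2 * 3510 * 18393661440 := by
  obtain ⟨z, hz⟩ := h.exists_nb ha
  have horb := card_of_transitive (Subgroup.centralizer ({a} : Set G))
    ((fun y => (a, y, a)) '' nb D a) a z a (Subgroup.centralizer_le (by simp))
    (fun g hg => by
      have ga : g * a * g⁻¹ = a :=
        mul_inv_eq_iff_eq_mul.mpr (Subgroup.mem_centralizer_singleton_iff.mp hg)
      refine ⟨g * z * g⁻¹, ?_, by simp [conj3, ga]⟩
      simpa [ga] using h.core.tt.nb_conj g hz)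
    (fun t ht => by
      obtain ⟨y, hy, rfl⟩ := ht
      obtain ⟨k, c, e⟩ := h.conj_nb ha hy hz
      exact ⟨k, Subgroup.mem_centralizer_singleton_iff.mpr c.eq,
        by simp only [conj3, e, mul_inv_eq_iff_eq_mul.mpr c.eq]⟩)
  rw [h.card_two hz.1 (nb_symm ha hz),
    Set.ncard_image_of_injective _ (fun p q e => congrArg (fun t => t.2.1) e), h.card_nb ha] at horb
  omega

variable {a d : G} (ha : a ∈ D) (hd : d ∈ D) (hn : ¬ Commute a d)

include ha hd hn

/-- common neighbours commuting with one of them -/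
theorem card_slice {z : G} (hz : z ∈ common D a d) : (common D a d ∩ nb D z).ncard = 126 := by
  have az := nb_symm ha hz.1
  have dz := nb_symm hd hz.2
  obtain ⟨K, iK, iKF, h22⟩ := h.res z hz.1.1
  rw [← h22.card_common (rimg_mem az) (rimg_mem dz) (fun q => hn ((h.core.rimg_comm az dz).mp q))]
  refine Set.BijOn.ncard_eq (f := rimg D z) ⟨fun y hy => (h.res_common hz.1.1 az dz hy.2).mpr hy.1,
    fun y hy y' hy' e => (h.core.rimg_inj hz.1.1 hy.2 hy'.2).mp e, fun e he => ?_⟩
  obtain ⟨y, hy, rfl⟩ := h.res_common_surj hz.1.1 az dz he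
  exact ⟨y, hy, rfl⟩

/-- the centraliser of a pair, by the common neighbours -/
theorem card_pair :
    Nat.card ↥(Subgroup.centralizer ({a, d, d} : Set G)) = (common D a d).ncard * (2 * 6531840) := by
  obtain ⟨z, hz⟩ := h.far a ha d hd hn
  have horb := card_of_transitive (Subgroup.centralizer ({a, d, d} : Set G))
    ((fun y => (a, y, d)) '' common D a d) a z d (Subgroup.centralizer_le (by intro t; simp; tauto))
    (fun g hg => by
      have hg' := Subgroup.mem_centralizer_iff.mp hg
      have ga : g * a * g⁻¹ = a := mul_inv_eq_iff_eq_mul.mpr (hg' a (by simp)).symm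
      have gd : g * d * g⁻¹ = d := mul_inv_eq_iff_eq_mul.mpr (hg' d (by simp)).symm
      refine ⟨g * z * g⁻¹, ?_, by simp [conj3, ga, gd]⟩
      simpa [ga, gd] using h.core.tt.common_conj g hz)
    (fun t ht => by
      obtain ⟨y, hy, rfl⟩ := ht
      obtain ⟨k, c1, c2, e⟩ := h.conj_common ha hd hn hy hz
      refine ⟨k, Subgroup.mem_centralizer_iff.mpr ?_, ?_⟩
      · rintro t (rfl | rfl | rfl)
        exacts [c1.symm.eq, c2.symm.eq, c2.symm.eq]
      · simp only [conj3, e, mul_inv_eq_iff_eq_mul.mpr c1.eq, mul_inv_eq_iff_eq_mul.mpr c2.eq])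
  obtain ⟨K, iK, iKF, h22⟩ := h.res z hz.1.1
  rw [h.card_over hz.1.1 (nb_symm ha hz.1) (nb_symm hd hz.2),
    h22.card_pair_num (rimg_mem (nb_symm ha hz.1)) (rimg_mem (nb_symm hd hz.2))
      (fun q => hn ((h.core.rimg_comm (nb_symm ha hz.1) (nb_symm hd hz.2)).mp q)),
    Set.ncard_image_of_injective _ (fun p q e => congrArg (fun t => t.2.1) e)] at horb
  exact horb

/-- far members against common neighbours -/
theorem far_mul_common :
    {y | y ∈ D ∧ ¬ Commute a y}.ncard * (common D a d).ncard = 9884160 := by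
  have horb := card_of_transitive (Subgroup.centralizer ({a} : Set G))
    ((fun y => (a, y, y)) '' {y | y ∈ D ∧ ¬ Commute a y}) a d d
    (Subgroup.centralizer_le (by simp))
    (fun g hg => by
      have ga : g * a * g⁻¹ = a :=
        mul_inv_eq_iff_eq_mul.mpr (Subgroup.mem_centralizer_singleton_iff.mp hg)
      refine ⟨g * d * g⁻¹, ⟨h.core.tt.conj_mem g d hd, fun q => hn ?_⟩, by simp [conj3, ga]⟩
      rw [← ga, commute_conj] at q; exact q)
    (fun t ht => by
      obtain ⟨y, ⟨hy, hny⟩, rfl⟩ := ht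
      obtain ⟨k, c, e⟩ := h.conj_far ha hy hd hny hn
      exact ⟨k, Subgroup.mem_centralizer_singleton_iff.mpr c.eq,
        by simp only [conj3, e, mul_inv_eq_iff_eq_mul.mpr c.eq]⟩)
  rw [h.card_member ha, h.card_pair ha hd hn,
    Set.ncard_image_of_injective _ (fun p q e => congrArg (fun t => t.2.1) e), ← mul_assoc] at horb
  omega

/-- the centraliser of a pair is transitive on common neighbours that do not commute -/
theorem conj_in_common {z w z' w' : G} (hz : z ∈ common D a d) (hw : w ∈ common D a d)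
    (hzw : ¬ Commute z w) (hz' : z' ∈ common D a d) (hw' : w' ∈ common D a d)
    (hzw' : ¬ Commute z' w') :
    ∃ k : G, Commute k a ∧ Commute k d ∧ k * z' * k⁻¹ = z ∧ k * w' * k⁻¹ = w := by
  obtain ⟨y, hy, hyw⟩ := h.common_far ha hd hn hz hw hzw
  obtain ⟨y', hy', hyw'⟩ := h.common_far ha hd hn hz' hw' hzw'
  obtain ⟨k1, a1, d1, e1⟩ := h.conj_common ha hd hn hy.1 hy'.1
  have htt := h.core.tt
  have tr : ∀ {t}, t ∈ common D a d → y' ∈ nb D t →
      k1 * t * k1⁻¹ ∈ common D a d ∩ nb D y := by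
    intro t ht hty
    refine ⟨?_, ?_⟩
    · have := htt.common_conj k1 ht
      rwa [show k1 * a * k1⁻¹ = a from mul_inv_eq_iff_eq_mul.mpr a1.eq,
        show k1 * d * k1⁻¹ = d from mul_inv_eq_iff_eq_mul.mpr d1.eq] at this
    · have := htt.nb_conj k1 (nb_symm ht.1.1 hty)
      rwa [e1] at this
  have yD := hy.1.1.1
  have az := nb_symm ha hy.1.1
  have dz := nb_symm hd hy.1.2
  obtain ⟨K, iK, iKF, h22⟩ := h.res y yD
  have hn2 : ¬ Commute (rimg D y a) (rimg D y d) := fun q => hn ((h.core.rimg_comm az dz).mp q)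
  obtain ⟨tz, tzy⟩ := tr hz' hy'.2
  obtain ⟨tw, twy⟩ := tr hw' hyw'
  have zy := nb_symm hz.1.1 hy.2
  have wy := nb_symm hw.1.1 hyw
  obtain ⟨γ, hγ, e2, e3⟩ := h22.conj_in_common (rimg_mem az) (rimg_mem dz) hn2
    ((h.res_common yD az dz zy).mpr hz) ((h.res_common yD az dz wy).mpr hw)
    (fun q => hzw ((h.core.rimg_comm zy wy).mp q))
    ((h.res_common yD az dz tzy).mpr tz) ((h.res_common yD az dz twy).mpr tw)
    (fun q => hzw' (commute_conj.mp ((h.core.rimg_comm tzy twy).mp q)))
  rw [← h22.cent_eq (rimg_mem az) (rimg_mem dz) hn2, Subgroup.mem_centralizer_iff] at hγ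
  obtain ⟨k2, -, hk2⟩ := h.res_lift yD γ
  have fa := hk2 az az (mul_inv_eq_iff_eq_mul.mpr (hγ _ (by simp)).symm)
  have fd := hk2 dz dz (mul_inv_eq_iff_eq_mul.mpr (hγ _ (by simp)).symm)
  refine ⟨k2 * k1, Commute.mul_left (mul_inv_eq_iff_eq_mul.mp fa) a1,
    Commute.mul_left (mul_inv_eq_iff_eq_mul.mp fd) d1, ?_, ?_⟩
  · rw [show k2 * k1 * z' * (k2 * k1)⁻¹ = k2 * (k1 * z' * k1⁻¹) * k2⁻¹ by group]
    exact hk2 tzy zy e2
  · rw [show k2 * k1 * w' * (k2 * k1)⁻¹ = k2 * (k1 * w' * k1⁻¹) * k2⁻¹ by group]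
    exact hk2 twy wy e3

/-- there are 351 common neighbours -/
theorem card_common : (common D a d).ncard = 351 := by
  classical
  haveI := Fintype.ofFinite G
  have htt := h.core.tt
  obtain ⟨z, hz⟩ := h.far a ha d hd hn
  set T := common D a d ∩ nb D z with hT
  set Fz := {v | v ∈ common D a d ∧ ¬ Commute z v} with hFz
  have hTc : T.ncard = 126 := h.card_slice ha hd hn hz
  have row : ∀ y ∈ T.toFinset, (Fz.toFinset.filter fun v => y ∈ nb D v).card = 80 := by
    intro y hy
    simp only [Set.mem_toFinset] at hy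
    have hzy : z ∈ common D a d ∩ nb D y := ⟨hz, nb_symm hz.1.1 hy.2⟩
    set M := {v ∈ common D a d ∩ nb D y | v ≠ z ∧ Commute z v}
    have hset : ((Fz.toFinset.filter fun v => y ∈ nb D v) : Set G) =
        (common D a d ∩ nb D y) \ insert z M := by
      ext v
      simp only [M, Finset.coe_filter, Set.mem_toFinset, Set.mem_ofPred_eq, Set.mem_sdiff,
        Set.mem_insert_iff, not_or, not_and]
      constructor
      · rintro ⟨⟨hv, hzv⟩, hvy⟩
        exact ⟨⟨hv, nb_symm hv.1.1 hvy⟩, fun q => hzv (q ▸ Commute.refl z), fun _ _ => hzv⟩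
      · rintro ⟨hv, hvz, himp⟩
        exact ⟨⟨hv.1, himp hv hvz⟩, nb_symm hy.1.1.1 hv.2⟩
    have yD := hy.1.1.1
    have az := nb_symm ha hy.1.1
    have dz := nb_symm hd hy.1.2
    obtain ⟨K, iK, iKF, h22⟩ := h.res y yD
    have hn2 : ¬ Commute (rimg D y a) (rimg D y d) := fun q => hn ((h.core.rimg_comm az dz).mp q)
    have hzz := (h.res_common yD az dz hzy.2).mpr hz
    have hM : M.ncard = 45 := by
      rw [← (h22.forty (rimg_mem az) (rimg_mem dz) hn2 hzz).card]
      refine Set.BijOn.ncard_eq (f := rimg D y) ⟨fun v hv => ?_,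
        fun v hv v' hv' e => (h.core.rimg_inj yD hv.1.2 hv'.1.2).mp e, fun e he => ?_⟩
      · exact ⟨(h.res_common yD az dz hv.1.2).mpr hv.1.1,
          h.core.rimg_nb yD hzy.2 ⟨hv.1.2, hv.1.1.1.1, hv.2⟩⟩
      · obtain ⟨v, hv, rfl⟩ := h.res_common_surj yD az dz he.1
        exact ⟨v, ⟨hv, fun q => he.2.2.1 (by rw [q]), (h.core.rimg_comm hzy.2 hv.2).mp he.2.2.2⟩, rfl⟩
    rw [← Set.ncard_coe_finset, hset, Set.ncard_sdiff, h.card_slice ha hd hn hy.1,
      Set.ncard_insert_of_notMem (fun q => q.2.1 rfl), hM]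
    exact Set.insert_subset hzy fun v hv => hv.1
  have hsplit : common D a d = insert z (T ∪ Fz) := by
    ext y
    constructor
    · intro hy
      by_cases e : y = z
      · exact Or.inl e
      right
      by_cases c : Commute z y
      · exact Or.inl ⟨hy, hy.1.1, e, c⟩
      · exact Or.inr ⟨hy, c⟩
    · rintro (rfl | hy | hy)
      exacts [hz, hy.1, hy.1]
  have hW : (common D a d).ncard = 127 + Fz.ncard := by
    conv_lhs => rw [hsplit]
    rw [Set.ncard_insert_of_notMem, Set.ncard_union_eq, hTc]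
    · omega
    · rw [Set.disjoint_left]
      exact fun y hy hy' => hy'.2 hy.2.2.2
    · rintro (hy | hy)
      exacts [hy.2.2.1 rfl, hy.2 (Commute.refl _)]
  have hsum := Finset.sum_card_bipartiteAbove_eq_sum_card_bipartiteBelow (s := T.toFinset)
    (t := Fz.toFinset) (fun y v => y ∈ nb D v)
  simp only [Finset.bipartiteAbove, Finset.bipartiteBelow] at hsum
  obtain ⟨w0, hw0⟩ : Fz.Nonempty := by
    rcases Fz.eq_empty_or_nonempty with e | e
    · rw [Finset.sum_congr rfl row, Finset.sum_const, ← Set.ncard_eq_toFinset_card', hTc] at hsum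
      simp [e] at hsum
    · exact e
  let t : G → ℕ := fun v => (T.toFinset.filter fun y => y ∈ nb D v).card
  have teq : ∀ v ∈ Fz, t v = t w0 := by
    intro v hv
    obtain ⟨k, ca, cd, e1, e2⟩ := h.conj_in_common ha hd hn hz hw0.1 hw0.2 hz hv.1 hv.2
    have ka : k * a * k⁻¹ = a := mul_inv_eq_iff_eq_mul.mpr ca.eq
    have kd : k * d * k⁻¹ = d := mul_inv_eq_iff_eq_mul.mpr cd.eq
    refine Finset.card_bij (fun y _ => k * y * k⁻¹) ?_ ?_ ?_
    · intro y hy
      simp only [Finset.mem_filter, Set.mem_toFinset] at hy ⊢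
      refine ⟨⟨?_, ?_⟩, ?_⟩
      · simpa [ka, kd] using htt.common_conj k hy.1.1
      · simpa [e1] using htt.nb_conj k hy.1.2
      · simpa [e2] using htt.nb_conj k hy.2
    · intro y _ y' _ e; exact mul_left_cancel (mul_right_cancel e)
    · intro y hy
      simp only [Finset.mem_filter, Set.mem_toFinset] at hy
      refine ⟨k⁻¹ * y * k, ?_, by group⟩
      have back : ∀ {p q : G}, k * p * k⁻¹ = q → k⁻¹ * q * k = p := fun e => by rw [← e]; group
      simp only [Finset.mem_filter, Set.mem_toFinset]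
      refine ⟨⟨?_, ?_⟩, ?_⟩
      · simpa [back ka, back kd] using htt.common_conj k⁻¹ hy.1.1
      · simpa [back e1] using htt.nb_conj k⁻¹ hy.1.2
      · simpa [back e2] using htt.nb_conj k⁻¹ hy.2
  rw [Finset.sum_congr rfl row, Finset.sum_congr rfl (g := fun _ => t w0)
    (fun w hw => teq w (Set.mem_toFinset.mp hw)), Finset.sum_const, Finset.sum_const,
    ← Set.ncard_eq_toFinset_card', ← Set.ncard_eq_toFinset_card', hTc,
    smul_eq_mul, smul_eq_mul] at hsum
  have ht : t w0 ≤ 126 := by
    refine (Finset.card_filter_le _ _).trans ?_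
    rw [← Set.ncard_eq_toFinset_card', hTc]
  have hpos : 0 < t w0 := Nat.pos_of_ne_zero fun q => by rw [q, mul_zero] at hsum; omega
  have hdiv : Fz.ncard = 10080 / t w0 :=
    (Nat.div_eq_of_eq_mul_left hpos (by omega)).symm
  have hfar := h.far_mul_common ha hd hn
  rw [hW] at hfar
  have h45 := thirteen_arith (t w0) (by omega)
    (Nat.mod_eq_zero_of_dvd ⟨Fz.ncard, by rw [mul_comm]; omega⟩)
    (Nat.mod_eq_zero_of_dvd ⟨_, by rw [← hdiv, mul_comm]; exact hfar.symm⟩) hpos
  rw [h45] at hdiv
  omega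

/-- the centraliser of two members that do not commute -/
theorem card_pair_num : Nat.card ↥(Subgroup.centralizer ({a, d} : Set G)) = 4585351680 := by
  have := h.card_pair ha hd hn
  rw [h.card_common ha hd hn, show ({a, d, d} : Set G) = {a, d} by simp] at this
  exact this

omit ha hd hn in
/-- the number of members not commuting with a given one -/
theorem card_far {a : G} (ha : a ∈ D) : {y | y ∈ D ∧ ¬ Commute a y}.ncard = 28160 := by
  obtain ⟨z, hz⟩ := h.exists_nb ha
  obtain ⟨K, iK, iKF, h22⟩ := h.res z hz.1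
  have az := nb_symm ha hz
  obtain ⟨d', hd', hn'⟩ := Set.nonempty_of_ncard_ne_zero
    (s := {y | y ∈ resSet D z ∧ ¬ Commute (rimg D z a) y})
    (by rw [h22.card_far (rimg_mem az)]; norm_num)
  obtain ⟨d, hd, rfl⟩ := rimg_surj hd'
  have hn : ¬ Commute a d := fun q => hn' ((h.core.rimg_comm az hd).mpr q)
  have := h.far_mul_common ha hd.1 hn
  rw [h.card_common ha hd.1 hn] at this
  omega

omit ha hd hn in
/-- the number of members -/
theorem card_members {a : G} (ha : a ∈ D) : D.ncard = 31671 := by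
  have hsplit : D = insert a (nb D a) ∪ {y : G | y ∈ D ∧ ¬ Commute a y} := by
    ext y
    constructor
    · intro hy
      by_cases hc : Commute a y
      · by_cases e : y = a
        · exact Or.inl (Or.inl e)
        · exact Or.inl (Or.inr ⟨hy, e, hc⟩)
      · exact Or.inr ⟨hy, hc⟩
    · rintro ((rfl | hy) | hy)
      exacts [ha, hy.1, hy.1]
  have hdisj : Disjoint (insert a (nb D a)) {y : G | y ∈ D ∧ ¬ Commute a y} := by
    rw [Set.disjoint_left]
    rintro y (rfl | hy) hy'
    exacts [hy'.2 (Commute.refl _), hy'.2 hy.2.2]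
  conv_lhs => rw [hsplit]
  rw [Set.ncard_union_eq hdisj, Set.ncard_insert_of_notMem (fun q => q.2.1 rfl), h.card_nb ha,
    h.card_far ha]

omit ha hd hn in
/-- the order of the group -/
theorem card_group {a : G} (ha : a ∈ D) : Nat.card G = 31671 * (2 * 3510 * 18393661440) := by
  have horb := card_of_transitive (⊤ : Subgroup G) ((fun y => (y, y, y)) '' D) a a a le_top
    (fun g _ => ⟨g * a * g⁻¹, h.core.tt.conj_mem g a ha, rfl⟩)
    (fun t ht => by
      obtain ⟨y, hy, rfl⟩ := ht
      obtain ⟨g, hg⟩ := isConj_iff.mp (h.core.cls a ha y hy)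
      exact ⟨g, Subgroup.mem_top g, by simp only [conj3, hg]⟩)
  rw [Subgroup.card_top, Set.ncard_image_of_injective _ (fun p q e => congrArg (fun t => t.1) e),
    h.card_members ha, show ({a, a, a} : Set G) = {a} by simp, h.card_member ha] at horb
  exact horb

end Geo23

end Cfsg.Agent.H93
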