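import Cfsg.Agent.Orthogonal.POmega
import Cfsg.Agent.Orthogonal.StdForms
import Cfsg.Agent.Orthogonal.ReflClass
import Cfsg.Agent.H48.OrthClass

/-!
The projective reflection group of a seven-dimensional space over the field with three elements whose
discriminant is the negative of the norm of the reflections is the simple orthogonal group.
-/

set_option autoImplicit false

namespace Cfsg.Agent.H93

open QuadraticMap Module Cfsg.Agent.Orthogonal
open Cfsg.Agent.H48.OrthClass (Ortho negO negO_app reflOn reflOn_app exists_ortho)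

namespace RefSeven

variable {ι : Type} [Fintype ι] [DecidableEq ι] {Q : QuadraticForm (ZMod 3) (ι → ZMod 3)}

theorem two_ne : (2 : ZMod 3) ≠ 0 := by decide

theorem values : ∀ x : ZMod 3, x = 0 ∨ x = 1 ∨ x = -1 := by decide

/-- central elements of the commutator group in odd dimension -/
theorem eq_one_of_central (hQ : Nondeg Q) (hι : Fintype.card ι = 7) {x : O Q}
    (hx : x ∈ commutator (O Q)) (hc : ∀ y ∈ commutator (O Q), x * y = y * x) : x = 1 := by
  have hn : finrank (ZMod 3) (ι → ZMod 3) = 7 := by rw [Module.finrank_fintype_fun_eq_card, hι]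
  obtain ⟨s, hs⟩ := exists_scalar_of_commute hQ (by omega) x hc
  have hmap : ((x : (ι → ZMod 3) ≃ₗ[ZMod 3] (ι → ZMod 3)) : (ι → ZMod 3) →ₗ[ZMod 3] (ι → ZMod 3)) =
      s • LinearMap.id := LinearMap.ext fun v => hs v
  have hd := ((mem_commutator_iff hQ two_ne x).1 hx).1
  rw [detSign_eq_one_iff, hmap, LinearMap.det_smul, LinearMap.det_id, mul_one, hn] at hd
  have key : ∀ t : ZMod 3, t ^ 7 = 1 → t = 1 := by decide
  have hs1 : s = 1 := key s hd
  exact O.ext_app fun v => by rw [hs, hs1, one_smul]; rfl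

/-- the centre of the group of commutators -/
theorem center_omega (hQ : Nondeg Q) (hι : Fintype.card ι = 7) :
    Subgroup.center ↥(Cfsg.Omega (ZMod 3) ⇑Q) = ⊥ := by
  rw [eq_bot_iff]
  intro z hz
  rw [Subgroup.mem_bot]
  refine (omegaEquiv Q).injective ((map_one (omegaEquiv Q)).symm ▸ Subtype.ext ?_)
  refine eq_one_of_central hQ hι (omegaEquiv Q z).2 fun y hy => ?_
  obtain ⟨w, hw⟩ := (omegaEquiv Q).surjective ⟨y, hy⟩
  have := congrArg (fun t => ((omegaEquiv Q t : ↥(commutator (O Q))) : O Q))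
    (Subgroup.mem_center_iff.mp hz w)
  simp only [map_mul, Subgroup.coe_mul, hw] at this
  exact this.symm

/-- a product of reflections against a reflection class -/
theorem list_mem_classGroup (hQ : Nondeg Q) (hn : 5 ≤ finrank (ZMod 3) (ι → ZMod 3)) {c : ZMod 3}
    (hc : c ≠ 0) {l : List (ι → ZMod 3)} (hl : ∀ v ∈ l, Q v ≠ 0) :
    (l.map (rO Q)).prod ∈ classGroup Q c ↔ (l.map fun v => Q v * c).prod = 1 := by
  have hidx := index_classGroup hQ two_ne hc (Or.inr (Or.inl hn))
  have hone : ∀ {t : List (ι → ZMod 3)}, (∀ v ∈ t, Q v ≠ 0) →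
      (t.map fun v => Q v * c).prod ≠ 0 := fun ht q => by
    obtain ⟨v, hv, e⟩ := List.mem_map.1 (List.prod_eq_zero_iff.1 q)
    exact (mul_ne_zero (ht v hv) hc) e
  have k1 : ∀ c p : ZMod 3, c ≠ 0 → p ≠ 0 → (p = 1 ↔ c * c * p = 1) := by decide
  have k2 : ∀ c p : ZMod 3, c ≠ 0 → p ≠ 0 → (¬ p = 1 ↔ -c * c * p = 1) := by decide
  induction l with
  | nil => simp
  | cons v t ih =>
    have ht : ∀ w ∈ t, Q w ≠ 0 := fun w hw => hl w (List.mem_cons_of_mem _ hw)
    have p0 := hone ht
    rw [List.map_cons, List.prod_cons, List.map_cons, List.prod_cons,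
      Subgroup.mul_mem_iff_of_index_two hidx]
    have iht := ih ht
    rw [propext iht]
    generalize (t.map fun v => Q v * c).prod = p at p0 ⊢
    rcases value_cases values hc (Q v) with e | e | e
    · exact absurd e (hl v List.mem_cons_self)
    · rw [iff_true_left (rO_mem_classGroup_of_value hc e), e]
      exact k1 _ _ hc p0
    · rw [iff_false_left (rO_not_mem_classGroup hQ two_ne values hc hn e), e]
      exact k2 _ _ hc p0

/-- the discriminant of an orthogonal basis -/
theorem gram {Q : QuadraticForm (ZMod 3) (Fin 7 → ZMod 3)} {v : Fin 7 → Fin 7 → ZMod 3}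
    (hv : Ortho Q v) (hv0 : ∀ i, Q (v i) ≠ 0) :
    Cfsg.polarGramDet ⇑Q = ∏ i, (2 * Q (v i)) := by
  classical
  let b : Module.Basis (Fin 7) (ZMod 3) (Fin 7 → ZMod 3) := hv.basis two_ne hv0 (by simp)
  let e : Module.Basis (Fin 7) (ZMod 3) (Fin 7 → ZMod 3) := Pi.basisFun (ZMod 3) (Fin 7)
  have hM : LinearMap.toMatrix₂ e e Q.polarBilin =
      Matrix.of fun i j : Fin 7 => polar ⇑Q (Pi.single i 1) (Pi.single j 1) := by
    ext i j
    rw [LinearMap.toMatrix₂_apply, Matrix.of_apply, Pi.basisFun_apply, Pi.basisFun_apply,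
      polarBilin_apply']
  have hD : LinearMap.toMatrix₂ b b Q.polarBilin = Matrix.diagonal fun i => 2 * Q (v i) := by
    ext i j
    rw [LinearMap.toMatrix₂_apply, Ortho.basis_apply, Ortho.basis_apply, polarBilin_apply',
      Matrix.diagonal_apply]
    split
    · next h => subst h; exact Cfsg.Agent.Orthogonal.polar_self' (Q := Q) _
    · next h => exact hv i j h
  have h0 : (e.toMatrix (fun i : Fin 7 => b i)).transpose * LinearMap.toMatrix₂ e e Q.polarBilin * e.toMatrix (fun i : Fin 7 => b i) =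
      LinearMap.toMatrix₂ b b Q.polarBilin := LinearMap.toMatrix₂_mul_basis_toMatrix e e b b _
  have h1 := congrArg Matrix.det h0
  rw [Matrix.det_mul, Matrix.det_mul, Matrix.det_transpose, hD, Matrix.det_diagonal, hM] at h1
  rw [← h1, Cfsg.polarGramDet]
  have hP : (e.toMatrix (fun i : Fin 7 => b i)).det ≠ 0 := fun q => by
    have := congrArg Matrix.det (e.toMatrix_mul_toMatrix_flip b)
    rw [Matrix.det_mul, q, zero_mul, Matrix.det_one] at this
    exact zero_ne_one this
  have hsq : ∀ t : ZMod 3, t ≠ 0 → ∀ m : ZMod 3, t * m * t = m := by decide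
  exact (hsq _ hP _).symm

/-- minus one is a product of reflections of the given norm -/
theorem negO_mem {Q : QuadraticForm (ZMod 3) (Fin 7 → ZMod 3)} (hQ : Nondeg Q) {c : ZMod 3}
    (hc : c ≠ 0) (hdet : Cfsg.polarGramDet ⇑Q = -c) : negO Q ∈ classGroup Q c := by
  obtain ⟨v, hv, hv0, -⟩ := exists_ortho two_ne 7 Q hQ (Module.finrank_fin_fun (ZMod 3)) fun _ => 1
  have hneg : negO Q = reflOn Q v := hv.ext_app two_ne hv0 (by simp) fun i => by
    rw [reflOn_app hv hv0, negO_app]
  have hl : reflOn Q v = (((Finset.univ : Finset (Fin 7)).toList.map v).map (rO Q)).prod := by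
    rw [reflOn, List.map_map]; rfl
  rw [hneg, hl, list_mem_classGroup hQ (by rw [Module.finrank_fin_fun]; norm_num) hc
    (fun w hw => by obtain ⟨i, -, rfl⟩ := List.mem_map.1 hw; exact hv0 i), List.map_map,
    Finset.prod_map_toList]
  rw [gram hv hv0, Finset.prod_mul_distrib, Finset.prod_const, Finset.card_univ, Fintype.card_fin] at hdet
  show ∏ i, Q (v i) * c = 1
  rw [Finset.prod_mul_distrib, Finset.prod_const, Finset.card_univ, Fintype.card_fin]
  generalize (∏ i, Q (v i)) = p at hdet ⊢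
  revert hdet hc; revert p c; decide

/-- the group of commutators does not depend on the form -/
theorem omega_congr {Q : QuadraticForm (ZMod 3) (Fin 7 → ZMod 3)} (hQ : Nondeg Q) :
    Nonempty (↥(commutator (O Q)) ≃* ↥(commutator (O (formOdd (ZMod 3) 3)))) := by
  obtain ⟨-, α, E, hα, hE⟩ := hQ.classify_odd (m := 3) (by rw [Module.finrank_fin_fun])
  set S := formOdd (ZMod 3) 3
  have hsub : O (α • S) = O S := by
    ext g
    simp only [mem_O, QuadraticMap.smul_apply, smul_eq_mul]
    exact forall_congr' fun x => ⟨mul_left_cancel₀ hα, fun h => by rw [h]⟩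
  let f : O Q ≃* O S := (congrO E (Q := α • S) (Q' := Q) (fun x => hE x)).symm.trans
    (MulEquiv.subgroupCongr hsub)
  have hmap : (commutator (O Q)).map f.toMonoidHom = commutator (O S) := by
    rw [commutator_def, Subgroup.map_commutator, Subgroup.map_top_of_surjective _ f.surjective,
      ← commutator_def]
  exact ⟨(f.subgroupMap _).trans (MulEquiv.subgroupCongr hmap)⟩

/-- the projective reflection group is the simple orthogonal group -/
theorem proj_equiv {X : Type*} [Group X] {c : ZMod 3} (hc : c ≠ 0)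
    (hX : Cfsg.IsProjReflectionGroupModThree X 7 (-c) c) :
    Nonempty (X ≃* Cfsg.POmega (ZMod 3) (Cfsg.quadFormOdd 3 (ZMod 3))) := by
  obtain ⟨Q, hQ', hdet, ⟨eX⟩⟩ := hX
  have hQ := nondeg_of_polarBilin hQ'
  have hn : 5 ≤ finrank (ZMod 3) (Fin 7 → ZMod 3) := by rw [Module.finrank_fin_fun]; norm_num
  set R := classGroup Q c
  have hmap : (Cfsg.reflectionSubgroup ⇑Q c).map (toO Q).toMonoidHom = R := by
    rw [Cfsg.reflectionSubgroup, MonoidHom.map_closure]
    refine congrArg Subgroup.closure ?_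
    have hsq : ∀ t : ZMod 3, t ≠ 0 → t ^ 2 = 1 := by decide
    ext x
    constructor
    · rintro ⟨g, ⟨v, hv, hg⟩, rfl⟩
      exact ⟨v, 1, one_ne_zero, by rw [hv]; ring, (toO_eq_rO_iff Q g v).2 hg⟩
    · rintro ⟨v, t, ht, hv, rfl⟩
      exact ⟨reflIso Q v, ⟨v, by rw [hv, hsq t ht, mul_one], reflIso_val v⟩,
        (toO Q).apply_symm_apply _⟩
  let eR : ↥(Cfsg.reflectionSubgroup ⇑Q c) ≃* ↥R :=
    ((toO Q).subgroupMap _).trans (MulEquiv.subgroupCongr hmap)
  have hidx : R.index = 2 := index_classGroup hQ two_ne hc (Or.inr (Or.inl hn))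
  have hle : commutator (O Q) ≤ R := commutator_le_of_index_two R hidx
  have hN : negO Q ∈ R := negO_mem hQ hc hdet
  have hNn : negO Q ∉ commutator (O Q) := fun q => by
    have hd := ((mem_commutator_iff hQ two_ne _).1 q).1
    have hmap' : (((negO Q : (Fin 7 → ZMod 3) ≃ₗ[ZMod 3] (Fin 7 → ZMod 3))) :
        (Fin 7 → ZMod 3) →ₗ[ZMod 3] (Fin 7 → ZMod 3)) = (-1 : ZMod 3) • LinearMap.id :=
      LinearMap.ext fun x => (negO_app x).trans (neg_one_smul (ZMod 3) x).symm
    rw [detSign_eq_one_iff, hmap', LinearMap.det_smul, LinearMap.det_id, mul_one,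
      Module.finrank_fin_fun] at hd
    exact absurd hd (by decide)
  have hrel : ((commutator (O Q)).subgroupOf R).index = 2 := by
    have := Subgroup.relIndex_mul_index hle
    rw [hidx, index_commutator_eq_four hQ two_ne (by omega)] at this
    show (commutator (O Q)).relIndex R = 2
    omega
  let φ : ↥(commutator (O Q)) →* ↥R ⧸ Subgroup.center ↥R :=
    (QuotientGroup.mk' _).comp (Subgroup.inclusion hle)
  have hbij : Function.Bijective φ := by
    constructor
    · rw [← MonoidHom.ker_eq_bot_iff, eq_bot_iff]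
      intro x hx
      have hxc := Subgroup.mem_center_iff.mp ((QuotientGroup.eq_one_iff _).mp hx)
      exact Subtype.ext (eq_one_of_central hQ (Fintype.card_fin 7) x.2 fun y hy =>
        (congrArg Subtype.val (hxc ⟨y, hle hy⟩)).symm)
    · intro q
      obtain ⟨g, rfl⟩ := QuotientGroup.mk'_surjective _ q
      by_cases hg : (g : O Q) ∈ commutator (O Q)
      · exact ⟨⟨g, hg⟩, rfl⟩
      refine ⟨⟨g * negO Q, (Subgroup.mul_mem_iff_of_index_two hrel (a := g) (b := ⟨negO Q, hN⟩)).2
        (iff_of_false hg hNn)⟩, ?_⟩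
      refine QuotientGroup.eq.2 (Subgroup.mem_center_iff.2 fun z => Subtype.ext ?_)
      show (z : O Q) * ((g * negO Q)⁻¹ * g) = ((g : O Q) * negO Q)⁻¹ * g * z
      rw [show ((g : O Q) * negO Q)⁻¹ * g = (negO Q)⁻¹ by group]
      exact ((show Commute (negO Q) (z : O Q) from O.ext_app fun x => by
        simp [negO_app, mul_app, map_neg]).inv_left).symm.eq
  obtain ⟨eΩ⟩ := omega_congr hQ
  have eZ : (Subgroup.center ↥(Cfsg.reflectionSubgroup ⇑Q c)).map eR.toMonoidHom =
      Subgroup.center ↥R := by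
    ext x
    rw [Subgroup.mem_map_equiv, Subgroup.mem_center_iff, Subgroup.mem_center_iff]
    refine ⟨fun h y => eR.symm.injective ?_, fun h y => eR.injective ?_⟩
    · rw [map_mul, map_mul]; exact h _
    · rw [map_mul, map_mul, MulEquiv.apply_symm_apply]; exact h _
  let eP : ↥(Cfsg.Omega (ZMod 3) ⇑(formOdd (ZMod 3) 3)) ≃*
      Cfsg.POmega (ZMod 3) ⇑(formOdd (ZMod 3) 3) :=
    (QuotientGroup.quotientBot.symm.trans (QuotientGroup.quotientMulEquivOfEq
      (center_omega (Q := formOdd (ZMod 3) 3) (formOdd_nondeg (ZMod 3) 3 two_ne) (by simp)).symm))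
  exact ⟨(eX.trans (QuotientGroup.congr _ _ eR eZ)).trans
    (((MulEquiv.ofBijective φ hbij).symm.trans eΩ).trans
      ((omegaEquiv (formOdd (ZMod 3) 3)).symm.trans eP))⟩

end RefSeven

end Cfsg.Agent.H93
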