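import Cfsg.Agent.H93.Rigid

/-!
Groups of type M(22), M(23), M(24) have one class of 3-transpositions.
-/

set_option autoImplicit false

namespace Cfsg.Agent.H93

variable {G : Type*} [Group G] [Finite G] {D : Set G}

theorem rigid22 (hD : TT D) (hgen : Subgroup.closure D = ⊤) (hne : ∀ a ∈ D, a ≠ 1)
    (h : Cfsg.IsOfTypeM22 G D) : Rigid D ∧ Tri D := by
  obtain ⟨hcore, hind, -, F, iF, iFF, hF, hsp⟩ := good22 hD hgen hne h
  obtain ⟨-, d, hd, -⟩ := h
  have hP := pair2_of_indep hD hind (by norm_num)
  have hloc : ∀ a ∈ D, Local D a := fun a ha => local_of_space hF hcore hP (hsp a ha).some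
  have htri : Tri D := tri_step hcore hd (hloc d hd) ((hsp d hd).some.tri hF)
  exact ⟨rigid_of_local hcore hP htri (conn_of_spaces hF hcore hsp) hloc ⟨d, hd⟩, htri⟩

theorem rigid23 (hD : TT D) (hgen : Subgroup.closure D = ⊤) (hne : ∀ a ∈ D, a ≠ 1)
    (h : Cfsg.IsOfTypeM23 G D) : Rigid D ∧ Tri D := by
  obtain ⟨hcore, hind, -, hres⟩ := good23 hD hgen hne h
  obtain ⟨-, d, hd, c, -, -, h22, -⟩ := h
  have hP := pair2_of_indep hD hind (by norm_num)
  obtain ⟨hrig, htr⟩ := rigid22 (tt_resSet hD hd) (closure_resSet d) (resSet_ne_one hcore hd) h22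
  obtain ⟨-, -, -, F, iF, iFF, hF, hsp⟩ :=
    good22 (tt_resSet hD hd) (closure_resSet d) (resSet_ne_one hcore hd) h22
  have hl : Local D d := local_of_residue hcore hd (hres d hd).1 (hres d hd).2 hrig
  have htri : Tri D := tri_step hcore hd hl (tri_nb_of_residue hcore hd htr)
  exact ⟨rigid_of_local hcore hP htri (conn_of_residue_spaces hF hcore hd hsp)
    (local_all hcore hd hl) ⟨d, hd⟩, htri⟩

theorem rigid24 (hD : TT D) (hgen : Subgroup.closure D = ⊤) (hne : ∀ a ∈ D, a ≠ 1)
    (hprim : Cfsg.IsPrimitiveUnderConj D) (h : Cfsg.IsOfTypeM24 G D) :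
    Core D ∧ Rigid D := by
  have hcore : Core D := diff_one_eq hne ▸ core_of_M24 hD hgen h
  have hind := indep_of_M24 hD hgen h
  rw [diff_one_eq hne] at hind
  obtain ⟨-, d, hd, c, -, -, h23, -⟩ := h
  have hP := pair2_of_indep hD hind (by norm_num)
  obtain ⟨hrig, htr⟩ := rigid23 (tt_resSet hD hd) (closure_resSet d) (resSet_ne_one hcore hd) h23
  obtain ⟨hrc, -, hrs, -⟩ := good23 (tt_resSet hD hd) (closure_resSet d) (resSet_ne_one hcore hd) h23
  have hl : Local D d := local_of_residue hcore hd hrc hrs hrig
  have htri : Tri D := tri_step hcore hd hl (tri_nb_of_residue hcore hd htr)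
  exact ⟨hcore, rigid_of_local hcore hP htri (conn_of_prim hcore hprim)
    (local_all hcore hd hl) ⟨d, hd⟩⟩

/-- rigidity makes the class unique -/
theorem eq_of_rigid (hcore : Core D) (hgen : Subgroup.closure D = ⊤) (hrig : Rigid D)
    (hcen : Subgroup.center G = ⊥) {D' : Set G} (hD' : Cfsg.IsThreeTranspositionClass D') :
    D' = D := by
  have htt' := TT.of_class hD'
  have hsub : ∀ e ∈ D', e ∈ D := by
    intro e he
    have hee := htt'.sq e he
    have hsmall : SmallAut D (MulAut.conj e) := by
      refine ⟨fun x => ?_, fun x hx => by simpa using hcore.tt.conj_mem e x hx, fun g => ?_⟩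
      · simp only [MulAut.conj_apply, htt'.inv_eq he]
        rw [show e * (e * x * e) * e = e * e * x * (e * e) by group, hee, one_mul, mul_one]
      · simp only [MulAut.conj_apply, htt'.inv_eq he]
        have := htt'.pair e he _ (htt'.conj_mem g e he)
        rwa [show e * g * e * g⁻¹ = e * (g * e * g⁻¹) by group]
    have central : ∀ z : G, (∀ x ∈ D, Commute z x) → z = 1 := by
      intro z hz
      have hle : Subgroup.closure D ≤ Subgroup.centralizer ({z} : Set G) := by
        rw [Subgroup.closure_le]
        exact fun x hx => Subgroup.mem_centralizer_singleton_iff.mpr (hz x hx).symm.eq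
      rw [hgen] at hle
      have : z ∈ Subgroup.center G := Subgroup.mem_center_iff.mpr fun g =>
        Subgroup.mem_centralizer_singleton_iff.mp (hle (Subgroup.mem_top g))
      rwa [hcen, Subgroup.mem_bot] at this
    rcases hrig _ hsmall with h | ⟨u, hu, h⟩
    · exfalso
      have h1 : e = 1 := central e fun x hx => by
        have := h x hx
        simp only [MulAut.conj_apply] at this
        exact mul_inv_eq_iff_eq_mul.mp this
      have h2 := hD'.1.1 e he
      rw [h1, orderOf_one] at h2
      omega
    · have h1 : u * e = 1 := central (u * e) fun x hx => by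
        have hx' := h x hx
        simp only [MulAut.conj_apply, htt'.inv_eq he] at hx'
        show _ = _
        calc u * e * x = u * (e * x * e) * e := by
              rw [show u * (e * x * e) * e = u * e * x * (e * e) by group, hee, mul_one]
          _ = u * (u * x * u) * e := by rw [hx']
          _ = (u * u) * x * (u * e) := by group
          _ = _ := by rw [hcore.tt.sq u hu, one_mul]
      have h2 := eq_inv_of_mul_eq_one_right h1
      rw [hcore.tt.inv_eq hu] at h2
      exact h2 ▸ hu
  obtain ⟨e0, he0, rfl⟩ := hD'.2.1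
  refine Set.Subset.antisymm hsub fun x hx => ?_
  exact hcore.cls e0 (hsub e0 he0) x hx

end Cfsg.Agent.H93
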