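import Cfsg.Agent.H93.Double

/-!
In a perfect two-fold extension of a group of type M(22) some six commuting members multiplying to one below
do not multiply to one above: otherwise the lifts of members would give a complement to the central
involution in a Sylow 2-subgroup.
-/

set_option autoImplicit false

namespace Cfsg.Agent.H93

theorem zpowers_invol {H : Type*} [Group H] {t : H} (ht : t * t = 1) {z : H}
    (hz : z ∈ Subgroup.zpowers t) : z = 1 ∨ z = t := by
  obtain ⟨k, hk⟩ := Subgroup.mem_zpowers_iff.mp hz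
  rcases Int.even_or_odd k with ⟨m, hm⟩ | ⟨m, hm⟩
  · left; rw [← hk, hm, ← two_mul, zpow_mul, zpow_two, ht, one_zpow]
  · right; rw [← hk, hm, zpow_add, zpow_mul, zpow_two, ht, one_zpow, zpow_one, one_mul]

variable {C M : Type*} [Group C] [Group M] {ρ : C →* M} {d : C} {E : Set M} {F : Type*} [Field F]
  [Fintype F] {K : Type*} [Field K] [Fintype K]

section plane

variable (hK : Fintype.card K = 4) {a : M}
  {π : ↥(Subgroup.centralizer ({a} : Set M)) →* Cfsg.PSU 6 K 2}
  {Y : Vec K → ↥(Subgroup.centralizer ({a} : Set M))}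
  (P : PtClass hK π ⟨a, mem_cent (Commute.refl a)⟩ Y)

include hK P

/-- bases with one image span one plane -/
theorem span_of_img {R S R' S' : Fin 3 → Vec K} (r : Plane R S) (r' : Plane R' S')
    (e : π (tri Y R) = π (tri Y R')) (i : Fin 3) : R' i ∈ Submodule.span K (Set.range R) := by
  rw [P.img_tri hK r, P.img_tri hK r'] at e
  have e' := mk_inj_of_sq hK (PtClass.tri_sq hK r) (PtClass.tri_sq hK r') e
  refine mem_of_range_three hK r' (fun x => ?_) i
  rw [← e', act_triple hK (r.orth 0 0) (r.orth 1 1) (r.orth 2 2) (r.orth 0 1) (r.orth 0 2) (r.orth 1 2)]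
  exact Submodule.add_mem _ (Submodule.add_mem _
    (Submodule.smul_mem _ _ (Submodule.subset_span ⟨0, rfl⟩))
    (Submodule.smul_mem _ _ (Submodule.subset_span ⟨1, rfl⟩)))
    (Submodule.smul_mem _ _ (Submodule.subset_span ⟨2, rfl⟩))

/-- conjugation carries members to members -/
theorem mbr_conj {k : ↥(Subgroup.centralizer ({a} : Set M))} {u v : Vec K}
    (e : k * Y u * k⁻¹ = Y v) : (k : M) * mbr a Y u * (k : M)⁻¹ = mbr a Y v := by
  have hk : (k : M) * a * (k : M)⁻¹ = a :=
    mul_inv_eq_iff_eq_mul.mpr (Subgroup.mem_centralizer_singleton_iff.mp k.2)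
  simp only [mbr, ← e, Subgroup.coe_mul, Subgroup.coe_inv]
  calc (k : M) * ((Y u : M) * a) * (k : M)⁻¹
      = (k : M) * Y u * (k : M)⁻¹ * ((k : M) * a * (k : M)⁻¹) := by group
    _ = _ := by rw [hk]

end plane

namespace Dbl

variable (D : Dbl ρ d E F K)

include D

/-- an element fixing two commuting members -/
theorem stab_two {c c' g : M} (hc : c ∈ E) (hc' : c' ∈ nb E c) (h1 : Commute g c) (h2 : Commute g c') :
    g ∈ Subgroup.closure ({c, c'} ∪ (nb E c ∩ nb E c')) := by
  obtain ⟨π, he⟩ := D.ext c hc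
  obtain ⟨Y, P⟩ := he.exists_ptClass D.hK fun e => D.data.core.ne_one c hc (congrArg Subtype.val e)
  obtain ⟨P0, hP0, e0⟩ := mbr_surj D.hK D.data hc P hc'
  obtain ⟨hm0, em0⟩ := mbr_spec D.hK D.data hc P hP0
  set S0 := Subgroup.closure ({c, c'} ∪ (nb E c ∩ nb E c'))
  let gC : ↥(Subgroup.centralizer ({c} : Set M)) := ⟨g, mem_cent h1.symm⟩
  have hπ : Commute (π gC) (ptv D.hK P0) := by
    rw [← em0 (mem_cent hm0.2.2)]
    refine Commute.map (Subtype.ext ?_) π
    show g * mbr c Y P0 = mbr c Y P0 * g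
    rw [← e0]; exact h2.eq
  have hle : Subgroup.closure {p | ∃ v, IsPt v ∧ hb v P0 = 0 ∧ p = ptv D.hK v} ≤
      (S0.subgroupOf (Subgroup.centralizer ({c} : Set M))).map π := by
    rw [Subgroup.closure_le]
    rintro _ ⟨v, hv, hvP, rfl⟩
    obtain ⟨hm, em⟩ := mbr_spec D.hK D.data hc P hv
    refine ⟨⟨mbr c Y v, mem_cent hm.2.2⟩, Subgroup.subset_closure ?_, em _⟩
    show mbr c Y v ∈ _
    by_cases q : mbr c Y v = c'
    · exact Or.inl (Or.inr q)
    · exact Or.inr ⟨hm, hm.1, q, e0 ▸ (mbr_commute D.hK P hv hP0 hvP).symm⟩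
  obtain ⟨l, hl, el⟩ := hle (stab_point D.hK hP0 hπ)
  rcases he.eq_or el with q | q
  · have : g = (l : M) := congrArg Subtype.val q
    rw [this]; exact hl
  · have : g = (l : M) * c := congrArg Subtype.val q
    rw [this]; exact mul_mem hl (Subgroup.subset_closure (Or.inl (Or.inl rfl)))

/-- the lifts of the neighbours of a member, suitably signed, do not generate the central involution -/
theorem not_mem_local [Finite C] {σ : M → C} (hσ : Sec ρ E σ) (H : Six E σ) {a : M} (ha : a ∈ E) :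
    ∃ σ' : M → C, Sec ρ E σ' ∧ Six E σ' ∧ d ∉ Subgroup.closure (σ' '' nb E a) := by
  classical
  have hK := D.hK
  have htt := D.data.core.tt
  obtain ⟨π, he⟩ := D.ext a ha
  obtain ⟨Y, P⟩ := he.exists_ptClass hK fun e => D.data.core.ne_one a ha (congrArg Subtype.val e)
  have spec := fun {v : Vec K} (hv : IsPt v) => (mbr_spec hK D.data ha P hv).1
  let M3 : (Fin 3 → Vec K) → M := fun R => mbr a Y (R 0) * mbr a Y (R 1) * mbr a Y (R 2)
  let S3 : (M → C) → (Fin 3 → Vec K) → C := fun s R =>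
    s (mbr a Y (R 0)) * s (mbr a Y (R 1)) * s (mbr a Y (R 2))
  have hM3 : ∀ R, M3 R = ((tri Y R : ↥(Subgroup.centralizer ({a} : Set M))) : M) * a := fun R =>
    mbr_prod hK P
  have hS3 : ∀ {s : M → C}, Sec ρ E s → ∀ R, (∀ i, IsPt (R i)) → ρ (S3 s R) = M3 R := fun hs R hR => by
    simp only [S3, M3, map_mul, hs.img _ (spec (hR _)).1]
  let Conf : (Fin 3 → Vec K) → (Fin 3 → Vec K) → Prop := fun R R' =>
    (∃ S, Plane R S) ∧ (∀ i, IsPt (R' i) ∧ R' i ∈ Submodule.span K (Set.range R)) ∧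
      (∀ i j, i ≠ j → mbr a Y (R' i) ≠ mbr a Y (R' j)) ∧
      tri Y R' = tri Y R * ⟨a, mem_cent (Commute.refl a)⟩
  -- triples with one product
  have trip : ∀ {s : M → C}, Sec ρ E s → Six E s → ∀ {Z S R R'}, Plane Z S →
      (∀ i, IsPt (R i) ∧ R i ∈ Submodule.span K (Set.range Z)) →
      (∀ i, IsPt (R' i) ∧ R' i ∈ Submodule.span K (Set.range Z)) →
      (∀ i j, i ≠ j → mbr a Y (R i) ≠ mbr a Y (R j)) →
      (∀ i j, i ≠ j → mbr a Y (R' i) ≠ mbr a Y (R' j)) → tri Y R = tri Y R' →
      S3 s R = S3 s R' := by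
    intro s hs Hs Z S R R' z hR hR' dR dR' e
    refine hs.six_triple D Hs rfl ?_ ?_ (dR 0 1 (by decide)) (dR 0 2 (by decide)) (dR 1 2 (by decide))
      (dR' 0 1 (by decide)) (dR' 0 2 (by decide)) (dR' 1 2 (by decide)) ?_
    · intro t ht
      simp only [List.mem_cons, List.not_mem_nil, or_false] at ht
      rcases ht with rfl | rfl | rfl | rfl | rfl | rfl <;>
        first | exact (spec (hR _).1).1 | exact (spec (hR' _).1).1
    · have mem : ∀ {t}, t ∈ [mbr a Y (R 0), mbr a Y (R 1), mbr a Y (R 2), mbr a Y (R' 0),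
          mbr a Y (R' 1), mbr a Y (R' 2)] →
          ∃ v, IsPt v ∧ v ∈ Submodule.span K (Set.range Z) ∧ t = mbr a Y v := by
        intro t ht
        simp only [List.mem_cons, List.not_mem_nil, or_false] at ht
        rcases ht with rfl | rfl | rfl | rfl | rfl | rfl <;>
          first | exact ⟨_, (hR _).1, (hR _).2, rfl⟩ | exact ⟨_, (hR' _).1, (hR' _).2, rfl⟩
      intro t ht t' ht'
      obtain ⟨u, hu, hum, rfl⟩ := mem ht
      obtain ⟨v, hv, hvm, rfl⟩ := mem ht'
      exact mbr_commute hK P hu hv (z.hb_plane hK hum hvm)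
    · show M3 R = M3 R'
      rw [hM3, hM3, e]
  -- the sign is the same for all configurations
  have uni : ∀ {s : M → C}, Sec ρ E s → Six E s → ∀ {T T' R R'}, Conf T T' → Conf R R' →
      S3 s T' = S3 s T * s a → S3 s R' = S3 s R * s a := by
    intro s hs Hs T T' R R' ⟨⟨U, t⟩, hT', dT', eT⟩ ⟨⟨S, r⟩, hR', dR', eR⟩ hval
    obtain ⟨k, hk, hmv⟩ := P.move hK t r
    choose v hvm hvp hv using fun i => hmv (T' i) (hT' i).2 (hT' i).1
    obtain ⟨g, hg⟩ := D.surj (k : M)
    have eq : ∀ {u w}, IsPt u → k * Y u * k⁻¹ = Y w → g * s (mbr a Y u) * g⁻¹ = s (mbr a Y w) :=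
      fun hu e => by rw [hs.conj g _ (spec hu).1, hg, mbr_conj hK P e]
    have ga : g * s a * g⁻¹ = s a := by
      rw [hs.conj g a ha, hg,
        mul_inv_eq_iff_eq_mul.mpr (Subgroup.mem_centralizer_singleton_iff.mp k.2)]
    have e1 : S3 s v = g * S3 s T' * g⁻¹ := by
      simp only [S3, ← eq (hT' _).1 (hv _)]; group
    have e2 : S3 s R = g * S3 s T * g⁻¹ := by
      simp only [S3, ← eq (t.pt _) (hk _)]; group
    have hval' : S3 s v = S3 s R * s a := by
      rw [e1, e2, hval]
      calc g * (S3 s T * s a) * g⁻¹ = g * S3 s T * g⁻¹ * (g * s a * g⁻¹) := by group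
        _ = _ := by rw [ga]
    rw [← hval']
    refine trip hs Hs r hR' (fun i => ⟨hvp i, hvm i⟩) dR' (fun i j hij e => dT' i j hij ?_) ?_
    · rw [← mbr_conj hK P (hv i), ← mbr_conj hK P (hv j)] at e
      exact mul_left_cancel (mul_right_cancel e)
    · rw [eR]
      have c : k * ⟨a, mem_cent (Commute.refl a)⟩ * k⁻¹ = ⟨a, mem_cent (Commute.refl a)⟩ := by
        rw [← (he.cen k).eq, mul_inv_cancel_right]
      have : tri Y v = k * tri Y T' * k⁻¹ := by simp only [tri, ← hv]; group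
      rw [this, eT]
      calc tri Y R * ⟨a, mem_cent (Commute.refl a)⟩
          = k * tri Y T * k⁻¹ * ⟨a, mem_cent (Commute.refl a)⟩ := by
            congr 1
            simp only [tri, ← hk]; group
        _ = k * tri Y T * k⁻¹ * (k * ⟨a, mem_cent (Commute.refl a)⟩ * k⁻¹) := by rw [c]
        _ = _ := by group
  -- the sign
  obtain ⟨s, hs, Hs, hnt⟩ : ∃ s, Sec ρ E s ∧ Six E s ∧
      ∀ R R', Conf R R' → S3 s R' = S3 s R * s a := by
    by_cases hex : ∃ T T', Conf T T'
    · obtain ⟨T, T', hT⟩ := hex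
      have hTc := hT
      obtain ⟨⟨U, t⟩, hT', -, eT⟩ := hT
      have hρ : ρ (S3 σ T * σ a) = ρ (S3 σ T') := by
        rw [map_mul, hS3 hσ T t.pt, hS3 hσ T' fun i => (hT' i).1, hσ.img a ha, hM3, hM3, eT]
        rfl
      rcases D.eq_or hρ with q | q
      · exact ⟨σ, hσ, H, fun R R' hR => uni hσ H hTc hR q⟩
      · have fl : ∀ R, S3 (fun x => σ x * d) R = S3 σ R * d := fun R => by
          simp only [S3]
          have m : ∀ u v : C, u * d * v = u * v * d := fun u v => by
            rw [mul_assoc, (D.cen v).eq, ← mul_assoc]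
          simp only [← mul_assoc, m]
          simp only [mul_assoc, D.sq, mul_one]
        have Hf : Six E (fun x => σ x * d) := fun b hb l h1 h2 h3 h4 h5 => by
          rw [Sec.flip_five D h1, H b hb l h1 h2 h3 h4 h5]
        refine ⟨_, hσ.flip D, Hf, fun R R' hR => uni (hσ.flip D) Hf hTc hR ?_⟩
        simp only [fl, q]
        rw [mul_assoc _ d (σ a * d), ← mul_assoc d, (D.cen (σ a)).eq]
        group
    · exact ⟨σ, hσ, H, fun R R' hR => absurd ⟨R, R', hR⟩ hex⟩
  refine ⟨s, hs, Hs, ?_⟩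
  -- the centraliser of the lift modulo the lift
  set Ca := Subgroup.centralizer ({s a} : Set C)
  have hsa : ρ (s a) = a := hs.img a ha
  let ρa : ↥Ca →* ↥(Subgroup.centralizer ({a} : Set M)) := (ρ.comp Ca.subtype).codRestrict _ fun x =>
    mem_cent (by
      have h := (show Commute (s a) (x : C) from
        (Subgroup.mem_centralizer_singleton_iff.mp x.2).symm).map ρ
      rwa [hsa] at h)
  let z : ↥Ca := ⟨s a, mem_cent (Commute.refl _)⟩
  have zz : z * z = 1 := Subtype.ext (hs.sq D ha)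
  set N := Subgroup.zpowers z with hN
  have : N.Normal := ⟨fun n hn g => by
    have hc : Commute g n := by
      obtain ⟨m, rfl⟩ := Subgroup.mem_zpowers_iff.mp hn
      exact (show Commute g z from Subtype.ext (Subgroup.mem_centralizer_singleton_iff.mp g.2)).zpow_right m
    rwa [hc.eq, mul_inv_cancel_right]⟩
  have hzN : (QuotientGroup.mk z : ↥Ca ⧸ N) = 1 :=
    (QuotientGroup.eq_one_iff z).mpr (Subgroup.mem_zpowers z)
  let π' : ↥Ca ⧸ N →* Cfsg.PSU 6 K 2 := QuotientGroup.lift N (π.comp ρa) (by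
    rw [hN, Subgroup.zpowers_le]
    show π (ρa z) = 1
    rw [show ρa z = ⟨a, mem_cent (Commute.refl a)⟩ from Subtype.ext hsa]
    exact he.π_d hK)
  let dd : ↥Ca ⧸ N := QuotientGroup.mk ⟨d, mem_cent (D.cen _).symm⟩
  have hext : TwoExt π' dd := by
    refine ⟨fun p => ?_, fun x hx => ?_, ?_, fun x => ?_⟩
    · obtain ⟨y, rfl⟩ := he.surj p
      obtain ⟨k, hk⟩ := D.surj (y : M)
      have hkc : k * s a * k⁻¹ = s a := by
        rw [hs.conj k a ha, hk,
          mul_inv_eq_iff_eq_mul.mpr (Subgroup.mem_centralizer_singleton_iff.mp y.2)]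
      refine ⟨QuotientGroup.mk ⟨k, mem_cent (mul_inv_eq_iff_eq_mul.mp hkc).symm⟩, ?_⟩
      show π (ρa _) = π y
      exact congrArg π (Subtype.ext hk)
    · obtain ⟨k, rfl⟩ := QuotientGroup.mk_surjective x
      rcases he.ker (ρa k) hx with q | q
      · have q' : ρ (k : C) = 1 := congrArg Subtype.val q
        rcases D.ker _ q' with r | r
        · exact Or.inl (congrArg QuotientGroup.mk (show k = 1 from Subtype.ext r))
        · exact Or.inr (congrArg QuotientGroup.mk (show k = ⟨d, _⟩ from Subtype.ext r))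
      · have q' : ρ (k : C) = a := congrArg Subtype.val q
        rcases D.eq_or (hsa.trans q'.symm) with r | r
        · exact Or.inl ((congrArg QuotientGroup.mk (show k = z from Subtype.ext r)).trans hzN)
        · refine Or.inr ((congrArg QuotientGroup.mk
            (show k = z * ⟨d, mem_cent (D.cen _).symm⟩ from Subtype.ext r)).trans ?_)
          rw [QuotientGroup.mk_mul, hzN, one_mul]
    · exact congrArg QuotientGroup.mk (show (⟨d, _⟩ : ↥Ca) * ⟨d, _⟩ = 1 from Subtype.ext D.sq)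
    · obtain ⟨k, rfl⟩ := QuotientGroup.mk_surjective x
      exact congrArg (QuotientGroup.mk (s := N))
        (show (⟨d, _⟩ : ↥Ca) * k = k * ⟨d, _⟩ from Subtype.ext (D.cen _).eq)
  have hne : dd ≠ 1 := fun e => by
    rcases zpowers_invol zz ((QuotientGroup.eq_one_iff _).mp e) with q | q
    · exact D.ne (congrArg Subtype.val q)
    · have q' : d = s a := congrArg Subtype.val q
      exact D.data.core.ne_one a ha (by rw [← hsa, ← q', D.map_d])
  have hmem : ∀ {v}, IsPt v → s (mbr a Y v) ∈ Ca := fun hv =>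
    mem_cent (hs.comm D ha (spec hv).1 (spec hv).2.2)
  let Y' : Vec K → ↥Ca ⧸ N := fun v =>
    if hv : IsPt v then QuotientGroup.mk ⟨s (mbr a Y v), hmem hv⟩ else 1
  have eY : ∀ {v} (hv : IsPt v), Y' v = QuotientGroup.mk ⟨s (mbr a Y v), hmem hv⟩ := fun hv => dif_pos hv
  have img' : ∀ u, IsPt u → π' (Y' u) = ptv hK u := fun u hu => by
    rw [eY hu]
    show π (ρa ⟨_, _⟩) = _
    rw [← (mbr_spec hK D.data ha P hu).2 (mem_cent (spec hu).2.2)]
    exact congrArg π (Subtype.ext (hs.img _ (spec hu).1))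
  have P' : PtClass hK π' dd Y' := by
    refine ⟨hext, hne, img', fun g u v hu hv e => ?_, fun u v hu hv huv hse w hw => ?_⟩
    · obtain ⟨k, rfl⟩ := QuotientGroup.mk_surjective g
      rw [eY hu, eY hv, ← QuotientGroup.mk_inv, ← QuotientGroup.mk_mul, ← QuotientGroup.mk_mul]
      refine congrArg QuotientGroup.mk (Subtype.ext ?_)
      show (k : C) * s (mbr a Y u) * (k : C)⁻¹ = s (mbr a Y v)
      rw [hs.conj _ _ (spec hu).1]
      exact congrArg s (mbr_conj hK P (k := ρa k) (P.conj _ u v hu hv e))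
    · have pl := fun t : K => isPt_line hK hu hv huv hse t
      have p1 : IsPt (u + v) := by simpa using pl 1
      rw [eY hu, eY hv, eY p1, eY (pl w), eY (pl (w ^ 2)), ← QuotientGroup.mk_mul, ← QuotientGroup.mk_mul,
        ← QuotientGroup.mk_mul, ← QuotientGroup.mk_mul]
      refine (congrArg QuotientGroup.mk (Subtype.ext ?_)).trans hzN
      show s (mbr a Y u) * s (mbr a Y v) * s (mbr a Y (u + v)) * s (mbr a Y (u + w • v)) *
        s (mbr a Y (u + w ^ 2 • v)) = s a
      have hL := line5_spec hK D.data ha P hu hv huv hse hw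
      rw [← Hs a ha _ rfl hL.1 hL.2.1 hL.2.2 (line5' hK P hu hv huv hse hw)]
      simp [mul_assoc]
  have hno : NoTwist π' Y' := by
    intro R S R' S' r r' e
    have e' : π (tri Y R) = π (tri Y R') := by
      simp only [tri, map_mul, img' _ (r.pt _), img' _ (r'.pt _)] at e
      simpa only [tri, map_mul, P.img _ (r.pt _), P.img _ (r'.pt _)] using e
    have hspan := span_of_img hK P r r' e'
    have ds : ∀ {R S : Fin 3 → Vec K}, Plane R S → ∀ i j, i ≠ j → mbr a Y (R i) ≠ mbr a Y (R j) :=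
      fun r i j hij q => r.not_same hij ((mbr_same hK P (r.pt i) (r.pt j)).mp q)
    have em : ∀ {R S : Fin 3 → Vec K} (r : Plane R S), tri Y' R =
        QuotientGroup.mk ⟨S3 s R, mul_mem (mul_mem (hmem (r.pt 0)) (hmem (r.pt 1))) (hmem (r.pt 2))⟩ :=
      fun r => by rw [tri, eY (r.pt 0), eY (r.pt 1), eY (r.pt 2)]; rfl
    rw [em r, em r']
    rcases he.eq_or e' with q | q
    · refine congrArg QuotientGroup.mk (Subtype.ext ?_)
      exact trip hs Hs r (fun i => ⟨r.pt i, Submodule.subset_span ⟨i, rfl⟩⟩)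
        (fun i => ⟨r'.pt i, hspan i⟩) (ds r) (ds r') q.symm
    · have hc : Conf R R' := ⟨⟨S, r⟩, fun i => ⟨r'.pt i, hspan i⟩, ds r', q⟩
      rw [show (⟨S3 s R', mul_mem (mul_mem (hmem (r'.pt 0)) (hmem (r'.pt 1))) (hmem (r'.pt 2))⟩ : ↥Ca) =
        ⟨S3 s R, mul_mem (mul_mem (hmem (r.pt 0)) (hmem (r.pt 1))) (hmem (r.pt 2))⟩ * z from
        Subtype.ext (hnt R R' hc), QuotientGroup.mk_mul, hzN, mul_one]
  -- the extension splits
  set Q1 := commutator (↥Ca ⧸ N)
  have hdQ : dd ∉ Q1 := by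
    intro hd
    have htop : commutator (↥Ca ⧸ N) = ⊤ := by
      have hPSU : commutator (Cfsg.PSU 6 K 2) = ⊤ := top_le_iff.mp (by
        rw [← Subgroup.map_top_of_surjective π he.surj, ← D.perfC a ha, commutator_def,
          Subgroup.map_commutator, commutator_def]
        exact Subgroup.commutator_mono le_top le_top)
      have hmap : Q1.map π' = ⊤ := by
        rw [show Q1 = _ from commutator_def _, Subgroup.map_commutator,
          Subgroup.map_top_of_surjective π' hext.surj, ← commutator_def]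
        exact hPSU
      refine eq_top_iff.mpr fun x _ => ?_
      obtain ⟨y, hy, ey⟩ := (show π' x ∈ Q1.map π' from hmap.symm ▸ Subgroup.mem_top _)
      rcases hext.eq_or ey with rfl | rfl
      exacts [hy, mul_mem hy hd]
    obtain ⟨R, S, R', S', r, r', e⟩ := P'.exists_twist hK htop
    have hπ : π' (tri Y' R) = π' (tri Y' R') := by rw [e, map_mul, hext.π_d hK, mul_one]
    have := hno R S R' S' r r' hπ
    rw [← this] at e
    exact hne (mul_eq_left.mp e.symm)
  have hsqQ : ∀ x : ↥Ca ⧸ N, x * x ∈ Q1 := by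
    intro x
    have hmap : Q1.map π' = ⊤ := top_le_iff.mp (by
      rw [← Subgroup.map_top_of_surjective π he.surj, ← D.perfC a ha, commutator_def,
        Subgroup.map_commutator, show Q1 = _ from commutator_def _, Subgroup.map_commutator,
        Subgroup.map_top_of_surjective π' hext.surj]
      exact Subgroup.commutator_mono le_top le_top)
    obtain ⟨y, hy, ey⟩ := (show π' x ∈ Q1.map π' from hmap.symm ▸ Subgroup.mem_top _)
    rcases hext.eq_or ey with rfl | rfl
    · exact mul_mem hy hy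
    · rw [show y * dd * (y * dd) = y * (dd * y) * dd by group, (hext.cen y).eq,
        show y * (y * dd) * dd = y * y * (dd * dd) by group, hext.sq, mul_one]
      exact mul_mem hy hy
  intro hd
  have hle : Subgroup.closure (s '' nb E a) ≤ (Q1.comap (QuotientGroup.mk' N)).map Ca.subtype := by
    rw [Subgroup.closure_le]
    rintro _ ⟨y, hy, rfl⟩
    obtain ⟨v, hv, rfl⟩ := mbr_surj hK D.data ha P hy
    obtain ⟨x, hx⟩ := P'.point_square hK hv
    refine ⟨⟨s (mbr a Y v), hmem hv⟩, ?_, rfl⟩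
    show (QuotientGroup.mk ⟨_, _⟩ : ↥Ca ⧸ N) ∈ Q1
    rw [← eY hv, ← hx]
    exact hsqQ x
  obtain ⟨x, hx, ex⟩ := hle hd
  exact hdQ (by
    show (QuotientGroup.mk ⟨d, _⟩ : ↥Ca ⧸ N) ∈ Q1
    rwa [← show x = (⟨d, mem_cent (D.cen _).symm⟩ : ↥Ca) from Subtype.ext ex])

/-- some six members multiply to the central involution -/
theorem not_six [Finite C] [Finite M] {σ : M → C} (hσ : Sec ρ E σ) : ¬ Six E σ := by
  classical
  intro H
  haveI : Fact (Nat.Prime 2) := ⟨Nat.prime_two⟩
  have htt := D.data.core.tt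
  obtain ⟨a, ha⟩ := D.data.nonempty
  obtain ⟨π, he⟩ := D.ext a ha
  obtain ⟨T⟩ := (inferInstance : Nonempty (Sylow 2 C))
  have finish : ∀ N : Subgroup C, d ∉ N → (T : Subgroup C) ≤ N ⊔ Subgroup.zpowers d → False := by
    intro N hd hT
    refine no_complement D.perf D.sq D.cen hd (Nat.odd_iff.mpr (Nat.two_dvd_ne_zero.mp fun h2 => ?_))
    exact T.not_dvd_index (h2.trans (Subgroup.index_dvd_of_le hT))
  have lift_le : ∀ (s : M → C), Sec ρ E s → ∀ X : Set M, X ⊆ E →
      Subgroup.closure X ≤ (Subgroup.closure (s '' X)).map ρ := fun s hs X hX => by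
    rw [Subgroup.closure_le]
    exact fun y hy => ⟨s y, Subgroup.subset_closure ⟨y, hy, rfl⟩, hs.img y (hX hy)⟩
  have in_sup : ∀ {N : Subgroup C} {k : C}, ρ k ∈ N.map ρ → k ∈ N ⊔ Subgroup.zpowers d := by
    rintro N k ⟨h, hh, e⟩
    rcases D.eq_or e with rfl | rfl
    · exact Subgroup.mem_sup_left hh
    · exact mul_mem (Subgroup.mem_sup_left hh) (Subgroup.mem_sup_right (Subgroup.mem_zpowers d))
  have own : ∀ {s : M → C}, Six E s → ∀ {c : M}, c ∈ E →
      s c ∈ Subgroup.closure (s '' nb E c) := by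
    intro s Hs c hc
    obtain ⟨π', he'⟩ := D.ext c hc
    obtain ⟨Y, P⟩ := he'.exists_ptClass D.hK fun e => D.data.core.ne_one c hc (congrArg Subtype.val e)
    obtain ⟨l, h1, h2, h3, h4, h5⟩ := exists_line5 D.hK D.data hc P
    rw [← Hs c hc l h1 h2 h3 h4 h5]
    refine Subgroup.list_prod_mem _ fun x hx => ?_
    obtain ⟨y, hy, rfl⟩ := List.mem_map.mp hx
    exact Subgroup.subset_closure ⟨y, h3 y hy, rfl⟩
  rcases D.data.fix_or_pair D.hK ha he ((T : Subgroup C).map ρ) (T.isPGroup'.map ρ) with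
    ⟨c, hc, hfix⟩ | ⟨c, hc, c', hc', hsw⟩
  · obtain ⟨s, hs, Hs, hd⟩ := D.not_mem_local hσ H hc
    refine finish _ hd fun t ht => in_sup ?_
    refine lift_le s hs _ (fun y hy => hy.1) ?_
    show ρ t ∈ nbSub E c
    rw [← D.cent c hc]
    exact mem_cent (hfix _ ⟨t, ht, rfl⟩).symm
  · obtain ⟨s, hs, Hs, hd⟩ := D.not_mem_local hσ H hc
    set X : Set M := {c, c'} ∪ (nb E c ∩ nb E c') with hX
    have hXE : X ⊆ E := by
      rintro y ((rfl | rfl) | hy)
      exacts [hc, hc'.1, hy.1.1]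
    set N := Subgroup.closure (s '' X) with hN
    have hNH : N ≤ Subgroup.closure (s '' nb E c) := by
      rw [hN, Subgroup.closure_le]
      rintro _ ⟨y, (rfl | rfl) | hy, rfl⟩
      exacts [own Hs hc, Subgroup.subset_closure ⟨_, hc', rfl⟩, Subgroup.subset_closure ⟨_, hy.1, rfl⟩]
    obtain ⟨t0, tt0, t1, t2⟩ := D.data.swap hc hc'
    obtain ⟨t, rfl⟩ := D.surj t0
    have tt1 : t * t = 1 := D.invol tt0
    have hn : ∀ b ∈ Subgroup.zpowers t, ∀ n ∈ N, b * n * b⁻¹ ∈ N := by
      have hle : N ≤ N.comap (MulAut.conj t).toMonoidHom := by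
        rw [hN, Subgroup.closure_le]
        rintro _ ⟨y, hy, rfl⟩
        show t * s y * t⁻¹ ∈ N
        rw [hs.conj t y (hXE hy)]
        refine Subgroup.subset_closure ⟨_, ?_, rfl⟩
        rcases hy with (rfl | rfl) | ⟨hy1, hy2⟩
        · exact Or.inl (Or.inr t1)
        · exact Or.inl (Or.inl t2)
        · have a1 := htt.nb_conj (ρ t) hy1
          have a2 := htt.nb_conj (ρ t) hy2
          rw [t1] at a1; rw [t2] at a2
          exact Or.inr ⟨a2, a1⟩
      intro b hb' n hn
      rcases zpowers_invol tt1 hb' with rfl | rfl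
      · simpa using hn
      · exact hle hn
    obtain ⟨hprod, -⟩ := sup_of_normalised hn
    have fixN : ∀ n ∈ N, Commute (ρ n) c := by
      intro n hn
      have hle : N ≤ (Subgroup.centralizer ({c} : Set M)).comap ρ := by
        rw [hN, Subgroup.closure_le]
        rintro _ ⟨y, hy, rfl⟩
        show ρ (s y) ∈ Subgroup.centralizer ({c} : Set M)
        rw [hs.img y (hXE hy)]
        rcases hy with (rfl | rfl) | hy
        exacts [mem_cent (Commute.refl _), mem_cent hc'.2.2, mem_cent hy.1.2.2]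
      exact Subgroup.mem_centralizer_singleton_iff.mp (hle hn)
    refine finish (N ⊔ Subgroup.zpowers t) (fun hdM => ?_) fun k hk => ?_
    · obtain ⟨n, hn', b, hb', e⟩ := hprod d hdM
      rcases zpowers_invol tt1 hb' with rfl | rfl
      · exact hd (hNH (by rw [e, mul_one]; exact hn'))
      · have e' := congrArg ρ e
        rw [D.map_d, map_mul] at e'
        have hc2 : Commute (ρ b) c := by
          rw [eq_inv_of_mul_eq_one_right e'.symm]; exact (fixN n hn').inv_left
        rw [hc2.eq, mul_inv_cancel_right] at t1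
        exact hc'.2.1 t1.symm
    · have fixed : ∀ k : C, Commute (ρ k) c → Commute (ρ k) c' →
          k ∈ (N ⊔ Subgroup.zpowers t) ⊔ Subgroup.zpowers d := fun k h1 h2 =>
        sup_le_sup_right le_sup_left (Subgroup.zpowers d) (in_sup (lift_le s hs X hXE (D.stab_two hc hc' h1 h2)))
      rcases hsw (ρ k) ⟨k, hk, rfl⟩ with ⟨e1, e2⟩ | ⟨e1, e2⟩
      · exact fixed k (mul_inv_eq_iff_eq_mul.mp e1) (mul_inv_eq_iff_eq_mul.mp e2)
      · have h := fixed (k * t) (mul_inv_eq_iff_eq_mul.mp ?_) (mul_inv_eq_iff_eq_mul.mp ?_)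
        · have := mul_mem h (Subgroup.mem_sup_left (Subgroup.mem_sup_right (Subgroup.mem_zpowers t)) :
            t ∈ (N ⊔ Subgroup.zpowers t) ⊔ Subgroup.zpowers d)
          rwa [mul_assoc, tt1, mul_one] at this
        · rw [map_mul, show ρ k * ρ t * c * (ρ k * ρ t)⁻¹ = ρ k * (ρ t * c * (ρ t)⁻¹) * (ρ k)⁻¹ by group,
            t1, e2]
        · rw [map_mul, show ρ k * ρ t * c' * (ρ k * ρ t)⁻¹ = ρ k * (ρ t * c' * (ρ t)⁻¹) * (ρ k)⁻¹ by group,
            t2, e1]

end Dbl

end Cfsg.Agent.H93
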