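import Cfsg.Agent.H93.Members22

/-!
A perfect two-fold central extension of a group of type M(22) in which the central involution is not a
square: involutions lift to involutions, the lifts of members fall into two classes, and six members
multiplying to one below multiply to the central involution above, for some such six.
-/

set_option autoImplicit false

namespace Cfsg.Agent.H93

variable {C M : Type*} [Group C] [Group M]

/-- the setting -/
structure Dbl (ρ : C →* M) (d : C) (E : Set M) (F : Type*) [Field F] [Fintype F] (K : Type*) [Field K]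
    [Fintype K] : Prop where
  data : M22Data E F
  hK : Fintype.card K = 4
  cent : ∀ x ∈ E, Subgroup.centralizer ({x} : Set M) = nbSub E x
  ext : ∀ x ∈ E, ∃ π : ↥(Subgroup.centralizer ({x} : Set M)) →* Cfsg.PSU 6 K 2,
    TwoExt π ⟨x, mem_cent (Commute.refl x)⟩
  perfC : ∀ x ∈ E, commutator ↥(Subgroup.centralizer ({x} : Set M)) = ⊤
  perf : commutator C = ⊤
  surj : Function.Surjective ρ
  ker : ∀ x, ρ x = 1 → x = 1 ∨ x = d
  map_d : ρ d = 1
  cen : ∀ x, Commute d x
  sq : d * d = 1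
  ne : d ≠ 1
  nsq : ∀ x : C, x * x ≠ d

/-- an equivariant choice of lifts of the members -/
structure Sec (ρ : C →* M) (E : Set M) (σ : M → C) : Prop where
  img : ∀ x ∈ E, ρ (σ x) = x
  conj : ∀ k : C, ∀ x ∈ E, k * σ x * k⁻¹ = σ (ρ k * x * (ρ k)⁻¹)

/-- six commuting members multiplying to one below do so above -/
def Six (E : Set M) (σ : M → C) : Prop :=
  ∀ a ∈ E, ∀ l : List M, l.length = 5 → l.Nodup → (∀ x ∈ l, x ∈ nb E a) →
    (∀ x ∈ l, ∀ y ∈ l, Commute x y) → l.prod = a → (l.map σ).prod = σ a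

variable {ρ : C →* M} {d : C} {E : Set M} {F : Type*} [Field F] [Fintype F] {K : Type*} [Field K]
  [Fintype K]

namespace Dbl

variable (D : Dbl ρ d E F K)

include D

theorem eq_or {x y : C} (e : ρ x = ρ y) : y = x ∨ y = x * d := by
  rcases D.ker (x⁻¹ * y) (by rw [map_mul, map_inv, e, inv_mul_cancel]) with k | k
  · exact Or.inl (inv_mul_eq_one.mp k).symm
  · exact Or.inr (inv_mul_eq_iff_eq_mul.mp k)

theorem invol {x : C} (hx : ρ x * ρ x = 1) : x * x = 1 :=
  (D.ker _ (by rw [map_mul, hx])).resolve_right (D.nsq x)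

theorem commute {x y : C} (hx : ρ x * ρ x = 1) (hy : ρ y * ρ y = 1) (hc : Commute (ρ x) (ρ y)) :
    Commute x y := by
  have h : x * y * (x * y) = 1 := D.invol (by
    rw [map_mul, show ρ x * ρ y * (ρ x * ρ y) = ρ x * (ρ y * ρ x) * ρ y by group, ← hc.eq,
      show ρ x * (ρ x * ρ y) * ρ y = (ρ x * ρ x) * (ρ y * ρ y) by group, hx, hy, one_mul])
  have hi : (x * y)⁻¹ = x * y := inv_eq_of_mul_eq_one_left h
  rw [mul_inv_rev, inv_eq_of_mul_eq_one_left (D.invol hx), inv_eq_of_mul_eq_one_left (D.invol hy)]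
    at hi
  exact hi.symm

theorem mul_d_ne (x : C) : x * d ≠ x := fun e => D.ne (mul_left_cancel (e.trans (mul_one x).symm))

/-- a lift of a member is not conjugate to its translate -/
theorem conj_ne {a : M} (ha : a ∈ E) {x : C} (hx : ρ x = a) (k : C) : k * x * k⁻¹ ≠ x * d := by
  intro e
  have hk : Commute (ρ k) a := by
    have := congrArg ρ e
    rw [map_mul, map_mul, map_mul, map_inv, D.map_d, mul_one, hx] at this
    exact mul_inv_eq_iff_eq_mul.mp this
  have hxx : ρ x * ρ x = 1 := by rw [hx]; exact D.data.core.tt.sq a ha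
  have hle : nbSub E a ≤ (Subgroup.centralizer ({x} : Set C)).map ρ := by
    rw [Subgroup.closure_le]
    intro y hy
    obtain ⟨z, hz⟩ := D.surj y
    refine ⟨z, mem_cent (D.commute hxx ?_ ?_), hz⟩
    · rw [hz]; exact D.data.core.tt.sq y hy.1
    · rw [hx, hz]; exact hy.2.2
  obtain ⟨k', hk', ek⟩ := hle (D.cent a ha ▸ mem_cent hk.symm)
  have hk'c : Commute k' x := Subgroup.mem_centralizer_singleton_iff.mp hk'
  have : Commute k x := by
    rcases D.eq_or ek with rfl | rfl
    exacts [hk'c, hk'c.mul_left (D.cen x)]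
  rw [this.eq, mul_inv_cancel_right] at e
  exact D.mul_d_ne x e.symm

theorem exists_sec : ∃ σ, Sec ρ E σ := by
  classical
  obtain ⟨a0, ha0⟩ := D.data.nonempty
  obtain ⟨x0, hx0⟩ := D.surj a0
  have hk : ∀ b : M, ∃ k : C, b ∈ E → ρ k * a0 * (ρ k)⁻¹ = b := fun b => by
    by_cases hb : b ∈ E
    · obtain ⟨g, hg⟩ := isConj_iff.mp (D.data.core.cls a0 ha0 b hb)
      obtain ⟨k, rfl⟩ := D.surj g
      exact ⟨k, fun _ => hg⟩
    · exact ⟨1, fun q => absurd q hb⟩
  choose k hk using hk
  have img : ∀ b ∈ E, ρ (k b * x0 * (k b)⁻¹) = b := fun b hb => by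
    rw [map_mul, map_mul, map_inv, hx0, hk b hb]
  refine ⟨fun b => k b * x0 * (k b)⁻¹, img, fun g x hx => ?_⟩
  have hx' := D.data.core.tt.conj_mem (ρ g) x hx
  rcases D.eq_or (x := g * (k x * x0 * (k x)⁻¹) * g⁻¹)
    (y := k (ρ g * x * (ρ g)⁻¹) * x0 * (k (ρ g * x * (ρ g)⁻¹))⁻¹)
    (by rw [map_mul, map_mul, map_inv, img x hx, img _ hx']) with q | q
  · exact q.symm
  exfalso
  set y := k (ρ g * x * (ρ g)⁻¹) with hy
  refine D.conj_ne ha0 hx0 ((g * k x)⁻¹ * y) ?_
  have q' : y * x0 * y⁻¹ = g * k x * (x0 * d) * (g * k x)⁻¹ := by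
    rw [q, show g * k x * (x0 * d) * (g * k x)⁻¹ = (g * k x) * x0 * (d * (g * k x)⁻¹) by group,
      (D.cen (g * k x)⁻¹).eq]
    group
  calc (g * k x)⁻¹ * y * x0 * ((g * k x)⁻¹ * y)⁻¹
      = (g * k x)⁻¹ * (y * x0 * y⁻¹) * (g * k x) := by group
    _ = x0 * d := by rw [q']; group

end Dbl

namespace Sec

variable {σ : M → C} (S : Sec ρ E σ) (D : Dbl ρ d E F K)

include S D

theorem flip : Sec ρ E (fun x => σ x * d) := by
  refine ⟨fun x hx => by rw [map_mul, S.img x hx, D.map_d, mul_one], fun k x hx => ?_⟩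
  calc k * (σ x * d) * k⁻¹ = k * σ x * (d * k⁻¹) := by group
    _ = k * σ x * k⁻¹ * d := by rw [(D.cen k⁻¹).eq]; group
    _ = _ := by rw [S.conj k x hx]

theorem sq {x : M} (hx : x ∈ E) : σ x * σ x = 1 :=
  D.invol (by rw [S.img x hx]; exact D.data.core.tt.sq x hx)

theorem comm {x y : M} (hx : x ∈ E) (hy : y ∈ E) (h : Commute x y) : Commute (σ x) (σ y) :=
  D.commute (by rw [S.img x hx]; exact D.data.core.tt.sq x hx)
    (by rw [S.img y hy]; exact D.data.core.tt.sq y hy) (by rwa [S.img x hx, S.img y hy])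

omit D in
theorem map_prod {l : List M} (h : ∀ x ∈ l, x ∈ E) : ρ (l.map σ).prod = l.prod := by
  induction l with
  | nil => simp
  | cons a l ih =>
    rw [List.map_cons, List.prod_cons, List.prod_cons, map_mul, S.img a (h a List.mem_cons_self),
      ih fun x hx => h x (List.mem_cons_of_mem _ hx)]

omit S in
/-- five lifts flipped -/
theorem flip_five {l : List M} (hl : l.length = 5) :
    (l.map fun x => σ x * d).prod = (l.map σ).prod * d := by
  match l, hl with
  | [a, b, c, e, f], _ =>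
    have m : ∀ u v : C, u * d * v = u * v * d := fun u v => by
      rw [mul_assoc, (D.cen v).eq, ← mul_assoc]
    simp only [List.map_cons, List.map_nil, List.prod_cons, List.prod_nil, mul_one, ← mul_assoc, m]
    simp only [mul_assoc, D.sq, mul_one]

/-- two triples with one product below -/
theorem six_triple (H : Six E σ) {x y z u v w : M} {l : List M} (hl : l = [x, y, z, u, v, w])
    (hE : ∀ t ∈ l, t ∈ E) (hc : ∀ s ∈ l, ∀ t ∈ l, Commute s t) (xy : x ≠ y) (xz : x ≠ z) (yz : y ≠ z)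
    (uv : u ≠ v) (uw : u ≠ w) (vw : v ≠ w) (e : x * y * z = u * v * w) :
    σ x * σ y * σ z = σ u * σ v * σ w := by
  subst hl
  simp only [List.mem_cons, List.not_mem_nil, or_false, forall_eq_or_imp, forall_eq] at hE hc
  obtain ⟨xE, yE, zE, uE, vE, wE⟩ := hE
  obtain ⟨⟨-, cxy, cxz, cxu, cxv, cxw⟩, ⟨-, -, cyz, cyu, cyv, cyw⟩, ⟨-, -, -, czu, czv, czw⟩,
    ⟨-, -, -, -, cuv, cuw⟩, ⟨-, -, -, -, -, cvw⟩, -⟩ := hc
  have tt := D.data.core.tt
  have hP : Pair2 E := pair2_of_indep tt D.data.ind (by norm_num)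
  have C' : ∀ {p q : M}, p ∈ E → q ∈ E → Commute p q → Commute (σ p) (σ q) := fun hp hq h =>
    S.comm D hp hq h
  -- one common member
  have shared : ∀ {a b c p q r : M}, a ∈ E → b ∈ E → c ∈ E → q ∈ E → r ∈ E → a = p →
      b ≠ c → q ≠ r → Commute b c → Commute q r → a * b * c = p * q * r →
      σ a * σ b * σ c = σ p * σ q * σ r := by
    intro a b c p q r ha hb hc hq hr hap hbc hqr cbc cqr e
    subst hap
    rw [mul_assoc, mul_assoc] at e
    have e' := mul_left_cancel e
    rcases hP b hb c hc q hq r hr hbc hqr cbc cqr e' with rfl | rfl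
    · rw [mul_left_cancel e']
    · rw [show c = q by rw [← cqr.symm.eq] at e'; exact mul_left_cancel e', mul_assoc, mul_assoc,
        (C' hr hq cqr.symm).eq]
  have r1 : σ u * σ w * σ v = σ u * σ v * σ w := by
    rw [mul_assoc, (C' wE vE cvw.symm).eq, ← mul_assoc]
  have r2 : σ v * σ u * σ w = σ u * σ v * σ w := by rw [(C' vE uE cuv.symm).eq]
  have r3 : σ w * σ u * σ v = σ u * σ v * σ w := by rw [(C' wE uE cuw.symm).eq, r1]
  have ev : v * u * w = u * v * w := by rw [cuv.eq]
  have ew : w * u * v = u * v * w := by rw [mul_assoc w u v, (cuw.symm.mul_right cvw.symm).eq]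
  have ex : ∀ {a b c : M}, a ∈ E → b ∈ E → c ∈ E → b ≠ c → Commute b c →
      (a = u ∨ a = v ∨ a = w) → a * b * c = u * v * w → σ a * σ b * σ c = σ u * σ v * σ w := by
    intro a b c ha hb hc hbc cbc hm e
    rcases hm with q | q | q
    · exact shared ha hb hc vE wE q hbc vw cbc cvw e
    · rw [← r2]; exact shared ha hb hc uE wE q hbc uw cbc cuw (e.trans ev.symm)
    · rw [← r3]; exact shared ha hb hc uE vE q hbc uv cbc cuv (e.trans ew.symm)
  by_cases hx : x = u ∨ x = v ∨ x = w
  · exact ex xE yE zE yz cyz hx e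
  by_cases hy : y = u ∨ y = v ∨ y = w
  · rw [(C' xE yE cxy).eq]
    exact ex yE xE zE xz cxz hy (by rw [← cxy.eq]; exact e)
  by_cases hz : z = u ∨ z = v ∨ z = w
  · rw [((C' xE zE cxz).mul_left (C' yE zE cyz)).eq, ← mul_assoc]
    exact ex zE xE yE xy cxy hz (by rw [mul_assoc, ← (cxz.mul_left cyz).eq]; exact e)
  simp only [not_or] at hx hy hz
  obtain ⟨x1, x2, x3⟩ := hx
  obtain ⟨y1, y2, y3⟩ := hy
  obtain ⟨z1, z2, z3⟩ := hz
  have h := H x xE [y, z, u, v, w] rfl
    (by simp [yz, y1, y2, y3, z1, z2, z3, uv, uw, vw])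
    (by simp [nb, yE, zE, uE, vE, wE, Ne.symm xy, Ne.symm xz, Ne.symm x1, Ne.symm x2, Ne.symm x3,
      cxy, cxz, cxu, cxv, cxw])
    (by simp [cyz, cyz.symm, cyu, cyu.symm, cyv, cyv.symm, cyw, cyw.symm, czu, czu.symm, czv,
      czv.symm, czw, czw.symm, cuv, cuv.symm, cuw, cuw.symm, cvw, cvw.symm])
    (by
      simp only [List.prod_cons, List.prod_nil, mul_one]
      rw [← mul_assoc u, ← e]
      calc y * (z * (x * y * z)) = y * (z * x) * (y * z) := by group
        _ = y * (x * z) * (y * z) := by rw [cxz.eq]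
        _ = (y * x) * (z * y) * z := by group
        _ = (x * y) * (y * z) * z := by rw [cxy.eq, cyz.eq]
        _ = x * (y * y) * (z * z) := by group
        _ = x := by rw [tt.sq y yE, tt.sq z zE, mul_one, mul_one])
  simp only [List.map_cons, List.map_nil, List.prod_cons, List.prod_nil, mul_one] at h
  calc σ x * σ y * σ z = σ z * σ y * σ x := by
        rw [((C' xE zE cxz).mul_left (C' yE zE cyz)).eq, (C' xE yE cxy).eq, mul_assoc]
    _ = σ z * σ y * (σ y * (σ z * (σ u * (σ v * σ w)))) := by rw [h]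
    _ = σ z * (σ y * σ y) * σ z * (σ u * σ v * σ w) := by group
    _ = _ := by rw [S.sq D yE, mul_one, S.sq D zE, one_mul]

end Sec

end Cfsg.Agent.H93
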