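import Cfsg.Agent.H93.NotSix

/-!
The members in a maximal elementary abelian 2-subgroup of a group of type M(22) and the classes of its
preimage in a two-fold extension.
-/

set_option autoImplicit false

namespace Cfsg.Agent.H93

/-- small relations among elements without short relations in an elementary abelian group -/
theorem small_rel {A : Type*} [CommGroup A] (h2 : ∀ x : A, x * x = 1) {Em : Set A}
    (h5 : ∀ l : List A, l.Nodup → l ≠ [] → l.length ≤ 5 → (∀ x ∈ l, x ∈ Em) → l.prod ≠ 1) :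
    (∀ {x y : A}, x ∈ Em → y ∈ Em → x ≠ y → x * y ≠ 1 ∧ x * y ∉ Em) ∧
    (∀ {x y z : A}, x ∈ Em → y ∈ Em → z ∈ Em → x ≠ y → x ≠ z → y ≠ z → x * y * z ≠ 1 ∧
      x * y * z ∉ Em ∧ ∀ {v w : A}, v ∈ Em → w ∈ Em → v ≠ w → x * y * z ≠ v * w) := by
  have hinv : ∀ x : A, x⁻¹ = x := fun x => inv_eq_of_mul_eq_one_left (h2 x)
  have two : ∀ {x y : A}, x ∈ Em → y ∈ Em → x ≠ y → x * y ≠ 1 ∧ x * y ∉ Em := by
    intro x y hx hy hxy
    refine ⟨fun e => hxy (by rw [eq_inv_of_mul_eq_one_left e, hinv]), fun hz => ?_⟩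
    have n1 : x * y ≠ x := fun e => h5 [y] (by simp) (by simp) (by simp) (by simp [hy])
      (by simpa using mul_eq_left.mp e)
    have n2 : x * y ≠ y := fun e => h5 [x] (by simp) (by simp) (by simp) (by simp [hx])
      (by simpa using mul_eq_right.mp e)
    refine h5 [x, y, x * y] ?_ (by simp) (by simp) ?_ ?_
    · simp [hxy, Ne.symm n1, Ne.symm n2]
    · intro t ht
      simp only [List.mem_cons, List.not_mem_nil, or_false] at ht
      rcases ht with rfl | rfl | rfl <;> assumption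
    · simp only [List.prod_cons, List.prod_nil, mul_one]
      rw [← mul_assoc]; exact h2 _
  refine ⟨two, fun {x y z} hx hy hz hxy hxz hyz => ?_⟩
  have one : x * y * z ≠ 1 := fun e => h5 [x, y, z] (by simp [hxy, hxz, hyz]) (by simp) (by simp)
    (by simp [hx, hy, hz]) (by simpa [mul_assoc] using e)
  have cancel : ∀ {p q r : A}, p * q * r = p → q * r = 1 := fun {p q r} e => by
    rw [mul_assoc] at e; exact mul_eq_left.mp e
  have mem : ∀ {t}, t ∈ Em → x * y * z ≠ t := by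
    intro t ht e
    by_cases a1 : t = x
    · subst a1; exact (two hy hz hyz).1 (cancel e)
    by_cases a2 : t = y
    · subst a2; exact (two hx hz hxz).1 (cancel (by rw [mul_comm t x]; exact e))
    by_cases a3 : t = z
    · subst a3; exact (two hx hy hxy).1 (mul_eq_right.mp e)
    refine h5 [x, y, z, t] ?_ (by simp) (by simp) ?_ ?_
    · simp [hxy, hxz, hyz, Ne.symm a1, Ne.symm a2, Ne.symm a3]
    · simp [hx, hy, hz, ht]
    · simp only [List.prod_cons, List.prod_nil, mul_one]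
      rw [← mul_assoc, ← mul_assoc, e, h2]
  refine ⟨one, fun h => mem h rfl, fun {v w} hv hw hvw e => ?_⟩
  have red : ∀ {p q r s : A}, p ∈ Em → q ∈ Em → r ∈ Em → s ∈ Em → q ≠ r → p * q * r = p * s → False := by
    intro p q r s _ hq hr hs hqr e'
    rw [mul_assoc] at e'
    exact (two hq hr hqr).2 (mul_left_cancel e' ▸ hs)
  have key : ∀ {v w : A}, v ∈ Em → w ∈ Em → x * y * z = v * w → v ≠ x ∧ v ≠ y ∧ v ≠ z := by
    intro v w hv hw e'
    refine ⟨?_, ?_, ?_⟩ <;> rintro rfl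
    · exact red hv hy hz hw hyz e'
    · exact red hv hx hz hw hxz (by rw [mul_comm v x]; exact e')
    · exact red hv hx hy hw hxy (by rw [mul_comm v x, mul_assoc x v y, mul_comm v y, ← mul_assoc]; exact e')
  obtain ⟨v1, v2, v3⟩ := key hv hw e
  obtain ⟨w1, w2, w3⟩ := key hw hv (by rw [mul_comm w v]; exact e)
  refine h5 [x, y, z, v, w] ?_ (by simp) (by simp) ?_ ?_
  · simp [hxy, hxz, hyz, hvw, Ne.symm v1, Ne.symm v2, Ne.symm v3, Ne.symm w1, Ne.symm w2, Ne.symm w3]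
  · simp [hx, hy, hz, hv, hw]
  · simp only [List.prod_cons, List.prod_nil, mul_one]
    rw [← mul_assoc, ← mul_assoc, e, h2]

variable {M : Type*} [Group M] {E : Set M} {F : Type*} [Field F] [Fintype F]
  {K : Type*} [Field K] [Fintype K]

/-- members in a 2-subgroup commute -/
theorem TT.comm_twoGroup (htt : TT E) {T : Subgroup M} (hT : IsPGroup 2 T) {x y : M} (hx : x ∈ E)
    (hy : y ∈ E) (hxT : x ∈ T) (hyT : y ∈ T) : Commute x y := by
  by_contra hn
  have h3 : (x * y) ^ 3 = 1 := htt.cube hx hy hn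
  obtain ⟨n, hn2⟩ := hT ⟨x * y, mul_mem hxT hyT⟩
  have h2 : (x * y) ^ 2 ^ n = 1 := congrArg Subtype.val hn2
  have hg := pow_gcd_eq_one.mpr ⟨h2, h3⟩
  rw [show Nat.gcd (2 ^ n) 3 = 1 from Nat.Coprime.pow_left _ (by norm_num), pow_one] at hg
  refine hn ?_
  rw [eq_inv_of_mul_eq_one_right hg, htt.inv_eq hx]

theorem twoGroup_of_sq {M : Type*} [Group M] {B : Subgroup M} (h : ∀ x ∈ B, x * x = 1) :
    IsPGroup 2 ↥B := fun g => ⟨1, Subtype.ext (by
      show (g : M) ^ (2 ^ 1) = 1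
      rw [pow_one, pow_two, h _ g.2])⟩

/-- the facts about the subgroup generated by the members in a Sylow 2-subgroup -/
theorem M22Data.sylow_top (h : M22Data E F) [Finite M] (hK : Fintype.card K = 4)
    (hext : ∀ x ∈ E, ∃ π : ↥(Subgroup.centralizer ({x} : Set M)) →* Cfsg.PSU 6 K 2,
      TwoExt π ⟨x, mem_cent (Commute.refl x)⟩) (T : Sylow 2 M) :
    ∃ X : Subgroup M, X ≤ (T : Subgroup M) ∧ (∀ x ∈ X, ∀ y ∈ X, Commute x y) ∧
      (∀ x ∈ X, x * x = 1) ∧ Nat.card X = 1024 ∧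
      (∀ B : Subgroup M, B ≤ (T : Subgroup M) → (∀ x ∈ B, ∀ y ∈ B, Commute x y) →
        (∀ x ∈ B, x * x = 1) → Nat.card B = 1024 → B = X) ∧
      (∀ B : Subgroup M, (∀ x ∈ B, ∀ y ∈ B, Commute x y) → (∀ x ∈ B, x * x = 1) →
        Nat.card B = 1024 → ∃ g : M, B = X.map (MulAut.conj g).toMonoidHom) ∧
      (∀ l : List M, (∀ a ∈ l, a ∈ E) → (∀ a ∈ l, ∀ b ∈ l, Commute a b) →
        ∃ g : M, ∀ a ∈ l, g * a * g⁻¹ ∈ X) := by
  classical
  haveI : Fact (Nat.Prime 2) := ⟨Nat.prime_two⟩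
  have htt := h.core.tt
  set X := Subgroup.closure {x : M | x ∈ E ∧ x ∈ (T : Subgroup M)}
  have hXT : X ≤ (T : Subgroup M) := (Subgroup.closure_le _).mpr fun x hx => hx.2
  obtain ⟨hab, hsq⟩ := elem_closure (T := {x : M | x ∈ E ∧ x ∈ (T : Subgroup M)})
    (fun x hx => htt.sq x hx.1) fun x hx y hy => htt.comm_twoGroup T.isPGroup' hx.1 hy.1 hx.2 hy.2
  have hbound := fun B a b => h.elem_bound hK hext B a b
  have inX : ∀ B : Subgroup M, B ≤ (T : Subgroup M) → (∀ x ∈ B, ∀ y ∈ B, Commute x y) →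
      (∀ x ∈ B, x * x = 1) → Nat.card B = 1024 → B ≤ X := fun B hB b1 b2 hc =>
    ((hbound B b1 b2).2 hc).trans (Subgroup.closure_mono fun x hx => ⟨hx.1, hB hx.2⟩)
  have move : ∀ B : Subgroup M, (∀ x ∈ B, x * x = 1) →
      ∃ g : M, B.map (MulAut.conj g).toMonoidHom ≤ (T : Subgroup M) := by
    intro B b2
    obtain ⟨P, hP⟩ := (twoGroup_of_sq b2).exists_le_sylow
    obtain ⟨g, hg⟩ := MulAction.exists_smul_eq M P T
    refine ⟨g, ?_⟩
    rw [← hg]
    rintro _ ⟨x, hx, rfl⟩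
    exact ⟨x, hP hx, rfl⟩
  have mapped : ∀ (B : Subgroup M) (g : M), (∀ x ∈ B, ∀ y ∈ B, Commute x y) → (∀ x ∈ B, x * x = 1) →
      (∀ x ∈ B.map (MulAut.conj g).toMonoidHom, ∀ y ∈ B.map (MulAut.conj g).toMonoidHom, Commute x y) ∧
      (∀ x ∈ B.map (MulAut.conj g).toMonoidHom, x * x = 1) ∧
      Nat.card (B.map (MulAut.conj g).toMonoidHom) = Nat.card B := by
    intro B g b1 b2
    refine ⟨?_, ?_, (Nat.card_congr (B.equivMapOfInjective _ (MulAut.conj g).injective).toEquiv).symm⟩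
    · rintro _ ⟨x, hx, rfl⟩ _ ⟨y, hy, rfl⟩; exact (b1 x hx y hy).map _
    · rintro _ ⟨x, hx, rfl⟩; rw [← map_mul, b2 x hx, map_one]
  have hcard : Nat.card X = 1024 := by
    obtain ⟨c, hc⟩ := h.nonempty
    obtain ⟨π, he⟩ := hext c hc
    obtain ⟨A1, a1, a2, a3⟩ := h.exists_elem hK hc he
    obtain ⟨g, hg⟩ := move A1 a2
    obtain ⟨b1, b2, b3⟩ := mapped A1 g a1 a2
    refine le_antisymm (hbound X hab hsq).1 ?_
    rw [← a3, ← b3]
    exact Subgroup.card_le_of_le (inX _ hg b1 b2 (b3.trans a3))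
  have uniq : ∀ B : Subgroup M, B ≤ (T : Subgroup M) → (∀ x ∈ B, ∀ y ∈ B, Commute x y) →
      (∀ x ∈ B, x * x = 1) → Nat.card B = 1024 → B = X := fun B hB b1 b2 hc =>
    Subgroup.eq_of_le_of_card_ge (inX B hB b1 b2 hc) (le_of_eq (hcard.trans hc.symm))
  refine ⟨X, hXT, hab, hsq, hcard, uniq, fun B b1 b2 hc => ?_, fun l hl hlc => ?_⟩
  · obtain ⟨g, hg⟩ := move B b2
    obtain ⟨c1, c2, c3⟩ := mapped B g b1 b2
    refine ⟨g⁻¹, ?_⟩
    rw [← uniq _ hg c1 c2 (c3.trans hc), Subgroup.map_map]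
    conv_lhs => rw [← Subgroup.map_id B]
    congr 1; ext x; simp [MulAut.conj_apply, mul_assoc]
  · obtain ⟨-, l2⟩ := elem_closure (T := {x : M | x ∈ l}) (fun x hx => htt.sq x (hl x hx)) hlc
    obtain ⟨g, hg⟩ := move _ l2
    exact ⟨g, fun a ha => Subgroup.subset_closure
      ⟨htt.conj_mem g a (hl a ha), hg ⟨a, Subgroup.subset_closure ha, rfl⟩⟩⟩

/-- the members in an elementary abelian subgroup of order `2^10`, and the kinds of its elements -/
theorem M22Data.top_kinds (h : M22Data E F) [Finite M] (hK : Fintype.card K = 4)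
    (hext : ∀ x ∈ E, ∃ π : ↥(Subgroup.centralizer ({x} : Set M)) →* Cfsg.PSU 6 K 2,
      TwoExt π ⟨x, mem_cent (Commute.refl x)⟩)
    (hperf : ∀ x ∈ E, commutator ↥(Subgroup.centralizer ({x} : Set M)) = ⊤)
    {X : Subgroup M} (hab : ∀ x ∈ X, ∀ y ∈ X, Commute x y) (hsq : ∀ x ∈ X, x * x = 1)
    (hcard : Nat.card X = 1024) :
    (E ∩ X).ncard = 22 ∧ ∀ x ∈ X, x = 1 ∨ x ∈ E ∨
      (∃ y ∈ E ∩ X, ∃ z ∈ E ∩ X, y ≠ z ∧ x = y * z) ∨
      ∃ y ∈ E ∩ X, ∃ z ∈ E ∩ X, ∃ u ∈ E ∩ X, y ≠ z ∧ y ≠ u ∧ z ≠ u ∧ x = y * z * u := by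
  classical
  obtain ⟨a, haE, haX⟩ : ∃ a, a ∈ E ∧ a ∈ X := by
    by_contra hno
    simp only [not_exists, not_and] at hno
    have hle := (h.elem_bound hK hext X hab hsq).2 hcard
    have he : {x | x ∈ E ∧ x ∈ X} = ∅ := Set.eq_empty_iff_forall_notMem.mpr fun x hx => hno x hx.1 hx.2
    rw [he, Subgroup.closure_empty, le_bot_iff] at hle
    rw [hle, Subgroup.card_bot] at hcard
    norm_num at hcard
  obtain ⟨π, he⟩ := hext a haE
  obtain ⟨Y, P⟩ := he.exists_ptClass hK fun e => h.core.ne_one a haE (congrArg Subtype.val e)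
  have hle : X ≤ Subgroup.centralizer ({a} : Set M) := fun x hx => mem_cent (hab a haX x hx)
  set X' := X.subgroupOf (Subgroup.centralizer ({a} : Set M))
  obtain ⟨P0, Q0, p0⟩ := exists_plane hK
  obtain ⟨k, hk⟩ := P.big_eq_conj hK p0 X' (fun x hx y hy => Subtype.ext (hab _ hx _ hy).eq)
    (fun x hx => Subtype.ext (hsq _ hx))
    (by rw [Nat.card_congr (Subgroup.subgroupOfEquivOfLe hle).toEquiv, hcard])
  obtain ⟨g0, hg0⟩ := QuotientGroup.mk_surjective (π k)
  rw [← P.prePlane_map hK p0 hg0.symm] at hk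
  obtain ⟨R0, S0, p, hk⟩ : ∃ R0 S0, ∃ p : Plane R0 S0, X' = prePlane hK π p :=
    ⟨_, _, p0.map g0, hk⟩
  have inX : ∀ {x : ↥(Subgroup.centralizer ({a} : Set M))}, x ∈ prePlane hK π p → (x : M) ∈ X :=
    fun {x} hx => Subgroup.mem_subgroupOf.mp (show x ∈ X' from hk.symm ▸ hx)
  have spec := fun {v : Vec K} (hv : IsPt v) => (mbr_spec hK h haE P hv).1
  have aC : ∀ y : ↥(Subgroup.centralizer ({a} : Set M)), (y : M) * a = a * y := fun y =>
    Subgroup.mem_centralizer_singleton_iff.mp y.2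
  have aa : a * a = 1 := h.core.tt.sq a haE
  have mX : ∀ {v : Vec K}, IsPt v → v ∈ Submodule.span K (Set.range R0) → mbr a Y v ∈ E ∩ X :=
    fun hv hm => ⟨(spec hv).1, mul_mem (inX (P.Y_mem hK p hv hm)) haX⟩
  refine ⟨?_, fun x hx => ?_⟩
  · have hset : E ∩ X = insert a ((fun y : ↥(Subgroup.centralizer ({a} : Set M)) => (y : M) * a) ''
        pts Y R0) := by
      ext y
      constructor
      · rintro ⟨hyE, hyX⟩
        by_cases e : y = a
        · exact Or.inl e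
        obtain ⟨v, hv, rfl⟩ := mbr_surj hK h haE P (⟨hyE, e, hab a haX y hyX⟩ : y ∈ nb E a)
        refine Or.inr ⟨Y v, ⟨v, hv, ?_, rfl⟩, rfl⟩
        have hYv : Y v ∈ prePlane hK π p := hk ▸ (show Y v ∈ X' from Subgroup.mem_subgroupOf.mpr (by
          have := mul_mem hyX haX
          rwa [mbr, mul_assoc, aa, mul_one] at this))
        obtain ⟨g, hg, hfix, eg⟩ := P.exists_fix hK p hYv
        rw [P.img v hv] at eg
        have eg' := mk_inj_of_sq hK (tv_mul_self hK v) hg eg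
        refine p.perp_mem hK fun i => ?_
        have hf : act (tv hK v) (R0 i) = R0 i := eg' ▸ hfix i
        rw [tv_act hK hv.2] at hf
        exact (hb_eq_zero_comm hK).mp ((smul_eq_zero.mp (left_eq_add.mp hf.symm)).resolve_right hv.1)
      · rintro (rfl | ⟨_, ⟨v, hv, hm, rfl⟩, rfl⟩)
        exacts [⟨haE, haX⟩, mX hv hm]
    rw [hset, Set.ncard_insert_of_notMem, Set.ncard_image_of_injective _
      (fun y y' e => Subtype.ext (mul_right_cancel e)), P.card_pts hK p]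
    rintro ⟨_, ⟨v, hv, -, rfl⟩, e⟩
    exact (spec hv).2.1 e
  · set xC : ↥(Subgroup.centralizer ({a} : Set M)) := ⟨x, hle hx⟩
    have hxP : xC ∈ (prePlane hK π p : Set _) := hk ▸ (show xC ∈ X' from Subgroup.mem_subgroupOf.mpr hx)
    rw [P.kinds_eq hK p] at hxP
    have ha' := fun {v : Vec K} (hv : IsPt v) => (spec hv).2.1
    have pair : ∀ {u v : Vec K}, IsPt u → IsPt v →
        mbr a Y u * mbr a Y v = ((Y u * Y v : ↥(Subgroup.centralizer ({a} : Set M))) : M) := by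
      intro u v _ _
      simp only [mbr, Subgroup.coe_mul]
      calc (Y u : M) * a * ((Y v : M) * a) = (Y u : M) * (a * Y v) * a := by group
        _ = (Y u : M) * Y v * (a * a) := by rw [← aC]; group
        _ = _ := by rw [aa, mul_one]
    rcases hxP with ((((hh | hh) | hh) | hh) | hh) | hh
    · rcases hh with e | e
      · exact Or.inl (congrArg Subtype.val e)
      · exact Or.inr (Or.inl (by rw [show x = a from congrArg Subtype.val e]; exact haE))
    · obtain ⟨v, hv, hm, e⟩ := hh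
      refine Or.inr (Or.inr (Or.inl ⟨mbr a Y v, mX hv hm, a, ⟨haE, haX⟩, ha' hv, ?_⟩))
      rw [show x = (Y v : M) from congrArg Subtype.val e, mbr, mul_assoc, aa, mul_one]
    · obtain ⟨_, ⟨v, hv, hm, rfl⟩, e⟩ := hh
      refine Or.inr (Or.inl ?_)
      rw [show x = mbr a Y v from congrArg Subtype.val e.symm]
      exact (spec hv).1
    · obtain ⟨u, v, hu, hv, hum, hvm, hs, e⟩ := hh
      refine Or.inr (Or.inr (Or.inl ⟨_, mX hu hum, _, mX hv hvm, fun q => hs ?_, ?_⟩))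
      · exact (mbr_same hK P hu hv).mp q
      · rw [pair hu hv]; exact congrArg Subtype.val e
    · obtain ⟨_, ⟨u, v, hu, hv, hum, hvm, hs, rfl⟩, e⟩ := hh
      refine Or.inr (Or.inr (Or.inr ⟨a, ⟨haE, haX⟩, _, mX hu hum, _, mX hv hvm, (ha' hu).symm,
        (ha' hv).symm, fun q => hs ((mbr_same hK P hu hv).mp q), ?_⟩))
      rw [mul_assoc, pair hu hv, ← aC]
      exact congrArg Subtype.val e.symm
    · obtain ⟨R, S, r, hR, hh⟩ := hh
      have spanle : Submodule.span K (Set.range R) ≤ Submodule.span K (Set.range R0) :=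
        Submodule.span_le.mpr (by rintro _ ⟨i, rfl⟩; exact hR i)
      have triple : ∀ v : Fin 3 → Vec K, (∀ i, IsPt (v i) ∧ v i ∈ Submodule.span K (Set.range R0)) →
          (∀ i j, i ≠ j → mbr a Y (v i) ≠ mbr a Y (v j)) →
          x = ((tri Y v : ↥(Subgroup.centralizer ({a} : Set M))) : M) * a →
          ∃ y ∈ E ∩ X, ∃ z ∈ E ∩ X, ∃ u ∈ E ∩ X, y ≠ z ∧ y ≠ u ∧ z ≠ u ∧ x = y * z * u :=
        fun v hv hd e => ⟨_, mX (hv 0).1 (hv 0).2, _, mX (hv 1).1 (hv 1).2, _, mX (hv 2).1 (hv 2).2,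
          hd 0 1 (by decide), hd 0 2 (by decide), hd 1 2 (by decide), e.trans (mbr_prod hK P).symm⟩
      refine Or.inr (Or.inr (Or.inr ?_))
      rcases hh with e | e
      · obtain ⟨T, U, T', U', t, t', htw⟩ := P.exists_twist hK (hperf a haE)
        have hT' := fun i => span_of_img hK P t t' (by rw [htw, map_mul, he.π_d hK, mul_one]) i
        obtain ⟨k, hk1, hmv⟩ := P.move hK t r
        choose v hvm hvp hv using fun i => hmv (T' i) (hT' i) (t'.pt i)
        refine triple v (fun i => ⟨hvp i, spanle (hvm i)⟩) (fun i j hij q => ?_) ?_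
        · rw [← mbr_conj hK P (hv i), ← mbr_conj hK P (hv j)] at q
          exact t'.not_same hij ((mbr_same hK P (t'.pt i) (t'.pt j)).mp
            (mul_left_cancel (mul_right_cancel q)))
        · have hv' : tri Y v = tri Y R * ⟨a, mem_cent (Commute.refl a)⟩ := by
            have e1 : tri Y v = k * tri Y T' * k⁻¹ := by simp only [tri, ← hv]; group
            have e2 : tri Y R = k * tri Y T * k⁻¹ := by simp only [tri, ← hk1]; group
            rw [e1, e2, htw, mul_assoc (k * tri Y T) k⁻¹, ← (he.cen k⁻¹).eq]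
            group
          rw [hv', Subgroup.coe_mul, mul_assoc, aa, mul_one]
          exact congrArg Subtype.val e
      · exact triple R (fun i => ⟨r.pt i, hR i⟩)
          (fun i j hij q => r.not_same hij ((mbr_same hK P (r.pt i) (r.pt j)).mp q))
          (congrArg Subtype.val e)

end Cfsg.Agent.H93
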