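import Cfsg.Agent.H93.Far23
import Cfsg.Agent.H93.U6Move
import Cfsg.Agent.H93.Triples

/-!
Groups of type M(23): the centraliser of two commuting members and of their product.
-/

set_option autoImplicit false

namespace Cfsg.Agent.H93

theorem psu_six_center {K : Type*} [Field K] [Fintype K] (hK : Fintype.card K = 4) :
    IsSimpleGroup (Cfsg.PSU 6 K 2) ∧ Subgroup.center (Cfsg.PSU 6 K 2) = ⊥ := by
  have hs := Cfsg.Agent.Unitary.isSimpleGroup_PSU (F := K) (n := 6) (q := 2)
    (by rw [hK]; norm_num) (by norm_num) (by norm_num)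
  refine ⟨hs, ?_⟩
  rcases (inferInstance : (Subgroup.center (Cfsg.PSU 6 K 2)).Normal).eq_bot_or_eq_top with e | e
  · exact e
  · exfalso
    obtain ⟨u, hu⟩ := exists_pt hK
    obtain ⟨v, hv, hvu⟩ := iso_one hK hu.1 1
    have := ptv_hb_zero hK hu (pt_of_hb_eq_one hv hvu)
      (Subgroup.mem_center_iff.mp (e.symm ▸ Subgroup.mem_top (ptv hK v)) (ptv hK u))
    rw [hvu] at this
    exact one_ne_zero this

/-- coefficients of nine points in a plane: three bases with the same form -/
def nineCoef {F : Type*} [Field F] (o : F) : Fin 3 → Fin 3 → Fin 3 → F :=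
  ![![![1, 0, 0], ![0, 1, 0], ![0, 0, 1]],
    ![![1, 1, 1], ![1, o, o ^ 2], ![1, o ^ 2, o]],
    ![![1, 1, o], ![1, o, 1], ![o, 1, 1]]]

theorem six_lists {G : Type*} [Group G] {t s : Fin 3 → G}
    (hsq : ∀ i, t i * t i = 1) (h : t 0 * t 1 * t 2 = s 0 * s 1 * s 2)
    (hc : ∀ i j, Commute (t i) (t j)) :
    [t 0, t 1, t 2, s 0, s 1, s 2].prod = 1 := by
  simp only [List.prod_cons, List.prod_nil, mul_one]
  calc t 0 * (t 1 * (t 2 * (s 0 * (s 1 * s 2)))) = (t 0 * t 1 * t 2) * (s 0 * s 1 * s 2) := by group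
    _ = (t 0 * t 1 * t 2) * (t 0 * t 1 * t 2) := by rw [h]
    _ = t 0 * (t 1 * (t 2 * t 0)) * t 1 * t 2 := by group
    _ = (t 0 * t 0) * (t 1 * (t 2 * t 1)) * t 2 := by
        rw [((hc 0 1).mul_right (hc 0 2)).symm.eq |> fun e : t 1 * t 2 * t 0 = t 0 * (t 1 * t 2) =>
          show t 1 * (t 2 * t 0) = t 0 * (t 1 * t 2) by rw [← mul_assoc (t 1), e]]
        group
    _ = (t 1 * t 1) * (t 2 * t 2) := by rw [hsq 0, one_mul, (hc 2 1).eq]; group
    _ = 1 := by rw [hsq 1, hsq 2, mul_one]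

namespace M23Data

variable {G : Type*} [Group G] {D : Set G} (h : M23Data D) {a b : G}

include h

/-- only four elements centralise the common neighbours of a pair -/
theorem kernel_pair (ha : a ∈ D) (hb' : b ∈ nb D a) {g : G} (hg : g ∈ nbSub D a) (hgb : Commute g b)
    (hgc : ∀ v ∈ nb D a ∩ nb D b, Commute g v) : g = 1 ∨ g = a ∨ g = b ∨ g = a * b := by
  have htt := h.core.tt
  obtain ⟨F, iF, iFF, hM, -⟩ := h.res a ha
  have hcent : ∀ {z}, z ∈ nb D a → Commute g z →
      Commute (QuotientGroup.mk (⟨g, hg⟩ : ↥(nbSub D a)) : Residue D a) (rimg D a z) := by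
    intro z hz hc
    rw [rimg_eq hz]
    show _ * _ = _ * _
    rw [← QuotientGroup.mk_mul, ← QuotientGroup.mk_mul]
    exact congrArg QuotientGroup.mk (Subtype.ext hc.eq)
  rcases hM.kernel_nb (rimg_mem hb') (hcent hb' hgb) (fun v hv => by
      obtain ⟨z, hz, rfl⟩ := h.core.rimg_nb_surj ha hb' hv
      exact hcent hz.1 (hgc z hz)) with q | q
  · exact (h.center_two ha hg q).imp_right Or.inl
  · have hk : g * b ∈ nbSub D a := mul_mem hg (Subgroup.subset_closure hb')
    rcases h.center_two ha hk (by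
        rw [show (⟨g * b, hk⟩ : ↥(nbSub D a)) = ⟨g, hg⟩ * nbElem hb' from rfl, QuotientGroup.mk_mul, q,
          ← rimg_eq hb', hM.core.tt.sq _ (rimg_mem hb')]) with r | r
    · rw [← eq_mul_inv_iff_mul_eq, htt.inv_eq hb'.1, one_mul] at r
      exact Or.inr (Or.inr (Or.inl r))
    · rw [← eq_mul_inv_iff_mul_eq, htt.inv_eq hb'.1] at r
      exact Or.inr (Or.inr (Or.inr r))

/-- the two members are products of six common neighbours, their product of five -/
theorem pair_words (ha : a ∈ D) (hb' : b ∈ nb D a) :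
    (∃ l : List G, l.length = 6 ∧ (∀ y ∈ l, y ∈ nb D a ∩ nb D b) ∧ l.prod = a) ∧
    (∃ l : List G, l.length = 6 ∧ (∀ y ∈ l, y ∈ nb D a ∩ nb D b) ∧ l.prod = b) ∧
    (∃ l : List G, l.length = 5 ∧ (∀ y ∈ l, y ∈ nb D a ∩ nb D b) ∧ l.prod = a * b) := by
  classical
  have htt := h.core.tt
  obtain ⟨F, iF, iFF, hF, sp, hline⟩ := h.pair_space ha hb'
  obtain ⟨o, o0, o1, ho⟩ := exists_omega hF
  have h2 := two_zero hF
  have o3 := pow_three hF o0
  have o20 : o ^ 2 ≠ 0 := pow_ne_zero _ o0
  have o21 : o ^ 2 ≠ 1 := fun q => o1 (sq_eq_one hF q)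
  have oo : o ≠ o ^ 2 := fun q => o1 (mul_left_cancel₀ o0 (by linear_combination -q))
  obtain ⟨P, Q, p, -⟩ := exists_hyp hF
  let c := nineCoef o
  let V : Fin 3 → Fin 3 → Vec F := fun k i => c k i 0 • P 0 + c k i 1 • P 1 + c k i 2 • P 2
  have orth : ∀ k i k' i', hb (V k i) (V k' i') = 0 := fun k i k' i' => by
    simp [V, hb_add_left, hb_add_right hF, hb_smul_left, hb_smul_right, p.orth]
  have coef : ∀ (x y : Fin 3 → F), x 0 • P 0 + x 1 • P 1 + x 2 • P 2 =
      y 0 • P 0 + y 1 • P 1 + y 2 • P 2 → ∀ j, x j = y j := fun x y e j => by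
    have := Fintype.linearIndependent_iff.mp p.li (fun j => x j - y j) (by
      rw [Fin.sum_univ_three, sub_smul, sub_smul, sub_smul, ← sub_eq_zero.mpr e]; abel) j
    exact sub_eq_zero.mp this
  have hne0 : ∀ k i, V k i ≠ 0 := fun k i e => by
    have e' := coef (c k i) 0 (by simpa [V] using e)
    fin_cases k <;> fin_cases i <;>
      first
      | exact one_ne_zero (α := F) (e' 0)
      | exact one_ne_zero (α := F) (e' 1)
      | exact one_ne_zero (α := F) (e' 2)
  have hpt : ∀ k i, IsPt (V k i) := fun k i => ⟨hne0 k i, orth k i k i⟩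
  have hcross : ∀ k i k' i', (k, i) ≠ (k', i') → c k i 0 * c k' i' 1 ≠ c k' i' 0 * c k i 1 ∨
      c k i 0 * c k' i' 2 ≠ c k' i' 0 * c k i 2 ∨ c k i 1 * c k' i' 2 ≠ c k' i' 1 * c k i 2 := by
    have oo' : o * o = o ^ 2 := (pow_two o).symm
    intro k i k' i' hne
    fin_cases k <;> fin_cases i <;> fin_cases k' <;> fin_cases i' <;>
      first
      | exact absurd rfl hne
      | (simp [c, nineCoef, o0, o1, o20, o21, oo, oo', Ne.symm o1, Ne.symm o21, Ne.symm oo,
          Ne.symm o0, Ne.symm o20])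
  have hinj : ∀ k i k' i', (k, i) ≠ (k', i') → sp.pt (V k i) ≠ sp.pt (V k' i') := by
    intro k i k' i' hne e
    obtain ⟨t, ht⟩ := (sp.same (hpt k i) (hpt k' i')).mp e
    have e' := coef (fun j => t * c k i j) (c k' i') (by
      simp only [V, smul_add, smul_smul] at ht; exact ht.symm)
    rcases hcross k i k' i' hne with q | q | q <;> apply q
    · rw [← e' 0, ← e' 1]; ring
    · rw [← e' 0, ← e' 2]; ring
    · rw [← e' 1, ← e' 2]; ring
  let t : Fin 3 → Fin 3 → G := fun k i => sp.pt (V k i)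
  have tmem : ∀ k i, t k i ∈ nb D a ∩ nb D b := fun k i => sp.mem (hpt k i)
  have tcom : ∀ k i k' i', Commute (t k i) (t k' i') := fun k i k' i' =>
    (sp.comm (hpt k i) (hpt k' i')).mpr (orth k i k' i')
  let T : Fin 3 → G := fun k => t k 0 * t k 1 * t k 2
  have Tcom : ∀ k k', Commute (T k) (T k') := fun k k' => by
    have one : ∀ i, Commute (t k i) (T k') := fun i =>
      ((tcom k i k' 0).mul_right (tcom k i k' 1)).mul_right (tcom k i k' 2)
    exact ((one 0).mul_left (one 1)).mul_left (one 2)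
  have Tsq : ∀ k, T k * T k = 1 := fun k => by
    have c2 : Commute (t k 2) (t k 0 * t k 1) := (tcom k 2 k 0).mul_right (tcom k 2 k 1)
    calc T k * T k = t k 0 * t k 1 * (t k 2 * (t k 0 * t k 1)) * t k 2 := by simp only [T]; group
      _ = t k 0 * (t k 1 * t k 0) * t k 1 * (t k 2 * t k 2) := by rw [c2.eq]; group
      _ = (t k 0 * t k 0) * (t k 1 * t k 1) * (t k 2 * t k 2) := by rw [(tcom k 1 k 0).eq]; group
      _ = 1 := by rw [htt.sq _ (tmem k 0).1.1, htt.sq _ (tmem k 1).1.1, htt.sq _ (tmem k 2).1.1,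
          one_mul, one_mul]
  -- the action of a triple on the common neighbours
  let act3 : Fin 3 → Vec F → Vec F := fun k v =>
    v + hb v (V k 0) • V k 0 + hb v (V k 1) • V k 1 + hb v (V k 2) • V k 2
  have conjT : ∀ k v, IsPt v → ∃ hp : IsPt (act3 k v),
      T k * sp.pt v * (T k)⁻¹ = sp.pt (act3 k v) := by
    intro k v hv
    have step : ∀ i {w}, IsPt w → IsPt (w + hb w (V k i) • V k i) ∧
        t k i * sp.pt w * (t k i)⁻¹ = sp.pt (w + hb w (V k i) • V k i) := fun i w hw =>
      ⟨isPt_third hF (hpt k i) hw, by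
        rw [htt.inv_eq (tmem k i).1.1]; exact sp.third (hpt k i) hw⟩
    obtain ⟨p2, e2⟩ := step 2 hv
    obtain ⟨p1, e1⟩ := step 1 p2
    obtain ⟨p0, e0⟩ := step 0 p1
    have eq : v + hb v (V k 2) • V k 2 + hb (v + hb v (V k 2) • V k 2) (V k 1) • V k 1 +
        hb (v + hb v (V k 2) • V k 2 + hb (v + hb v (V k 2) • V k 2) (V k 1) • V k 1) (V k 0) • V k 0 =
        act3 k v := by
      simp only [hb_add_left, hb_smul_left, orth, mul_zero, add_zero, act3]
      abel
    rw [← e1, ← e2] at e0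
    rw [eq] at p0 e0
    exact ⟨p0, by rw [← e0]; simp only [T]; group⟩
  have act_eq : ∀ k v, act3 k v = act3 0 v := by
    intro k v
    fin_cases k
    · rfl
    · simp only [act3, V, c, nineCoef, Matrix.cons_val_zero, Matrix.cons_val_one, Matrix.cons_val_two,
        Matrix.head_cons, Matrix.tail_cons, hb_add_right hF, hb_smul_right, Fin.isValue, Fin.zero_eta,
        Fin.mk_one, Fin.reduceFinMk, one_smul, zero_smul, add_zero, zero_add]
      match_scalars <;> grobner
    · simp only [act3, V, c, nineCoef, Matrix.cons_val_zero, Matrix.cons_val_one, Matrix.cons_val_two,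
        Matrix.head_cons, Matrix.tail_cons, hb_add_right hF, hb_smul_right, Fin.isValue, Fin.zero_eta,
        Fin.mk_one, Fin.reduceFinMk, one_smul, zero_smul, add_zero, zero_add]
      match_scalars <;> grobner
  have hTcent : ∀ k k', ∀ z ∈ nb D a ∩ nb D b, Commute (T k * T k') z := by
    intro k k' z hz
    obtain ⟨v, hv, rfl⟩ := sp.surj z hz
    obtain ⟨hp, e1⟩ := conjT k v hv
    obtain ⟨hp', e2⟩ := conjT k' v hv
    have e : T k * sp.pt v * (T k)⁻¹ = T k' * sp.pt v * (T k')⁻¹ := by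
      rw [e1, e2, act_eq k v, act_eq k' v]
    have inv : ∀ k, (T k)⁻¹ = T k := fun k => inv_eq_of_mul_eq_one_left (Tsq k)
    rw [inv, inv] at e
    show T k * T k' * sp.pt v = sp.pt v * (T k * T k')
    calc T k * T k' * sp.pt v = T k * (T k' * sp.pt v * T k') * T k' := by
          rw [show T k * (T k' * sp.pt v * T k') * T k' = T k * T k' * sp.pt v * (T k' * T k') by group,
            Tsq, mul_one]
      _ = T k * (T k * sp.pt v * T k) * T k' := by rw [e]
      _ = (T k * T k) * sp.pt v * (T k * T k') := by group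
      _ = _ := by rw [Tsq, one_mul]
  let L : Fin 3 → Fin 3 → List G := fun k k' => [t k 0, t k 1, t k 2, t k' 0, t k' 1, t k' 2]
  have Lprod : ∀ k k', (L k k').prod = T k * T k' := fun k k' => by
    simp only [L, T, List.prod_cons, List.prod_nil, mul_one]; group
  have Lmem : ∀ k k', ∀ y ∈ L k k', y ∈ nb D a ∩ nb D b := fun k k' y hy => by
    simp only [L, List.mem_cons, List.not_mem_nil, or_false] at hy
    rcases hy with rfl | rfl | rfl | rfl | rfl | rfl <;> exact tmem _ _
  have Tne : ∀ k k', k ≠ k' → T k * T k' ≠ 1 := by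
    intro k k' hne e
    refine h.ind (L k k') ?_ (by simp [L]) (by simp [L]) (fun y hy => (Lmem k k' y hy).1.1)
      (fun y hy z hz => ?_) ((Lprod k k').trans e)
    · simp only [L, List.nodup_cons, List.mem_cons, List.not_mem_nil, or_false, not_or,
        List.nodup_nil, and_true, not_false_eq_true]
      refine ⟨⟨?_, ?_, ?_, ?_, ?_⟩, ⟨?_, ?_, ?_, ?_⟩, ⟨?_, ?_, ?_⟩, ⟨?_, ?_⟩, ?_⟩ <;>
        refine hinj _ _ _ _ ?_ <;> simp [hne]
    · simp only [L, List.mem_cons, List.not_mem_nil, or_false] at hy hz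
      rcases hy with rfl | rfl | rfl | rfl | rfl | rfl <;>
        rcases hz with rfl | rfl | rfl | rfl | rfl | rfl <;> exact tcom _ _ _ _
  have inNb : ∀ k k', T k * T k' ∈ nbSub D a := fun k k' => by
    rw [← Lprod k k']
    exact Subgroup.list_prod_mem _ fun y hy => Subgroup.subset_closure (Lmem k k' y hy).1
  have cases3 : ∀ k k', k ≠ k' → T k * T k' = a ∨ T k * T k' = b ∨ T k * T k' = a * b := by
    intro k k' hne
    refine (h.kernel_pair ha hb' (inNb k k') ?_ (hTcent k k')).resolve_left (Tne k k' hne)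
    rw [← Lprod k k']
    exact (Commute.list_prod_right _ _ fun y hy => (Lmem k k' y hy).2.2.2).symm
  -- the three values differ
  have split : ∀ i j k, i ≠ k → T i * T j ≠ T j * T k := fun i j k hik e => by
    apply Tne i k hik
    calc T i * T k = (T i * T j) * (T j * T k) := by
          rw [show T i * T j * (T j * T k) = T i * (T j * T j) * T k by group, Tsq, mul_one]
      _ = (T j * T k) * (T j * T k) := by rw [e]
      _ = 1 := by
          rw [show T j * T k * (T j * T k) = T j * (T k * T j) * T k by group, (Tcom k j).eq,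
            show T j * (T j * T k) * T k = (T j * T j) * (T k * T k) by group, Tsq, Tsq, mul_one]
  have allthree : (∃ k k', T k * T k' = a) ∧ ∃ k k', T k * T k' = b := by
    have n1 := split 0 1 2 (by decide)
    have n2 : T 0 * T 1 ≠ T 0 * T 2 := fun e => Tne 1 2 (by decide) (by
      rw [mul_left_cancel e, Tsq])
    have n3 : T 1 * T 2 ≠ T 0 * T 2 := fun e => Tne 0 1 (by decide) (by
      rw [mul_right_cancel e, Tsq])
    rcases cases3 0 1 (by decide) with p1 | p1 | p1 <;>
      rcases cases3 1 2 (by decide) with p2 | p2 | p2 <;>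
      rcases cases3 0 2 (by decide) with p3 | p3 | p3 <;>
      first
      | exact absurd (p1.trans p2.symm) n1
      | exact absurd (p1.trans p3.symm) n2
      | exact absurd (p2.trans p3.symm) n3
      | exact ⟨⟨_, _, by assumption⟩, ⟨_, _, by assumption⟩⟩
  obtain ⟨⟨k, k', ea⟩, ⟨l, l', eb⟩⟩ := allthree
  refine ⟨⟨L k k', rfl, Lmem k k', (Lprod k k').trans ea⟩, ⟨L l l', rfl, Lmem l l', (Lprod l l').trans eb⟩, ?_⟩
  obtain ⟨hnd, e⟩ := hline (hpt 0 0) (hpt 0 1) (orth 0 0 0 1) (fun q =>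
    hinj 0 0 0 1 (by simp) ((sp.same (hpt 0 0) (hpt 0 1)).mpr q)) o0 o1 ho
  refine ⟨_, rfl, fun y hy => ?_, e⟩
  have hs : ¬ SamePt (V 0 0) (V 0 1) := fun q =>
    hinj 0 0 0 1 (by simp) ((sp.same (hpt 0 0) (hpt 0 1)).mpr q)
  have hl := fun s : F => isPt_line hF (hpt 0 0) (hpt 0 1) (orth 0 0 0 1) hs s
  simp only [List.mem_cons, List.not_mem_nil, or_false] at hy
  rcases hy with rfl | rfl | rfl | rfl | rfl
  exacts [sp.mem (hpt 0 0), sp.mem (hpt 0 1), sp.mem (by simpa using hl 1), sp.mem (hl o),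
    sp.mem (hl (o ^ 2))]

/-- the centraliser of a pair is generated by the common neighbours -/
theorem cent_pair (ha : a ∈ D) (hb' : b ∈ nb D a) :
    Subgroup.centralizer ({a, b} : Set G) = Subgroup.closure (nb D a ∩ nb D b) := by
  refine le_antisymm (fun g hg => ?_) ?_
  · have hga : Commute g a := (Subgroup.mem_centralizer_iff.mp hg a (by simp)).symm
    have hgb : Commute g b := (Subgroup.mem_centralizer_iff.mp hg b (by simp)).symm
    obtain ⟨k, hk, c, hc, rfl⟩ := h.split ha hb' (h.cent ha ▸ mem_cent hga.symm) hgb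
    refine mul_mem hk ?_
    rcases hc with q | q
    · rw [q]; exact one_mem _
    · obtain ⟨⟨l, -, hl, e⟩, -⟩ := h.pair_words ha hb'
      have := Subgroup.list_prod_mem _ fun y hy => Subgroup.subset_closure (hl y hy)
      rw [q]; rwa [e] at this
  · rw [Subgroup.closure_le]
    intro y hy
    refine Subgroup.mem_centralizer_iff.mpr fun s hs => ?_
    rcases hs with rfl | rfl
    exacts [hy.1.2.2.eq, hy.2.2.2.eq]

theorem pair_perfect (ha : a ∈ D) (hb' : b ∈ nb D a) :
    Group.IsPerfect ↥(Subgroup.centralizer ({a, b} : Set G)) := by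
  have htt := h.core.tt
  rw [h.cent_pair ha hb', Group.isPerfect_def]
  set S := nb D a ∩ nb D b with hS
  set K := Subgroup.closure S with hK
  obtain ⟨⟨la, hla, hlam, ea⟩, ⟨lb, hlb, hlbm, eb⟩, ⟨lc, hlc, hlcm, ec⟩⟩ := h.pair_words ha hb'
  let f : ↥K →* Abelianization ↥K := Abelianization.of
  let e : ∀ y ∈ S, Abelianization ↥K := fun y hy => f ⟨y, Subgroup.subset_closure hy⟩
  have esq : ∀ y hy, e y hy * e y hy = 1 := fun y hy => by
    rw [← map_mul, show (⟨y, Subgroup.subset_closure hy⟩ : ↥K) * ⟨y, Subgroup.subset_closure hy⟩ = 1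
      from Subtype.ext (htt.sq y hy.1.1), map_one]
  have braid : ∀ y hy z hz, ¬ Commute y z → e y hy = e z hz := fun y hy z hz hn => by
    have hbr : (⟨y, Subgroup.subset_closure hy⟩ : ↥K) * ⟨z, Subgroup.subset_closure hz⟩ *
        ⟨y, Subgroup.subset_closure hy⟩ = ⟨z, Subgroup.subset_closure hz⟩ *
        ⟨y, Subgroup.subset_closure hy⟩ * ⟨z, Subgroup.subset_closure hz⟩ :=
      Subtype.ext (htt.braid hy.1.1 hz.1.1 hn)
    have e2 := congrArg f hbr
    rw [map_mul, map_mul, map_mul, map_mul, mul_comm (e y hy) (e z hz)] at e2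
    exact mul_left_cancel e2
  obtain ⟨F, iF, iFF, hF, sp, -⟩ := h.pair_space ha hb'
  have alleq : ∀ y hy z hz, e y hy = e z hz := by
    intro y hy z hz
    by_cases q : y = z
    · subst q; rfl
    by_cases hc : Commute y z
    · obtain ⟨w, hw, n1, n2⟩ := sp.sep hF y hy z hz q hc
      exact (braid w hw y hy n1).symm.trans (braid w hw z hz n2)
    · exact braid y hy z hz hc
  obtain ⟨y0, hy0⟩ : ∃ y, y ∈ S := by
    obtain ⟨P, hP⟩ := exists_pt hF
    exact ⟨sp.pt P, sp.mem hP⟩
  set ε := e y0 hy0 with hε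
  have hlist : ∀ l : List G, (∀ y ∈ l, y ∈ S) → ∃ hm : l.prod ∈ K, f ⟨l.prod, hm⟩ = ε ^ l.length := by
    intro l hl
    induction l with
    | nil => exact ⟨one_mem _, (map_one f).trans (pow_zero ε).symm⟩
    | cons y l ih =>
      obtain ⟨hm, e'⟩ := ih fun z hz => hl z (List.mem_cons_of_mem _ hz)
      have hy := hl y List.mem_cons_self
      refine ⟨show y * l.prod ∈ K from mul_mem (Subgroup.subset_closure hy) hm, ?_⟩
      rw [List.length_cons, pow_succ', ← e', hε, ← alleq y hy y0 hy0, ← map_mul]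
      rfl
  have ε2 : ε ^ 2 = 1 := by rw [pow_two]; exact esq y0 hy0
  obtain ⟨ma, fa⟩ := hlist la hlam
  obtain ⟨mb, fb⟩ := hlist lb hlbm
  obtain ⟨mc, fc⟩ := hlist lc hlcm
  have hε1 : ε = 1 := by
    rw [hla, show (6 : ℕ) = 2 * 3 from rfl, pow_mul, ε2, one_pow] at fa
    rw [hlb, show (6 : ℕ) = 2 * 3 from rfl, pow_mul, ε2, one_pow] at fb
    rw [hlc, show (5 : ℕ) = 2 * 2 + 1 from rfl, pow_succ, pow_mul, ε2, one_pow, one_mul,
      show (⟨lc.prod, mc⟩ : ↥K) = ⟨la.prod, ma⟩ * ⟨lb.prod, mb⟩ from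
        Subtype.ext (show lc.prod = la.prod * lb.prod by rw [ea, eb, ec]), map_mul, fa, fb, one_mul] at fc
    exact fc.symm
  refine eq_top_iff.mpr fun g _ => ?_
  have hg : ∀ g (hm : g ∈ K), f ⟨g, hm⟩ = 1 := by
    intro g hm
    induction hm using Subgroup.closure_induction with
    | mem y hy => exact (alleq y hy y0 hy0).trans hε1
    | one => exact map_one f
    | mul x y hx hy ex ey =>
      rw [show (⟨x * y, _⟩ : ↥K) = ⟨x, hx⟩ * ⟨y, hy⟩ from rfl, map_mul, ex, ey, one_mul]
    | inv x hx ex => rw [show (⟨x⁻¹, _⟩ : ↥K) = (⟨x, hx⟩)⁻¹ from rfl, map_inv, ex, inv_one]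
  have := hg g g.2
  rwa [← MonoidHom.mem_ker, Abelianization.ker_of] at this

/-- the map onto the unitary group -/
theorem pair_map (ha : a ∈ D) (hb' : b ∈ nb D a) :
    ∃ (K : Type) (_ : Field K) (_ : Fintype K), Fintype.card K = 4 ∧
      ∃ ψ : ↥(Subgroup.centralizer ({a, b} : Set G)) →* Cfsg.PSU 6 K 2, Function.Surjective ψ ∧
        ∀ g, ψ g = 1 ↔ ((g : G) = 1 ∨ (g : G) = a ∨ (g : G) = b ∨ (g : G) = a * b) := by
  obtain ⟨F, iF, iFF, hM, -, K, iK, iKF, hK, hext⟩ := h.res a ha
  obtain ⟨π, he⟩ := hext _ (rimg_mem hb')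
  set H := Subgroup.centralizer ({a, b} : Set G)
  have hin : ∀ g : ↥H, (g : G) ∈ nbSub D a ∧ Commute (g : G) b := fun g =>
    ⟨h.cent ha ▸ mem_cent (Subgroup.mem_centralizer_iff.mp g.2 a (by simp)),
      (Subgroup.mem_centralizer_iff.mp g.2 b (by simp)).symm⟩
  have hmc : ∀ g : ↥H, (QuotientGroup.mk (⟨g, (hin g).1⟩ : ↥(nbSub D a)) : Residue D a) ∈
      Subgroup.centralizer ({rimg D a b} : Set (Residue D a)) := fun g => by
    rw [rimg_eq hb']
    refine Subgroup.mem_centralizer_singleton_iff.mpr ?_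
    rw [← QuotientGroup.mk_mul, ← QuotientGroup.mk_mul]
    exact congrArg QuotientGroup.mk (Subtype.ext (hin g).2.eq)
  let θ : ↥H →* ↥(Subgroup.centralizer ({rimg D a b} : Set (Residue D a))) :=
    MonoidHom.mk' (fun g => ⟨_, hmc g⟩) fun g g' => Subtype.ext (by
      show QuotientGroup.mk _ = QuotientGroup.mk _ * QuotientGroup.mk _
      rw [← QuotientGroup.mk_mul]; rfl)
  have hθ : Function.Surjective θ := by
    rintro ⟨m, hm⟩
    obtain ⟨⟨g, hg⟩, rfl⟩ := QuotientGroup.mk_surjective m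
    have hga := nbSub_commute hg
    have hy := h.core.tt.nbSub_conj_nb ha hg hb'
    have hgb : g * b * g⁻¹ = b := by
      refine (h.core.rimg_inj ha hy hb').mp ?_
      have hm' := Subgroup.mem_centralizer_singleton_iff.mp hm
      rw [rimg_eq hb'] at hm' ⊢
      rw [rimg_eq hy, show nbElem hy = (⟨g, hg⟩ : ↥(nbSub D a)) * nbElem hb' * ⟨g, hg⟩⁻¹ from
        Subtype.ext rfl, QuotientGroup.mk_mul, QuotientGroup.mk_mul, QuotientGroup.mk_inv, hm',
        mul_inv_cancel_right]
    refine ⟨⟨g, Subgroup.mem_centralizer_iff.mpr fun s hs => ?_⟩, rfl⟩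
    rcases hs with rfl | rfl
    exacts [hga.eq, (mul_inv_eq_iff_eq_mul.mp hgb).symm]
  refine ⟨K, iK, iKF, hK, π.comp θ, he.surj.comp hθ, fun g => ⟨fun e => ?_, fun e => ?_⟩⟩
  · have hk : (g : G) * b ∈ nbSub D a := mul_mem (hin g).1 (Subgroup.subset_closure hb')
    rcases he.ker _ e with q | q
    · exact (h.center_two ha (hin g).1 (congrArg Subtype.val q)).imp_right Or.inl
    · have q' : (QuotientGroup.mk (⟨g, (hin g).1⟩ : ↥(nbSub D a)) : Residue D a) = rimg D a b :=
        congrArg Subtype.val q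
      rcases h.center_two ha hk (by
          rw [show (⟨(g : G) * b, hk⟩ : ↥(nbSub D a)) = ⟨g, (hin g).1⟩ * nbElem hb' from rfl,
            QuotientGroup.mk_mul, q', ← rimg_eq hb', hM.core.tt.sq _ (rimg_mem hb')]) with r | r
      · rw [← eq_mul_inv_iff_mul_eq, h.core.tt.inv_eq hb'.1, one_mul] at r
        exact Or.inr (Or.inr (Or.inl r))
      · rw [← eq_mul_inv_iff_mul_eq, h.core.tt.inv_eq hb'.1] at r
        exact Or.inr (Or.inr (Or.inr r))
  · have hA : (a : G) ∈ H := Subgroup.mem_centralizer_iff.mpr fun s hs => by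
      rcases hs with rfl | rfl
      exacts [rfl, hb'.2.2.eq.symm]
    have hB : (b : G) ∈ H := Subgroup.mem_centralizer_iff.mpr fun s hs => by
      rcases hs with rfl | rfl
      exacts [hb'.2.2.eq, rfl]
    have ψa : π.comp θ ⟨a, hA⟩ = 1 := by
      have : θ ⟨a, hA⟩ = 1 := Subtype.ext ((QuotientGroup.eq_one_iff _).mpr
        (mem_center_nbSub.mpr fun v hv => hv.2.2.symm))
      rw [MonoidHom.comp_apply, this, map_one]
    have ψb : π.comp θ ⟨b, hB⟩ = 1 := by
      have : θ ⟨b, hB⟩ = ⟨rimg D a b, mem_cent (Commute.refl _)⟩ :=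
        Subtype.ext (rimg_eq hb').symm
      rw [MonoidHom.comp_apply, this, he.π_d hK]
    rcases e with q | q | q | q
    · rw [show g = 1 from Subtype.ext q, map_one]
    · rw [show g = ⟨a, hA⟩ from Subtype.ext q, ψa]
    · rw [show g = ⟨b, hB⟩ from Subtype.ext q, ψb]
    · rw [show g = ⟨a, hA⟩ * ⟨b, hB⟩ from Subtype.ext q, map_mul, ψa, ψb, mul_one]

/-- an element exchanging the pair -/
theorem pair_swap (ha : a ∈ D) (hb' : b ∈ nb D a) :
    ∃ k : G, k * a * k⁻¹ = b ∧ k * b * k⁻¹ = a := by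
  have htt := h.core.tt
  obtain ⟨z, hz⟩ := h.coverData.edge a ha b hb'
  obtain ⟨w, hw, nx, ny⟩ := h.sep z hz.1.1 a (nb_symm ha hz.1) b (nb_symm hb'.1 hz.2) hb'.2.1.symm hb'.2.2
  have bx := htt.braid hw.1 ha nx
  have by' := htt.braid hw.1 hb'.1 ny
  have xx := htt.sq a ha
  have ww := htt.sq w hw.1
  have yy := htt.sq b hb'.1
  set k := w * b * (a * w) with hk
  have kk : k * k = 1 := by
    calc k * k = w * (b * a) * (w * w) * (b * a) * w := by rw [hk]; group
      _ = w * (b * (a * b) * a) * w := by rw [ww, mul_one]; group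
      _ = w * (b * (b * a) * a) * w := by rw [hb'.2.2.eq]
      _ = w * ((b * b) * (a * a)) * w := by group
      _ = 1 := by rw [yy, xx, mul_one, mul_one, ww]
  have e : k * a * k⁻¹ = b := by
    rw [hk, mul_inv_rev, mul_inv_rev, mul_inv_rev, htt.inv_eq ha, htt.inv_eq hw.1, htt.inv_eq hb'.1]
    calc w * b * (a * w) * a * (w * a * (b * w))
        = w * b * ((a * w * a) * w * a) * (b * w) := by group
      _ = w * b * ((w * a * w) * w * a) * (b * w) := by rw [bx]
      _ = w * b * (w * a * (w * w) * a) * (b * w) := by group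
      _ = w * b * (w * (a * a)) * (b * w) := by rw [ww, mul_one]; group
      _ = w * (b * w * b) * w := by rw [xx, mul_one]; group
      _ = w * (w * b * w) * w := by rw [by']
      _ = (w * w) * b * (w * w) := by group
      _ = b := by rw [ww, one_mul, mul_one]
  refine ⟨k, e, ?_⟩
  rw [← e, inv_eq_of_mul_eq_one_left kk,
    show k * (k * a * k) * k = (k * k) * a * (k * k) by group, kk, one_mul, mul_one]

/-- the centraliser of the product fixes or exchanges the pair -/
theorem pair_cases (ha : a ∈ D) (hb' : b ∈ nb D a) {g : G} (hg : Commute g (a * b)) :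
    (g * a * g⁻¹ = a ∧ g * b * g⁻¹ = b) ∨ (g * a * g⁻¹ = b ∧ g * b * g⁻¹ = a) := by
  have htt := h.core.tt
  have hprod : g * a * g⁻¹ * (g * b * g⁻¹) = a * b := by
    rw [show g * a * g⁻¹ * (g * b * g⁻¹) = g * (a * b) * g⁻¹ by group, hg.eq, mul_inv_cancel_right]
  have h1 := htt.conj_mem g a ha
  have h2 := htt.conj_mem g b hb'.1
  have hne : g * a * g⁻¹ ≠ g * b * g⁻¹ := fun e =>
    hb'.2.1 (mul_left_cancel (mul_right_cancel e)).symm
  have mk : ∀ {p q : G}, p ∈ D → q ∈ D → p ≠ q → Commute p q → p * q = a * b →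
      [p, q].Nodup ∧ [p, q].length = 2 ∧ (∀ x ∈ [p, q], x ∈ D) ∧
        (∀ x ∈ [p, q], ∀ y ∈ [p, q], Commute x y) ∧ [p, q].prod = a * b := by
    intro p q hp hq n c e
    refine ⟨by simp [n], rfl, by simp [hp, hq], ?_, by simp [e]⟩
    simp [c, c.symm]
  have hset := unique_factor' htt h.ind 2 (by norm_num) (by norm_num) (a * b) _ _
    (mk h1 h2 hne (commute_conj.mpr hb'.2.2) hprod) (mk ha hb'.1 hb'.2.1.symm hb'.2.2 rfl)
  have ma := (hset (g * a * g⁻¹)).mp (by simp)
  have mb := (hset (g * b * g⁻¹)).mp (by simp)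
  simp only [List.mem_cons, List.not_mem_nil, or_false] at ma mb
  rcases ma with p | p <;> rcases mb with q | q
  · exact absurd (p.trans q.symm) hne
  · exact Or.inl ⟨p, q⟩
  · exact Or.inr ⟨p, q⟩
  · exact absurd (p.trans q.symm) hne

/-- an element exchanging the pair moves some common neighbour out of its coset of the four-group -/
theorem swap_moves (ha : a ∈ D) (hb' : b ∈ nb D a) {c : G} (hcab : c * a * c⁻¹ = b)
    (hcba : c * b * c⁻¹ = a)
    (hV : ∀ y ∈ nb D a ∩ nb D b, c * y * c⁻¹ * y⁻¹ = 1 ∨ c * y * c⁻¹ * y⁻¹ = a ∨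
      c * y * c⁻¹ * y⁻¹ = b ∨ c * y * c⁻¹ * y⁻¹ = a * b) : False := by
  have htt := h.core.tt
  have fix : ∀ y ∈ nb D a ∩ nb D b, Commute c y := by
    intro y hy
    have hey := htt.conj_mem c y hy.1.1
    set e := c * y * c⁻¹ with he
    have cea : Commute e a := by rw [he, ← hcba, commute_conj]; exact hy.2.2.2.symm
    have ceb : Commute e b := by rw [he, ← hcab, commute_conj]; exact hy.1.2.2.symm
    have cya := hy.1.2.2.symm
    have cyb := hy.2.2.2.symm
    have bad1 : ∀ {x}, x ∈ D → y ≠ x → Commute y x → e ≠ x * y := fun {x} hx n cx q => by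
      have eny : e ≠ y := fun r => by
        rw [q] at r; exact h.core.ne_one x hx (mul_eq_right.mp r)
      have enx : e ≠ x := fun r => by
        rw [q] at r; exact h.core.ne_one y hy.1.1 (mul_eq_left.mp r)
      refine (h.ind.mono (k' := 3) (by norm_num)) [e, x, y] (by simp [eny, enx, n.symm]) (by simp)
        (by simp) (by simp [hey, hx, hy.1.1]) ?_ ?_
      · have c1 : Commute e x := by rw [q]; exact (Commute.refl x).mul_left cx
        have c2 : Commute e y := by rw [q]; exact cx.symm.mul_left (Commute.refl y)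
        simp [c1, c1.symm, c2, c2.symm, cx, cx.symm]
      · simp only [List.prod_cons, List.prod_nil, mul_one]
        rw [q, show x * y * (x * y) = x * (y * x) * y by group, cx.eq]
        rw [show x * (x * y) * y = (x * x) * (y * y) by group, htt.sq x hx, htt.sq y hy.1.1, mul_one]
    have hinv : y⁻¹ = y := htt.inv_eq hy.1.1
    rcases hV y hy with q | q | q | q
    · exact mul_inv_eq_iff_eq_mul.mp (mul_inv_eq_one.mp q)
    · exact absurd (mul_inv_eq_iff_eq_mul.mp q) (bad1 ha hy.1.2.1 cya)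
    · exact absurd (mul_inv_eq_iff_eq_mul.mp q) (bad1 hb'.1 hy.2.2.1 cyb)
    · exfalso
      have q' : e = a * b * y := mul_inv_eq_iff_eq_mul.mp q
      have ce : Commute e y := by
        rw [q']; exact (cya.symm.mul_left cyb.symm).mul_left (Commute.refl y)
      have hp : [e, a, b, y].prod = 1 := by
        simp only [List.prod_cons, List.prod_nil, mul_one]
        have hcom : Commute (a * b) y := cya.symm.mul_left cyb.symm
        rw [q', show a * b * y * (a * (b * y)) = a * b * (y * (a * b)) * y by group, ← hcom.eq,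
          show a * b * (a * b * y) * y = a * (b * a) * b * (y * y) by group, ← hb'.2.2.eq,
          show a * (a * b) * b * (y * y) = (a * a) * (b * b) * (y * y) by group, htt.sq a ha,
          htt.sq b hb'.1, htt.sq y hy.1.1, one_mul, one_mul]
      have n1 : e ≠ a := fun r => hy.1.2.1 (by
        have : c * y * c⁻¹ = c * b * c⁻¹ := by rw [← he, r, hcba]
        exact absurd (mul_left_cancel (mul_right_cancel this)) hy.2.2.1)
      have n2 : e ≠ b := fun r => hy.2.2.1 (by
        have : c * y * c⁻¹ = c * a * c⁻¹ := by rw [← he, r, hcab]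
        exact absurd (mul_left_cancel (mul_right_cancel this)) hy.1.2.1)
      have n3 : e ≠ y := fun r => by
        rw [r] at q'
        have : a * b = 1 := mul_eq_right.mp q'.symm
        exact hb'.2.1 ((eq_inv_of_mul_eq_one_right this).trans (htt.inv_eq ha))
      refine (h.ind.mono (k' := 4) (by norm_num)) [e, a, b, y]
        (by simp [n1, n2, n3, hb'.2.1.symm, hy.1.2.1.symm, hy.2.2.1.symm]) (by simp) (by simp)
        (by simp [hey, ha, hb'.1, hy.1.1]) ?_ hp
      simp [cea, cea.symm, ceb, ceb.symm, ce, ce.symm, hb'.2.2, hb'.2.2.symm, cya, cya.symm, cyb, cyb.symm]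
  have hac : a ∈ Subgroup.centralizer ({c} : Set G) := by
    obtain ⟨⟨l, -, hl, e⟩, -⟩ := h.pair_words ha hb'
    exact e ▸ Subgroup.list_prod_mem _ fun y hy => mem_cent (fix y (hl y hy))
  rw [← (Subgroup.mem_centralizer_singleton_iff.mp hac), mul_inv_cancel_right] at hcab
  exact hb'.2.1 hcab.symm

end M23Data

end Cfsg.Agent.H93
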