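import Cfsg.Agent.H93.Quad

/-!
An odd number forces a fixed point: involutions of a space of transpositions, and of the
neighbourhood of one of its members, that move members to commuting ones.
-/

set_option autoImplicit false

namespace Cfsg.Agent.H93

variable {G : Type*} [Group G] {F : Type*} [Field F] [Fintype F] (hF : Fintype.card F = 4)

/-- an involution of the five element set, swapping two, fixes one -/
theorem fixed_of_three {α : Type*} {ι : α → α} {x y z : α}
    (hx : ι x ∈ [x, y, z]) (hy : ι y ∈ [x, y, z]) (hz : ι z ∈ [x, y, z])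
    (ix : ι (ι x) = x) (iy : ι (ι y) = y) (iz : ι (ι z) = z)
    (hne : x ≠ y ∧ x ≠ z ∧ y ≠ z) : ι x = x ∨ ι y = y ∨ ι z = z := by
  simp only [List.mem_cons, List.not_mem_nil, or_false] at hx hy hz
  obtain ⟨h1, h2, h3⟩ := hne
  rcases hx with e | e | e
  · exact Or.inl e
  · rw [e] at ix
    rcases hz with f | f | f
    · rw [f, e] at iz; exact absurd iz h3
    · rw [f, ix] at iz; exact absurd iz h2
    · exact Or.inr (Or.inr f)
  · rw [e] at ix
    rcases hy with f | f | f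
    · rw [f, e] at iy; exact absurd iy h3.symm
    · exact Or.inr (Or.inl f)
    · rw [f, ix] at iy; exact absurd iy h1

include hF

theorem nonzero_cases {w t : F} (hw : w ^ 2 + w + 1 = 0) (ht : t ≠ 0) :
    t ∈ [(1 : F), w, w ^ 2] := by
  have : (t - 1) * (t - w) * (t - w ^ 2) = 0 := by
    have h3 := pow_three hF ht
    have h2 := two_zero hF
    linear_combination h3 + (-t ^ 2 + w * t) * hw + ((1 : F) - w) * hw
  simp only [List.mem_cons, List.not_mem_nil, or_false]
  rcases mul_eq_zero.mp this with h | h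
  · rcases mul_eq_zero.mp h with h | h
    · exact Or.inl (sub_eq_zero.mp h)
    · exact Or.inr (Or.inl (sub_eq_zero.mp h))
  · exact Or.inr (Or.inr (sub_eq_zero.mp h))

/-- no involution of a space moves every member to a commuting one -/
theorem U6Space.no_fpf {S : Set G} (sp : U6Space F S) (hS : ∀ y ∈ S, y * y = 1) (ι : G → G)
    (hι : ∀ p ∈ S, ι p ∈ S ∧ ι (ι p) = p ∧ Commute p (ι p) ∧ ι p ≠ p)
    (hc : ∀ p ∈ S, ∀ p' ∈ S, Commute p p' ↔ Commute (ι p) (ι p')) : False := by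
  obtain ⟨v, hv⟩ := exists_pt hF (F := F)
  set p := sp.pt v with hp
  obtain ⟨hq, hqp, hpq, hne⟩ := hι p (sp.mem hv)
  obtain ⟨x, y, z, hx, hy, hz, hnd, hcom, hdown, hup, -⟩ :=
    sp.exists_line hF hS (sp.mem hv) hq hne.symm hpq
  rw [← hp] at hnd hcom hdown hup
  have hmem : ∀ t ∈ [x, y, z], t ∈ S ∧ ι t ∈ [x, y, z] := by
    intro t ht
    have htS : t ∈ S := by
      simp only [List.mem_cons, List.not_mem_nil, or_false] at ht
      rcases ht with rfl | rfl | rfl <;> assumption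
    refine ⟨htS, ?_⟩
    obtain ⟨hit, hitt, -, -⟩ := hι t htS
    have h5 : ι t ∈ [p, ι p, x, y, z] := by
      refine hup _ hit fun w hw hwp hwq => ?_
      obtain ⟨hw', hww, -, -⟩ := hι w hw
      have a1 : Commute (ι w) (ι p) := (hc w hw p (sp.mem hv)).mp hwp
      have a2 : Commute (ι w) p := hqp ▸ (hc w hw (ι p) hq).mp hwq
      have a3 : Commute (ι w) t := by
        obtain ⟨c1, c2, c3⟩ := hdown _ hw' a2 a1
        simp only [List.mem_cons, List.not_mem_nil, or_false] at ht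
        rcases ht with rfl | rfl | rfl <;> assumption
      exact hww ▸ (hc _ hw' t htS).mp a3
    have n1 : t ≠ p := fun e => (List.nodup_cons.mp hnd).1 (e ▸ List.mem_cons_of_mem _ ht)
    have n2 : t ≠ ι p := fun e =>
      (List.nodup_cons.mp (List.nodup_cons.mp hnd).2).1 (e ▸ ht)
    rcases List.mem_cons.mp h5 with e | h5
    · exact absurd (by rw [← hitt, e] : t = ι p) n2
    rcases List.mem_cons.mp h5 with e | h5
    · exact absurd (by rw [← hitt, e, hqp] : t = p) n1
    exact h5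
  have hnd3 := (List.nodup_cons.mp (List.nodup_cons.mp hnd).2).2
  simp only [List.nodup_cons, List.mem_cons, List.not_mem_nil, or_false, not_or, List.nodup_nil,
    and_true, not_false_eq_true] at hnd3
  rcases fixed_of_three (hmem x (by simp)).2 (hmem y (by simp)).2 (hmem z (by simp)).2
    (hι x hx).2.1 (hι y hy).2.1 (hι z hz).2.1 ⟨hnd3.1.1, hnd3.1.2, hnd3.2⟩ with e | e | e
  · exact (hι x hx).2.2.2 e
  · exact (hι y hy).2.2.2 e
  · exact (hι z hz).2.2.2 e

/-- every member commutes with another one -/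
theorem U6Space.exists_orth {S : Set G} (sp : U6Space F S) {β : Vec F} (hβ : IsPt β) :
    ∃ u : Vec F, IsPt u ∧ sp.pt u ∈ nb S (sp.pt β) := by
  obtain ⟨x, hx, hxβ, hxs⟩ : ∃ x, hb x x = 0 ∧ hb x β = 0 ∧ ∀ a : F, x ≠ a • β := by
    obtain ⟨w, hw, h1⟩ := iso_one hF hβ.1 1
    have hs : ¬ SamePt β w := fun ⟨a, ha⟩ => by
      rw [ha, hb_smul_left, hβ.2, mul_zero] at h1; exact zero_ne_one h1
    have hli2 := indep_pair hβ.1 hs
    obtain ⟨x, hx, hxs⟩ := exists_extra hF hli2 (Or.inl le_rfl)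
    have hxβ : hb x β = 0 := hx 0
    have hns : ∀ a : F, x ≠ a • β := fun a ha => hxs (ha ▸
      Submodule.smul_mem _ _ (Submodule.subset_span ⟨0, rfl⟩))
    rcases hb_self_cases hF x with h0 | h0
    · exact ⟨x, h0, hxβ, hns⟩
    · have hli3 : LinearIndependent F (Fin.snoc ![β, w] x) := linearIndependent_finSnoc.mpr ⟨hli2, hxs⟩
      obtain ⟨y, hy, hys⟩ := exists_extra hF hli3 (Or.inr ⟨rfl, (0 : Fin 2).castSucc,
        (1 : Fin 2).castSucc, by
          rw [Fin.snoc_castSucc, Fin.snoc_castSucc]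
          simpa [hb_conj hF w β] using h1.trans_ne one_ne_zero⟩)
      have hyβ : hb y β = 0 := by
        have := hy (0 : Fin 2).castSucc
        rwa [Fin.snoc_castSucc] at this
      have hyx : hb y x = 0 := by simpa using hy (Fin.last 2)
      have hyns : ∀ a : F, y ≠ a • β := fun a ha => hys (ha ▸
        Submodule.smul_mem _ _ (Submodule.subset_span ⟨(0 : Fin 2).castSucc, by simp⟩))
      rcases hb_self_cases hF y with g0 | g0
      · exact ⟨y, g0, hyβ, hyns⟩
      · refine ⟨y + x, ?_, by rw [hb_add_left, hyβ, hxβ, add_zero], fun a ha => hys ?_⟩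
        · rw [hb_add_left, hb_add_right hF, hb_add_right hF, g0, hyx, (hb_eq_zero_comm hF).mp hyx, h0]
          simpa using add_self_zero hF (1 : F)
        · rw [eq_sub_of_add_eq ha]
          exact Submodule.sub_mem _ (Submodule.smul_mem _ _ (Submodule.subset_span
            ⟨(0 : Fin 2).castSucc, by simp⟩)) (Submodule.subset_span ⟨Fin.last 2, by simp⟩)
  have hxp : IsPt x := ⟨fun e0 => hxs 0 (by rw [e0, zero_smul]), hx⟩
  refine ⟨x, hxp, sp.mem hxp, fun q => ?_, ((sp.comm hxp hβ).mpr hxβ).symm⟩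
  obtain ⟨a, ha⟩ := (sp.same hβ hxp).mp q.symm
  exact hxs a ha

/-- some member is moved along its line through `b` -/
theorem U6Space.exists_line_image {S : Set G} (sp : U6Space F S) {b : G} (hbS : b ∈ S) (ι : G → G)
    (hι : ∀ p ∈ nb S b, ι p ∈ nb S b ∧ ι (ι p) = p ∧ Commute p (ι p))
    (hc : ∀ p ∈ nb S b, ∀ p' ∈ nb S b, Commute p p' ↔ Commute (ι p) (ι p')) :
    ∃ p ∈ nb S b, ∀ z ∈ nb S b, Commute z p → Commute z (ι p) := by
  classical
  obtain ⟨β, hβ, rfl⟩ := sp.surj b hbS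
  obtain ⟨u, hu0, hu1⟩ := sp.exists_orth hF hβ
  by_cases hdone : ∀ z ∈ nb S (sp.pt β), Commute z (sp.pt u) → Commute z (ι (sp.pt u))
  · exact ⟨_, hu1, hdone⟩
  simp only [not_forall] at hdone
  obtain ⟨z0, hz0, hz0u, hz0v⟩ := hdone
  obtain ⟨hq, hqu, huq⟩ := hι _ hu1
  obtain ⟨v, hv0, hv⟩ := sp.surj _ hq.1
  obtain ⟨ζ, hζ, rfl⟩ := sp.surj z0 hz0.1
  have ζβ : hb ζ β = 0 := (sp.comm hζ hβ).mp hz0.2.2.symm
  have ζu : hb ζ u = 0 := (sp.comm hζ hu0).mp hz0u
  have ζv : hb ζ v ≠ 0 := fun e => hz0v (hv ▸ (sp.comm hζ hv0).mpr e)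
  have βu : hb β u = 0 := (sp.comm hβ hu0).mp hu1.2.2
  have βv : hb β v = 0 := (sp.comm hβ hv0).mp (hv ▸ hq.2.2)
  have uv : hb u v = 0 := (sp.comm hu0 hv0).mp (hv ▸ huq)
  have uβ := (hb_eq_zero_comm hF).mp βu
  have vβ := (hb_eq_zero_comm hF).mp βv
  have vu := (hb_eq_zero_comm hF).mp uv
  have hpair := indep_pair hβ.1 (fun h => hu1.2.1 ((sp.same hβ hu0).mpr h).symm)
  set l : Fin 3 → Vec F := ![β, u, v] with hl
  have hli : LinearIndependent F l := by
    rw [Fintype.linearIndependent_iff]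
    intro g hg i
    simp only [hl, Fin.sum_univ_three, Matrix.cons_val_zero, Matrix.cons_val_one,
      Matrix.cons_val_two, Matrix.tail_cons, Matrix.head_cons] at hg
    have g2 : g 2 = 0 := by
      have h := congrArg (fun x => hb x ζ) hg
      simp only [hb_add_left, hb_smul_left, hb_zero_left, (hb_eq_zero_comm hF).mp ζβ,
        (hb_eq_zero_comm hF).mp ζu, mul_zero, zero_add] at h
      exact (mul_eq_zero.mp h).resolve_right fun e => ζv ((hb_eq_zero_comm hF).mp e)
    rw [g2, zero_smul, add_zero] at hg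
    obtain ⟨g0, g1⟩ := hpair.eq_zero_of_pair hg
    fin_cases i <;> assumption
  have horth : ∀ i j, hb (l i) (l j) = 0 := by
    intro i j
    fin_cases i <;> fin_cases j <;> simp [hl, hβ.2, hu0.2, hv0.2, βu, βv, uv, uβ, vβ, vu]
  have probe : ∀ c e : F, (c ≠ 0 ∨ e ≠ 0) → ∃ x, IsPt x ∧ sp.pt x ∈ nb S (sp.pt β) ∧
      hb x u = c ∧ hb x v = e := by
    intro c e hce
    obtain ⟨x, hx, hxl⟩ : ∃ x, hb x x = 0 ∧ ∀ i, hb x (l i) = ![0, c, e] i := by
      rcases hce with h | h
      · exact iso_solve_of_mem hF hli _ 1 (horth 1) (by simpa using h)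
      · exact iso_solve_of_mem hF hli _ 2 (horth 2) (by simpa using h)
    have x0 : hb x β = 0 := hxl 0
    have x1 : hb x u = c := hxl 1
    have x2 : hb x v = e := hxl 2
    have hns : ∀ a : F, x ≠ a • β := by
      rintro a rfl
      rw [hb_smul_left, βu, mul_zero] at x1
      rw [hb_smul_left, βv, mul_zero] at x2
      rcases hce with h | h
      · exact h x1.symm
      · exact h x2.symm
    have hxp : IsPt x := ⟨fun e0 => hns 0 (by rw [e0, zero_smul]), hx⟩
    refine ⟨x, hxp, ⟨sp.mem hxp, fun q => ?_, ((sp.comm hxp hβ).mpr x0).symm⟩, x1, x2⟩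
    obtain ⟨a, ha⟩ := (sp.same hβ hxp).mp q.symm
    exact hns a ha
  -- members of the line through `u` and `v`
  have hT : ∀ t : F, IsPt (u + t • v) ∧ sp.pt (u + t • v) ∈ nb S (sp.pt β) := by
    intro t
    have hs : ¬ SamePt u v := by
      rintro ⟨a, rfl⟩
      rw [hb_smul_right, ζu, mul_zero] at ζv
      exact ζv rfl
    have hp := isPt_line hF hu0 hv0 uv hs t
    refine ⟨hp, sp.mem hp, fun q => ?_, (sp.comm hβ hp).mpr (by
      rw [hb_add_right hF, hb_smul_right, βu, βv, mul_zero, add_zero])⟩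
    obtain ⟨a, ha⟩ := (sp.same hβ hp).mp q.symm
    have h := Fintype.linearIndependent_iff.mp hli ![a, -1, -t] (by
      simp [hl, Fin.sum_univ_three, ← ha]) 1
    simp at h
  let R : F → F → Prop := fun t s => ∀ z ∈ nb S (sp.pt β),
    Commute z (ι (sp.pt (u + t • v))) ↔ Commute z (sp.pt (u + s • v))
  have commT : ∀ {x : Vec F}, IsPt x → ∀ t : F,
      (Commute (sp.pt x) (sp.pt (u + t • v)) ↔ hb x u + t ^ 2 * hb x v = 0) := by
    intro x hx t
    rw [sp.comm hx (hT t).1, hb_add_right hF, hb_smul_right]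
  have hR : ∀ t : F, t ≠ 0 → ∃ s : F, s ≠ 0 ∧ R t s := by
    intro t ht
    obtain ⟨hT1, hT2⟩ := hT t
    obtain ⟨hi, hii, -⟩ := hι _ hT2
    obtain ⟨x, hx, hxe⟩ := sp.surj _ hi.1
    have xβ : hb x β = 0 := (sp.comm hx hβ).mp (hxe ▸ hi.2.2.symm)
    have cT : ∀ w ∈ nb S (sp.pt β), Commute w (sp.pt u) → Commute w (ι (sp.pt u)) →
        Commute w (sp.pt (u + t • v)) := by
      intro w hw h1 h2
      obtain ⟨y, hy, rfl⟩ := sp.surj w hw.1
      rw [← hv] at h2
      rw [commT hy, (sp.comm hy hu0).mp h1, (sp.comm hy hv0).mp h2]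
      ring
    have xu : hb x u = 0 := by
      refine (sp.comm hx hu0).mp ?_
      rw [hxe, ← hqu]
      refine (hc _ hT2 _ hq).mp ?_
      rw [← hv, sp.comm hT1 hv0, hb_add_left, hb_smul_left, uv, hv0.2, mul_zero, add_zero]
    have xv : hb x v = 0 := by
      refine (sp.comm hx hv0).mp ?_
      rw [hxe, hv]
      refine (hc _ hT2 _ hu1).mp ?_
      rw [sp.comm hT1 hu0, hb_add_left, hb_smul_left, vu, hu0.2, mul_zero, add_zero]
    have hspan : x ∈ Submodule.span F (Set.range l) := by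
      by_contra hns
      have hli' : LinearIndependent F (Fin.snoc l x) := linearIndependent_finSnoc.mpr ⟨hli, hns⟩
      obtain ⟨y, hy, hyl⟩ := iso_solve_of_mem hF hli' (Fin.snoc 0 1) (Fin.last 3)
        (fun i => by
          refine Fin.lastCases ?_ (fun i => ?_) i
          · rw [Fin.snoc_last]; exact hx.2
          · rw [Fin.snoc_last, Fin.snoc_castSucc]
            fin_cases i <;> simp [hl, xβ, xu, xv]) (by rw [Fin.snoc_last]; exact one_ne_zero)
      have y1 : hb y x = 1 := by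
        have := hyl (Fin.last 3)
        rwa [Fin.snoc_last, Fin.snoc_last] at this
      have y0 : ∀ i : Fin 3, hb y (l i) = 0 := fun i => by
        have := hyl i.castSucc
        rwa [Fin.snoc_castSucc, Fin.snoc_castSucc] at this
      have hyp := pt_of_hb_eq_one hy y1
      have hmem : sp.pt y ∈ nb S (sp.pt β) := by
        refine ⟨sp.mem hyp, fun q => ?_, ((sp.comm hyp hβ).mpr (y0 0)).symm⟩
        obtain ⟨a, rfl⟩ := (sp.same hβ hyp).mp q.symm
        rw [hb_smul_left, (hb_eq_zero_comm hF).mp xβ, mul_zero] at y1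
        exact zero_ne_one y1
      obtain ⟨hm', hmm, -⟩ := hι _ hmem
      have a1 : Commute (ι (sp.pt y)) (ι (sp.pt u)) :=
        (hc _ hmem _ hu1).mp ((sp.comm hyp hu0).mpr (y0 1))
      have a2 : Commute (ι (sp.pt y)) (sp.pt u) :=
        hqu ▸ (hc _ hmem _ hq).mp (hv ▸ (sp.comm hyp hv0).mpr (y0 2))
      have a3 := (hc _ hm' _ hT2).mp (cT _ hm' a2 a1)
      rw [hmm, ← hxe, sp.comm hyp hx, y1] at a3
      exact one_ne_zero a3
    obtain ⟨g, hg⟩ := (Submodule.mem_span_range_iff_exists_fun F).mp hspan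
    simp only [hl, Fin.sum_univ_three, Matrix.cons_val_zero, Matrix.cons_val_one,
      Matrix.cons_val_two, Matrix.tail_cons, Matrix.head_cons] at hg
    set c := g 1
    set e := g 2
    have commx : ∀ {y : Vec F}, IsPt y → sp.pt y ∈ nb S (sp.pt β) →
        (Commute (sp.pt y) (ι (sp.pt (u + t • v))) ↔ c ^ 2 * hb y u + e ^ 2 * hb y v = 0) := by
      intro y hy hym
      rw [← hxe, sp.comm hy hx, ← hg, hb_add_right hF, hb_add_right hF, hb_smul_right, hb_smul_right,
        hb_smul_right, (sp.comm hy hβ).mp hym.2.2.symm, mul_zero, zero_add]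
    have c0 : c ≠ 0 := by
      intro hc0
      obtain ⟨y, hy, hym, y1, y2⟩ := probe 1 0 (Or.inl one_ne_zero)
      obtain ⟨hm', hmm, -⟩ := hι _ hym
      obtain ⟨y', hy', hye⟩ := sp.surj _ hm'.1
      have a1 : Commute (sp.pt y) (ι (sp.pt (u + t • v))) :=
        (commx hy hym).mpr (by rw [hc0, y2]; ring)
      have a2 : Commute (ι (sp.pt y)) (sp.pt (u + t • v)) := hii ▸ (hc _ hym _ hi).mp a1
      have a3 : Commute (ι (sp.pt y)) (sp.pt u) :=
        hqu ▸ (hc _ hym _ hq).mp (hv ▸ (sp.comm hy hv0).mpr y2)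
      rw [← hye] at a2 a3
      rw [commT hy', (sp.comm hy' hu0).mp a3, zero_add, mul_eq_zero] at a2
      have a4 : Commute (ι (sp.pt y)) (ι (sp.pt u)) := by
        rw [← hye, ← hv]
        exact (sp.comm hy' hv0).mpr (a2.resolve_left (pow_ne_zero 2 ht))
      have a5 := (sp.comm hy hu0).mp ((hc _ hym _ hu1).mpr a4)
      rw [y1] at a5
      exact one_ne_zero a5
    have e0 : e ≠ 0 := by
      intro he0
      obtain ⟨y, hy, hym, y1, y2⟩ := probe 0 1 (Or.inr one_ne_zero)
      obtain ⟨hm', hmm, -⟩ := hι _ hym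
      obtain ⟨y', hy', hye⟩ := sp.surj _ hm'.1
      have a1 : Commute (sp.pt y) (ι (sp.pt (u + t • v))) :=
        (commx hy hym).mpr (by rw [he0, y1]; ring)
      have a2 : Commute (ι (sp.pt y)) (sp.pt (u + t • v)) := hii ▸ (hc _ hym _ hi).mp a1
      have a3 : Commute (ι (sp.pt y)) (ι (sp.pt u)) := (hc _ hym _ hu1).mp ((sp.comm hy hu0).mpr y1)
      rw [← hye] at a2 a3
      rw [← hv] at a3
      rw [commT hy', (sp.comm hy' hv0).mp a3, mul_zero, add_zero] at a2
      have a4 : Commute (ι (sp.pt y)) (sp.pt u) := hye ▸ (sp.comm hy' hu0).mpr a2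
      have a5 : Commute (sp.pt y) (ι (sp.pt u)) := (hc _ hym _ hq).mpr (hqu.symm ▸ a4)
      rw [← hv, sp.comm hy hv0, y2] at a5
      exact one_ne_zero a5
    refine ⟨e * c⁻¹, mul_ne_zero e0 (inv_ne_zero c0), fun w hw => ?_⟩
    obtain ⟨y, hy, rfl⟩ := sp.surj w hw.1
    rw [commx hy hw, commT hy]
    have key : c ^ 2 * hb y u + e ^ 2 * hb y v = c ^ 2 * (hb y u + (e * c⁻¹) ^ 2 * hb y v) := by
      field_simp
    rw [key]
    exact ⟨fun h => (mul_eq_zero.mp h).resolve_left (pow_ne_zero 2 c0),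
      fun h => by rw [h, mul_zero]⟩
  have hsymm : ∀ t s, R t s → R s t := by
    intro t s h w hw
    obtain ⟨hw', hww, -⟩ := hι w hw
    obtain ⟨hi, hii, -⟩ := hι _ (hT t).2
    rw [hc w hw _ (hι _ (hT s).2).1, (hι _ (hT s).2).2.1, ← h _ hw', hc _ hw' _ hi, hww, hii]
  have huniq : ∀ t s s' : F, R t s → R t s' → s = s' := by
    intro t s s' h h'
    obtain ⟨y, hy, hym, y1, y2⟩ := probe (s ^ 2) 1 (Or.inr one_ne_zero)
    have := (h' _ hym).mp ((h _ hym).mpr ((commT hy s).mpr (by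
      rw [y1, y2, mul_one]; exact add_self_zero hF _)))
    rw [commT hy, y1, y2, mul_one, ← sq_add hF] at this
    exact (add_eq_zero_iff_eq' hF).mp (pow_eq_zero_iff (two_ne_zero) |>.mp this)
  obtain ⟨w, hw0, hw1, hw⟩ := exists_omega hF
  let f : F → F := fun t => if ht : t ≠ 0 then (hR t ht).choose else 0
  have hf : ∀ t, t ≠ 0 → f t ≠ 0 ∧ R t (f t) := fun t ht => by
    have := (hR t ht).choose_spec
    simp only [f, dif_pos ht]
    exact this
  have hff : ∀ t, t ≠ 0 → f (f t) = t := fun t ht =>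
    huniq _ _ _ (hf _ (hf t ht).1).2 (hsymm _ _ (hf t ht).2)
  have hwsq : w ^ 2 ≠ 0 := pow_ne_zero _ hw0
  have hne : (1 : F) ≠ w ∧ (1 : F) ≠ w ^ 2 ∧ w ≠ w ^ 2 :=
    ⟨Ne.symm hw1, fun e => hw1 (sq_eq_one hF e.symm),
      fun e => hw1 (mul_left_cancel₀ hw0 (by rw [mul_one]; linear_combination -e))⟩
  have hfin : ∀ t, t ≠ 0 → f t ∈ [(1 : F), w, w ^ 2] := fun t ht => nonzero_cases hF hw (hf t ht).1
  obtain ⟨t, ht, hfix⟩ : ∃ t, t ≠ 0 ∧ f t = t := by
    rcases fixed_of_three (hfin 1 one_ne_zero) (hfin w hw0) (hfin _ hwsq) (hff 1 one_ne_zero)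
      (hff w hw0) (hff _ hwsq) hne with e | e | e
    · exact ⟨1, one_ne_zero, e⟩
    · exact ⟨w, hw0, e⟩
    · exact ⟨_, hwsq, e⟩
  have hRt := (hf t ht).2
  rw [hfix] at hRt
  exact ⟨_, (hT t).2, fun z hz h => (hRt z hz).mpr h⟩

end Cfsg.Agent.H93
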