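import Cfsg.Agent.H93.Frame
import Cfsg.Agent.H93.Parity

/-!
In a central extension of `PSU 6 F 2` by a group of order two every involution lifts to an involution.
-/

set_option autoImplicit false

namespace Cfsg.Agent.H93

variable {F : Type*} [Field F] [Fintype F] (hF : Fintype.card F = 4) {C : Type*} [Group C]

include hF in
/-- a second point of a totally isotropic line -/
theorem exists_orth_pt {u : Vec F} (hu : IsPt u) : ∃ v, IsPt v ∧ hb u v = 0 ∧ ¬ SamePt u v := by
  obtain ⟨f, hf, f1⟩ := iso_one hF hu.1 1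
  have hs : ¬ SamePt u f := fun ⟨a, ha⟩ => by
    rw [ha, hb_smul_left, hu.2, mul_zero] at f1; exact zero_ne_one f1
  have hli2 := indep_pair hu.1 hs
  obtain ⟨x, hx, hxs⟩ := exists_extra hF hli2 (Or.inl le_rfl)
  have x0 : hb x u = 0 := hx 0
  have x1 : hb x f = 0 := hx 1
  have hns : ∀ {y : Vec F}, hb y f = 0 → y ≠ 0 → hb y y = 0 → hb y u = 0 →
      ∃ v, IsPt v ∧ hb u v = 0 ∧ ¬ SamePt u v := fun {y} y1 y0 yy yu =>
    ⟨y, ⟨y0, yy⟩, (hb_eq_zero_comm hF).mp yu, fun ⟨t, ht⟩ => y0 (by
      rw [ht, hb_smul_left, hb_one_comm hF f1, mul_one] at y1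
      rw [ht, y1, zero_smul])⟩
  have x0' : x ≠ 0 := fun e => hxs (e ▸ Submodule.zero_mem _)
  rcases hb_self_cases hF x with h0 | h0
  · exact hns x1 x0' h0 x0
  have hli3 : LinearIndependent F (Fin.snoc ![u, f] x) := linearIndependent_finSnoc.mpr ⟨hli2, hxs⟩
  obtain ⟨y, hy, hys⟩ := exists_extra hF hli3 (Or.inr ⟨rfl, (0 : Fin 2).castSucc, (1 : Fin 2).castSucc, by
    rw [Fin.snoc_castSucc, Fin.snoc_castSucc]
    simpa [hb_one_comm hF f1] using one_ne_zero⟩)
  have yu : hb y u = 0 := by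
    have := hy (0 : Fin 2).castSucc; rwa [Fin.snoc_castSucc] at this
  have yf : hb y f = 0 := by
    have := hy (1 : Fin 2).castSucc; rwa [Fin.snoc_castSucc] at this
  have yx : hb y x = 0 := by simpa using hy (Fin.last 2)
  have y0 : y ≠ 0 := fun e => hys (e ▸ Submodule.zero_mem _)
  rcases hb_self_cases hF y with g0 | g0
  · exact hns yf y0 g0 yu
  refine hns (y := y + x) (by rw [hb_add_left, yf, x1, add_zero]) (fun e => ?_) ?_
    (by rw [hb_add_left, yu, x0, add_zero])
  · rw [vec_eq_of_add hF e, h0] at yx; exact one_ne_zero yx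
  · rw [hb_add_left, hb_add_right hF, hb_add_right hF, g0, yx, (hb_eq_zero_comm hF).mp yx, h0]
    simpa using add_self_zero hF (1 : F)

/-- a central extension with kernel of order at most two -/
structure TwoExt (π : C →* Cfsg.PSU 6 F 2) (d : C) : Prop where
  surj : Function.Surjective π
  ker : ∀ x, π x = 1 → x = 1 ∨ x = d
  sq : d * d = 1
  cen : ∀ x, Commute d x

namespace TwoExt

variable {π : C →* Cfsg.PSU 6 F 2} {d : C} (h : TwoExt π d)

include h

omit [Fintype F] in
theorem eq_or {x y : C} (e : π x = π y) : y = x ∨ y = x * d := by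
  rcases h.ker (x⁻¹ * y) (by rw [map_mul, map_inv, e, inv_mul_cancel]) with k | k
  · exact Or.inl (inv_mul_eq_one.mp k).symm
  · exact Or.inr (inv_mul_eq_iff_eq_mul.mp k)

omit [Fintype F] in
theorem commute_congr {x x' y y' : C} (ex : π x = π x') (ey : π y = π y') (hc : Commute x y) :
    Commute x' y' := by
  rcases h.eq_or ex with rfl | rfl <;> rcases h.eq_or ey with rfl | rfl
  · exact hc
  · exact hc.mul_right (h.cen _).symm
  · exact hc.mul_left (h.cen _)
  · exact (hc.mul_left (h.cen _)).mul_right ((h.cen _).symm)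

omit [Fintype F] in
theorem sq_congr {x y : C} (e : π x = π y) (hx : x * x = 1) : y * y = 1 := by
  rcases h.eq_or e with rfl | rfl
  · exact hx
  · calc x * d * (x * d) = x * (d * x) * d := by group
      _ = x * (x * d) * d := by rw [(h.cen x).eq]
      _ = (x * x) * (d * d) := by group
      _ = 1 := by rw [hx, h.sq, one_mul]

omit [Fintype F] in
theorem two_values {x : C} (e : π x = 1) : x * x = 1 := h.sq_congr (x := 1) (by rw [map_one, e]) (one_mul 1)

include hF

/-- a lift of a transvection -/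
noncomputable def lift (v : Vec F) : C := (h.surj (ptv hF v)).choose

theorem π_lift (v : Vec F) : π (h.lift hF v) = ptv hF v := (h.surj (ptv hF v)).choose_spec

/-- the commutator of the lifts, as an element of the kernel -/
noncomputable def com (u v : Vec F) : C :=
  h.lift hF u * h.lift hF v * (h.lift hF u)⁻¹ * (h.lift hF v)⁻¹

omit hF in
theorem com_congr {x x' y y' : C} (ex : π x = π x') (ey : π y = π y') :
    x' * y' * x'⁻¹ * y'⁻¹ = x * y * x⁻¹ * y⁻¹ := by
  have key : ∀ a b : C, a * d * b * (a * d)⁻¹ * b⁻¹ = a * b * a⁻¹ * b⁻¹ ∧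
      a * (b * d) * a⁻¹ * (b * d)⁻¹ = a * b * a⁻¹ * b⁻¹ := fun a b => by
    constructor
    · rw [mul_assoc a d b, (h.cen b).eq]; group
    · calc a * (b * d) * a⁻¹ * (b * d)⁻¹ = a * b * (d * a⁻¹) * (d⁻¹ * b⁻¹) := by group
        _ = a * b * (a⁻¹ * d) * (d⁻¹ * b⁻¹) := by rw [(h.cen a⁻¹).eq]
        _ = _ := by group
  rcases h.eq_or ex with rfl | rfl <;> rcases h.eq_or ey with rfl | rfl
  · rfl
  · exact (key _ _).2
  · exact (key _ _).1
  · rw [(key _ _).1]; exact (key _ _).2

theorem com_ker {u v : Vec F} (hu : IsPt u) (hv : IsPt v) (huv : hb u v = 0) :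
    π (h.com hF u v) = 1 := by
  have e := ptv_conj' hF hu.2 v
  rw [(hb_eq_zero_comm hF).mp huv, zero_smul, add_zero] at e
  have i : ∀ w : Vec F, (ptv hF w)⁻¹ = ptv hF w := fun w =>
    inv_eq_of_mul_eq_one_left (ptv_mul_self hF w)
  simp only [com, map_mul, map_inv, h.π_lift hF, i]
  rw [e, ptv_mul_self]

theorem com_sq {u v : Vec F} (hu : IsPt u) (hv : IsPt v) (huv : hb u v = 0) :
    h.com hF u v * h.com hF u v = 1 := h.two_values (h.com_ker hF hu hv huv)

theorem com_conj (g : C) {u v u' v' : Vec F} (eu : π g * ptv hF u * (π g)⁻¹ = ptv hF u')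
    (ev : π g * ptv hF v * (π g)⁻¹ = ptv hF v') (hu : IsPt u) (hv : IsPt v) (huv : hb u v = 0) :
    h.com hF u' v' = h.com hF u v := by
  have c1 := h.com_congr (x := g * h.lift hF u * g⁻¹) (x' := h.lift hF u')
    (y := g * h.lift hF v * g⁻¹) (y' := h.lift hF v')
    (by rw [map_mul, map_mul, map_inv, h.π_lift, h.π_lift, eu])
    (by rw [map_mul, map_mul, map_inv, h.π_lift, h.π_lift, ev])
  have hcen : Commute g (h.com hF u v) := by
    rcases h.ker _ (h.com_ker hF hu hv huv) with e | e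
    · rw [e]; exact Commute.one_right g
    · rw [e]; exact (h.cen g).symm
  calc h.com hF u' v' = g * h.com hF u v * g⁻¹ := by rw [com, c1, com]; group
    _ = h.com hF u v := by rw [hcen.eq, mul_inv_cancel_right]

theorem com_near {w u u' : Vec F} (hw : IsPt w) (hu : IsPt u) (hu' : IsPt u') (wu : hb w u = 0)
    (wu' : hb w u' = 0) (hn : hb u u' ≠ 0) : h.com hF w u = h.com hF w u' := by
  have fixw : ∀ {a : Vec F}, IsPt a → hb w a = 0 →
      π (h.lift hF a) * ptv hF w * (π (h.lift hF a))⁻¹ = ptv hF w := fun {a} ha hwa => by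
    rw [h.π_lift, inv_eq_of_mul_eq_one_left (ptv_mul_self hF a), ptv_conj' hF ha.2, hwa, zero_smul,
      add_zero]
  have moved : ∀ {a b : Vec F}, IsPt a →
      π (h.lift hF a) * ptv hF b * (π (h.lift hF a))⁻¹ = ptv hF (b + hb b a • a) := fun {a b} ha => by
    rw [h.π_lift, inv_eq_of_mul_eq_one_left (ptv_mul_self hF a), ptv_conj' hF ha.2]
  have e1 := h.com_conj hF (h.lift hF u) (fixw hu wu) (moved (b := u') hu) hw hu' wu'
  have e2 := h.com_conj hF (h.lift hF u') (fixw hu' wu') (moved (b := u) hu') hw hu wu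
  have h3 := pow_three hF hn
  have ev : u + hb u u' • u' = hb u u' • (u' + hb u' u • u) := by
    rw [smul_add, smul_smul, hb_conj hF u u', show hb u u' * hb u u' ^ 2 = 1 by linear_combination h3,
      one_smul, add_comm]
  have e3 : h.com hF w (u + hb u u' • u') = h.com hF w (u' + hb u' u • u) :=
    h.com_congr (h.π_lift hF w ▸ rfl) (by rw [h.π_lift, h.π_lift, ev, ptv_smul hF hn])
  rw [← e2, e3, e1]

theorem com_const {w u u' : Vec F} (hw : IsPt w) (hu : IsPt u) (hu' : IsPt u') (wu : hb w u = 0)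
    (wu' : hb w u' = 0) (su : ¬ SamePt w u) (su' : ¬ SamePt w u') :
    h.com hF w u = h.com hF w u' := by
  by_cases hn : hb u u' ≠ 0
  · exact h.com_near hF hw hu hu' wu wu' hn
  rw [not_not] at hn
  have z := fun {u v : Vec F} (e : hb u v = 0) => (hb_eq_zero_comm hF).mp e
  have hli2 := indep_pair hw.1 su
  obtain ⟨p, hp, pw, pu, pu'⟩ : ∃ p, hb p p = 0 ∧ hb p w = 0 ∧ hb p u ≠ 0 ∧ hb p u' ≠ 0 := by
    have ho : ∀ i j, hb (![w, u] i) (![w, u] j) = 0 := by
      intro i j
      fin_cases i <;> fin_cases j <;> simp [hw.2, hu.2, wu, z wu]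
    by_cases hin : u' ∈ Submodule.span F (Set.range ![w, u])
    · obtain ⟨p, hp, hl⟩ := iso_solve_of_mem hF hli2 ![0, 1] 1 (ho 1) one_ne_zero
      obtain ⟨g, hg⟩ := (Submodule.mem_span_range_iff_exists_fun F).mp hin
      simp only [Fin.sum_univ_two, Matrix.cons_val_zero, Matrix.cons_val_one] at hg
      have p0 : hb p w = 0 := hl 0
      have p1 : hb p u = 1 := hl 1
      refine ⟨p, hp, p0, by rw [p1]; exact one_ne_zero, fun e => ?_⟩
      rw [← hg, hb_add_right hF, hb_smul_right, hb_smul_right, p0, p1, mul_zero, zero_add, mul_one]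
        at e
      rw [pow_eq_zero_iff two_ne_zero] at e
      rw [e, zero_smul, add_zero] at hg
      exact su' ⟨g 0, hg.symm⟩
    · have hli3 : LinearIndependent F (Fin.snoc ![w, u] u') :=
        linearIndependent_finSnoc.mpr ⟨hli2, hin⟩
      obtain ⟨p, hp, hl⟩ := iso_solve_of_mem hF hli3 (Fin.snoc ![0, 1] 1) (Fin.last 2)
        (fun i => by
          refine Fin.lastCases ?_ (fun i => ?_) i
          · rw [Fin.snoc_last]; exact hu'.2
          · rw [Fin.snoc_last, Fin.snoc_castSucc]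
            fin_cases i <;> simp [z wu', z hn])
        (by rw [Fin.snoc_last]; exact one_ne_zero)
      have a := hl (0 : Fin 2).castSucc
      have b := hl (1 : Fin 2).castSucc
      have c := hl (Fin.last 2)
      rw [Fin.snoc_castSucc, Fin.snoc_castSucc] at a b
      rw [Fin.snoc_last, Fin.snoc_last] at c
      simp only [Matrix.cons_val_zero, Matrix.cons_val_one] at a b
      exact ⟨p, hp, a, by rw [b]; exact one_ne_zero, by rw [c]; exact one_ne_zero⟩
  have hpp : IsPt p := ⟨fun e => pu (by rw [e, hb_zero_left]), hp⟩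
  rw [h.com_near hF hw hu hpp wu (z pw) (fun e => pu (z e)),
    h.com_near hF hw hpp hu' (z pw) wu' pu']

theorem commute_of_com {u v : Vec F} (e : h.com hF u v = 1) : Commute (h.lift hF u) (h.lift hF v) := by
  rw [com, mul_inv_eq_one, mul_inv_eq_iff_eq_mul] at e
  exact e

/-- lifts of orthogonal transvections commute -/
theorem lift_commute {w u : Vec F} (hw : IsPt w) (hu : IsPt u) (wu : hb w u = 0) :
    Commute (h.lift hF w) (h.lift hF u) := by
  have hi : ∀ a : Vec F, (ptv hF a)⁻¹ = ptv hF a := fun a =>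
    inv_eq_of_mul_eq_one_left (ptv_mul_self hF a)
  by_cases hs : SamePt w u
  · obtain ⟨a, ha⟩ := hs
    have ha0 : a ≠ 0 := fun e => hu.1 (by rw [ha, e, zero_smul])
    exact h.commute_congr rfl (by rw [h.π_lift, h.π_lift, ha, ptv_smul hF ha0]) (Commute.refl _)
  -- a frame orthogonal to `w`
  obtain ⟨e₁, he1, e1w, e1s⟩ : ∃ e₁, hb e₁ e₁ = 0 ∧ hb e₁ w = 0 ∧ ¬ SamePt w e₁ :=
    ⟨u, hu.2, (hb_eq_zero_comm hF).mp wu, hs⟩
  obtain ⟨f₁, hf1, f1w, f1e⟩ := iso_two hF hw.1 e1s 0 1
  have ef : hb e₁ f₁ = 1 := hb_one_comm hF f1e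
  obtain ⟨e₂, f₂, fr⟩ := exists_frame hF hw he1 hf1 ef ((hb_eq_zero_comm hF).mp e1w)
    ((hb_eq_zero_comm hF).mp f1w)
  obtain ⟨o, ho0, ho1, ho⟩ := exists_omega hF
  have he1p : IsPt e₁ := ⟨fun e => e1s ⟨0, by rw [e, zero_smul]⟩, he1⟩
  have he2p : IsPt e₂ := ⟨fun e => one_ne_zero (by have := fr.ef2; rwa [e, hb_zero_left, eq_comm] at this), fr.e22⟩
  have good : ∀ b : F, IsPt (e₁ + b • e₂) ∧ hb w (e₁ + b • e₂) = 0 ∧ ¬ SamePt w (e₁ + b • e₂) := by
    intro b
    have e : e₁ + b • e₂ = (0 : F) • w + (1 : F) • e₁ + (0 : F) • f₁ + b • e₂ + (0 : F) • f₂ := by simp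
    obtain ⟨v0, -, v2, -, -⟩ := fr.val hF 0 1 0 b 0
    rw [← e] at v0 v2
    refine ⟨⟨fun q => ?_, by rw [e, fr.form hF]; ring⟩, (hb_eq_zero_comm hF).mp v0, ?_⟩
    · rw [q, hb_zero_left] at v2; exact zero_ne_one v2
    · rintro ⟨a, ha⟩
      rw [ha, hb_smul_left, fr.pf1, mul_zero] at v2
      exact zero_ne_one v2
  have s2 : ¬ SamePt w e₂ := by
    rintro ⟨a, ha⟩
    have := fr.ef2
    rw [ha, hb_smul_left, fr.pf2, mul_zero] at this
    exact zero_ne_one this
  have hone : e₁ + e₂ = e₁ + (1 : F) • e₂ := by rw [one_smul]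
  set s := h.com hF w u with hsdef
  have hval : ∀ v, IsPt v → hb w v = 0 → ¬ SamePt w v →
      h.lift hF w * h.lift hF v * (h.lift hF w)⁻¹ = s * h.lift hF v := fun v hv wv sv => by
    rw [hsdef, h.com_const hF hw hu hv wu wv hs sv, com]; group
  have hscen : ∀ x, Commute s x := by
    intro x
    rcases h.ker _ (h.com_ker hF hw hu wu) with e | e
    · rw [hsdef, e]; exact Commute.one_left x
    · rw [hsdef, e]; exact h.cen x
  set Q := h.lift hF e₁ * h.lift hF e₂ * h.lift hF (e₁ + e₂) * h.lift hF (e₁ + o • e₂) *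
    h.lift hF (e₁ + o ^ 2 • e₂) with hQ
  have hQ1 : π Q = 1 := by
    simp only [hQ, map_mul, h.π_lift]
    exact ptv_line hF he1 fr.e22 fr.ee ho
  have hQc : h.lift hF w * Q * (h.lift hF w)⁻¹ = Q := by
    rcases h.ker _ hQ1 with e | e
    · rw [e]; group
    · rw [e, ← (h.cen _).eq, mul_inv_cancel_right]
  have h5 : h.lift hF w * Q * (h.lift hF w)⁻¹ = (s * s) * (s * s) * s * Q := by
    have e : ∀ a b c x y : C, h.lift hF w * (a * b * c * x * y) * (h.lift hF w)⁻¹ =
        h.lift hF w * a * (h.lift hF w)⁻¹ * (h.lift hF w * b * (h.lift hF w)⁻¹) *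
          (h.lift hF w * c * (h.lift hF w)⁻¹) * (h.lift hF w * x * (h.lift hF w)⁻¹) *
          (h.lift hF w * y * (h.lift hF w)⁻¹) := fun a b c x y => by group
    rw [hQ, e, hval _ he1p ((hb_eq_zero_comm hF).mp e1w) e1s,
      hval _ he2p fr.pe2 s2, hone, hval _ (good 1).1 (good 1).2.1 (good 1).2.2,
      hval _ (good o).1 (good o).2.1 (good o).2.2,
      hval _ (good (o ^ 2)).1 (good (o ^ 2)).2.1 (good (o ^ 2)).2.2]
    have mv : ∀ a b c x y : C, (s * a) * (s * b) * (s * c) * (s * x) * (s * y) =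
        (s * s) * (s * s) * s * (a * b * c * x * y) := fun a b c x y => by
      have m : ∀ t p : C, t * (s * p) = s * (t * p) := fun t p => by
        rw [← mul_assoc, ← (hscen t).eq, mul_assoc]
      simp only [mul_assoc, m a, m b, m c, m x]
    exact mv _ _ _ _ _
  rw [hQc, h.com_sq hF hw hu wu, one_mul, one_mul] at h5
  have : s = 1 := by simpa using h5
  exact h.commute_of_com hF this

/-- lifts of transvections are involutions -/
theorem lift_sq {u : Vec F} (hu : IsPt u) : h.lift hF u * h.lift hF u = 1 := by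
  obtain ⟨v, hv, uv, hs⟩ : ∃ v, IsPt v ∧ hb u v = 0 ∧ ¬ SamePt u v := exists_orth_pt hF hu
  obtain ⟨o, ho0, ho1, ho⟩ := exists_omega hF
  have p3 : IsPt (u + v) := by simpa using isPt_line hF hu hv uv hs 1
  have p4 := isPt_line hF hu hv uv hs o
  have p5 := isPt_line hF hu hv uv hs (o ^ 2)
  have heq : ∀ {a b : Vec F}, IsPt a → IsPt b → h.lift hF b * h.lift hF b = h.lift hF a * h.lift hF a := by
    intro a b ha hb'
    obtain ⟨g0, hg0⟩ := ptv_transitive hF ha hb'
    obtain ⟨g, rfl⟩ := h.surj g0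
    have hker : π (h.lift hF a * h.lift hF a) = 1 := by rw [map_mul, h.π_lift, ptv_mul_self]
    have hcen : Commute g (h.lift hF a * h.lift hF a) := by
      rcases h.ker _ hker with e | e
      · rw [e]; exact Commute.one_right g
      · rw [e]; exact (h.cen g).symm
    have hπ : π (g * h.lift hF a * g⁻¹) = π (h.lift hF b) := by
      rw [map_mul, map_mul, map_inv, h.π_lift, h.π_lift, hg0]
    have hsame : ∀ {x y : C}, π x = π y → y * y = x * x := by
      intro x y e
      rcases h.eq_or e with rfl | rfl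
      · rfl
      · calc x * d * (x * d) = x * (d * x) * d := by group
          _ = x * (x * d) * d := by rw [(h.cen x).eq]
          _ = (x * x) * (d * d) := by group
          _ = _ := by rw [h.sq, mul_one]
    rw [hsame hπ]
    calc g * h.lift hF a * g⁻¹ * (g * h.lift hF a * g⁻¹) = g * (h.lift hF a * h.lift hF a) * g⁻¹ := by group
      _ = _ := by rw [hcen.eq, mul_inv_cancel_right]
  have hvu := (hb_eq_zero_comm hF).mp uv
  have orth : ∀ a b a' b' : F, hb (a • u + b • v) (a' • u + b' • v) = 0 := fun a b a' b' => by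
    simp [hb_add_left, hb_add_right hF, hb_smul_left, hb_smul_right, hu.2, hv.2, uv, hvu]
  have eu : u = (1 : F) • u + (0 : F) • v := by simp
  have ev : v = (0 : F) • u + (1 : F) • v := by simp
  have e3 : u + v = (1 : F) • u + (1 : F) • v := by simp
  have et : ∀ t : F, u + t • v = (1 : F) • u + t • v := fun t => by simp
  have cm : ∀ {x y : Vec F}, IsPt x → IsPt y → ∀ a b a' b' : F, x = a • u + b • v →
      y = a' • u + b' • v → Commute (h.lift hF x) (h.lift hF y) := fun hx hy a b a' b' ex ey =>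
    h.lift_commute hF hx hy (by rw [ex, ey]; exact orth a b a' b')
  set A := h.lift hF u
  set B := h.lift hF v
  set P := h.lift hF (u + v)
  set Q := h.lift hF (u + o • v)
  set R := h.lift hF (u + o ^ 2 • v)
  have hπ : π (A * B * P * Q * R) = 1 := by
    simp only [A, B, P, Q, R, map_mul, h.π_lift]
    exact ptv_line hF hu.2 hv.2 uv ho
  have hZ := h.two_values hπ
  have dbl : ∀ {x y : C}, Commute x y → x * y * (x * y) = x * x * (y * y) := fun {x y} hc => by
    calc x * y * (x * y) = x * (y * x) * y := by group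
      _ = x * (x * y) * y := by rw [hc.eq]
      _ = _ := by group
  have cAB : Commute A B := cm hu hv _ _ _ _ eu ev
  have cP : Commute (A * B) P :=
    (cm hu p3 _ _ _ _ eu e3).mul_left (cm hv p3 _ _ _ _ ev e3)
  have cQ : Commute (A * B * P) Q :=
    ((cm hu p4 _ _ _ _ eu (et o)).mul_left (cm hv p4 _ _ _ _ ev (et o))).mul_left
      (cm p3 p4 _ _ _ _ e3 (et o))
  have cR : Commute (A * B * P * Q) R :=
    (((cm hu p5 _ _ _ _ eu (et _)).mul_left (cm hv p5 _ _ _ _ ev (et _))).mul_left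
      (cm p3 p5 _ _ _ _ e3 (et _))).mul_left (cm p4 p5 _ _ _ _ (et o) (et _))
  rw [dbl cR, dbl cQ, dbl cP, dbl cAB, heq hu hv, heq hu p3, heq hu p4, heq hu p5] at hZ
  have hE : A * A * (A * A) = 1 := h.two_values (by rw [map_mul, h.π_lift, ptv_mul_self])
  rwa [hE, one_mul, hE, one_mul] at hZ

theorem invol_aux : ∀ n : ℕ, ∀ g : ↥(Cfsg.SU 6 F 2), g * g = 1 → {z | act g z ≠ z}.ncard ≤ n →
    ∃ y : C, π y = QuotientGroup.mk g ∧ y * y = 1 ∧
      ∀ u, IsPt u → act g u = u → Commute y (h.lift hF u) := by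
  intro n
  induction n with
  | zero =>
    intro g hg hn
    have he : {z | act g z ≠ z} = ∅ := (Set.ncard_eq_zero (Set.toFinite _)).mp (Nat.le_zero.mp hn)
    have hg1 : g = 1 := act_ext fun z => by
      rw [act_one]
      by_contra hz
      have : z ∈ {z | act g z ≠ z} := hz
      rw [he] at this
      exact this
    subst hg1
    exact ⟨1, by rw [map_one]; rfl, one_mul 1, fun u _ _ => Commute.one_left _⟩
  | succ n ih =>
    intro g hg hn
    by_cases hg1 : g = 1
    · subst hg1
      exact ⟨1, by rw [map_one]; rfl, one_mul 1, fun u _ _ => Commute.one_left _⟩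
    obtain ⟨x, v, hvp, hxv, hvdef, hgv, hg', hx', hkeep⟩ := invol_step hF hg hg1
    set g' := g * tv hF v with hg'def
    have hlt : {z | act g' z ≠ z} ⊂ {z | act g z ≠ z} := by
      refine ⟨fun z hz hgz => hz (hkeep z hgz), fun hsub => ?_⟩
      have hgx : act g x ≠ x := fun e => hvp.1 (by rw [hvdef, e, vec_add_self hF])
      exact hsub hgx hx'
    have hlt' := Set.ncard_lt_ncard hlt (Set.toFinite _)
    obtain ⟨y, hy, hy2, hyc⟩ := ih g' hg' (by omega)
    have cyv : Commute y (h.lift hF v) := hyc v hvp (hkeep v hgv)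
    refine ⟨y * h.lift hF v, ?_, ?_, fun u hu hgu => ?_⟩
    · rw [map_mul, hy, h.π_lift, ptv, ← QuotientGroup.mk_mul, hg'def, mul_assoc, tv_mul_self, mul_one]
    · calc y * h.lift hF v * (y * h.lift hF v) = y * (h.lift hF v * y) * h.lift hF v := by group
        _ = y * (y * h.lift hF v) * h.lift hF v := by rw [cyv.eq]
        _ = (y * y) * (h.lift hF v * h.lift hF v) := by group
        _ = 1 := by rw [hy2, h.lift_sq hF hvp, one_mul]
    · refine (hyc u hu (hkeep u hgu)).mul_left (h.lift_commute hF hvp hu ?_)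
      rw [hvdef, invol_adjoint hF hg, hgu, vec_add_self hF, hb_zero_right]

/-- every involution lifts to an involution -/
theorem invol {e : Cfsg.PSU 6 F 2} (he : e * e = 1) : ∃ y : C, π y = e ∧ y * y = 1 := by
  obtain ⟨g, hg, rfl⟩ := exists_invol_lift hF he
  obtain ⟨y, hy, hy2, -⟩ := h.invol_aux hF _ g hg le_rfl
  exact ⟨y, hy, hy2⟩

end TwoExt

end Cfsg.Agent.H93
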