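import Cfsg.Agent.H93.Count22

/-!
Groups of type M(22): two common neighbours of a pair that do not commute share eighteen of the common
neighbours, among them three in general position; every such plane meets the neighbourhood of a member.
-/

set_option autoImplicit false

namespace Cfsg.Agent.H93

set_option maxRecDepth 8000 in
theorem qAdj_mu : ∀ i j : Fin 45, i ≠ j → qAdj i j = false →
    (Finset.univ.filter fun k => qAdj i k = true ∧ qAdj j k = true).card = 3 := by
  decide +kernel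

theorem Forty.mu {G : Type*} [Group G] {T : Set G} (h : Forty T) {p q : G} (hp : p ∈ T) (hq : q ∈ T)
    (hc : ¬ Commute p q) :
    {y ∈ T | (y ≠ p ∧ Commute p y) ∧ y ≠ q ∧ Commute q y}.ncard = 3 := by
  obtain ⟨e, he, rfl, ha⟩ := h
  obtain ⟨i, rfl⟩ := hp
  obtain ⟨k, rfl⟩ := hq
  have hne : i ≠ k := fun q => hc (q ▸ Commute.refl _)
  have hik : qAdj i k = false := by
    by_contra q
    exact hc ((ha i k).mpr (Bool.not_eq_false _ ▸ q)).2
  have : {y ∈ Set.range e | (y ≠ e i ∧ Commute (e i) y) ∧ y ≠ e k ∧ Commute (e k) y} =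
      e '' ↑(Finset.univ.filter fun j => qAdj i j = true ∧ qAdj k j = true) := by
    ext y
    constructor
    · rintro ⟨⟨j, rfl⟩, ⟨n1, c1⟩, n2, c2⟩
      exact ⟨j, by simpa using ⟨(ha i j).mp ⟨fun q => n1 (q ▸ rfl), c1⟩,
        (ha k j).mp ⟨fun q => n2 (q ▸ rfl), c2⟩⟩, rfl⟩
    · rintro ⟨j, hj, rfl⟩
      have hj' : qAdj i j = true ∧ qAdj k j = true := by simpa using hj
      obtain ⟨h1, c1⟩ := (ha i j).mpr hj'.1
      obtain ⟨h2, c2⟩ := (ha k j).mpr hj'.2
      exact ⟨⟨j, rfl⟩, ⟨fun q => h1 (he q).symm, c1⟩, fun q => h2 (he q).symm, c2⟩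
  rw [this, Set.ncard_image_of_injective _ he, Set.ncard_coe_finset, qAdj_mu i k hne hik]

namespace Geo22

variable {G : Type*} [Group G] {D : Set G} {K : Type*} [Field K] [Fintype K] (h : Geo22 D K)
  {a d z w : G} (ha : a ∈ D) (hd : d ∈ D) (hn : ¬ Commute a d)
  (hz : z ∈ common D a d) (hw : w ∈ common D a d) (hzw : ¬ Commute z w)

include h ha hd hn hz hw hzw

/-- every plane in the forty five points meets the neighbourhood of a far member -/
theorem nine_meets {p q o : G} (mp : p ∈ common D a d ∩ nb D z) (mq : q ∈ common D a d ∩ nb D z)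
    (mo : o ∈ common D a d ∩ nb D z) (npq : ¬ Commute p q) (nqo : ¬ Commute q o)
    (nop : ¬ Commute o p) (npqo : ¬ Commute (p * q * p) o) (Φ : G → Prop) (fp : Φ p) (fq : Φ q)
    (fo : Φ o) (hΦ : ∀ x y, Φ x → Φ y → Φ (x * y * x)) :
    ∃ y, Φ y ∧ y ∈ common D a d ∩ nb D z ∧ y ∈ nb D w := by
  have hK := h.hK
  have htt := h.core.tt
  set T := common D a d ∩ nb D z with hT
  obtain ⟨πa, hea, ⟨xa⟩⟩ := h.exists_space ha
  have inA : ∀ {y}, y ∈ T → y ∈ nb D a := fun hy => hy.1.1
  have closed : ∀ {x y}, x ∈ T → y ∈ T → x * y * x ∈ T := by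
    intro x y hx hy
    have key : ∀ {e}, x ∈ nb D e → y ∈ nb D e → x * y * x ∈ nb D e := by
      intro e hxe hye
      have := htt.nb_conj x hye
      rwa [htt.inv_eq hxe.1, show x * e * x = e by
        rw [hxe.2.2.symm.eq, mul_assoc, htt.sq x hxe.1, mul_one]] at this
    exact ⟨⟨key hx.1.1 hy.1.1, key hx.1.2 hy.1.2⟩, key hx.2 hy.2⟩
  obtain ⟨S, hS, hpS⟩ := xa.sp.surj p (inA mp)
  obtain ⟨T', hT', hpT, hTS⟩ := h.coords xa (inA mp) (inA mq) hS hpS npq
  obtain ⟨R, hR, hpR, hRT⟩ := h.coords xa (inA mq) (inA mo) hT' hpT nqo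
  have hST : hb S T' = 1 := by rw [hb_conj hK T' S, hTS, one_pow]
  have hTR : hb T' R = 1 := by rw [hb_conj hK R T', hRT, one_pow]
  have hc0 : hb R S ≠ 0 := fun e => nop (hpR ▸ hpS ▸ (xa.sp.comm hR hS).mpr e)
  have hc1 : hb R S ≠ 1 := fun e => npqo (by
    rw [← hpS, ← hpT, ← hpR, xa.sp.third hS hT']
    refine (xa.sp.comm (isPt_third hK hS hT') hR).mpr ?_
    rw [hb_add_left, hb_smul_left, hTS, hTR, one_mul, hb_conj hK R S, e, one_pow]
    exact add_self_zero hK 1)
  obtain ⟨Wv, hWv, hpW⟩ := xa.sp.surj w hw.1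
  let Q : Vec K → Prop := fun x => IsPt x ∧ xa.sp.pt x ∈ T ∧ Φ (xa.sp.pt x)
  have qS : Q S := ⟨hS, hpS.symm ▸ mp, hpS.symm ▸ fp⟩
  have qT : Q T' := ⟨hT', hpT.symm ▸ mq, hpT.symm ▸ fq⟩
  have qR : Q R := ⟨hR, hpR.symm ▸ mo, hpR.symm ▸ fo⟩
  have step : ∀ {x y : Vec K}, Q x → Q y → Q (y + hb y x • x) := fun hx hy =>
    ⟨isPt_third hK hx.1 hy.1, xa.sp.third hx.1 hy.1 ▸ closed hx.2.1 hy.2.1,
      xa.sp.third hx.1 hy.1 ▸ hΦ _ _ hx.2.2 hy.2.2⟩
  have done : ∀ {x : Vec K}, Q x → hb x Wv = 0 → ∃ y, Φ y ∧ y ∈ T ∧ y ∈ nb D w := by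
    intro x hx e
    refine ⟨_, hx.2.2, hx.2.1, hx.2.1.1.1.1, fun q => hzw ?_, ?_⟩
    · rw [← q]; exact hx.2.1.2.2.2
    · rw [← hpW]; exact ((xa.sp.comm hx.1 hWv).mpr e).symm
  have q4 : Q (T' + S) := by simpa [hTS] using step qS qT
  have q5 : Q (R + T') := by simpa [hRT] using step qT qR
  have q6 := step qS qR
  have q7 : Q (R + (1 + hb R S) • (S + T')) := by
    have := step (show Q (S + T') by rwa [add_comm]) qR
    rwa [hb_add_right hK, hRT, add_comm (hb R S)] at this
  have q8 : Q (R + T' + (1 + hb R S) • S) := by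
    have := step qS q5
    rwa [hb_add_left, hTS, add_comm (hb R S)] at this
  have q9 : Q (R + hb R S • S + (1 + hb R S) • T') := by
    have := step qT q6
    rwa [hb_add_left, hb_smul_left, hRT, hST, mul_one] at this
  rcases nine_zero' hK (x := hb S Wv) (y := hb T' Wv) (z := hb R Wv) hc0 hc1 with
    e | e | e | e | e | e | e | e | e
  · exact done qS e
  · exact done qT e
  · exact done qR e
  · exact done q4 (by rw [hb_add_left]; linear_combination e)
  · exact done q5 (by rw [hb_add_left]; linear_combination e)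
  · exact done q6 (by rw [hb_add_left, hb_smul_left]; linear_combination e)
  · exact done q7 (by rw [hb_add_left, hb_smul_left, hb_add_left]; linear_combination e)
  · exact done q8 (by rw [hb_add_left, hb_add_left, hb_smul_left]; linear_combination e)
  · exact done q9 (by rw [hb_add_left, hb_add_left, hb_smul_left, hb_smul_left]; linear_combination e)

/-- eighteen common neighbours commute with both -/
theorem card_between [Finite G] : (common D a d ∩ nb D z ∩ nb D w).ncard = 18 := by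
  classical
  haveI := Fintype.ofFinite G
  have htt := h.core.tt
  set T := common D a d ∩ nb D z with hT
  set Fz := {v | v ∈ common D a d ∧ ¬ Commute z v} with hFz
  let t : G → ℕ := fun v => (T.toFinset.filter fun y => y ∈ nb D v).card
  have teq : ∀ v ∈ Fz, t v = t w := by
    intro v hv
    obtain ⟨k, hk, e1, e2⟩ := h.conj_in_common ha hd hn hz hw hzw hz hv.1 hv.2
    rw [← h.cent_eq ha hd hn, Subgroup.mem_centralizer_iff] at hk
    have ka : k * a * k⁻¹ = a := mul_inv_eq_iff_eq_mul.mpr (hk a (by simp)).symm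
    have kd : k * d * k⁻¹ = d := mul_inv_eq_iff_eq_mul.mpr (hk d (by simp)).symm
    refine Finset.card_bij (fun y _ => k * y * k⁻¹) ?_ ?_ ?_
    · intro y hy
      simp only [Finset.mem_filter, Set.mem_toFinset] at hy ⊢
      refine ⟨⟨?_, ?_⟩, ?_⟩
      · simpa [ka, kd] using htt.common_conj k hy.1.1
      · simpa [e1] using htt.nb_conj k hy.1.2
      · simpa [e2] using htt.nb_conj k hy.2
    · intro y _ y' _ e; exact mul_left_cancel (mul_right_cancel e)
    · intro y hy
      simp only [Finset.mem_filter, Set.mem_toFinset] at hy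
      refine ⟨k⁻¹ * y * k, ?_, by group⟩
      have back : ∀ {p q : G}, k * p * k⁻¹ = q → k⁻¹ * q * k = p := fun e => by rw [← e]; group
      simp only [Finset.mem_filter, Set.mem_toFinset]
      refine ⟨⟨?_, ?_⟩, ?_⟩
      · simpa [back ka, back kd] using htt.common_conj k⁻¹ hy.1.1
      · simpa [back e1] using htt.nb_conj k⁻¹ hy.1.2
      · simpa [back e2] using htt.nb_conj k⁻¹ hy.2
  have row : ∀ y ∈ T.toFinset, (Fz.toFinset.filter fun v => y ∈ nb D v).card = 32 := by
    intro y hy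
    simp only [Set.mem_toFinset] at hy
    have hzy : z ∈ common D a d ∩ nb D y := ⟨hz, nb_symm hz.1.1 hy.2⟩
    have hTy := h.forty ha hd hn hy.1
    have hset : ((Fz.toFinset.filter fun v => y ∈ nb D v) : Set G) =
        (common D a d ∩ nb D y) \ insert z
          {v ∈ common D a d ∩ nb D y | v ≠ z ∧ Commute z v} := by
      ext v
      simp only [Finset.coe_filter, Set.mem_toFinset, Set.mem_ofPred_eq, Set.mem_sdiff,
        Set.mem_insert_iff, not_or, not_and]
      constructor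
      · rintro ⟨⟨hv, hzv⟩, hvy⟩
        exact ⟨⟨hv, nb_symm hv.1.1 hvy⟩, fun q => hzv (q ▸ Commute.refl z), fun _ _ => hzv⟩
      · rintro ⟨hv, hvz, himp⟩
        exact ⟨⟨hv.1, himp hv hvz⟩, nb_symm hy.1.1.1 hv.2⟩
    rw [← Set.ncard_coe_finset, hset, Set.ncard_sdiff, hTy.card,
      Set.ncard_insert_of_notMem (fun q => q.2.1 rfl), hTy.deg hzy]
    exact Set.insert_subset hzy fun v hv => hv.1
  have hsplit : common D a d = insert z (T ∪ Fz) := by
    ext y
    constructor
    · intro hy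
      by_cases e : y = z
      · exact Or.inl e
      right
      by_cases c : Commute z y
      · exact Or.inl ⟨hy, hy.1.1, e, c⟩
      · exact Or.inr ⟨hy, c⟩
    · rintro (rfl | hy | hy)
      exacts [hz, hy.1, hy.1]
  have hW : (common D a d).ncard = 46 + Fz.ncard := by
    conv_lhs => rw [hsplit]
    rw [Set.ncard_insert_of_notMem, Set.ncard_union_eq, (h.forty ha hd hn hz).card]
    · omega
    · rw [Set.disjoint_left]
      exact fun y hy hy' => hy'.2 hy.2.2.2
    · rintro (hy | hy)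
      exacts [hy.2.2.1 rfl, hy.2 (Commute.refl _)]
  rw [h.card_common ha hd hn] at hW
  have hsum := Finset.sum_card_bipartiteAbove_eq_sum_card_bipartiteBelow (s := T.toFinset)
    (t := Fz.toFinset) (fun y v => y ∈ nb D v)
  simp only [Finset.bipartiteAbove, Finset.bipartiteBelow] at hsum
  rw [Finset.sum_congr rfl row, Finset.sum_congr rfl (g := fun _ => t w)
    (fun v hv => teq v (Set.mem_toFinset.mp hv)), Finset.sum_const, Finset.sum_const,
    ← Set.ncard_eq_toFinset_card', ← Set.ncard_eq_toFinset_card', (h.forty ha hd hn hz).card,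
    smul_eq_mul, smul_eq_mul, show Fz.ncard = 80 by omega] at hsum
  have hS : (common D a d ∩ nb D z ∩ nb D w).ncard = t w := by
    show _ = (T.toFinset.filter fun y => y ∈ nb D w).card
    rw [← Set.ncard_coe_finset]
    congr 1
    ext y
    simp [T, and_assoc]
    exact fun q _ _ => q
  rw [hS]
  omega

/-- three of them are in general position -/
theorem triangle_far [Finite G] :
    ∃ p q o, p ∈ common D a d ∩ nb D z ∩ nb D w ∧ q ∈ common D a d ∩ nb D z ∩ nb D w ∧
      o ∈ common D a d ∩ nb D z ∩ nb D w ∧ ¬ Commute p q ∧ ¬ Commute q o ∧ ¬ Commute o p ∧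
      ¬ Commute (p * q * p) o := by
  classical
  have htt := h.core.tt
  set S := common D a d ∩ nb D z ∩ nb D w with hS
  have h18 : S.ncard = 18 := h.card_between ha hd hn hz hw hzw
  have closed : ∀ {x y}, x ∈ S → y ∈ S → x * y * x ∈ S := by
    intro x y hx hy
    have key : ∀ {e}, x ∈ nb D e → y ∈ nb D e → x * y * x ∈ nb D e := by
      intro e hxe hye
      have := htt.nb_conj x hye
      rwa [htt.inv_eq hxe.1, show x * e * x = e by
        rw [hxe.2.2.symm.eq, mul_assoc, htt.sq x hxe.1, mul_one]] at this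
    exact ⟨⟨⟨key hx.1.1.1 hy.1.1.1, key hx.1.1.2 hy.1.1.2⟩, key hx.1.2 hy.1.2⟩, key hx.2 hy.2⟩
  have hdeg : ∀ x ∈ S, {y ∈ S | y ≠ x ∧ Commute x y}.ncard ≤ 3 := by
    intro x hx
    refine (Set.ncard_le_ncard ?_ (Set.toFinite _)).trans (le_of_eq ((h.forty ha hd hn hx.1.1).mu
      ⟨hz, nb_symm hz.1.1 hx.1.2⟩ ⟨hw, nb_symm hw.1.1 hx.2⟩ hzw))
    intro y hy
    exact ⟨⟨hy.1.1.1, hy.1.1.1.1.1, hy.2.1, hy.2.2⟩, ⟨hy.1.1.2.2.1, hy.1.1.2.2.2⟩, hy.1.2.2.1, hy.1.2.2.2⟩
  obtain ⟨p, hp⟩ : S.Nonempty := Set.nonempty_of_ncard_ne_zero (by omega)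
  obtain ⟨q, hq, hpq⟩ : ∃ q ∈ S, ¬ Commute p q := by
    by_contra hall
    simp only [not_exists, not_and, not_not] at hall
    have hle : S ⊆ insert p {y ∈ S | y ≠ p ∧ Commute p y} := fun y hy => by
      by_cases e : y = p
      · exact Or.inl e
      · exact Or.inr ⟨hy, e, hall y hy⟩
    have := (Set.ncard_le_ncard hle (Set.toFinite _)).trans (Set.ncard_insert_le _ _)
    have := hdeg p hp
    omega
  have hr := closed hp hq
  set r := p * q * p with hrdef
  set N : G → Set G := fun x => insert x {y ∈ S | y ≠ x ∧ Commute x y}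
  obtain ⟨o, ho, hno⟩ : ∃ o ∈ S, o ∉ N p ∪ (N q ∪ N r) := by
    by_contra hall
    simp only [not_exists, not_and, not_not] at hall
    have h4 : ∀ x ∈ S, (N x).ncard ≤ 4 := fun x hx =>
      (Set.ncard_insert_le _ _).trans (Nat.succ_le_succ (hdeg x hx))
    have := (Set.ncard_le_ncard (t := N p ∪ (N q ∪ N r)) (fun y hy => hall y hy)
      (Set.toFinite _)).trans ((Set.ncard_union_le _ _).trans
        (add_le_add (h4 p hp) ((Set.ncard_union_le _ _).trans (add_le_add (h4 q hq) (h4 r hr)))))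
    omega
  have out : ∀ {x : G}, o ∉ N x → ¬ Commute x o := fun {x} hox c => by
    by_cases e : o = x
    · exact hox (Or.inl e)
    · exact hox (Or.inr ⟨ho, e, c⟩)
  simp only [Set.mem_union, not_or] at hno
  exact ⟨p, q, o, hp, hq, ho, hpq, out hno.2.1, fun c => out hno.1 c.symm, out hno.2.2⟩

end Geo22

end Cfsg.Agent.H93
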