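import Cfsg.Agent.H93.Far23
import Cfsg.Agent.H93.Line22

/-!
Groups of type M(23): the residues are groups of type M(22), so configurations of members are moved and
compared there; two common neighbours of a pair that do not commute have a third one commuting with both.
-/

set_option autoImplicit false

namespace Cfsg.Agent.H93

variable {G : Type*} [Group G] {D : Set G}

/-- what is used about groups of type M(23) -/
structure Geo23 (D : Set G) : Prop where
  core : Core D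
  cen : ∀ k : G, (∀ t ∈ D, Commute k t) → k = 1
  cent : ∀ a ∈ D, Subgroup.centralizer ({a} : Set G) = nbSub D a
  self : ∀ a ∈ D, a ∈ nbSub D a
  two : ∀ a ∈ D, ∀ k : ↥(nbSub D a), k ∈ Subgroup.center ↥(nbSub D a) → (k : G) = 1 ∨ (k : G) = a
  res : ∀ a ∈ D, ∃ (K : Type) (_ : Field K) (_ : Fintype K), Geo22 (resSet D a) K
  far : ∀ a ∈ D, ∀ d ∈ D, ¬ Commute a d → ∃ z, z ∈ common D a d
  link : ∀ a ∈ D, ∀ d ∈ D, ¬ Commute a d → ∀ z ∈ common D a d, ∀ w ∈ common D a d,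
    Relation.ReflTransGen (fun p q => q ∈ common D a d ∧ Commute p q) z w

theorem geo23 [Finite G] (hD : Cfsg.IsThreeTranspositionClass D) (h23 : Cfsg.IsOfTypeM23 G D) :
    Geo23 D := by
  have h := m23data hD h23
  refine ⟨h.core, fun k hk => h.eq_one hk, fun a ha => h.cent ha, fun a ha => h.self_mem ha,
    fun a ha k hk => h.center_two ha k.2 ((QuotientGroup.eq_one_iff _).mpr hk), fun a ha => ?_,
    fun a ha d hd hn => h.coverData.far_nonempty ha hd hn, fun a ha d hd hn z hz w hw => ?_⟩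
  · obtain ⟨F, iF, iFF, hM, hcent, K, iK, iKF, hK, hext⟩ := h.res a ha
    have hcov := hM.coverData fun x hx z _ g _ hgx => by
      rw [← hcent x hx]; exact mem_cent hgx.symm
    exact ⟨K, iK, iKF, hK, hM.core, fun k hk => hM.eq_one hk, hcent, hext,
      fun x hx y hy hn => hcov.far_nonempty hx hy hn⟩
  · obtain ⟨z', hz', hzw, hreach⟩ := h.coverData.far a ha d hd hn z hz w hw.2
    exact hreach.tail ⟨hw, hzw⟩

namespace Geo23

variable (h : Geo23 D)

include h

/-- common neighbours in a residue -/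
theorem res_common {z y y' x : G} (hz : z ∈ D) (hy : y ∈ nb D z) (hy' : y' ∈ nb D z)
    (hx : x ∈ nb D z) :
    rimg D z x ∈ common (resSet D z) (rimg D z y) (rimg D z y') ↔ x ∈ common D y y' := by
  have key : ∀ {y}, y ∈ nb D z → (rimg D z x ∈ nb (resSet D z) (rimg D z y) ↔ x ∈ nb D y) := by
    intro y hy
    exact ⟨fun q => ⟨hx.1, fun e => q.2.1 (by rw [e]), (h.core.rimg_comm hy hx).mp q.2.2⟩,
      fun q => h.core.rimg_nb hz hy ⟨hx, q⟩⟩
  exact and_congr (key hy) (key hy')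

/-- a configuration in a residue -/
theorem res_common_surj {z y y' : G} (hz : z ∈ D) (hy : y ∈ nb D z) (hy' : y' ∈ nb D z)
    {e : Residue D z} (he : e ∈ common (resSet D z) (rimg D z y) (rimg D z y')) :
    ∃ x ∈ common D y y' ∩ nb D z, rimg D z x = e := by
  obtain ⟨x, hx, rfl⟩ := rimg_surj he.1.1
  exact ⟨x, ⟨(h.res_common hz hy hy' hx).mp he, hx⟩, rfl⟩

omit h in
/-- conjugation commutes with taking images -/
theorem rimg_conj (htt : TT D) {z k y : G} (hz : z ∈ D) (hk : k ∈ nbSub D z) (hy : y ∈ nb D z) :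
    k * y * k⁻¹ ∈ nb D z ∧
      rimg D z (k * y * k⁻¹) = (QuotientGroup.mk (⟨k, hk⟩ : ↥(nbSub D z)) : Residue D z) *
        rimg D z y * (QuotientGroup.mk (⟨k, hk⟩ : ↥(nbSub D z)) : Residue D z)⁻¹ := by
  have hm := htt.nbSub_conj_nb hz hk hy
  refine ⟨hm, ?_⟩
  rw [rimg_eq hm, rimg_eq hy, ← QuotientGroup.mk_inv, ← QuotientGroup.mk_mul, ← QuotientGroup.mk_mul]
  rfl

/-- an element of a residue as an element of the group -/
theorem res_lift {z : G} (hz : z ∈ D) (γ : Residue D z) :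
    ∃ k : G, Commute k z ∧ ∀ {y y'}, y ∈ nb D z → y' ∈ nb D z →
      γ * rimg D z y * γ⁻¹ = rimg D z y' → k * y * k⁻¹ = y' := by
  obtain ⟨⟨k, hk⟩, rfl⟩ := QuotientGroup.mk_surjective γ
  refine ⟨k, (nbSub_commute hk).symm, fun {y y'} hy hy' e => ?_⟩
  obtain ⟨hm, e'⟩ := rimg_conj h.core.tt hz hk hy
  exact (h.core.rimg_inj hz hm hy').mp (e'.trans e)

/-- the centraliser of a member is transitive on its neighbours -/
theorem conj_nb {a z z' : G} (ha : a ∈ D) (hz : z ∈ nb D a) (hz' : z' ∈ nb D a) :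
    ∃ k : G, Commute k a ∧ k * z' * k⁻¹ = z := by
  obtain ⟨K, iK, iKF, h22⟩ := h.res a ha
  obtain ⟨γ, e⟩ := isConj_iff.mp (h22.core.cls _ (rimg_mem hz') _ (rimg_mem hz))
  obtain ⟨k, c, hk⟩ := h.res_lift ha γ
  exact ⟨k, c, hk hz' hz e⟩

/-- the centraliser of two commuting members is transitive on the far members in the residue -/
theorem residue_far {a d d' z : G} (ha : a ∈ D) (hz : z ∈ nb D a) (hd : d ∈ nb D z)
    (hd' : d' ∈ nb D z) (hn : ¬ Commute a d) (hn' : ¬ Commute a d') :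
    ∃ k : G, Commute k a ∧ Commute k z ∧ k * d' * k⁻¹ = d := by
  have haz := nb_symm ha hz
  obtain ⟨K, iK, iKF, h22⟩ := h.res z hz.1
  obtain ⟨γ, c, e⟩ := h22.conj_far (rimg_mem haz) (rimg_mem hd) (rimg_mem hd')
    (fun q => hn ((h.core.rimg_comm haz hd).mp q)) (fun q => hn' ((h.core.rimg_comm haz hd').mp q))
  obtain ⟨k, ck, hk⟩ := h.res_lift hz.1 γ
  exact ⟨k, mul_inv_eq_iff_eq_mul.mp (hk haz haz (mul_inv_eq_iff_eq_mul.mpr c.eq)), ck,
    hk hd' hd e⟩

/-- the centraliser of a member is transitive on the members it does not commute with -/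
theorem conj_far {a d d' : G} (ha : a ∈ D) (hd : d ∈ D) (hd' : d' ∈ D) (hn : ¬ Commute a d)
    (hn' : ¬ Commute a d') : ∃ k : G, Commute k a ∧ k * d' * k⁻¹ = d := by
  obtain ⟨z, hz⟩ := h.far a ha d hd hn
  obtain ⟨z', hz'⟩ := h.far a ha d' hd' hn'
  obtain ⟨k1, c1, e1⟩ := h.conj_nb ha hz.1 hz'.1
  have hd1 : k1 * d' * k1⁻¹ ∈ nb D z := by
    have := h.core.tt.nb_conj k1 (nb_symm hd' hz'.2)
    rwa [e1] at this
  have hn1 : ¬ Commute a (k1 * d' * k1⁻¹) := fun q => hn' (by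
    rw [← mul_inv_eq_iff_eq_mul.mpr c1.eq, commute_conj] at q; exact q)
  obtain ⟨k2, c2, -, e2⟩ := h.residue_far ha hz.1 (nb_symm hd hz.2) hd1 hn hn1
  refine ⟨k2 * k1, c2.mul_left c1, ?_⟩
  rw [show k2 * k1 * d' * (k2 * k1)⁻¹ = k2 * (k1 * d' * k1⁻¹) * k2⁻¹ by group, e2]

/-- the centraliser of a pair is transitive on the common neighbours -/
theorem conj_common {a d z z' : G} (ha : a ∈ D) (hd : d ∈ D) (hn : ¬ Commute a d)
    (hz : z ∈ common D a d) (hz' : z' ∈ common D a d) :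
    ∃ k : G, Commute k a ∧ Commute k d ∧ k * z' * k⁻¹ = z := by
  obtain ⟨k1, c1, e1⟩ := h.conj_nb ha hz.1 hz'.1
  have hd1 : k1 * d * k1⁻¹ ∈ nb D z := by
    have := h.core.tt.nb_conj k1 (nb_symm hd hz'.2)
    rwa [e1] at this
  have hn1 : ¬ Commute a (k1 * d * k1⁻¹) := fun q => hn (by
    rw [← mul_inv_eq_iff_eq_mul.mpr c1.eq, commute_conj] at q; exact q)
  obtain ⟨k2, c2, cz, e2⟩ := h.residue_far ha hz.1 (nb_symm hd hz.2) hd1 hn hn1
  refine ⟨k2 * k1, c2.mul_left c1, mul_inv_eq_iff_eq_mul.mp ?_, ?_⟩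
  · rw [show k2 * k1 * d * (k2 * k1)⁻¹ = k2 * (k1 * d * k1⁻¹) * k2⁻¹ by group, e2]
  · rw [show k2 * k1 * z' * (k2 * k1)⁻¹ = k2 * (k1 * z' * k1⁻¹) * k2⁻¹ by group, e1]
    exact mul_inv_eq_iff_eq_mul.mpr cz.eq

variable [Finite G] {a d : G} (ha : a ∈ D) (hd : d ∈ D) (hn : ¬ Commute a d)

include ha hd hn

/-- a path of three steps between common neighbours has a short cut -/
theorem common_step {z y y' w : G} (hz : z ∈ common D a d) (hy : y ∈ common D a d ∩ nb D z)
    (hy' : y' ∈ common D a d ∩ nb D y) (hzy' : ¬ Commute z y') (hw : w ∈ common D a d ∩ nb D y')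
    (hzw : ¬ Commute z w) : ∃ x, x ∈ common D a d ∩ nb D z ∧ x ∈ nb D w := by
  by_cases hyw : Commute y w
  · exact ⟨y, hy, hy.1.1.1, fun e => hzw (e ▸ hy.2.2.2), hyw.symm⟩
  have htt := h.core.tt
  -- three in general position in the residue at `y`
  have yD := hy.1.1.1
  have az := nb_symm ha hy.1.1
  have dz := nb_symm hd hy.1.2
  have zy := nb_symm hz.1.1 hy.2
  obtain ⟨K, iK, iKF, hy22⟩ := h.res y yD
  obtain ⟨p', q', o', hp, hq, ho, npq, nqo, nop, npqo⟩ := hy22.triangle_far (rimg_mem az)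
    (rimg_mem dz) (fun q => hn ((h.core.rimg_comm az dz).mp q))
    ((h.res_common yD az dz zy).mpr hz) ((h.res_common yD az dz hy'.2).mpr hy'.1)
    (fun q => hzy' ((h.core.rimg_comm zy hy'.2).mp q))
  obtain ⟨p, hp1, rfl⟩ := h.res_common_surj yD az dz hp.1.1
  obtain ⟨q, hq1, rfl⟩ := h.res_common_surj yD az dz hq.1.1
  obtain ⟨o, ho1, rfl⟩ := h.res_common_surj yD az dz ho.1.1
  have pull : ∀ {x v}, x ∈ common D a d ∩ nb D y → v ∈ nb D y →
      rimg D y x ∈ nb (resSet D y) (rimg D y v) → x ∈ nb D v := fun hx hv hxv =>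
    ⟨hx.1.1.1, fun e => hxv.2.1 (by rw [e]), (h.core.rimg_comm hv hx.2).mp hxv.2.2⟩
  have pz := pull hp1 zy hp.1.2
  have qz := pull hq1 zy hq.1.2
  have oz := pull ho1 zy ho.1.2
  have py := pull hp1 hy'.2 hp.2
  have qy := pull hq1 hy'.2 hq.2
  have oy := pull ho1 hy'.2 ho.2
  have npq' : ¬ Commute p q := fun c => npq ((h.core.rimg_comm hp1.2 hq1.2).mpr c)
  have nqo' : ¬ Commute q o := fun c => nqo ((h.core.rimg_comm hq1.2 ho1.2).mpr c)
  have nop' : ¬ Commute o p := fun c => nop ((h.core.rimg_comm ho1.2 hp1.2).mpr c)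
  have hmul : ∀ {v x x'}, v ∈ D → x ∈ nb D v → x' ∈ nb D v →
      x * x' * x ∈ nb D v ∧ rimg D v (x * x' * x) = rimg D v x * rimg D v x' * rimg D v x := by
    intro v x x' hv hx hx'
    obtain ⟨hm, e⟩ := rimg_conj htt hv (Subgroup.subset_closure hx) hx'
    have ei := (tt_resSet htt hv).inv_eq (rimg_mem hx)
    rw [htt.inv_eq hx.1] at hm e
    refine ⟨hm, ?_⟩
    rw [e]
    rw [rimg_eq hx] at ei ⊢
    exact congrArg _ ei
  have npqo' : ¬ Commute (p * q * p) o := fun c => npqo (by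
    obtain ⟨hm, e⟩ := hmul yD hp1.2 hq1.2
    rw [← e]
    exact (h.core.rimg_comm hm ho1.2).mpr c)
  -- read them in the residue at `y'`
  have yD' := hy'.1.1.1
  have az' := nb_symm ha hy'.1.1
  have dz' := nb_symm hd hy'.1.2
  have yy' := nb_symm yD hy'.2
  obtain ⟨K', iK', iKF', h22'⟩ := h.res y' yD'
  have into : ∀ {x}, x ∈ common D a d ∩ nb D y → x ∈ nb D y' →
      rimg D y' x ∈ common (resSet D y') (rimg D y' a) (rimg D y' d) ∩
        nb (resSet D y') (rimg D y' y) := fun hx hxy =>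
    ⟨(h.res_common yD' az' dz' hxy).mpr hx.1, h.core.rimg_nb yD' yy' ⟨hxy, hx.2⟩⟩
  obtain ⟨hm, e⟩ := hmul yD' py qy
  obtain ⟨x', ⟨x, hx, rfl, hxz⟩, ⟨hxc, hxy⟩, hxw⟩ := h22'.nine_meets (rimg_mem az') (rimg_mem dz')
    (fun q => hn ((h.core.rimg_comm az' dz').mp q))
    ((h.res_common yD' az' dz' yy').mpr hy.1) ((h.res_common yD' az' dz' hw.2).mpr hw.1)
    (fun q => hyw ((h.core.rimg_comm yy' hw.2).mp q))
    (into hp1 py) (into hq1 qy) (into ho1 oy)
    (fun c => npq' ((h.core.rimg_comm py qy).mp c))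
    (fun c => nqo' ((h.core.rimg_comm qy oy).mp c))
    (fun c => nop' ((h.core.rimg_comm oy py).mp c))
    (fun c => npqo' ((h.core.rimg_comm hm oy).mp (e ▸ c)))
    (fun x' => ∃ x, x ∈ nb D y' ∧ rimg D y' x = x' ∧ Commute x z)
    ⟨p, py, rfl, pz.2.2.symm⟩ ⟨q, qy, rfl, qz.2.2.symm⟩ ⟨o, oy, rfl, oz.2.2.symm⟩
    (by
      rintro _ _ ⟨x, hx, rfl, cx⟩ ⟨x', hx', rfl, cx'⟩
      obtain ⟨hm, e⟩ := hmul yD' hx hx'
      exact ⟨_, hm, e, (cx.mul_left cx').mul_left cx⟩)
  exact ⟨x, ⟨(h.res_common yD' az' dz' hx).mp hxc, hx.1, fun q => hzy' (q ▸ hx.2.2.symm), hxz.symm⟩,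
    hx.1, fun q => hxw.2.1 (by rw [q]), (h.core.rimg_comm hw.2 hx).mp hxw.2.2⟩

/-- two common neighbours that do not commute have a common neighbour among them -/
theorem common_far {z w : G} (hz : z ∈ common D a d) (hw : w ∈ common D a d) (hzw : ¬ Commute z w) :
    ∃ y, y ∈ common D a d ∩ nb D z ∧ y ∈ nb D w := by
  have key : ∀ v, Relation.ReflTransGen (fun p q => q ∈ common D a d ∧ Commute p q) z v →
      Commute z v ∨ ∃ y, y ∈ common D a d ∩ nb D z ∧ y ∈ nb D v := by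
    intro v hv
    induction hv with
    | refl => exact Or.inl (Commute.refl z)
    | @tail u v hu huv ih =>
      by_cases hzv : Commute z v
      · exact Or.inl hzv
      refine Or.inr ?_
      have huC : u ∈ common D a d := by
        cases hu with
        | refl => exact hz
        | tail _ q => exact q.1
      by_cases e : v = u
      · exact e ▸ ih.resolve_left (e ▸ hzv)
      have hvu : v ∈ common D a d ∩ nb D u := ⟨huv.1, huv.1.1.1, e, huv.2⟩
      by_cases hzu : Commute z u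
      · exact ⟨u, ⟨huC, huC.1.1, fun q => hzv (q ▸ huv.2), hzu⟩, huC.1.1, fun q => hzv (q ▸ hzu),
          huv.2.symm⟩
      obtain ⟨y, hy, hyu⟩ := ih.resolve_left hzu
      exact h.common_step ha hd hn hz hy ⟨huC, nb_symm huC.1.1 hyu⟩ hzu hvu hzv
  exact (key w (h.link a ha d hd hn z hz w hw)).resolve_left hzw

end Geo23

end Cfsg.Agent.H93
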