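import Cfsg.Agent.H93.Stab6

/-!
The stabiliser of a hyperbolic pair in `SU 6 F 2` is generated by the transvections of the vectors
orthogonal to both.
-/

set_option autoImplicit false

namespace Cfsg.Agent.H93

open Cfsg.Agent.Unitary (perp fixer Nondeg mem_fixer nondeg_pair nondeg_top nondeg_perp
  inf_perp_nondeg inf_perp_finrank span_pair_le exists_partner exists_iso_pair exists_isotropic
  exists_add_isotropic exists_herm_eq_mem ap_mem_of_fixer sub_pair_mem_perp det_hyperbolic
  perp_span mem_perp finrank_perp_add finrank_pair)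

variable {F : Type*} [Field F] [Fintype F] (hF : Fintype.card F = 4)

include hF

/-- the stabiliser of a hyperbolic pair -/
theorem stab_pair {P f : Vec F} (hP : IsPt P) (hf : hb f f = 0) (hfP' : hb f P = 1)
    {g : ↥(Cfsg.SU 6 F 2)} (gP : act g P = P) (gf : act g f = f) :
    g ∈ TS hF {z | hb z P = 0 ∧ hb z f = 0} := by
  have hF' := card_eq_sq hF
  have hPf : hb P f = 1 := by rw [hb_conj hF f P, hfP', one_pow]
  have hne : Cfsg.hermForm 6 F 2 P f ≠ 0 := by
    rw [show Cfsg.hermForm 6 F 2 P f = 1 from hPf]; exact one_ne_zero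
  set Pl := Submodule.span F ({P, f} : Set (Vec F)) with hPl
  have hPnd : Nondeg 2 Pl := nondeg_pair hF' hP.2 hf hne
  set W := perp 2 (Pl : Set (Vec F)) with hWdef
  have hWnd : Nondeg 2 W := nondeg_perp hF' hPnd
  have hW4 : Module.finrank F W = 4 := by
    have h1 := finrank_perp_add hF' hPnd
    rw [finrank_pair (indep_pair hP.1 (fun ⟨c, hc⟩ => by
      rw [hc, hb_smul_left, hP.2, mul_zero] at hfP'; exact zero_ne_one hfP'))] at h1
    have h1' : 2 + Module.finrank F ↥W = 6 := h1
    omega
  have hWP : ∀ {x}, x ∈ W → hb x P = 0 ∧ hb x f = 0 := fun hx =>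
    ⟨hx P (Submodule.subset_span (Or.inl rfl)), hx f (Submodule.subset_span (Or.inr rfl))⟩
  have hWsub : (W : Set (Vec F)) ⊆ {z | hb z P = 0 ∧ hb z f = 0} := fun z hz => hWP hz
  have inW : ∀ {x}, hb x P = 0 → hb x f = 0 → x ∈ W := fun h1 h2 => by
    rw [hWdef, perp_span hF', mem_pair_perp hF]; exact ⟨h1, h2⟩
  obtain ⟨e, heW, he0, he⟩ := exists_isotropic hF' hWnd (le_of_le_of_eq (by norm_num) hW4.symm)
  obtain ⟨e', he'W, he', he'e⟩ := exists_partner hF' hWnd heW he0 he
  change hb e e = 0 at he
  change hb e' e' = 0 at he'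
  have hgW : ∀ {x}, x ∈ W → act g x ∈ W := fun {x} hx => by
    obtain ⟨h1, h2⟩ := hWP hx
    exact inW (by have := act_hb g x P; rw [gP] at this; exact this.trans h1)
      (by have := act_hb g x f; rw [gf] at this; exact this.trans h2)
  have fixW : ∀ {t}, t ∈ TS hF (W : Set (Vec F)) → act t P = P ∧ act t f = f := fun ht =>
    ⟨TS_fix hF (fun z hz => (hb_eq_zero_comm hF).mp (hWP hz).1) ht,
      TS_fix hF (fun z hz => (hb_eq_zero_comm hF).mp (hWP hz).2) ht⟩
  obtain ⟨t1, ht1, e1⟩ := move_iso hF hWnd (le_of_le_of_eq (by norm_num) hW4.symm) (hgW heW) heW ((act_hb g e e).trans he) he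
    (fun q => he0 (act_eq_zero q)) he0
  rw [← Subgroup.mul_mem_cancel_left _ (TS_mono hF hWsub ht1)]
  have gP' : act (t1 * g) P = P := by rw [act_mul, gP, (fixW ht1).1]
  have gf' : act (t1 * g) f = f := by rw [act_mul, gf, (fixW ht1).2]
  have ge : act (t1 * g) e = e := by rw [act_mul, e1]
  clear gP gf hgW
  generalize t1 * g = g at gP' gf' ge ⊢
  clear e1 ht1 t1
  have hgW : ∀ {x}, x ∈ W → act g x ∈ W := fun {x} hx => by
    obtain ⟨h1, h2⟩ := hWP hx
    exact inW (by have := act_hb g x P; rw [gP'] at this; exact this.trans h1)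
      (by have := act_hb g x f; rw [gf'] at this; exact this.trans h2)
  have he'e' : hb e' e = 1 := he'e
  obtain ⟨t2, ht2, e2⟩ := move_partner hF hWnd heW he'W (hgW he'W) he he'
    ((act_hb g e' e').trans he') he'e'
    (by have := act_hb g e' e; rw [ge] at this; exact this.trans he'e') hW4.symm.le
  have ht2W : t2 ∈ TS hF (W : Set (Vec F)) := TS_mono hF (fun z hz => hz.1) ht2
  rw [← Subgroup.mul_mem_cancel_left _ (TS_mono hF hWsub ht2W)]
  have ge' : act (t2 * g) e = e := by
    rw [act_mul, ge, TS_fix hF (fun z hz => (hb_eq_zero_comm hF).mp hz.2) ht2]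
  have gf1 : act (t2 * g) e' = e' := by rw [act_mul, e2]
  have gP : act (t2 * g) P = P := by rw [act_mul, gP', (fixW ht2W).1]
  have gf : act (t2 * g) f = f := by rw [act_mul, gf', (fixW ht2W).2]
  clear gP' gf' ge hgW
  generalize t2 * g = g at gP gf ge' gf1 ⊢
  clear e2 ht2 ht2W t2
  -- the remaining plane
  have hee' : hb e e' = 1 := by rw [hb_conj hF e' e, he'e', one_pow]
  have hne2 : Cfsg.hermForm 6 F 2 e e' ≠ 0 := by
    rw [show Cfsg.hermForm 6 F 2 e e' = 1 from hee']; exact one_ne_zero
  set Q := Submodule.span F ({e, e'} : Set (Vec F)) with hQ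
  have hQnd : Nondeg 2 Q := nondeg_pair hF' he he' hne2
  have hQW : Q ≤ W := span_pair_le heW he'W
  set U := W ⊓ perp 2 (Q : Set (Vec F)) with hU
  have hUnd : Nondeg 2 U := inf_perp_nondeg hF' hWnd hQnd hQW
  have hU2 : Module.finrank F U = 2 := by
    have h1 := inf_perp_finrank hF' hQnd hQW
    rw [finrank_pair (indep_pair he0 (fun ⟨c, hc⟩ => by
      rw [hc, hb_smul_left, he, mul_zero] at he'e'; exact zero_ne_one he'e'))] at h1
    have h1' : 2 + Module.finrank F ↥U = 4 := h1.trans hW4
    omega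
  obtain ⟨u, huU, hu0, hu⟩ := exists_isotropic hF' hUnd hU2.symm.le
  obtain ⟨v, hvU, hv, hvu⟩ := exists_partner hF' hUnd huU hu0 hu
  change hb u u = 0 at hu
  change hb v v = 0 at hv
  have hvu' : hb v u = 1 := hvu
  have hspan : Submodule.span F ({u, v} : Set (Vec F)) = U :=
    Submodule.eq_of_le_of_finrank_le (span_pair_le huU hvU) (by
      rw [finrank_pair (indep_pair hu0 (fun ⟨c, hc⟩ => by
        rw [hc, hb_smul_left, hu, mul_zero] at hvu'; exact zero_ne_one hvu'))]; exact hU2.le)
  have hUQ : ∀ {y}, y ∈ U → hb y e = 0 ∧ hb y e' = 0 := fun hy =>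
    ⟨hy.2 e (Submodule.subset_span (Or.inl rfl)), hy.2 e' (Submodule.subset_span (Or.inr rfl))⟩
  have hfix : g ∈ fixer 6 F 2 (perp 2 ({u, v} : Set (Vec F))) := by
    rw [mem_fixer]
    intro x hx
    show act g x = x
    rw [SetLike.mem_coe, ← perp_span hF', hspan] at hx
    set x1 := x + hb x f • P + hb x P • f with hx1
    set x2 := x1 + hb x1 e' • e + hb x1 e • e' with hx2
    have h0 := add_self_zero hF (hb x P)
    have h1W : x1 ∈ W := by
      refine inW ?_ ?_
      · simp only [hx1, hb_add_left, hb_smul_left, hP.2, hfP', mul_zero, mul_one, add_zero]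
        exact h0
      · simp only [hx1, hb_add_left, hb_smul_left, hf, hPf, mul_zero, mul_one, add_zero]
        exact add_self_zero hF _
    have h2U : x2 ∈ U := by
      refine ⟨W.add_mem (W.add_mem h1W (W.smul_mem _ heW)) (W.smul_mem _ he'W), ?_⟩
      rw [SetLike.mem_coe, hQ, perp_span hF', mem_pair_perp hF]
      constructor
      · simp only [hx2, hb_add_left (x1 + _), hb_add_left x1, hb_smul_left, he, he'e', mul_zero,
          mul_one, add_zero]
        exact add_self_zero hF _
      · simp only [hx2, hb_add_left (x1 + _), hb_add_left x1, hb_smul_left, he', hee', mul_zero,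
          mul_one, add_zero]
        exact add_self_zero hF _
    have hz : x2 = 0 := hUnd x2 h2U fun y hy => by
      show hb x2 y = 0
      obtain ⟨a1, a2⟩ := hWP hy.1
      obtain ⟨b1, b2⟩ := hUQ hy
      have z := fun {s t : Vec F} (q : hb s t = 0) => (hb_eq_zero_comm hF).mp q
      simp only [hx2, hx1, hb_add_left, hb_smul_left, z a1, z a2, z b1, z b2, mul_zero, add_zero]
      exact hx y hy
    have e3 : x1 + hb x1 e' • e = hb x1 e • e' := vec_eq_of_add hF hz
    have e4 : x1 = hb x1 e • e' + hb x1 e' • e := by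
      rw [← e3, add_assoc, vec_add_self hF, add_zero]
    have f1 : act g x1 = x1 := by
      rw [e4, act_add, act_smul, act_smul, gf1, ge']
    have e5 : x = x1 + (hb x f • P + hb x P • f) := by
      rw [hx1, show x + hb x f • P + hb x P • f + (hb x f • P + hb x P • f) =
        x + ((hb x f • P + hb x P • f) + (hb x f • P + hb x P • f)) by abel, vec_add_self hF,
        add_zero]
    clear_value x1
    calc act g x = act g (x1 + (hb x f • P + hb x P • f)) := congrArg (act g) e5
      _ = x1 + (hb x f • P + hb x P • f) := by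
          rw [act_add g x1, act_add g (hb x f • P), act_smul, act_smul, gP, gf, f1]
      _ = x := e5.symm
  have := plane_mem_TS hF hu hv hvu' hfix
  rw [hspan] at this
  exact TS_mono hF (fun z hz => hWsub hz.1) this

end Cfsg.Agent.H93
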