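import Cfsg.Agent.H93.U6Grp
import Cfsg.Agent.Unitary.Generation

/-!
The stabiliser of an isotropic point in `PSU 6 F 2` is generated by the transvections of the vectors
orthogonal to it.
-/

set_option autoImplicit false

namespace Cfsg.Agent.H93

open Cfsg.Agent.Unitary (perp fixer Nondeg mem_fixer nondeg_pair nondeg_top nondeg_perp
  inf_perp_nondeg inf_perp_finrank span_pair_le exists_partner exists_iso_pair exists_isotropic
  exists_add_isotropic exists_herm_eq_mem ap_mem_of_fixer sub_pair_mem_perp det_hyperbolic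
  perp_span mem_perp finrank_perp_add finrank_pair)

variable {F : Type*} [Field F] [Fintype F] (hF : Fintype.card F = 4)

include hF

theorem card_eq_sq : Fintype.card F = 2 ^ 2 := by rw [hF]; norm_num

/-- the subgroup generated by the transvections of the points in a set of vectors -/
noncomputable def TS (S : Set (Vec F)) : Subgroup ↥(Cfsg.SU 6 F 2) :=
  Subgroup.closure ((fun v => tv hF v) '' {v | IsPt v ∧ v ∈ S})

theorem TS_mono {S S' : Set (Vec F)} (h : S ⊆ S') : TS hF S ≤ TS hF S' :=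
  Subgroup.closure_mono (Set.image_mono fun _ hv => ⟨hv.1, h hv.2⟩)

theorem tv_mem_TS {S : Set (Vec F)} {v : Vec F} (hv : IsPt v) (hS : v ∈ S) : tv hF v ∈ TS hF S :=
  Subgroup.subset_closure ⟨v, ⟨hv, hS⟩, rfl⟩

/-- transvections of vectors of `W` fix what is orthogonal to `W` -/
theorem TS_le_fixer {W : Submodule F (Vec F)} {S : Set (Vec F)} (hS : S ⊆ W) :
    TS hF S ≤ fixer 6 F 2 (perp 2 (W : Set (Vec F))) := by
  rw [TS, Subgroup.closure_le]
  rintro _ ⟨v, ⟨hv, hvS⟩, rfl⟩
  rw [SetLike.mem_coe, mem_fixer]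
  intro s hs
  show act (tv hF v) s = s
  rw [tv_act hF hv.2, show hb s v = 0 from hs v (hS hvS), zero_smul, add_zero]

theorem TS_fix {S : Set (Vec F)} {x : Vec F} (h : ∀ v ∈ S, hb x v = 0) {t : ↥(Cfsg.SU 6 F 2)}
    (ht : t ∈ TS hF S) : act t x = x := by
  induction ht using Subgroup.closure_induction with
  | mem t ht =>
    obtain ⟨v, ⟨hv, hvS⟩, rfl⟩ := ht
    show act (tv hF v) x = x
    rw [tv_act hF hv.2, h v hvS, zero_smul, add_zero]
  | one => exact act_one x
  | mul a b _ _ ha hb' => rw [act_mul, hb', ha]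
  | inv a _ ha => conv_lhs => rw [← ha, act_inv_left]

theorem mem_pair_perp {u v x : Vec F} :
    x ∈ perp 2 ({u, v} : Set (Vec F)) ↔ hb x u = 0 ∧ hb x v = 0 :=
  Cfsg.Agent.Unitary.mem_perp_pair

/-- one transvection -/
theorem step_iso {x y : Vec F} (hx : hb x x = 0) (hy : hb y y = 0) (hxy : hb x y = 1) :
    IsPt (x + y) ∧ act (tv hF (x + y)) x = y := by
  have hp : IsPt (x + y) := by
    refine ⟨fun e => ?_, ?_⟩
    · rw [vec_eq_of_add hF e, hy] at hxy; exact zero_ne_one hxy
    · rw [hb_add_left, hb_add_right hF, hb_add_right hF, hx, hy, hxy, hb_conj hF x y, hxy]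
      simpa using add_self_zero hF (1 : F)
  refine ⟨hp, ?_⟩
  rw [tv_act hF hp.2, hb_add_right hF, hx, hxy, zero_add, one_smul, ← add_assoc, vec_add_self hF,
    zero_add]

/-- transitivity on isotropic vectors -/
theorem move_iso {W : Submodule F (Vec F)} (hW : Nondeg 2 W) (h3 : 3 ≤ Module.finrank F W)
    {x y : Vec F} (hxW : x ∈ W) (hyW : y ∈ W) (hx : hb x x = 0) (hy : hb y y = 0) (hx0 : x ≠ 0)
    (hy0 : y ≠ 0) : ∃ g ∈ TS hF (W : Set (Vec F)), act g x = y := by
  have hF' := card_eq_sq hF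
  have two : ∀ {x y : Vec F}, x ∈ W → y ∈ W → hb x x = 0 → hb y y = 0 →
      LinearIndependent F ![x, y] → ∃ g ∈ TS hF (W : Set (Vec F)), act g x = y := by
    intro x y hxW hyW hx hy hind
    obtain ⟨z, hzW, hz, hzx, hzy⟩ :=
      exists_iso_pair hF' hW h3 hxW hyW hx hy hind (a := (1 : F)) (b := 1) one_ne_zero
    obtain ⟨p1, e1⟩ := step_iso hF hx hz (show hb x z = 1 by
      rw [hb_conj hF z x, show hb z x = 1 from hzx, one_pow])
    obtain ⟨p2, e2⟩ := step_iso hF hz hy hzy
    exact ⟨tv hF (z + y) * tv hF (x + z), mul_mem (tv_mem_TS hF p2 (W.add_mem hzW hyW))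
      (tv_mem_TS hF p1 (W.add_mem hxW hzW)), by rw [act_mul, e1, e2]⟩
  by_cases hs : SamePt x y
  · obtain ⟨a, rfl⟩ := hs
    obtain ⟨v, hvW, hv, hvx⟩ := exists_partner hF' hW hxW hx0 hx
    change hb v v = 0 at hv
    have hvx' : hb v x = 1 := hvx
    have ha : a ≠ 0 := by rintro rfl; exact hy0 (zero_smul F x)
    have hv0 : v ≠ 0 := fun e => by rw [e, hb_zero_left] at hvx'; exact zero_ne_one hvx'
    obtain ⟨g, hg, e1⟩ := two hxW hvW hx hv (indep_pair hx0 fun ⟨c, hc⟩ => by
      rw [hc, hb_smul_left, hx, mul_zero] at hvx'; exact zero_ne_one hvx')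
    obtain ⟨g', hg', e2⟩ := two hvW hyW hv hy (indep_pair hv0 fun ⟨c, hc⟩ => by
      have := congrArg (fun z => hb v z) hc
      simp only [hb_smul_right, hvx', hv, mul_zero, mul_one] at this
      exact pow_ne_zero 2 ha this)
    exact ⟨g' * g, mul_mem hg' hg, by rw [act_mul, e1, e2]⟩
  · exact two hxW hyW hx hy (indep_pair hx0 hs)

/-- moving the second vector of a hyperbolic pair, fixing the first -/
theorem move_partner {W : Submodule F (Vec F)} (hW : Nondeg 2 W) {u v v' : Vec F} (huW : u ∈ W)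
    (hvW : v ∈ W) (hv'W : v' ∈ W) (hu : hb u u = 0) (hv : hb v v = 0) (hv' : hb v' v' = 0)
    (hvu : hb v u = 1) (hv'u : hb v' u = 1) (h4 : 4 ≤ Module.finrank F W) :
    ∃ t ∈ TS hF {z | z ∈ W ∧ hb z u = 0}, act t v' = v := by
  have hF' := card_eq_sq hF
  have one : ∀ {y y' : Vec F}, y ∈ W → y' ∈ W → hb y y = 0 → hb y' y' = 0 → hb y u = 1 →
      hb y' u = 1 → hb y y' = 1 → ∃ t ∈ TS hF {z | z ∈ W ∧ hb z u = 0}, act t y = y' := by
    intro y y' hyW hy'W hy hy' hyu hy'u hyy
    obtain ⟨p, e⟩ := step_iso hF hy hy' hyy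
    exact ⟨_, tv_mem_TS hF p ⟨W.add_mem hyW hy'W, by
      rw [hb_add_left, hyu, hy'u]; exact add_self_zero hF 1⟩, e⟩
  have huv : hb u v = 1 := by rw [hb_conj hF v u, hvu, one_pow]
  have huv' : hb u v' = 1 := by rw [hb_conj hF v' u, hv'u, one_pow]
  set a := hb v' v with ha
  have hvv' : hb v v' = a ^ 2 := hb_conj hF v' v
  by_cases ha1 : a = 1
  · exact one hv'W hvW hv' hv hv'u hvu ha1
  -- an intermediate vector
  set Pl := Submodule.span F ({u, v} : Set (Vec F)) with hPl
  have hne : Cfsg.hermForm 6 F 2 u v ≠ 0 := by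
    rw [show Cfsg.hermForm 6 F 2 u v = 1 from huv]; exact one_ne_zero
  have hPnd : Nondeg 2 Pl := nondeg_pair hF' hu hv hne
  have hPW : Pl ≤ W := span_pair_le huW hvW
  set U := W ⊓ perp 2 (Pl : Set (Vec F)) with hUdef
  have hUnd : Nondeg 2 U := inf_perp_nondeg hF' hW hPnd hPW
  have hmemU : ∀ {x}, x ∈ U → hb x u = 0 ∧ hb x v = 0 := fun hx =>
    ⟨hx.2 u (Submodule.subset_span (Or.inl rfl)), hx.2 v (Submodule.subset_span (Or.inr rfl))⟩
  obtain ⟨s, hsU, hs, hsv'⟩ : ∃ s ∈ U, hb s s = 0 ∧ hb s v' = a ^ 2 := by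
    by_cases ha0 : a = 0
    · exact ⟨0, U.zero_mem, hb_zero_left _, by rw [hb_zero_left, ha0]; simp⟩
    set w := v' + v + a • u with hw
    have hwu : hb w u = 0 := by
      rw [hw, hb_add_left, hb_add_left, hb_smul_left, hv'u, hvu, hu, mul_zero, add_zero]
      exact add_self_zero hF 1
    have hwv : hb w v = 0 := by
      rw [hw, hb_add_left, hb_add_left, hb_smul_left, hv, huv, mul_one, add_zero]
      exact add_self_zero hF a
    have hwW : w ∈ W := W.add_mem (W.add_mem hv'W hvW) (W.smul_mem _ huW)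
    have hwU : w ∈ U := ⟨hwW, by
      rw [SetLike.mem_coe, perp_span hF', mem_pair_perp hF]; exact ⟨hwu, hwv⟩⟩
    have hw0 : w ≠ 0 := by
      intro e
      have e' : v' + v = a • u := vec_eq_of_add hF e
      have := hv'
      rw [show v' = v + a • u by rw [← e', ← add_assoc, add_comm v, add_assoc, vec_add_self hF,
        add_zero]] at this
      simp only [hb_add_left, hb_add_right hF, hb_smul_left, hb_smul_right, hu, hv, huv, hvu,
        mul_zero, mul_one, add_zero, zero_add] at this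
      have hfac : a * (a + 1) = 0 := by linear_combination this
      rcases mul_eq_zero.mp hfac with q | q
      · exact ha0 q
      · exact ha1 ((add_eq_zero_iff_eq' hF).mp q)
    have hU2 : 2 ≤ Module.finrank F U := by
      have h1 := inf_perp_finrank hF' hPnd hPW
      rw [finrank_pair (indep_pair (fun e => one_ne_zero (by rw [← huv, e, hb_zero_left]))
        (fun ⟨c, hc⟩ => by rw [hc, hb_smul_left, hu, mul_zero] at hvu; exact zero_ne_one hvu))] at h1
      have h1' : 2 + Module.finrank F ↥U = Module.finrank F ↥W := h1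
      omega
    obtain ⟨s0, hs0U, hs0, hs0w⟩ : ∃ s ∈ U, hb s s = 0 ∧ hb s w ≠ 0 := by
      by_contra hall
      simp only [not_exists, not_and, not_not] at hall
      exact hw0 (hUnd w hwU fun y hy => (hb_eq_zero_comm hF).mp
        (exists_add_isotropic hF' hUnd hU2 (p := fun x => hb x w = 0) hall
          (fun x _ x' _ hx hx' => by rw [hb_add_left, hx, hx', add_zero]) y hy))
    refine ⟨(a ^ 2 / hb s0 w) • s0, U.smul_mem _ hs0U, ?_, ?_⟩
    · rw [hb_smul_left, hb_smul_right, hs0, mul_zero, mul_zero]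
    · obtain ⟨h1, h2⟩ := hmemU hs0U
      have e : hb s0 v' = hb s0 w := by
        rw [hw, hb_add_right hF, hb_add_right hF, hb_smul_right, h1, h2, mul_zero, add_zero, add_zero]
      rw [hb_smul_left, e, div_mul_cancel₀ _ hs0w]
  obtain ⟨hsu, hsv⟩ := hmemU hsU
  set m := v + u + s with hm
  have hmW : m ∈ W := W.add_mem (W.add_mem hvW huW) hsU.1
  have hmu : hb m u = 1 := by
    rw [hm, hb_add_left, hb_add_left, hvu, hu, hsu, add_zero, add_zero]
  have hmv : hb m v = 1 := by
    rw [hm, hb_add_left, hb_add_left, hv, huv, hsv, zero_add, add_zero]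
  have hmm : hb m m = 0 := by
    have z := fun {x y : Vec F} (e : hb x y = 0) => (hb_eq_zero_comm hF).mp e
    simp only [hm, hb_add_left, hb_add_right hF, hu, hv, hs, huv, hvu, hsu, hsv, z hsu, z hsv,
      add_zero, zero_add]
    exact add_self_zero hF 1
  have hmv' : hb m v' = 1 := by
    rw [hm, hb_add_left, hb_add_left, hvv', huv', hsv']
    linear_combination a ^ 2 * two_zero hF
  obtain ⟨t1, ht1, e1⟩ := one hv'W hmW hv' hmm hv'u hmu (by rw [hb_conj hF m v', hmv', one_pow])
  obtain ⟨t2, ht2, e2⟩ := one hmW hvW hmm hv hmu hvu hmv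
  exact ⟨t2 * t1, mul_mem ht2 ht1, by rw [act_mul, e1, e2]⟩

/-- elements supported on a hyperbolic plane -/
theorem plane_mem_TS {u v : Vec F} (hu : hb u u = 0) (hv : hb v v = 0) (hvu : hb v u = 1)
    {g : ↥(Cfsg.SU 6 F 2)} (hg : g ∈ fixer 6 F 2 (perp 2 ({u, v} : Set (Vec F)))) :
    g ∈ TS hF (Submodule.span F ({u, v} : Set (Vec F)) : Set (Vec F)) := by
  have hF' := card_eq_sq hF
  have huv : hb u v = 1 := by rw [hb_conj hF v u, hvu, one_pow]
  set Pl := Submodule.span F ({u, v} : Set (Vec F))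
  have huP : u ∈ Pl := Submodule.subset_span (Or.inl rfl)
  have hvP : v ∈ Pl := Submodule.subset_span (Or.inr rfl)
  have hne : Cfsg.hermForm 6 F 2 u v ≠ 0 := by
    rw [show Cfsg.hermForm 6 F 2 u v = 1 from huv]; exact one_ne_zero
  have hPnd : Nondeg 2 Pl := nondeg_pair hF' hu hv hne
  have hp : perp 2 (Pl : Set (Vec F)) = perp 2 ({u, v} : Set (Vec F)) := perp_span hF' _
  have hmem : ∀ {g}, g ∈ fixer 6 F 2 (perp 2 ({u, v} : Set (Vec F))) → ∀ x ∈ Pl,
      ∃ a b : F, act g x = a • u + b • v := by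
    intro g hg x hx
    obtain ⟨a, b, hab⟩ := Submodule.mem_span_pair.1
      (ap_mem_of_fixer hF' hPnd (by rw [hp]; exact hg) hx)
    exact ⟨a, b, hab.symm⟩
  have TSfix : ∀ {t}, t ∈ TS hF (Pl : Set (Vec F)) → t ∈ fixer 6 F 2 (perp 2 ({u, v} : Set (Vec F))) :=
    fun ht => by rw [← hp]; exact TS_le_fixer hF subset_rfl ht
  have p3 : IsPt (v + u) := (step_iso hF hv hu hvu).1
  have pu : IsPt u := ⟨fun e => one_ne_zero (by rw [← huv, e, hb_zero_left]), hu⟩
  have pv : IsPt v := ⟨fun e => one_ne_zero (by rw [← hvu, e, hb_zero_left]), hv⟩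
  -- the image of `u` becomes a multiple of `u`
  obtain ⟨t, ht, l, hl⟩ : ∃ t ∈ TS hF (Pl : Set (Vec F)), ∃ l : F, act (t * g) u = l • u := by
    obtain ⟨a, b, hab⟩ := hmem hg u huP
    have hiso : a * b * (a + b) = 0 := by
      have := act_hb g u u
      rw [hab, hu] at this
      simp only [hb_add_left, hb_add_right hF, hb_smul_left, hb_smul_right, hu, hv, huv, hvu,
        mul_zero, mul_one, zero_add, add_zero] at this
      linear_combination this
    rcases mul_eq_zero.mp hiso with q | q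
    · rcases mul_eq_zero.mp q with q | q
      · refine ⟨tv hF (v + u), tv_mem_TS hF p3 (Pl.add_mem hvP huP), b, ?_⟩
        rw [act_mul, hab, q, zero_smul, zero_add, act_smul, (step_iso hF hv hu hvu).2]
      · exact ⟨1, one_mem _, a, by rw [one_mul, hab, q, zero_smul, add_zero]⟩
    · have e : b = a := ((add_eq_zero_iff_eq' hF).mp q).symm
      refine ⟨tv hF v, tv_mem_TS hF pv hvP, a, ?_⟩
      rw [act_mul, hab, e, tv_act hF hv]
      simp only [hb_add_left, hb_smul_left, huv, hv, mul_one, mul_zero, add_zero]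
      rw [add_assoc, vec_add_self hF, add_zero]
  rw [← Subgroup.mul_mem_cancel_left _ ht]
  replace hg := mul_mem (TSfix ht) hg
  generalize t * g = g at hg hl ⊢
  obtain ⟨a, b, hab⟩ := hmem hg v hvP
  have hgu : act g u = l • u := hl
  have h1 : l * b ^ 2 = 1 := by
    have := act_hb g u v
    rw [hgu, hab] at this
    simp only [hb_add_right hF, hb_smul_left, hb_smul_right, hu, huv, mul_zero, mul_one, zero_add] at this
    linear_combination this
  have h2 : l * b = 1 := by
    have h : hb (act g u) v * hb (act g v) u - hb (act g v) v * hb (act g u) u = 1 :=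
      det_hyperbolic hF' hu hv hvu hg
    rw [hgu, hab] at h
    simp only [hb_add_left, hb_smul_left, hu, hv, huv, hvu, mul_zero, mul_one, add_zero, zero_add,
      sub_zero] at h
    exact h
  have hb1 : b = 1 := by
    have : b * (l * b) = 1 := by rw [← h1]; ring
    rwa [h2, mul_one] at this
  have hl1 : l = 1 := by rwa [hb1, mul_one] at h2
  rw [hl1, one_smul] at hgu
  rw [hb1, one_smul] at hab
  have hfin : ∀ k : ↥(Cfsg.SU 6 F 2), k ∈ fixer 6 F 2 (perp 2 ({u, v} : Set (Vec F))) →
      act k u = u → act k v = v → k = 1 := by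
    intro k hk ku kv
    refine act_ext fun x => ?_
    have hx : act k (x - hb x v • u - hb x u • v) = x - hb x v • u - hb x u • v :=
      (mem_fixer.1 hk) _ (sub_pair_mem_perp hu hv huv hvu x)
    rw [act_one]
    have e : x = (x - hb x v • u - hb x u • v) + hb x v • u + hb x u • v := by abel
    conv_lhs => rw [e]
    rw [act_add, act_add, hx, act_smul, act_smul, ku, kv, ← e]
  have ha : a = 0 ∨ a = 1 := by
    have := act_hb g v v
    rw [hab, hv] at this
    simp only [hb_add_left, hb_add_right hF, hb_smul_left, hb_smul_right, hu, hv, huv, hvu,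
      mul_zero, mul_one, add_zero, zero_add] at this
    rcases mul_eq_zero.mp (show a * (a + 1) = 0 by linear_combination this) with q | q
    · exact Or.inl q
    · exact Or.inr ((add_eq_zero_iff_eq' hF).mp q)
  rcases ha with q | q
  · rw [hfin g hg hgu (by rw [hab, q, zero_smul, zero_add])]; exact one_mem _
  · have htu := tv_mem_TS hF pu (S := (Pl : Set (Vec F))) huP
    rw [← Subgroup.mul_mem_cancel_left _ htu, hfin (tv hF u * g) (mul_mem (TSfix htu) hg)
      (by rw [act_mul, hgu, tv_act hF hu, hu, zero_smul, add_zero])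
      (by
        rw [act_mul, hab, q, one_smul, tv_act hF hu, hb_add_left, hu, hvu, zero_add, one_smul,
          add_right_comm, vec_add_self hF, zero_add])]
    exact one_mem _

/-- the stabiliser of an isotropic vector -/
theorem stab_vec {P : Vec F} (hP : IsPt P) {g : ↥(Cfsg.SU 6 F 2)} (hg : act g P = P) :
    g ∈ TS hF {z | hb z P = 0} := by
  have hF' := card_eq_sq hF
  have hT : (⊤ : Submodule F (Vec F)) ≤ ⊤ := le_rfl
  have nT : Nondeg 2 (⊤ : Submodule F (Vec F)) := nondeg_top hF'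
  obtain ⟨f, -, hf, hfP⟩ := exists_partner hF' nT Submodule.mem_top hP.1 hP.2
  change hb f f = 0 at hf
  have hfP' : hb f P = 1 := hfP
  obtain ⟨t, ht, e⟩ := move_partner hF nT Submodule.mem_top (Submodule.mem_top (x := f))
    Submodule.mem_top hP.2 hf (v' := act g f) ((act_hb g f f).trans hf) hfP'
    (by have := act_hb g f P; rw [hg] at this; exact this.trans hfP')
    (by rw [finrank_top, Module.finrank_fin_fun]; norm_num)
  have ht' : t ∈ TS hF {z | hb z P = 0} := TS_mono hF (fun z hz => hz.2) ht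
  rw [← Subgroup.mul_mem_cancel_left _ ht']
  have gP : act (t * g) P = P := by
    rw [act_mul, hg, TS_fix hF (fun z hz => (hb_eq_zero_comm hF).mp hz) ht']
  have gf : act (t * g) f = f := by rw [act_mul, e]
  generalize t * g = g at gP gf ⊢
  clear hg e ht ht' t
  have hPf : hb P f = 1 := by rw [hb_conj hF f P, hfP', one_pow]
  have hne : Cfsg.hermForm 6 F 2 P f ≠ 0 := by
    rw [show Cfsg.hermForm 6 F 2 P f = 1 from hPf]; exact one_ne_zero
  set Pl := Submodule.span F ({P, f} : Set (Vec F)) with hPl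
  have hPnd : Nondeg 2 Pl := nondeg_pair hF' hP.2 hf hne
  set W := perp 2 (Pl : Set (Vec F)) with hWdef
  have hWnd : Nondeg 2 W := nondeg_perp hF' hPnd
  have hW4 : Module.finrank F W = 4 := by
    have h1 := finrank_perp_add hF' hPnd
    rw [finrank_pair (indep_pair hP.1 (fun ⟨c, hc⟩ => by
      rw [hc, hb_smul_left, hP.2, mul_zero] at hfP'; exact zero_ne_one hfP'))] at h1
    have h1' : 2 + Module.finrank F ↥W = 6 := h1
    omega
  have hWP : ∀ {x}, x ∈ W → hb x P = 0 ∧ hb x f = 0 := fun hx =>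
    ⟨hx P (Submodule.subset_span (Or.inl rfl)), hx f (Submodule.subset_span (Or.inr rfl))⟩
  have hWsub : (W : Set (Vec F)) ⊆ {z | hb z P = 0} := fun z hz => (hWP hz).1
  have inW : ∀ {x}, hb x P = 0 → hb x f = 0 → x ∈ W := fun h1 h2 => by
    rw [hWdef, perp_span hF', mem_pair_perp hF]; exact ⟨h1, h2⟩
  obtain ⟨e, heW, he0, he⟩ := exists_isotropic hF' hWnd (le_of_le_of_eq (by norm_num) hW4.symm)
  obtain ⟨e', he'W, he', he'e⟩ := exists_partner hF' hWnd heW he0 he
  change hb e e = 0 at he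
  change hb e' e' = 0 at he'
  have hgW : ∀ {x}, x ∈ W → act g x ∈ W := fun {x} hx => by
    obtain ⟨h1, h2⟩ := hWP hx
    exact inW (by have := act_hb g x P; rw [gP] at this; exact this.trans h1)
      (by have := act_hb g x f; rw [gf] at this; exact this.trans h2)
  have fixW : ∀ {t}, t ∈ TS hF (W : Set (Vec F)) → act t P = P ∧ act t f = f := fun ht =>
    ⟨TS_fix hF (fun z hz => (hb_eq_zero_comm hF).mp (hWP hz).1) ht,
      TS_fix hF (fun z hz => (hb_eq_zero_comm hF).mp (hWP hz).2) ht⟩
  obtain ⟨t1, ht1, e1⟩ := move_iso hF hWnd (le_of_le_of_eq (by norm_num) hW4.symm) (hgW heW) heW ((act_hb g e e).trans he) he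
    (fun q => he0 (act_eq_zero q)) he0
  rw [← Subgroup.mul_mem_cancel_left _ (TS_mono hF hWsub ht1)]
  have gP' : act (t1 * g) P = P := by rw [act_mul, gP, (fixW ht1).1]
  have gf' : act (t1 * g) f = f := by rw [act_mul, gf, (fixW ht1).2]
  have ge : act (t1 * g) e = e := by rw [act_mul, e1]
  clear gP gf hgW
  generalize t1 * g = g at gP' gf' ge ⊢
  clear e1 ht1 t1
  have hgW : ∀ {x}, x ∈ W → act g x ∈ W := fun {x} hx => by
    obtain ⟨h1, h2⟩ := hWP hx
    exact inW (by have := act_hb g x P; rw [gP'] at this; exact this.trans h1)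
      (by have := act_hb g x f; rw [gf'] at this; exact this.trans h2)
  have he'e' : hb e' e = 1 := he'e
  obtain ⟨t2, ht2, e2⟩ := move_partner hF hWnd heW he'W (hgW he'W) he he'
    ((act_hb g e' e').trans he') he'e'
    (by have := act_hb g e' e; rw [ge] at this; exact this.trans he'e') hW4.symm.le
  have ht2W : t2 ∈ TS hF (W : Set (Vec F)) := TS_mono hF (fun z hz => hz.1) ht2
  rw [← Subgroup.mul_mem_cancel_left _ (TS_mono hF hWsub ht2W)]
  have ge' : act (t2 * g) e = e := by
    rw [act_mul, ge, TS_fix hF (fun z hz => (hb_eq_zero_comm hF).mp hz.2) ht2]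
  have gf1 : act (t2 * g) e' = e' := by rw [act_mul, e2]
  have gP : act (t2 * g) P = P := by rw [act_mul, gP', (fixW ht2W).1]
  have gf : act (t2 * g) f = f := by rw [act_mul, gf', (fixW ht2W).2]
  clear gP' gf' ge hgW
  generalize t2 * g = g at gP gf ge' gf1 ⊢
  clear e2 ht2 ht2W t2
  -- the remaining plane
  have hee' : hb e e' = 1 := by rw [hb_conj hF e' e, he'e', one_pow]
  have hne2 : Cfsg.hermForm 6 F 2 e e' ≠ 0 := by
    rw [show Cfsg.hermForm 6 F 2 e e' = 1 from hee']; exact one_ne_zero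
  set Q := Submodule.span F ({e, e'} : Set (Vec F)) with hQ
  have hQnd : Nondeg 2 Q := nondeg_pair hF' he he' hne2
  have hQW : Q ≤ W := span_pair_le heW he'W
  set U := W ⊓ perp 2 (Q : Set (Vec F)) with hU
  have hUnd : Nondeg 2 U := inf_perp_nondeg hF' hWnd hQnd hQW
  have hU2 : Module.finrank F U = 2 := by
    have h1 := inf_perp_finrank hF' hQnd hQW
    rw [finrank_pair (indep_pair he0 (fun ⟨c, hc⟩ => by
      rw [hc, hb_smul_left, he, mul_zero] at he'e'; exact zero_ne_one he'e'))] at h1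
    have h1' : 2 + Module.finrank F ↥U = 4 := h1.trans hW4
    omega
  obtain ⟨u, huU, hu0, hu⟩ := exists_isotropic hF' hUnd hU2.symm.le
  obtain ⟨v, hvU, hv, hvu⟩ := exists_partner hF' hUnd huU hu0 hu
  change hb u u = 0 at hu
  change hb v v = 0 at hv
  have hvu' : hb v u = 1 := hvu
  have hspan : Submodule.span F ({u, v} : Set (Vec F)) = U :=
    Submodule.eq_of_le_of_finrank_le (span_pair_le huU hvU) (by
      rw [finrank_pair (indep_pair hu0 (fun ⟨c, hc⟩ => by
        rw [hc, hb_smul_left, hu, mul_zero] at hvu'; exact zero_ne_one hvu'))]; exact hU2.le)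
  have hUQ : ∀ {y}, y ∈ U → hb y e = 0 ∧ hb y e' = 0 := fun hy =>
    ⟨hy.2 e (Submodule.subset_span (Or.inl rfl)), hy.2 e' (Submodule.subset_span (Or.inr rfl))⟩
  have hfix : g ∈ fixer 6 F 2 (perp 2 ({u, v} : Set (Vec F))) := by
    rw [mem_fixer]
    intro x hx
    show act g x = x
    rw [SetLike.mem_coe, ← perp_span hF', hspan] at hx
    set x1 := x + hb x f • P + hb x P • f with hx1
    set x2 := x1 + hb x1 e' • e + hb x1 e • e' with hx2
    have h0 := add_self_zero hF (hb x P)
    have h1W : x1 ∈ W := by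
      refine inW ?_ ?_
      · simp only [hx1, hb_add_left, hb_smul_left, hP.2, hfP', mul_zero, mul_one, add_zero]
        exact h0
      · simp only [hx1, hb_add_left, hb_smul_left, hf, hPf, mul_zero, mul_one, add_zero]
        exact add_self_zero hF _
    have h2U : x2 ∈ U := by
      refine ⟨W.add_mem (W.add_mem h1W (W.smul_mem _ heW)) (W.smul_mem _ he'W), ?_⟩
      rw [SetLike.mem_coe, hQ, perp_span hF', mem_pair_perp hF]
      constructor
      · simp only [hx2, hb_add_left (x1 + _), hb_add_left x1, hb_smul_left, he, he'e', mul_zero,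
          mul_one, add_zero]
        exact add_self_zero hF _
      · simp only [hx2, hb_add_left (x1 + _), hb_add_left x1, hb_smul_left, he', hee', mul_zero,
          mul_one, add_zero]
        exact add_self_zero hF _
    have hz : x2 = 0 := hUnd x2 h2U fun y hy => by
      show hb x2 y = 0
      obtain ⟨a1, a2⟩ := hWP hy.1
      obtain ⟨b1, b2⟩ := hUQ hy
      have z := fun {s t : Vec F} (q : hb s t = 0) => (hb_eq_zero_comm hF).mp q
      simp only [hx2, hx1, hb_add_left, hb_smul_left, z a1, z a2, z b1, z b2, mul_zero, add_zero]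
      exact hx y hy
    have e3 : x1 + hb x1 e' • e = hb x1 e • e' := vec_eq_of_add hF hz
    have e4 : x1 = hb x1 e • e' + hb x1 e' • e := by
      rw [← e3, add_assoc, vec_add_self hF, add_zero]
    have f1 : act g x1 = x1 := by
      rw [e4, act_add, act_smul, act_smul, gf1, ge']
    have e5 : x = x1 + (hb x f • P + hb x P • f) := by
      rw [hx1, show x + hb x f • P + hb x P • f + (hb x f • P + hb x P • f) =
        x + ((hb x f • P + hb x P • f) + (hb x f • P + hb x P • f)) by abel, vec_add_self hF,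
        add_zero]
    clear_value x1
    calc act g x = act g (x1 + (hb x f • P + hb x P • f)) := congrArg (act g) e5
      _ = x1 + (hb x f • P + hb x P • f) := by
          rw [act_add g x1, act_add g (hb x f • P), act_smul, act_smul, gP, gf, f1]
      _ = x := e5.symm
  have := plane_mem_TS hF hu hv hvu' hfix
  rw [hspan] at this
  exact TS_mono hF (fun z hz => hWsub hz.1) this

/-- scalar elements -/
theorem exists_scalar {m : F} (hm : m ≠ 0) :
    ∃ z ∈ Subgroup.center ↥(Cfsg.SU 6 F 2), ∀ x, act z x = m • x := by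
  have hd : (m • (1 : Matrix (Fin 6) (Fin 6) F)).det = 1 := by
    rw [Matrix.det_smul, Fintype.card_fin, Matrix.det_one, mul_one,
      show m ^ 6 = (m ^ 3) ^ 2 by ring, pow_three hF hm, one_pow]
  let z : ↥(Cfsg.SU 6 F 2) := ⟨⟨m • 1, hd⟩, fun x y => by
    show hb ((m • (1 : Matrix (Fin 6) (Fin 6) F)).mulVec x)
      ((m • (1 : Matrix (Fin 6) (Fin 6) F)).mulVec y) = hb x y
    rw [Matrix.smul_mulVec, Matrix.smul_mulVec, Matrix.one_mulVec, Matrix.one_mulVec, hb_smul_left,
      hb_smul_right, ← mul_assoc, ← pow_succ', pow_three hF hm, one_mul]⟩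
  have hz : ∀ x, act z x = m • x := fun x => by
    show (m • (1 : Matrix (Fin 6) (Fin 6) F)).mulVec x = m • x
    rw [Matrix.smul_mulVec, Matrix.one_mulVec]
  refine ⟨z, Subgroup.mem_center_iff.mpr fun g => act_ext fun x => ?_, hz⟩
  rw [act_mul, act_mul, hz, hz, act_smul]

/-- the stabiliser of a point in `PSU` -/
theorem stab_point {P : Vec F} (hP : IsPt P) {p : Cfsg.PSU 6 F 2}
    (hp : Commute p (ptv hF P)) :
    p ∈ Subgroup.closure {x | ∃ v, IsPt v ∧ hb v P = 0 ∧ x = ptv hF v} := by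
  obtain ⟨g, rfl⟩ := QuotientGroup.mk_surjective p
  have e := ptv_conj hF g P
  rw [hp.eq, mul_inv_cancel_right] at e
  obtain ⟨a, ha⟩ := ptv_eq hF hP (act_pt g hP).2 e
  have ha0 : a ≠ 0 := fun q => hP.1 (by rw [ha, q, zero_smul])
  obtain ⟨z, hz, hzact⟩ := exists_scalar hF ha0
  have hfix : act (g * z) P = P := by rw [act_mul, hzact, act_smul, ← ha]
  have hmem := stab_vec hF hP hfix
  have hle : TS hF {z | hb z P = 0} ≤ (Subgroup.closure
      {x | ∃ v, IsPt v ∧ hb v P = 0 ∧ x = ptv hF v}).comap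
      (QuotientGroup.mk' (Subgroup.center ↥(Cfsg.SU 6 F 2))) := by
    rw [TS, Subgroup.closure_le]
    rintro _ ⟨v, ⟨hv, hvP⟩, rfl⟩
    exact Subgroup.subset_closure ⟨v, hv, hvP, rfl⟩
  have h := hle hmem
  rw [Subgroup.mem_comap, QuotientGroup.mk'_apply, QuotientGroup.mk_mul,
    (QuotientGroup.eq_one_iff z).mpr hz, mul_one] at h
  exact h

end Cfsg.Agent.H93
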