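import Cfsg.Agent.H93.U6Model
import Cfsg.Agent.H93.Stab6

/-!
The forty five isotropic points of a non-degenerate four dimensional Hermitian space over the field
with four elements, with their orthogonality graph.
-/

set_option autoImplicit false

namespace Cfsg.Agent.H93

/-- four coordinates -/
abbrev Q4 := B4 × B4 × B4 × B4

/-- the form on four coordinates -/
def qform : Q4 → Q4 → B4
  | (x0, x1, x2, x3), (v0, v1, v2, v3) =>
    badd (badd (badd (bmul x0 (bmul v0 v0)) (bmul x1 (bmul v1 v1))) (bmul x2 (bmul v2 v2)))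
      (bmul x3 (bmul v3 v3))

/-- scalar multiples -/
def qsmul (c : B4) : Q4 → Q4
  | (x0, x1, x2, x3) => (bmul c x0, bmul c x1, bmul c x2, bmul c x3)

/-- a vector from eight bits -/
def qDec (k : ℕ) : Q4 :=
  ((k.testBit 0, k.testBit 1), (k.testBit 2, k.testBit 3), (k.testBit 4, k.testBit 5),
    (k.testBit 6, k.testBit 7))

/-- one vector for each isotropic point -/
def qPt (i : Fin 45) : Q4 :=
  qDec (([80, 144, 208, 68, 132, 196, 20, 36, 52, 65, 129, 193, 17, 33, 49, 5, 85, 149, 213, 101,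
    165, 229, 117, 181, 245, 9, 89, 153, 217, 105, 169, 233, 121, 185, 249, 13, 93, 157, 221, 109,
    173, 237, 125, 189, 253] : List ℕ).getD i.1 0)

/-- adjacency of two points -/
def qAdj (i j : Fin 45) : Bool := decide (i ≠ j ∧ qform (qPt i) (qPt j) = (false, false))

set_option maxRecDepth 8000 in
set_option synthInstance.maxSize 2000 in
theorem qPt_iso : ∀ i, qform (qPt i) (qPt i) = (false, false) := by decide +kernel

set_option maxRecDepth 8000 in
set_option synthInstance.maxSize 2000 in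
theorem qPt_distinct : ∀ i j : Fin 45, ∀ c : B4, qPt j = qsmul c (qPt i) → j = i := by
  decide +kernel

set_option maxRecDepth 8000 in
set_option synthInstance.maxSize 2000 in
theorem qPt_cover : ∀ x : Q4, x ≠ ((false, false), (false, false), (false, false), (false, false)) →
    qform x x = (false, false) → ∃ i : Fin 45, ∃ c : B4, x = qsmul c (qPt i) := by
  decide +kernel

set_option maxRecDepth 8000 in
theorem qAdj_deg : ∀ i : Fin 45, (Finset.univ.filter fun j => qAdj i j = true).card = 12 := by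
  decide +kernel

set_option maxRecDepth 8000 in
theorem qAdj_common : ∀ i j : Fin 45, qAdj i j = true →
    (Finset.univ.filter fun k => qAdj i k = true ∧ qAdj j k = true).card = 3 := by
  decide +kernel

set_option maxRecDepth 8000 in
theorem qAdj_apart : ∀ i j : Fin 45, i ≠ j →
    ∃ k : Fin 45, k ≠ i ∧ k ≠ j ∧ qAdj i k = false ∧ qAdj j k = false := by
  decide +kernel

set_option maxRecDepth 8000 in
theorem qAdj_five : ∀ i ∈ [(0 : Fin 45), 15, 16, 20, 24], ∀ j ∈ [(0 : Fin 45), 15, 16, 20, 24],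
    i = j ∨ qAdj i j = true := by
  decide +kernel

set_option maxRecDepth 8000 in
/-- in a non-degenerate plane a linear function vanishes at one of the nine isotropic points -/
theorem nine_zero : ∀ x y z : B4, ∀ c : B4, c = (false, true) ∨ c = (true, true) →
    x = (false, false) ∨ y = (false, false) ∨ z = (false, false) ∨ badd x y = (false, false) ∨
      badd y z = (false, false) ∨ badd z (bmul c x) = (false, false) ∨
      badd z (bmul (badd (true, false) c) (badd x y)) = (false, false) ∨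
      badd (badd y z) (bmul (badd (true, false) c) x) = (false, false) ∨
      badd (badd z (bmul c x)) (bmul (badd (true, false) c) y) = (false, false) := by
  decide +kernel

variable {F : Type*} [Field F] [Fintype F] (hF : Fintype.card F = 4)

include hF

/-- the interpretation of scalars is a bijection -/
theorem bval_bijective {w : F} (hw : w ^ 2 + w + 1 = 0) : Function.Bijective (bval w) := by
  have e2 := two_zero hF
  have hw0 : w ≠ 0 := fun q => by rw [q] at hw; norm_num at hw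
  have hw1 : w ≠ 1 := fun q => by
    rw [q] at hw; exact one_ne_zero (show (1 : F) = 0 by linear_combination hw - e2)
  have hw2 : 1 + w ≠ 0 := fun q => hw1 ((add_eq_zero_iff_eq' hF).mp q).symm
  refine (Fintype.bijective_iff_injective_and_card _).mpr ⟨?_, by simp [hF]⟩
  rintro ⟨a, b⟩ ⟨c, d⟩ h
  cases a <;> cases b <;> cases c <;> cases d <;> simp [bval] at h ⊢ <;>
    first
      | exact absurd h hw0 | exact absurd h.symm hw0 | exact absurd h hw1 | exact absurd h.symm hw1
      | exact absurd h hw2 | exact absurd h.symm hw2 | grind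

/-- the nine point property over the field itself -/
theorem nine_zero' {x y z c : F} (hc0 : c ≠ 0) (hc1 : c ≠ 1) :
    x = 0 ∨ y = 0 ∨ z = 0 ∨ x + y = 0 ∨ y + z = 0 ∨ z + c * x = 0 ∨
      z + (1 + c) * (x + y) = 0 ∨ y + z + (1 + c) * x = 0 ∨ z + c * x + (1 + c) * y = 0 := by
  obtain ⟨w, hw0, hw1, hw⟩ := exists_omega hF
  have hb := bval_bijective hF hw
  obtain ⟨x', rfl⟩ := hb.2 x
  obtain ⟨y', rfl⟩ := hb.2 y
  obtain ⟨z', rfl⟩ := hb.2 z
  obtain ⟨c', rfl⟩ := hb.2 c
  have z0 : bval w (false, false) = 0 := by simp [bval]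
  have o1 : bval w (true, false) = 1 := by simp [bval]
  have hc : c' = (false, true) ∨ c' = (true, true) := by
    obtain ⟨a, b⟩ := c'
    cases a <;> cases b
    · exact absurd z0 hc0
    · exact Or.inl rfl
    · exact absurd o1 hc1
    · exact Or.inr rfl
  have key : ∀ t : B4, t = (false, false) → bval w t = 0 := fun t e => e ▸ z0
  rcases nine_zero x' y' z' c' hc with h | h | h | h | h | h | h | h | h <;>
    have h' := key _ h <;> (try simp only [bval_add hF, bval_mul hF hw, o1] at h') <;> tauto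

/-- the points of a four dimensional non-degenerate subspace -/
theorem forty_five {W : Submodule F (Vec F)} (hW : Cfsg.Agent.Unitary.Nondeg 2 W)
    (h4 : Module.finrank F W = 4) :
    ∃ P : Fin 45 → Vec F, (∀ i, IsPt (P i) ∧ P i ∈ W) ∧ (∀ i j, SamePt (P i) (P j) → j = i) ∧
      (∀ v ∈ W, IsPt v → ∃ i, SamePt (P i) v) ∧
      ∀ i j, (i ≠ j ∧ hb (P i) (P j) = 0) ↔ qAdj i j = true := by
  obtain ⟨w, hw0, hw1, hw⟩ := exists_omega hF
  have hb' := bval_bijective hF hw
  have hF' := card_eq_sq hF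
  obtain ⟨f, hf, hspan⟩ := Cfsg.Agent.Unitary.exists_ON_basis hF' W hW
  revert f
  rw [h4]
  intro f hf hspan
  let V : Q4 → Vec F := fun x =>
    bval w x.1 • f 0 + bval w x.2.1 • f 1 + bval w x.2.2.1 • f 2 + bval w x.2.2.2 • f 3
  have hmem : ∀ x, V x ∈ W := fun x => by
    have : ∀ i, f i ∈ W := fun i => hspan ▸ Submodule.subset_span ⟨i, rfl⟩
    exact W.add_mem (W.add_mem (W.add_mem (W.smul_mem _ (this 0)) (W.smul_mem _ (this 1)))
      (W.smul_mem _ (this 2))) (W.smul_mem _ (this 3))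
  have hn : ∀ i j, hb (f i) (f j) = if i = j then 1 else 0 := hf
  have hform : ∀ x y, hb (V x) (V y) = bval w (qform x y) := by
    rintro ⟨x0, x1, x2, x3⟩ ⟨y0, y1, y2, y3⟩
    simp [V, qform, bval_add hF, bval_mul hF hw, hb_add_left, hb_add_right hF, hb_smul_left,
      hb_smul_right, hn, pow_two]
    ring
  have hcoord : ∀ x i, hb (V x) (f i) = ![bval w x.1, bval w x.2.1, bval w x.2.2.1, bval w x.2.2.2] i := by
    rintro ⟨x0, x1, x2, x3⟩ i
    fin_cases i <;> simp [V, hb_add_left, hb_smul_left, hn]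
  have hinj : Function.Injective V := by
    rintro ⟨x0, x1, x2, x3⟩ ⟨y0, y1, y2, y3⟩ e
    have k := fun i => (hcoord (x0, x1, x2, x3) i).symm.trans
      ((congrArg (fun v => hb v (f i)) e).trans (hcoord (y0, y1, y2, y3) i))
    have k0 := hb'.1 (k 0)
    have k1 := hb'.1 (k 1)
    have k2 := hb'.1 (k 2)
    have k3 := hb'.1 (k 3)
    subst k0 k1 k2 k3
    rfl
  have hsurj : ∀ v ∈ W, ∃ x, V x = v := by
    intro v hv
    rw [← hspan] at hv
    obtain ⟨c, hc⟩ := (Submodule.mem_span_range_iff_exists_fun F).1 hv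
    obtain ⟨x0, e0⟩ := hb'.2 (c 0)
    obtain ⟨x1, e1⟩ := hb'.2 (c 1)
    obtain ⟨x2, e2⟩ := hb'.2 (c 2)
    obtain ⟨x3, e3⟩ := hb'.2 (c 3)
    exact ⟨(x0, x1, x2, x3), by rw [← hc, Fin.sum_univ_four]; simp [V, e0, e1, e2, e3]⟩
  have hsm : ∀ c x, V (qsmul c x) = bval w c • V x := by
    rintro c ⟨x0, x1, x2, x3⟩
    simp [V, qsmul, bval_mul hF hw, smul_add, smul_smul]
  have z0 : bval w (false, false) = 0 := by simp [bval]
  have V0 : V ((false, false), (false, false), (false, false), (false, false)) = 0 := by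
    simp [V, z0]
  have hP : ∀ i, IsPt (V (qPt i)) := fun i => by
    refine ⟨fun e => ?_, by rw [hform, qPt_iso, z0]⟩
    have e' := hinj (e.trans V0.symm)
    have hi : ∀ j : Fin 45, qPt j = qsmul (false, false) (qPt j) → False := by decide +kernel
    exact hi i (by rw [e']; rfl)
  refine ⟨fun i => V (qPt i), fun i => ⟨hP i, hmem _⟩, fun i j ⟨a, ha⟩ => ?_, fun v hv hvp => ?_,
    fun i j => ?_⟩
  · obtain ⟨c, rfl⟩ := hb'.2 a
    exact qPt_distinct i j c (hinj (ha.trans (hsm c (qPt i)).symm))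
  · obtain ⟨x, rfl⟩ := hsurj v hv
    obtain ⟨i, c, rfl⟩ := qPt_cover x (fun e => hvp.1 (by rw [e, V0]))
      (hb'.1 (by rw [← hform, hvp.2, z0]))
    exact ⟨i, bval w c, hsm c (qPt i)⟩
  · show (i ≠ j ∧ hb (V (qPt i)) (V (qPt j)) = 0) ↔ _
    rw [hform, qAdj, decide_eq_true_iff, ← z0]
    exact and_congr_right fun _ => hb'.1.eq_iff

omit hF

/-- a set of members carrying the orthogonality graph of the forty five points -/
def Forty {G : Type*} [Group G] (T : Set G) : Prop :=
  ∃ e : Fin 45 → G, Function.Injective e ∧ Set.range e = T ∧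
    ∀ i j, (i ≠ j ∧ Commute (e i) (e j)) ↔ qAdj i j = true

section Forty

variable {G : Type*} [Group G] {T : Set G} (h : Forty T)

include h

theorem Forty.card : T.ncard = 45 := by
  obtain ⟨e, he, rfl, -⟩ := h
  rw [← Set.image_univ, Set.ncard_image_of_injective _ he, Set.ncard_univ, Nat.card_fin]

theorem Forty.deg {p : G} (hp : p ∈ T) : {y ∈ T | y ≠ p ∧ Commute p y}.ncard = 12 := by
  obtain ⟨e, he, rfl, ha⟩ := h
  obtain ⟨i, rfl⟩ := hp
  have : {y ∈ Set.range e | y ≠ e i ∧ Commute (e i) y} =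
      e '' ↑(Finset.univ.filter fun j => qAdj i j = true) := by
    ext y
    constructor
    · rintro ⟨⟨j, rfl⟩, hne, hc⟩
      exact ⟨j, by simpa using (ha i j).mp ⟨fun q => hne (q ▸ rfl), hc⟩, rfl⟩
    · rintro ⟨j, hj, rfl⟩
      obtain ⟨hij, hc⟩ := (ha i j).mpr (by simpa using hj)
      exact ⟨⟨j, rfl⟩, fun q => hij (he q).symm, hc⟩
  rw [this, Set.ncard_image_of_injective _ he, Set.ncard_coe_finset, qAdj_deg]

theorem Forty.common {p q : G} (hp : p ∈ T) (hq : q ∈ T) (hne : q ≠ p) (hc : Commute p q) :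
    {y ∈ T | (y ≠ p ∧ Commute p y) ∧ y ≠ q ∧ Commute q y}.ncard = 3 := by
  obtain ⟨e, he, rfl, ha⟩ := h
  obtain ⟨i, rfl⟩ := hp
  obtain ⟨k, rfl⟩ := hq
  have hik := (ha i k).mp ⟨fun q => hne (q ▸ rfl), hc⟩
  have : {y ∈ Set.range e | (y ≠ e i ∧ Commute (e i) y) ∧ y ≠ e k ∧ Commute (e k) y} =
      e '' ↑(Finset.univ.filter fun j => qAdj i j = true ∧ qAdj k j = true) := by
    ext y
    constructor
    · rintro ⟨⟨j, rfl⟩, ⟨n1, c1⟩, n2, c2⟩
      exact ⟨j, by simpa using ⟨(ha i j).mp ⟨fun q => n1 (q ▸ rfl), c1⟩,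
        (ha k j).mp ⟨fun q => n2 (q ▸ rfl), c2⟩⟩, rfl⟩
    · rintro ⟨j, hj, rfl⟩
      have hj' : qAdj i j = true ∧ qAdj k j = true := by simpa using hj
      obtain ⟨h1, c1⟩ := (ha i j).mpr hj'.1
      obtain ⟨h2, c2⟩ := (ha k j).mpr hj'.2
      exact ⟨⟨j, rfl⟩, ⟨fun q => h1 (he q).symm, c1⟩, fun q => h2 (he q).symm, c2⟩
  rw [this, Set.ncard_image_of_injective _ he, Set.ncard_coe_finset, qAdj_common i k hik]

theorem Forty.apart {p q : G} (hp : p ∈ T) (hq : q ∈ T) (hne : p ≠ q) :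
    ∃ r ∈ T, ¬ Commute p r ∧ ¬ Commute q r := by
  obtain ⟨e, he, rfl, ha⟩ := h
  obtain ⟨i, rfl⟩ := hp
  obtain ⟨k, rfl⟩ := hq
  obtain ⟨j, h1, h2, a1, a2⟩ := qAdj_apart i k fun q => hne (q ▸ rfl)
  refine ⟨e j, ⟨j, rfl⟩, fun c => ?_, fun c => ?_⟩
  · rw [(ha i j).mp ⟨h1.symm, c⟩] at a1; exact Bool.noConfusion a1
  · rw [(ha k j).mp ⟨h2.symm, c⟩] at a2; exact Bool.noConfusion a2

theorem Forty.exists_five :
    ∃ E : Set G, E ⊆ T ∧ E.ncard = 5 ∧ ∀ x ∈ E, ∀ y ∈ E, Commute x y := by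
  obtain ⟨e, he, rfl, ha⟩ := h
  refine ⟨e '' {i | i ∈ [(0 : Fin 45), 15, 16, 20, 24]}, Set.image_subset_range _ _, ?_, ?_⟩
  · rw [Set.ncard_image_of_injective _ he,
      show {i | i ∈ [(0 : Fin 45), 15, 16, 20, 24]} =
        (↑({0, 15, 16, 20, 24} : Finset (Fin 45)) : Set (Fin 45)) by ext; simp, Set.ncard_coe_finset]
    decide
  · rintro _ ⟨i, hi, rfl⟩ _ ⟨j, hj, rfl⟩
    rcases qAdj_five i hi j hj with q | q
    · rw [q]
    · exact ((ha i j).mpr q).2

theorem Forty.clique {E : Set G} (hE : E ⊆ T) (hc : ∀ x ∈ E, ∀ y ∈ E, Commute x y) :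
    E.ncard ≤ 5 := by
  classical
  have hfin : T.Finite := Set.finite_of_ncard_ne_zero (by rw [h.card]; norm_num)
  by_cases hsub : E.Subsingleton
  · exact ((Set.ncard_le_one (hfin.subset hE)).mpr fun a ha b hb => hsub ha hb).trans (by norm_num)
  obtain ⟨p, hp, q, hq, hne⟩ := Set.not_subsingleton_iff.mp hsub
  have h3 := h.common (hE hp) (hE hq) (Ne.symm hne) (hc p hp q hq)
  have hle : E ⊆ insert p (insert q {y ∈ T | (y ≠ p ∧ Commute p y) ∧ y ≠ q ∧ Commute q y}) := by
    intro y hy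
    by_cases e1 : y = p
    · exact Or.inl e1
    by_cases e2 : y = q
    · exact Or.inr (Or.inl e2)
    exact Or.inr (Or.inr ⟨hE hy, ⟨e1, hc p hp y hy⟩, e2, hc q hq y hy⟩)
  refine (Set.ncard_le_ncard hle ((Set.Finite.insert _ ((hfin.subset fun y hy => hy.1).insert _)))).trans ?_
  exact (Set.ncard_insert_le _ _).trans (Nat.succ_le_succ ((Set.ncard_insert_le _ _).trans
    (Nat.succ_le_succ h3.le)))

end Forty

end Cfsg.Agent.H93
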