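import Cfsg.Agent.H93.Cent22
import Cfsg.Agent.H93.Pair
import Cfsg.Agent.H93.Stab4
import Cfsg.Agent.H93.U4Points

/-!
Groups of type M(22): the configurations of two members that do not commute and their common
neighbours, read in the residues.
-/

set_option autoImplicit false

namespace Cfsg.Agent.H93

open Cfsg.Agent.Unitary (perp Nondeg nondeg_pair nondeg_perp finrank_perp_add finrank_pair perp_span
  exists_ON_basis exists_add_isotropic det_hyperbolic mem_fixer fixer)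

variable {G : Type*} [Group G] {D : Set G} {K : Type*} [Field K] [Fintype K]

/-- what is used about the centralisers of members in a group of type M(22) -/
structure Geo22 (D : Set G) (K : Type*) [Field K] [Fintype K] : Prop where
  hK : Fintype.card K = 4
  core : Core D
  cen : ∀ k : G, (∀ t ∈ D, Commute k t) → k = 1
  cent : ∀ a ∈ D, Subgroup.centralizer ({a} : Set G) = nbSub D a
  ext : ∀ a ∈ D, ∃ π : ↥(Subgroup.centralizer ({a} : Set G)) →* Cfsg.PSU 6 K 2,
    TwoExt π ⟨a, mem_cent (Commute.refl a)⟩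
  far : ∀ a ∈ D, ∀ d ∈ D, ¬ Commute a d → ∃ z, z ∈ common D a d

theorem geo22 [Finite G] (hD : Cfsg.IsThreeTranspositionClass D) (h22 : Cfsg.IsOfTypeM22 G D) :
    ∃ (K : Type) (_ : Field K) (_ : Fintype K), Geo22 D K := by
  obtain ⟨F, iF, iFF, h, K, iK, iKF, hK, hcent, hext⟩ := cent22 hD h22
  have hcov := h.coverData fun x hx z _ g _ hgx => by
    rw [← hcent x hx]; exact mem_cent hgx.symm
  exact ⟨K, iK, iKF, hK, h.core, fun k hk => h.eq_one hk, hcent, hext,
    fun a ha d hd hn => hcov.far_nonempty ha hd hn⟩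

section Vectors

variable (hK : Fintype.card K = 4)

include hK

/-- the space orthogonal to a hyperbolic pair -/
theorem pair_perp {u v : Vec K} (hu : IsPt u) (hv : IsPt v) (hvu : hb v u = 1) :
    Nondeg 2 (perp 2 (Submodule.span K ({u, v} : Set (Vec K)) : Set (Vec K))) ∧
      Module.finrank K ↥(perp 2 (Submodule.span K ({u, v} : Set (Vec K)) : Set (Vec K))) = 4 ∧
      ∀ x, x ∈ perp 2 (Submodule.span K ({u, v} : Set (Vec K)) : Set (Vec K)) ↔
        hb x u = 0 ∧ hb x v = 0 := by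
  have hK' := card_eq_sq hK
  have huv : hb u v = 1 := by rw [hb_conj hK v u, hvu, one_pow]
  have hne : Cfsg.hermForm 6 K 2 u v ≠ 0 := by
    rw [show Cfsg.hermForm 6 K 2 u v = 1 from huv]; exact one_ne_zero
  have hnd : Nondeg 2 (Submodule.span K ({u, v} : Set (Vec K))) := nondeg_pair hK' hu.2 hv.2 hne
  refine ⟨nondeg_perp hK' hnd, ?_, fun x => ?_⟩
  · have h1 := finrank_perp_add hK' hnd
    rw [finrank_pair (indep_pair hu.1 (fun ⟨c, hc⟩ => by
      rw [hc, hb_smul_left, hu.2, mul_zero] at hvu; exact zero_ne_one hvu))] at h1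
    have h1' : 2 + Module.finrank K ↥(perp 2 (Submodule.span K ({u, v} : Set (Vec K)) :
        Set (Vec K))) = 6 := h1
    omega
  · rw [perp_span hK', mem_pair_perp hK]

/-- three points, pairwise not orthogonal, spanning a non-degenerate plane -/
theorem exists_triangle {W : Submodule K (Vec K)} (hW : Nondeg 2 W)
    (h4 : Module.finrank K W = 4) :
    ∃ s t r : Vec K, (IsPt s ∧ s ∈ W) ∧ (IsPt t ∧ t ∈ W) ∧ (IsPt r ∧ r ∈ W) ∧
      hb s t ≠ 0 ∧ hb t r ≠ 0 ∧ hb r s ≠ 0 ∧ hb (t + hb t s • s) r ≠ 0 := by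
  have hK' := card_eq_sq hK
  obtain ⟨w, hw0, hw1, hw⟩ := exists_omega hK
  obtain ⟨f, hf, hspan⟩ := exists_ON_basis hK' W hW
  revert f
  rw [h4]
  intro f hf hspan
  have hn : ∀ i j, hb (f i) (f j) = if i = j then 1 else 0 := hf
  have hm : ∀ i, f i ∈ W := fun i => hspan ▸ Submodule.subset_span ⟨i, rfl⟩
  have h11 : (1 : K) + 1 = 0 := add_self_zero hK 1
  have hne : ∀ (x : Vec K) (i : Fin 4), hb x (f i) ≠ 0 → x ≠ 0 := fun x i h e =>
    h (by rw [e, hb_zero_left])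
  have hw3 : w ^ 3 = 1 := pow_three hK hw0
  refine ⟨f 0 + f 1, f 0 + f 2, w • f 1 + f 2, ⟨⟨hne _ 0 ?_, ?_⟩, W.add_mem (hm 0) (hm 1)⟩,
    ⟨⟨hne _ 0 ?_, ?_⟩, W.add_mem (hm 0) (hm 2)⟩,
    ⟨⟨hne _ 2 ?_, ?_⟩, W.add_mem (W.smul_mem _ (hm 1)) (hm 2)⟩, ?_, ?_, ?_, ?_⟩ <;>
    simp [hb_add_left, hb_add_right hK, hb_smul_left, hb_smul_right, hn, h11]
  · rw [show w ^ 2 * w = w ^ 3 by ring, hw3]; exact h11
  · exact hw0
  · intro e
    exact hw1 (sq_eq_one hK ((add_eq_zero_iff_eq' hK).mp (by linear_combination e)))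

end Vectors

namespace Geo22

variable (h : Geo22 D K)

include h

theorem exists_space {z : G} (hz : z ∈ D) :
    ∃ π : ↥(Subgroup.centralizer ({z} : Set G)) →* Cfsg.PSU 6 K 2,
      TwoExt π ⟨z, mem_cent (Commute.refl z)⟩ ∧ Nonempty (ExtSpace h.hK D z π) := by
  obtain ⟨π, he⟩ := h.ext z hz
  exact ⟨π, he, exists_extSpace h.hK h.core hz he⟩

/-- an isometry of a residue comes from the centraliser -/
theorem lift {z : G} (hz : z ∈ D) {π : ↥(Subgroup.centralizer ({z} : Set G)) →* Cfsg.PSU 6 K 2}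
    (he : TwoExt π ⟨z, mem_cent (Commute.refl z)⟩) (xs : ExtSpace h.hK D z π)
    {γ : ↥(Subgroup.centralizer ({z} : Set G))} {g : ↥(Cfsg.SU 6 K 2)}
    (e : π γ = QuotientGroup.mk g) {v : Vec K} (hv : IsPt v) :
    (γ : G) * xs.sp.pt v * (γ : G)⁻¹ = xs.sp.pt (act g v) := by
  have hγ : (γ : G) * z * (γ : G)⁻¹ = z :=
    mul_inv_eq_iff_eq_mul.mpr (Subgroup.mem_centralizer_singleton_iff.mp γ.2)
  have hmem : (γ : G) * xs.sp.pt v * (γ : G)⁻¹ ∈ nb D z := by
    have := h.core.tt.nb_conj (γ : G) (xs.sp.mem hv)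
    rwa [hγ] at this
  refine member_inj h.core hz he hmem (xs.sp.mem (act_pt g hv)) ?_
  rw [xs.eq (act_pt g hv)]
  calc π ⟨(γ : G) * xs.sp.pt v * (γ : G)⁻¹, mem_cent hmem.2.2⟩
      = π (γ * ⟨xs.sp.pt v, mem_cent (xs.sp.mem hv).2.2⟩ * γ⁻¹) := rfl
    _ = ptv h.hK (act g v) := by rw [map_mul, map_mul, map_inv, e, xs.eq hv, ptv_conj]

/-- two members of a residue that do not commute, as a hyperbolic pair -/
theorem coords {z : G} {π : ↥(Subgroup.centralizer ({z} : Set G)) →* Cfsg.PSU 6 K 2}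
    (xs : ExtSpace h.hK D z π) {a d : G} (ha : a ∈ nb D z) (hd : d ∈ nb D z)
    {u : Vec K} (hu : IsPt u) (hpu : xs.sp.pt u = a) (hn : ¬ Commute a d) :
    ∃ v, IsPt v ∧ xs.sp.pt v = d ∧ hb v u = 1 := by
  obtain ⟨v, hv, hpv⟩ := xs.sp.surj d hd
  have hne : hb v u ≠ 0 := fun q => hn (by
    rw [← hpu, ← hpv]; exact ((xs.sp.comm hv hu).mpr q).symm)
  obtain ⟨h1, h2⟩ := xs.sp.smul_pt (inv_ne_zero hne) hv
  exact ⟨_, h1, h2.trans hpv, by rw [hb_smul_left, inv_mul_cancel₀ hne]⟩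

/-- inside a residue the stabiliser of a point moves the points not orthogonal to it -/
theorem residue_move {z a d d' : G} (hz : z ∈ D) (ha : a ∈ nb D z) (hd : d ∈ nb D z)
    (hd' : d' ∈ nb D z) (hn : ¬ Commute a d) (hn' : ¬ Commute a d') :
    ∃ γ : G, Commute γ z ∧ Commute γ a ∧ γ * d' * γ⁻¹ = d := by
  obtain ⟨π, he, ⟨xs⟩⟩ := h.exists_space hz
  obtain ⟨u, hu, hpu⟩ := xs.sp.surj a ha
  obtain ⟨v, hv, hpv, hvu⟩ := h.coords xs ha hd hu hpu hn
  obtain ⟨v', hv', hpv', hv'u⟩ := h.coords xs ha hd' hu hpu hn'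
  obtain ⟨t, ht, e⟩ := move_partner h.hK (Cfsg.Agent.Unitary.nondeg_top (card_eq_sq h.hK))
    Submodule.mem_top (Submodule.mem_top (x := v)) (Submodule.mem_top (x := v')) hu.2 hv.2 hv'.2
    hvu hv'u (by rw [finrank_top, Module.finrank_fin_fun]; norm_num)
  obtain ⟨γ, hγ⟩ := he.surj (QuotientGroup.mk t)
  have eu : act t u = u := TS_fix h.hK (fun x hx => (hb_eq_zero_comm h.hK).mp hx.2) ht
  refine ⟨γ, Subgroup.mem_centralizer_singleton_iff.mp γ.2,
    mul_inv_eq_iff_eq_mul.mp ?_, ?_⟩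
  · rw [← hpu, h.lift hz he xs hγ hu, eu]
  · rw [← hpv', ← hpv, h.lift hz he xs hγ hv', e]

/-- the centraliser of a member is transitive on the common neighbours with a far one -/
theorem conj_common {a d z z' : G} (ha : a ∈ D) (hd : d ∈ D) (hn : ¬ Commute a d)
    (hz : z ∈ common D a d) (hz' : z' ∈ common D a d) :
    ∃ γ : G, Commute γ a ∧ Commute γ d ∧ γ * z * γ⁻¹ = z' := by
  have htt := h.core.tt
  obtain ⟨π, he, ⟨xs⟩⟩ := h.exists_space ha
  obtain ⟨γ1, e1, e2, -⟩ := exists_conj_nb h.core hz.1 hz'.1 ha (xs.sp.sep h.hK)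
  have hd1 : γ1 * d * γ1⁻¹ ∈ nb D z' := by
    have := htt.nb_conj γ1 (nb_symm hd hz.2)
    rwa [e1] at this
  have hn1 : ¬ Commute a (γ1 * d * γ1⁻¹) := fun q => hn (by rw [← e2, commute_conj] at q; exact q)
  obtain ⟨γ2, c1, c2, e3⟩ := h.residue_move hz'.1.1 (nb_symm ha hz'.1) (nb_symm hd hz'.2) hd1 hn hn1
  refine ⟨γ2 * γ1, c2.mul_left (mul_inv_eq_iff_eq_mul.mp e2), ?_, ?_⟩
  · refine mul_inv_eq_iff_eq_mul.mp ?_
    calc γ2 * γ1 * d * (γ2 * γ1)⁻¹ = γ2 * (γ1 * d * γ1⁻¹) * γ2⁻¹ := by group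
      _ = d := e3
  · calc γ2 * γ1 * z * (γ2 * γ1)⁻¹ = γ2 * (γ1 * z * γ1⁻¹) * γ2⁻¹ := by group
      _ = z' := by rw [e1]; exact mul_inv_eq_iff_eq_mul.mpr c1.eq

/-- the centraliser of a member is transitive on the members it does not commute with -/
theorem conj_far {a d d' : G} (ha : a ∈ D) (hd : d ∈ D) (hd' : d' ∈ D) (hn : ¬ Commute a d)
    (hn' : ¬ Commute a d') : ∃ γ : G, Commute γ a ∧ γ * d' * γ⁻¹ = d := by
  have htt := h.core.tt
  obtain ⟨π, he, ⟨xs⟩⟩ := h.exists_space ha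
  obtain ⟨z, hz⟩ := h.far a ha d hd hn
  obtain ⟨z', hz'⟩ := h.far a ha d' hd' hn'
  obtain ⟨γ1, e1, e2, -⟩ := exists_conj_nb h.core hz'.1 hz.1 ha (xs.sp.sep h.hK)
  have hd1 : γ1 * d' * γ1⁻¹ ∈ nb D z := by
    have := htt.nb_conj γ1 (nb_symm hd' hz'.2)
    rwa [e1] at this
  have hn1 : ¬ Commute a (γ1 * d' * γ1⁻¹) := fun q => hn' (by
    rw [← e2, commute_conj] at q; exact q)
  obtain ⟨γ2, -, c2, e3⟩ := h.residue_move hz.1.1 (nb_symm ha hz.1) (nb_symm hd hz.2) hd1 hn hn1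
  refine ⟨γ2 * γ1, c2.mul_left (mul_inv_eq_iff_eq_mul.mp e2), ?_⟩
  calc γ2 * γ1 * d' * (γ2 * γ1)⁻¹ = γ2 * (γ1 * d' * γ1⁻¹) * γ2⁻¹ := by group
    _ = d := e3

/-- two ordered pairs of members that do not commute are conjugate -/
theorem conj_pair {a d a' d' : G} (ha : a ∈ D) (hd : d ∈ D) (hn : ¬ Commute a d) (ha' : a' ∈ D)
    (hd' : d' ∈ D) (hn' : ¬ Commute a' d') : ∃ g : G, g * a' * g⁻¹ = a ∧ g * d' * g⁻¹ = d := by
  obtain ⟨g, hg⟩ := isConj_iff.mp (h.core.cls a' ha' a ha)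
  obtain ⟨γ, c, e⟩ := h.conj_far ha hd (h.core.tt.conj_mem g d' hd') hn (fun q => hn' (by
    rw [← hg, commute_conj] at q; exact q))
  refine ⟨γ * g, ?_, ?_⟩
  · rw [show γ * g * a' * (γ * g)⁻¹ = γ * (g * a' * g⁻¹) * γ⁻¹ by group, hg]
    exact mul_inv_eq_iff_eq_mul.mpr c.eq
  · rw [show γ * g * d' * (γ * g)⁻¹ = γ * (g * d' * g⁻¹) * γ⁻¹ by group, e]

/-- a residue at a common neighbour, with the pair as hyperbolic basis -/
theorem frame_at {a d z : G} (ha : a ∈ D) (hd : d ∈ D) (hn : ¬ Commute a d)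
    (hz : z ∈ common D a d) :
    ∃ (π : ↥(Subgroup.centralizer ({z} : Set G)) →* Cfsg.PSU 6 K 2)
      (_ : TwoExt π ⟨z, mem_cent (Commute.refl z)⟩) (xs : ExtSpace h.hK D z π) (u v : Vec K),
      IsPt u ∧ IsPt v ∧ xs.sp.pt u = a ∧ xs.sp.pt v = d ∧ hb v u = 1 ∧
        ∀ x, IsPt x → (xs.sp.pt x ∈ common D a d ∩ nb D z ↔ hb x u = 0 ∧ hb x v = 0) := by
  obtain ⟨π, he, ⟨xs⟩⟩ := h.exists_space hz.1.1
  have haz := nb_symm ha hz.1
  have hdz := nb_symm hd hz.2
  obtain ⟨u, hu, hpu⟩ := xs.sp.surj a haz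
  obtain ⟨v, hv, hpv, hvu⟩ := h.coords xs haz hdz hu hpu hn
  refine ⟨π, he, xs, u, v, hu, hv, hpu, hpv, hvu, fun x hx => ⟨fun hm => ⟨?_, ?_⟩, fun hxx => ?_⟩⟩
  · exact (xs.sp.comm hx hu).mp (hpu.symm ▸ hm.1.1.2.2.symm)
  · exact (xs.sp.comm hx hv).mp (hpv.symm ▸ hm.1.2.2.2.symm)
  · have hm := xs.sp.mem hx
    have c1 : Commute (xs.sp.pt x) a := hpu ▸ (xs.sp.comm hx hu).mpr hxx.1
    have c2 : Commute (xs.sp.pt x) d := hpv ▸ (xs.sp.comm hx hv).mpr hxx.2
    refine ⟨⟨⟨hm.1, fun q => hn ?_, c1.symm⟩, hm.1, fun q => hn ?_, c2.symm⟩, hm⟩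
    · rw [← q]; exact c2
    · rw [← q]; exact c1.symm

/-- the common neighbours commuting with one of them form forty five points -/
theorem forty {a d z : G} (ha : a ∈ D) (hd : d ∈ D) (hn : ¬ Commute a d)
    (hz : z ∈ common D a d) : Forty (common D a d ∩ nb D z) := by
  obtain ⟨π, he, xs, u, v, hu, hv, hpu, hpv, hvu, hmem⟩ := h.frame_at ha hd hn hz
  obtain ⟨hnd, h4, hW⟩ := pair_perp h.hK hu hv hvu
  obtain ⟨P, hP, hinj, hcov, hadj⟩ := forty_five h.hK hnd h4
  refine ⟨fun i => xs.sp.pt (P i), fun i j e => ?_, ?_, fun i j => ?_⟩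
  · exact (hinj i j ((xs.sp.same (hP i).1 (hP j).1).mp e)).symm
  · ext y
    constructor
    · rintro ⟨i, rfl⟩; exact (hmem _ (hP i).1).mpr ((hW _).mp (hP i).2)
    · intro hy
      obtain ⟨x, hx, rfl⟩ := xs.sp.surj y hy.2
      obtain ⟨i, hi⟩ := hcov x ((hW x).mpr ((hmem x hx).mp hy)) hx
      exact ⟨i, (xs.sp.same (hP i).1 hx).mpr hi⟩
  · show (i ≠ j ∧ Commute (xs.sp.pt (P i)) (xs.sp.pt (P j))) ↔ _
    rw [← hadj i j, xs.sp.comm (hP i).1 (hP j).1]

/-- common neighbours commuting with a given one are conjugate in pairs that do not commute -/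
theorem conj_quad {a d y z w z' w' : G} (ha : a ∈ D) (hd : d ∈ D) (hn : ¬ Commute a d)
    (hy : y ∈ common D a d) (hz : z ∈ common D a d ∩ nb D y) (hw : w ∈ common D a d ∩ nb D y)
    (hzw : ¬ Commute z w) (hz' : z' ∈ common D a d ∩ nb D y) (hw' : w' ∈ common D a d ∩ nb D y)
    (hzw' : ¬ Commute z' w') :
    ∃ γ : G, Commute γ a ∧ Commute γ d ∧ γ * z' * γ⁻¹ = z ∧ γ * w' * γ⁻¹ = w := by
  have hK := h.hK
  obtain ⟨π, he, xs, u, v, hu, hv, hpu, hpv, hvu, hmem⟩ := h.frame_at ha hd hn hy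
  obtain ⟨hnd, h4, hW⟩ := pair_perp hK hu hv hvu
  have inW : ∀ {x}, IsPt x → xs.sp.pt x ∈ common D a d ∩ nb D y → x ∈
      perp 2 (Submodule.span K ({u, v} : Set (Vec K)) : Set (Vec K)) := fun hx hm =>
    (hW _).mpr ((hmem _ hx).mp hm)
  obtain ⟨Z, hZ, hpZ⟩ := xs.sp.surj z hz.2
  obtain ⟨Z', hZ', hpZ'⟩ := xs.sp.surj z' hz'.2
  obtain ⟨V, hV, hpV, hVZ⟩ := h.coords xs hz.2 hw.2 hZ hpZ hzw
  obtain ⟨V', hV', hpV', hVZ'⟩ := h.coords xs hz'.2 hw'.2 hZ' hpZ' hzw'
  have mZ := inW hZ (hpZ.symm ▸ hz)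
  have mZ' := inW hZ' (hpZ'.symm ▸ hz')
  have mV := inW hV (hpV.symm ▸ hw)
  have mV' := inW hV' (hpV'.symm ▸ hw')
  obtain ⟨t1, ht1, e1⟩ := move_iso hK hnd (le_of_le_of_eq (by norm_num) h4.symm) mZ' mZ hZ'.2 hZ.2 hZ'.1 hZ.1
  have fix : ∀ {t}, t ∈ TS hK (perp 2 (Submodule.span K ({u, v} : Set (Vec K)) : Set (Vec K)) :
      Set (Vec K)) → act t u = u ∧ act t v = v := fun ht =>
    ⟨TS_fix hK (fun x hx => (hb_eq_zero_comm hK).mp ((hW x).mp hx).1) ht,
      TS_fix hK (fun x hx => (hb_eq_zero_comm hK).mp ((hW x).mp hx).2) ht⟩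
  have m1 : act t1 V' ∈ perp 2 (Submodule.span K ({u, v} : Set (Vec K)) : Set (Vec K)) := by
    obtain ⟨q1, q2⟩ := (hW _).mp mV'
    obtain ⟨f1, f2⟩ := fix ht1
    refine (hW _).mpr ⟨?_, ?_⟩
    · rw [← f1, act_hb]; exact q1
    · rw [← f2, act_hb]; exact q2
  obtain ⟨t2, ht2, e2⟩ := move_partner hK hnd mZ mV m1 hZ.2 hV.2 ((act_hb _ _ _).trans hV'.2)
    hVZ (by rw [← e1, act_hb]; exact hVZ') h4.symm.le
  obtain ⟨γ, hγ⟩ := he.surj (QuotientGroup.mk (t2 * t1))
  have ht2' := TS_mono hK (fun x hx => hx.1) ht2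
  refine ⟨γ, mul_inv_eq_iff_eq_mul.mp ?_, mul_inv_eq_iff_eq_mul.mp ?_, ?_, ?_⟩
  · rw [← hpu, h.lift hy.1.1 he xs hγ hu, act_mul, (fix ht1).1, (fix ht2').1]
  · rw [← hpv, h.lift hy.1.1 he xs hγ hv, act_mul, (fix ht1).2, (fix ht2').2]
  · rw [← hpZ', h.lift hy.1.1 he xs hγ hZ', act_mul, e1,
      TS_fix hK (fun x hx => (hb_eq_zero_comm hK).mp hx.2) ht2, hpZ]
  · rw [← hpV', h.lift hy.1.1 he xs hγ hV', act_mul, e2, hpV]

/-- the elements fixing a pair and a common neighbour, as isometries fixing the pair -/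
theorem triple_image {a d z k : G} (hka : Commute k a) (hkd : Commute k d) (hz : z ∈ D)
    {π : ↥(Subgroup.centralizer ({z} : Set G)) →* Cfsg.PSU 6 K 2}
    (he : TwoExt π ⟨z, mem_cent (Commute.refl z)⟩) (xs : ExtSpace h.hK D z π) {u v : Vec K}
    (hu : IsPt u) (hv : IsPt v) (hpu : xs.sp.pt u = a) (hpv : xs.sp.pt v = d) (hvu : hb v u = 1)
    (hk : k ∈ Subgroup.centralizer ({z} : Set G)) :
    ∃ g : ↥(Cfsg.SU 6 K 2), π ⟨k, hk⟩ = QuotientGroup.mk g ∧ act g u = u ∧ act g v = v := by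
  have hK := h.hK
  obtain ⟨g, hg⟩ := QuotientGroup.mk_surjective (π ⟨k, hk⟩)
  have fx : ∀ {x : Vec K}, IsPt x → Commute k (xs.sp.pt x) → ∃ t : K, t ≠ 0 ∧ act g x = t • x := by
    intro x hx hc
    have := h.lift hz he xs hg.symm hx
    rw [show k * xs.sp.pt x * k⁻¹ = xs.sp.pt x from mul_inv_eq_iff_eq_mul.mpr hc.eq] at this
    obtain ⟨t, ht⟩ := (xs.sp.same hx (act_pt g hx)).mp this
    exact ⟨t, fun q => (act_pt g hx).1 (by rw [ht, q, zero_smul]), ht⟩
  obtain ⟨l, hl, el⟩ := fx hu (hpu.symm ▸ hka)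
  obtain ⟨m, hm, em⟩ := fx hv (hpv.symm ▸ hkd)
  have hlm : m * l ^ 2 = 1 := by
    have := act_hb g v u
    rw [el, em, hb_smul_left, hb_smul_right, hvu, mul_one] at this
    exact this
  have hml : m = l := by
    linear_combination l * hlm - m * pow_three hK hl
  obtain ⟨s, hs, hsact⟩ := exists_scalar hK (inv_ne_zero hl)
  refine ⟨g * s, ?_, ?_, ?_⟩
  · rw [QuotientGroup.mk_mul, (QuotientGroup.eq_one_iff s).mpr hs, mul_one, hg]
  · rw [act_mul, hsact, act_smul, el, smul_smul, inv_mul_cancel₀ hl, one_smul]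
  · rw [act_mul, hsact, act_smul, em, hml, smul_smul, inv_mul_cancel₀ hl, one_smul]

/-- the centraliser of a pair and a common neighbour lies in the subgroup of the common
neighbours -/
theorem cent_triple_le {a d z k : G} (ha : a ∈ D) (hd : d ∈ D) (hn : ¬ Commute a d)
    (hz : z ∈ common D a d) (hka : Commute k a) (hkd : Commute k d) (hkz : Commute k z) :
    k ∈ Subgroup.closure (common D a d) := by
  have hK := h.hK
  obtain ⟨π, he, xs, u, v, hu, hv, hpu, hpv, hvu, hmem⟩ := h.frame_at ha hd hn hz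
  obtain ⟨g, hg, gu, gv⟩ := h.triple_image hka hkd hz.1.1 he xs hu hv hpu hpv hvu
    (Subgroup.mem_centralizer_singleton_iff.mpr hkz.eq)
  have hgT := stab_pair hK hu hv.2 hvu gu gv
  have hle : TS hK {x | hb x u = 0 ∧ hb x v = 0} ≤
      (((Subgroup.closure (common D a d)).subgroupOf
        (Subgroup.centralizer ({z} : Set G))).map π).comap
        (QuotientGroup.mk' (Subgroup.center ↥(Cfsg.SU 6 K 2))) := by
    rw [TS, Subgroup.closure_le]
    rintro _ ⟨x, ⟨hx, hxx⟩, rfl⟩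
    exact ⟨⟨xs.sp.pt x, mem_cent (xs.sp.mem hx).2.2⟩,
      Subgroup.subset_closure ((hmem x hx).mpr hxx).1, xs.eq hx⟩
  obtain ⟨l, hl, el⟩ := hle hgT
  rcases he.eq_or (el.trans hg.symm) with q | q
  · have : k = (l : G) := congrArg Subtype.val q
    rw [this]; exact hl
  · have : k = (l : G) * z := congrArg Subtype.val q
    rw [this]
    exact mul_mem hl (Subgroup.subset_closure hz)

/-- only the neighbour itself centralises such a configuration -/
theorem triple_central {a d z k : G} (ha : a ∈ D) (hd : d ∈ D) (hn : ¬ Commute a d)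
    (hz : z ∈ common D a d) (hka : Commute k a) (hkd : Commute k d) (hkz : Commute k z)
    (hk : ∀ y ∈ common D a d ∩ nb D z, Commute k y) : k = 1 ∨ k = z := by
  have hK := h.hK
  have hK' := card_eq_sq hK
  obtain ⟨π, he, xs, u, v, hu, hv, hpu, hpv, hvu, hmem⟩ := h.frame_at ha hd hn hz
  obtain ⟨hnd, h4, hW⟩ := pair_perp hK hu hv hvu
  obtain ⟨g, hg, gu, gv⟩ := h.triple_image hka hkd hz.1.1 he xs hu hv hpu hpv hvu
    (Subgroup.mem_centralizer_singleton_iff.mpr hkz.eq)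
  set W := perp 2 (Submodule.span K ({u, v} : Set (Vec K)) : Set (Vec K))
  have fx : ∀ {x : Vec K}, IsPt x → x ∈ W → ∃ t : K, t ≠ 0 ∧ act g x = t • x := by
    intro x hx hxW
    have hc := hk _ ((hmem x hx).mpr ((hW x).mp hxW))
    have := h.lift hz.1.1 he xs hg hx
    rw [show k * xs.sp.pt x * k⁻¹ = xs.sp.pt x from mul_inv_eq_iff_eq_mul.mpr hc.eq] at this
    obtain ⟨t, ht⟩ := (xs.sp.same hx (act_pt g hx)).mp this
    exact ⟨t, fun q => (act_pt g hx).1 (by rw [ht, q, zero_smul]), ht⟩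
  obtain ⟨e, heW, he0, hee⟩ := Cfsg.Agent.Unitary.exists_isotropic hK' hnd (le_of_le_of_eq (by norm_num) h4.symm)
  obtain ⟨c, hc, ec⟩ := fx ⟨he0, hee⟩ heW
  -- all points of the four space have the same multiplier
  have nonorth : ∀ {x y : Vec K}, IsPt x → IsPt y → x ∈ W → y ∈ W → hb x y ≠ 0 → ∀ {s t : K},
      s ≠ 0 → t ≠ 0 → act g x = s • x → act g y = t • y → s = t := by
    intro x y hx hy hxW hyW hxy s t hs ht ex ey
    have := act_hb g x y
    rw [ex, ey, hb_smul_left, hb_smul_right, ← mul_assoc] at this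
    have hst : s * t ^ 2 = 1 := mul_right_cancel₀ hxy (by rw [this, one_mul])
    linear_combination t * hst - s * pow_three hK ht
  have all : ∀ {x : Vec K}, IsPt x → x ∈ W → act g x = c • x := by
    intro x hx hxW
    obtain ⟨t, ht, ext'⟩ := fx hx hxW
    suffices t = c by rw [← this]; exact ext'
    by_cases hs : SamePt e x
    · obtain ⟨r, hr⟩ := hs
      have hr0 : r ≠ 0 := fun q => hx.1 (by rw [hr, q, zero_smul])
      have e1 := ext'
      rw [hr, act_smul, ec, smul_smul, smul_smul] at e1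
      have := smul_left_injective K he0 e1
      exact mul_right_cancel₀ hr0 (by linear_combination -this)
    obtain ⟨y, hyW, hyy, hye, hyx⟩ := Cfsg.Agent.Unitary.exists_iso_pair hK' hnd (le_of_le_of_eq (by norm_num) h4.symm)
      heW hxW hee hx.2 (indep_pair he0 hs) (a := (1 : K)) (b := 1) one_ne_zero
    have hy : IsPt y := ⟨fun q => one_ne_zero (by
      rw [← show hb y e = 1 from hye, q, hb_zero_left]), hyy⟩
    obtain ⟨s, hs', es⟩ := fx hy hyW
    have k1 := nonorth hy ⟨he0, hee⟩ hyW heW (by rw [show hb y e = 1 from hye]; exact one_ne_zero)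
      hs' hc es ec
    have k2 := nonorth hy hx hyW hxW (by rw [show hb y x = 1 from hyx]; exact one_ne_zero)
      hs' ht es ext'
    exact k2.symm.trans k1
  have allW : ∀ x ∈ W, act g x = c • x :=
    exists_add_isotropic hK' hnd (le_of_le_of_eq (by norm_num) h4.symm) (p := fun x => act g x = c • x)
      (fun x hxW hx => by
        by_cases hx0 : x = 0
        · subst hx0; simp [act_zero]
        · exact all ⟨hx0, hx⟩ hxW)
      (fun x _ y _ hx hy => by
        show act g (x + y) = c • (x + y)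
        rw [act_add, hx, hy, smul_add])
  obtain ⟨s, hs, hsact⟩ := exists_scalar hK (inv_ne_zero hc)
  have hfix : g * s ∈ fixer 6 K 2 (perp 2 ({u, v} : Set (Vec K))) := by
    rw [mem_fixer]
    intro x hx
    show act (g * s) x = x
    rw [act_mul, hsact, act_smul, allW x ((hW x).mpr ((mem_pair_perp hK).mp hx)), smul_smul,
      inv_mul_cancel₀ hc, one_smul]
  have huv : hb u v = 1 := by rw [hb_conj hK v u, hvu, one_pow]
  have hdet : hb (act (g * s) u) v * hb (act (g * s) v) u -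
      hb (act (g * s) v) v * hb (act (g * s) u) u = 1 :=
    det_hyperbolic hK' hu.2 hv.2 hvu hfix
  simp only [act_mul, hsact, act_smul, gu, gv, hb_smul_left, hu.2, hv.2, huv, hvu, mul_zero,
    mul_one, sub_zero] at hdet
  have hc1 : c = 1 := sq_eq_one hK (by
    have h3 := pow_three hK hc
    field_simp at hdet
    linear_combination -hdet)
  have hg1 : g = 1 := act_ext fun x => by
    rw [act_one]
    have hsub : x - hb x v • u - hb x u • v ∈ perp 2 ({u, v} : Set (Vec K)) :=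
      Cfsg.Agent.Unitary.sub_pair_mem_perp hu.2 hv.2 huv hvu x
    have h1 := allW _ ((hW _).mpr ((mem_pair_perp hK).mp hsub))
    have e : x = (x - hb x v • u - hb x u • v) + hb x v • u + hb x u • v := by abel
    conv_lhs => rw [e]
    rw [act_add, act_add, h1, act_smul, act_smul, gu, gv, hc1, one_smul]
    exact e.symm
  rw [hg1, QuotientGroup.mk_one] at hg
  exact (he.ker _ hg).imp (congrArg Subtype.val) (congrArg Subtype.val)

/-- two far common neighbours have a common neighbour among the common neighbours -/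
theorem common_far {a d z w : G} (ha : a ∈ D) (hd : d ∈ D) (hn : ¬ Commute a d)
    (hz : z ∈ common D a d) (hw : w ∈ common D a d) (hzw : ¬ Commute z w) :
    ∃ y, y ∈ common D a d ∩ nb D z ∧ y ∈ nb D w := by
  have hK := h.hK
  have htt := h.core.tt
  -- three members forming a non-degenerate triangle
  obtain ⟨π, he, xs, u, v, hu, hv, hpu, hpv, hvu, hmem⟩ := h.frame_at ha hd hn hz
  obtain ⟨hnd, h4, hW⟩ := pair_perp hK hu hv hvu
  obtain ⟨s, t, r, ⟨hs, msW⟩, ⟨ht, mtW⟩, ⟨hr, mrW⟩, st, tr, rs, str⟩ := exists_triangle hK hnd h4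
  set T := common D a d ∩ nb D z with hT
  have ms : xs.sp.pt s ∈ T := (hmem s hs).mpr ((hW s).mp msW)
  have mt : xs.sp.pt t ∈ T := (hmem t ht).mpr ((hW t).mp mtW)
  have mr : xs.sp.pt r ∈ T := (hmem r hr).mpr ((hW r).mp mrW)
  have nst : ¬ Commute (xs.sp.pt s) (xs.sp.pt t) := fun q => st ((xs.sp.comm hs ht).mp q)
  have ntr : ¬ Commute (xs.sp.pt t) (xs.sp.pt r) := fun q => tr ((xs.sp.comm ht hr).mp q)
  have nrs : ¬ Commute (xs.sp.pt r) (xs.sp.pt s) := fun q => rs ((xs.sp.comm hr hs).mp q)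
  have nstr : ¬ Commute (xs.sp.pt s * xs.sp.pt t * xs.sp.pt s) (xs.sp.pt r) := fun q => str (by
    rw [xs.sp.third hs ht] at q
    exact (xs.sp.comm (isPt_third hK hs ht) hr).mp q)
  generalize xs.sp.pt s = p at ms nst nrs nstr
  generalize xs.sp.pt t = q at mt nst ntr nstr
  generalize xs.sp.pt r = o at mr ntr nrs nstr
  clear hmem hvu hpu hpv xs he hnd h4 hW msW mtW mrW hu hv u v π
  -- read them in the residue at `a`
  obtain ⟨πa, hea, ⟨xa⟩⟩ := h.exists_space ha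
  have inA : ∀ {y}, y ∈ T → y ∈ nb D a := fun hy => hy.1.1
  have closed : ∀ {x y}, x ∈ T → y ∈ T → x * y * x ∈ T := by
    intro x y hx hy
    have key : ∀ {e}, x ∈ nb D e → y ∈ nb D e → x * y * x ∈ nb D e := by
      intro e hxe hye
      have := htt.nb_conj x hye
      rwa [htt.inv_eq hxe.1, show x * e * x = e by
        rw [hxe.2.2.symm.eq, mul_assoc, htt.sq x hxe.1, mul_one]] at this
    exact ⟨⟨key hx.1.1 hy.1.1, key hx.1.2 hy.1.2⟩, key hx.2 hy.2⟩
  obtain ⟨S, hS, hpS⟩ := xa.sp.surj p (inA ms)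
  obtain ⟨T', hT', hpT, hTS⟩ := h.coords xa (inA ms) (inA mt) hS hpS nst
  obtain ⟨R, hR, hpR, hRT⟩ := h.coords xa (inA mt) (inA mr) hT' hpT ntr
  have hST : hb S T' = 1 := by rw [hb_conj hK T' S, hTS, one_pow]
  have hTR : hb T' R = 1 := by rw [hb_conj hK R T', hRT, one_pow]
  have hc0 : hb R S ≠ 0 := fun e => nrs (hpR ▸ hpS ▸ (xa.sp.comm hR hS).mpr e)
  have hc1 : hb R S ≠ 1 := fun e => nstr (by
    rw [← hpS, ← hpT, ← hpR, xa.sp.third hS hT']
    refine (xa.sp.comm (isPt_third hK hS hT') hR).mpr ?_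
    rw [hb_add_left, hb_smul_left, hTS, hTR, one_mul, hb_conj hK R S, e, one_pow]
    exact add_self_zero hK 1)
  obtain ⟨Wv, hWv, hpW⟩ := xa.sp.surj w hw.1
  let Q : Vec K → Prop := fun x => IsPt x ∧ xa.sp.pt x ∈ T
  have qS : Q S := ⟨hS, hpS.symm ▸ ms⟩
  have qT : Q T' := ⟨hT', hpT.symm ▸ mt⟩
  have qR : Q R := ⟨hR, hpR.symm ▸ mr⟩
  have step : ∀ {x y : Vec K}, Q x → Q y → Q (y + hb y x • x) := fun hx hy =>
    ⟨isPt_third hK hx.1 hy.1, xa.sp.third hx.1 hy.1 ▸ closed hx.2 hy.2⟩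
  have done : ∀ {x : Vec K}, Q x → hb x Wv = 0 → ∃ y, y ∈ T ∧ y ∈ nb D w := by
    intro x hx e
    refine ⟨_, hx.2, hx.2.1.1.1, fun q => hzw ?_, ?_⟩
    · rw [← q]; exact hx.2.2.2.2
    · rw [← hpW]; exact ((xa.sp.comm hx.1 hWv).mpr e).symm
  have q4 : Q (T' + S) := by simpa [hTS] using step qS qT
  have q5 : Q (R + T') := by simpa [hRT] using step qT qR
  have q6 := step qS qR
  have q7 : Q (R + (1 + hb R S) • (S + T')) := by
    have := step (show Q (S + T') by rwa [add_comm]) qR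
    rwa [hb_add_right hK, hRT, add_comm (hb R S)] at this
  have q8 : Q (R + T' + (1 + hb R S) • S) := by
    have := step qS q5
    rwa [hb_add_left, hTS, add_comm (hb R S)] at this
  have q9 : Q (R + hb R S • S + (1 + hb R S) • T') := by
    have := step qT q6
    rwa [hb_add_left, hb_smul_left, hRT, hST, mul_one] at this
  rcases nine_zero' hK (x := hb S Wv) (y := hb T' Wv) (z := hb R Wv) hc0 hc1 with
    e | e | e | e | e | e | e | e | e
  · exact done qS e
  · exact done qT e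
  · exact done qR e
  · exact done q4 (by rw [hb_add_left]; linear_combination e)
  · exact done q5 (by rw [hb_add_left]; linear_combination e)
  · exact done q6 (by rw [hb_add_left, hb_smul_left]; linear_combination e)
  · exact done q7 (by rw [hb_add_left, hb_smul_left, hb_add_left]; linear_combination e)
  · exact done q8 (by rw [hb_add_left, hb_add_left, hb_smul_left]; linear_combination e)
  · exact done q9 (by rw [hb_add_left, hb_add_left, hb_smul_left, hb_smul_left]; linear_combination e)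

/-- only the third member of the line centralises all common neighbours -/
theorem third_of_common {a d z e : G} (ha : a ∈ D) (hd : d ∈ D) (hn : ¬ Commute a d)
    (hz : z ∈ common D a d) (he : e ∈ nb D z) (hea : ¬ Commute e a) (hed : ¬ Commute e d)
    (hk : ∀ y ∈ common D a d ∩ nb D z, Commute e y) : e = a * d * a := by
  have hK := h.hK
  have hK' := card_eq_sq hK
  obtain ⟨π, hπ, xs, u, v, hu, hv, hpu, hpv, hvu, hmem⟩ := h.frame_at ha hd hn hz
  obtain ⟨hnd, h4, hW⟩ := pair_perp hK hu hv hvu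
  obtain ⟨E, hE, hpE, hEu⟩ := h.coords xs (nb_symm ha hz.1) he hu hpu fun q => hea q.symm
  set W := perp 2 (Submodule.span K ({u, v} : Set (Vec K)) : Set (Vec K))
  have hperp : ∀ x ∈ W, hb x E = 0 :=
    exists_add_isotropic hK' hnd (le_of_le_of_eq (by norm_num) h4.symm) (p := fun x => hb x E = 0)
      (fun x hxW hx => by
        by_cases hx0 : x = 0
        · subst hx0; exact hb_zero_left E
        · exact (xs.sp.comm ⟨hx0, hx⟩ hE).mp
            (hpE.symm ▸ (hk _ ((hmem x ⟨hx0, hx⟩).mpr ((hW x).mp hxW))).symm))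
      (fun x _ y _ hx hy => by
        show hb (x + y) E = 0
        rw [hb_add_left, show hb x E = 0 from hx, show hb y E = 0 from hy, add_zero])
  have huv : hb u v = 1 := by rw [hb_conj hK v u, hvu, one_pow]
  have hsub : E - hb E v • u - hb E u • v ∈ perp 2 ({u, v} : Set (Vec K)) :=
    Cfsg.Agent.Unitary.sub_pair_mem_perp hu.2 hv.2 huv hvu E
  have hsubW := (hW _).mpr ((mem_pair_perp hK).mp hsub)
  have hz0 : E - hb E v • u - hb E u • v = 0 := by
    refine hnd _ hsubW fun x hx => ?_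
    show hb _ x = 0
    obtain ⟨x1, x2⟩ := (hW x).mp hx
    have eE : E - hb E v • u - hb E u • v = E + hb E v • u + hb E u • v := by
      rw [sub_eq_add_neg, sub_eq_add_neg, ← neg_smul, ← neg_smul, neg_eq_self hK, neg_eq_self hK]
    rw [eE, hb_add_left, hb_add_left, hb_smul_left, hb_smul_left,
      (hb_eq_zero_comm hK).mp (hperp x hx), (hb_eq_zero_comm hK).mp x1,
      (hb_eq_zero_comm hK).mp x2, mul_zero, mul_zero, add_zero, add_zero]
  have eE : E = hb E v • u + v := by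
    rw [sub_sub, sub_eq_zero, hEu, one_smul] at hz0
    exact hz0
  have hne : hb E v ≠ 0 := fun q => hed (by
    rw [← hpE, ← hpv]; exact (xs.sp.comm hE hv).mpr q)
  have h1 : hb E v = 1 := by
    have := hE.2
    rw [eE] at this
    simp only [hb_add_left, hb_add_right hK, hb_smul_left, hb_smul_right, hu.2, hv.2, huv, hvu,
      mul_zero, mul_one, zero_add, add_zero] at this
    have hf : hb E v * (hb E v + 1) = 0 := by linear_combination this
    exact (add_eq_zero_iff_eq' hK).mp ((mul_eq_zero.mp hf).resolve_left hne)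
  rw [← hpE, ← hpu, ← hpv, xs.sp.third hu hv, hvu]
  congr 1
  rw [eE, h1, add_comm]

end Geo22

end Cfsg.Agent.H93
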