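import Cfsg.Agent.H93.Config23
import Cfsg.Agent.H25.Fi23.Bridge

/-!
Uniqueness of the groups of type M(23): each of them is the presented Fischer group Fi23, the class
corresponding to the conjugates of the first generator.
-/

set_option autoImplicit false

namespace Cfsg.Agent.H93

open Cfsg.Spor
open Cfsg.Agent.H25.Fi23 (X H pres hLetters n_pos order_facts suborbits_points H_index)
open Config23 (wordA wordB)

namespace Unique23

/-- the subgroup of the nine letters is maximal -/
theorem maximal_H (M : Subgroup X) (hM : H ≤ M) : M = H ∨ M = ⊤ := by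
  obtain ⟨hfin, -, φ, hA, -, hfix, F, hF0, hF⟩ := order_facts
  obtain ⟨q₁, q₂, -, h1, h2, -, hall⟩ := suborbits_points hA hfix F hF
  have : Finite (X ⧸ H) := Finite.of_equiv _ F.symm
  set q₀ : X ⧸ H := QuotientGroup.mk (1 : X) with hq₀
  have hq0 : F.symm ⟨0, n_pos⟩ = q₀ := by rw [← hF0, F.symm_apply_apply]
  rw [hq0] at hall
  set S := MulAction.orbit M q₀
  have hst : MulAction.stabilizer M q₀ = H.subgroupOf M := by
    ext m
    rw [MulAction.mem_stabilizer_iff, Subgroup.mem_subgroupOf]
    show (QuotientGroup.mk ((m : X) * 1) : X ⧸ H) = QuotientGroup.mk 1 ↔ _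
    rw [QuotientGroup.eq]
    simp
  have hcard : S.ncard = H.relIndex M := by
    rw [← MulAction.index_stabilizer, hst]; rfl
  have hdvd : S.ncard ∣ 31671 := ⟨M.index, by rw [hcard, Subgroup.relIndex_mul_index hM, H_index]⟩
  have hsub : ∀ {q}, q ∈ S → MulAction.orbit H q ⊆ S := by
    rintro _ ⟨m, rfl⟩ _ ⟨k, rfl⟩
    exact ⟨⟨(k : X), hM k.2⟩ * m, mul_smul _ _ _⟩
  have h0S : q₀ ∈ S := MulAction.mem_orbit_self _
  have hH0 : MulAction.orbit H q₀ = {q₀} := by
    refine Set.eq_singleton_iff_unique_mem.mpr ⟨MulAction.mem_orbit_self _, ?_⟩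
    rintro _ ⟨k, rfl⟩
    show (QuotientGroup.mk ((k : X) * 1) : X ⧸ H) = QuotientGroup.mk 1
    rw [QuotientGroup.eq]
    simp
  have dis : ∀ x y : X ⧸ H, (MulAction.orbit H x).ncard ≠ (MulAction.orbit H y).ncard →
      Disjoint (MulAction.orbit H x) (MulAction.orbit H y) := by
    intro x y hxy
    rw [Set.disjoint_left]
    intro z hz1 hz2
    exact hxy (by rw [← MulAction.orbit_eq_iff.mpr hz1, MulAction.orbit_eq_iff.mpr hz2])
  have d01 := dis q₀ q₁ (by rw [hH0, Set.ncard_singleton, h1]; norm_num)
  have d02 := dis q₀ q₂ (by rw [hH0, Set.ncard_singleton, h2]; norm_num)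
  have d12 := dis q₁ q₂ (by rw [h1, h2]; norm_num)
  rw [hH0] at d01 d02
  by_cases c1 : q₁ ∈ S <;> by_cases c2 : q₂ ∈ S
  · right
    have hS : S = Set.univ := Set.eq_univ_of_forall fun q => by
      rcases hall q with rfl | hq | hq
      exacts [h0S, hsub c1 hq, hsub c2 hq]
    have hidx := Subgroup.relIndex_mul_index hM
    rw [← hcard, hS, Set.ncard_univ, show Nat.card (X ⧸ H) = H.index from rfl, H_index] at hidx
    exact Subgroup.index_eq_one.mp (by omega)
  · exfalso
    have hS : S = {q₀} ∪ MulAction.orbit H q₁ := by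
      refine Set.Subset.antisymm (fun q hq => ?_) (Set.union_subset (by simpa using h0S) (hsub c1))
      rcases hall q with rfl | h | h
      · exact Or.inl rfl
      · exact Or.inr h
      · exact absurd (hsub hq (MulAction.mem_orbit_symm.mp h)) c2
    rw [hS, Set.ncard_union_eq d01, Set.ncard_singleton, h1] at hdvd
    norm_num at hdvd
  · exfalso
    have hS : S = {q₀} ∪ MulAction.orbit H q₂ := by
      refine Set.Subset.antisymm (fun q hq => ?_) (Set.union_subset (by simpa using h0S) (hsub c2))
      rcases hall q with rfl | h | h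
      · exact Or.inl rfl
      · exact absurd (hsub hq (MulAction.mem_orbit_symm.mp h)) c1
      · exact Or.inr h
    rw [hS, Set.ncard_union_eq d02, Set.ncard_singleton, h2] at hdvd
    norm_num at hdvd
  · left
    refine le_antisymm (fun m hm => ?_) hM
    have hmS : (⟨m, hm⟩ : M) • q₀ ∈ S := MulAction.mem_orbit _ _
    rcases hall ((⟨m, hm⟩ : M) • q₀) with h | h | h
    · have h' : (QuotientGroup.mk (m * 1) : X ⧸ H) = QuotientGroup.mk 1 := h
      rw [QuotientGroup.eq] at h'
      simpa using h'
    · exact absurd (hsub hmS (MulAction.mem_orbit_symm.mp h)) c1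
    · exact absurd (hsub hmS (MulAction.mem_orbit_symm.mp h)) c2

/-- the only normal subgroup in the subgroup of the nine letters is trivial -/
theorem core_H {K : Subgroup X} [K.Normal] (hK : K ≤ H) : K = ⊥ := by
  obtain ⟨hfin, -, φ, hA, hinj, hfix, F, hF0, hF⟩ := order_facts
  rw [eq_bot_iff]
  intro g hg
  rw [Subgroup.mem_bot]
  refine hinj ?_
  rw [map_one]
  refine Equiv.ext fun i => ?_
  obtain ⟨q, rfl⟩ := F.surjective i
  rw [← hF, Equiv.Perm.one_apply]
  congr 1
  induction q using QuotientGroup.induction_on with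
  | H y =>
    show (QuotientGroup.mk (g * y) : X ⧸ H) = QuotientGroup.mk y
    rw [QuotientGroup.eq]
    have := hK (Subgroup.Normal.conj_mem ‹K.Normal› _ (inv_mem hg) y⁻¹)
    rw [inv_inv] at this
    rwa [mul_inv_rev]

/-- a group of type M(23) is the presented group, the class being that of the first generator -/
theorem equiv_fi23 {G : Type*} [Group G] [Finite G] {D : Set G} (hD : Cfsg.IsThreeTranspositionClass D)
    (h23 : Cfsg.IsOfTypeM23 G D) :
    ∃ e : Fi23 ≃* G, e '' {y | IsConj (PresentedGroup.of (Fi23.Gen.a) : Fi23) y} = D := by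
  classical
  have h := geo23 hD h23
  have htt := h.core.tt
  obtain ⟨x, hx⟩ := (m23data hD h23).nonempty
  obtain ⟨j, hj, hn⟩ : ∃ j ∈ D, ¬ Commute x j := by
    by_contra hc
    simp only [not_exists, not_and, not_not] at hc
    exact h.core.ne_one x hx (h.cen x hc)
  obtain ⟨ψ, hψD, hψx, hψj, hcox, hA, hB⟩ := exists_config hD h23 hx hj hn
  have hrel : ∀ r ∈ coxRelators Fi23.edges ∪ {r | r ∈ Fi23.extra}, FreeGroup.lift ψ r = 1 := by
    rintro r (⟨y, -, z, -, rfl⟩ | hr)
    · rw [map_pow, map_mul, FreeGroup.lift_apply_of, FreeGroup.lift_apply_of]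
      exact hcox y z
    · simp only [Fi23.extra, Set.mem_ofPred_eq, List.mem_cons, List.not_mem_nil, or_false] at hr
      have hpow : ∀ (n : ℕ) (w : List Fi23.Gen),
          ((List.replicate n w).flatten.map ψ).prod = (w.map ψ).prod ^ n := by
        intro n w
        induction n with
        | zero => simp
        | succ n ih => rw [List.replicate_succ, List.flatten_cons, List.map_append, List.prod_append,
            ih, pow_succ']
      rcases hr with rfl | rfl
      · rw [map_pow, ← hA, hpow]
        simp [wordA, mul_assoc]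
      · rw [map_pow, ← hB, hpow]
        simp [wordB, mul_assoc]
  let φ : X →* G := PresentedGroup.toGroup hrel
  have hφ : ∀ y : Fi23.Gen, φ (PresentedGroup.of y) = ψ y := fun y => PresentedGroup.toGroup.of hrel
  obtain ⟨hfin, hcX, -⟩ := order_facts
  have hH : H ≤ (Subgroup.centralizer ({x} : Set G)).comap φ := by
    rw [H, Cfsg.Agent.H45.Pres.sub, Subgroup.closure_le]
    rintro _ ⟨l, hl, rfl⟩
    rw [SetLike.mem_coe, Subgroup.mem_comap, Subgroup.mem_centralizer_singleton_iff]
    simp only [hLetters, List.mem_cons, List.not_mem_nil, or_false] at hl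
    rcases hl with rfl | rfl | rfl | rfl | rfl | rfl | rfl | rfl | rfl <;>
      exact ((hφ _).symm ▸ (hψx _ (by decide)).eq.symm)
  have hne : (Subgroup.centralizer ({x} : Set G)).comap φ ≠ ⊤ := fun e => by
    have : (PresentedGroup.of Fi23.Gen.j : X) ∈ (Subgroup.centralizer ({x} : Set G)).comap φ := by
      rw [e]; trivial
    rw [Subgroup.mem_comap, Subgroup.mem_centralizer_singleton_iff, hφ, hψj] at this
    exact hn this.symm
  have hker : φ.ker = ⊥ := by
    refine core_H ?_
    have hle : φ.ker ≤ (Subgroup.centralizer ({x} : Set G)).comap φ := fun k hk => by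
      rw [Subgroup.mem_comap, MonoidHom.mem_ker.mp hk]
      exact one_mem _
    rcases maximal_H (φ.ker ⊔ H) le_sup_right with e | e
    · exact e ▸ le_sup_left
    · exact absurd (top_le_iff.mp (e ▸ sup_le hle hH)) hne
  have hcG : Nat.card G = 4089470473293004800 := by rw [h.card_group hx]
  have hinj : Function.Injective φ := (MonoidHom.ker_eq_bot_iff φ).mp hker
  have hbij : Function.Bijective φ :=
    (Nat.bijective_iff_injective_and_card φ).mpr ⟨hinj, hcX.trans hcG.symm⟩
  let φ' : Fi23 →* G := PresentedGroup.toGroup hrel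
  have hbij' : Function.Bijective φ' := hbij
  refine ⟨MulEquiv.ofBijective φ' hbij', ?_⟩
  have ha : φ' (PresentedGroup.of Fi23.Gen.a) ∈ D := by
    show φ (PresentedGroup.of Fi23.Gen.a) ∈ D
    rw [hφ]; exact hψD _
  ext y
  constructor
  · rintro ⟨z, hz, rfl⟩
    obtain ⟨g, rfl⟩ := isConj_iff.mp hz
    show φ' (g * _ * g⁻¹) ∈ D
    rw [map_mul, map_mul, map_inv]
    exact htt.conj_mem _ _ ha
  · intro hy
    obtain ⟨z, rfl⟩ := hbij'.2 y
    refine ⟨z, ?_, rfl⟩
    obtain ⟨g, hg⟩ := isConj_iff.mp (h.core.cls _ ha _ hy)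
    obtain ⟨k, rfl⟩ := hbij'.2 g
    refine isConj_iff.mpr ⟨k, hbij'.1 ?_⟩
    rw [map_mul, map_mul, map_inv]
    exact hg

end Unique23

end Cfsg.Agent.H93
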