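import Cfsg.Agent.H93.Cent22

/-!
Groups of type M(23): every residue is of type M(22), and members in a residue.
-/

set_option autoImplicit false

namespace Cfsg.Agent.H93

variable {G : Type*} [Group G] {D : Set G}

/-! ### images of neighbours in a residue -/

open Classical in
/-- the image of a member in the residue at `a` -/
noncomputable def rimg (D : Set G) (a y : G) : Residue D a :=
  if h : y ∈ nb D a then QuotientGroup.mk (nbElem h) else 1

theorem rimg_eq {a y : G} (h : y ∈ nb D a) : rimg D a y = QuotientGroup.mk (nbElem h) := dif_pos h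

theorem rimg_mem {a y : G} (h : y ∈ nb D a) : rimg D a y ∈ resSet D a :=
  mem_resSet.mpr ⟨y, h, rimg_eq h⟩

theorem rimg_surj {a : G} {e : Residue D a} (h : e ∈ resSet D a) :
    ∃ y, y ∈ nb D a ∧ rimg D a y = e := by
  obtain ⟨y, hy, rfl⟩ := mem_resSet.mp h
  exact ⟨y, hy, rimg_eq hy⟩

theorem Core.rimg_inj (h : Core D) {a p q : G} (ha : a ∈ D) (hp : p ∈ nb D a) (hq : q ∈ nb D a) :
    rimg D a p = rimg D a q ↔ p = q := by
  rw [rimg_eq hp, rimg_eq hq]; exact h.mk_inj ha hp hq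

theorem Core.rimg_comm (h : Core D) {a p q : G} (hp : p ∈ nb D a) (hq : q ∈ nb D a) :
    Commute (rimg D a p) (rimg D a q) ↔ Commute p q := by
  rw [rimg_eq hp, rimg_eq hq]; exact residue_commute h.tt hp hq

/-- common neighbours give neighbours in the residue -/
theorem Core.rimg_nb (h : Core D) {a y z : G} (ha : a ∈ D) (hy : y ∈ nb D a)
    (hz : z ∈ nb D a ∩ nb D y) : rimg D a z ∈ nb (resSet D a) (rimg D a y) :=
  ⟨rimg_mem hz.1, fun e => hz.2.2.1 ((h.rimg_inj ha hz.1 hy).mp e), (h.rimg_comm hy hz.1).mpr hz.2.2.2⟩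

/-- neighbours in the residue come from common neighbours -/
theorem Core.rimg_nb_surj (h : Core D) {a y : G} (ha : a ∈ D) (hy : y ∈ nb D a) {e : Residue D a}
    (he : e ∈ nb (resSet D a) (rimg D a y)) : ∃ z ∈ nb D a ∩ nb D y, rimg D a z = e := by
  obtain ⟨z, hz, rfl⟩ := rimg_surj he.1
  exact ⟨z, ⟨hz, hz.1, fun q => he.2.1 (by rw [q]), (h.rimg_comm hy hz).mp he.2.2⟩, rfl⟩

theorem rimg_prod {a : G} {l : List G} (hl : ∀ y ∈ l, y ∈ nb D a) :
    ∃ hm : l.prod ∈ nbSub D a, (QuotientGroup.mk (⟨l.prod, hm⟩ : ↥(nbSub D a)) : Residue D a) =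
      (l.map (rimg D a)).prod := by
  induction l with
  | nil => exact ⟨one_mem _, rfl⟩
  | cons y l ih =>
    obtain ⟨hm, e⟩ := ih fun z hz => hl z (List.mem_cons_of_mem _ hz)
    have hy := hl y List.mem_cons_self
    refine ⟨show y * l.prod ∈ nbSub D a from mul_mem (Subgroup.subset_closure hy) hm, ?_⟩
    simp only [List.map_cons, List.prod_cons, ← e, rimg_eq hy]
    rfl

/-! ### transport of the type -/

/-- a group generated by a set, modulo its centre, under an isomorphism -/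
theorem closure_quot_equiv {G' : Type*} [Group G'] (e : G ≃* G') {T : Set G'} (S : Set G)
    (hT : T = e '' S) :
    Nonempty ((↥(Subgroup.closure T) ⧸ Subgroup.center ↥(Subgroup.closure T)) ≃*
      (↥(Subgroup.closure S) ⧸ Subgroup.center ↥(Subgroup.closure S))) := by
  subst hT
  have hmap : (Subgroup.closure S).map e.toMonoidHom = Subgroup.closure (e '' S) := by
    rw [MonoidHom.map_closure]; rfl
  let e0 : ↥(Subgroup.closure S) ≃* ↥(Subgroup.closure (e '' S)) :=
    ((Subgroup.closure S).equivMapOfInjective e.toMonoidHom e.injective).trans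
      (MulEquiv.subgroupCongr hmap)
  have hcen : (Subgroup.center ↥(Subgroup.closure (e '' S))).map e0.symm.toMonoidHom =
      Subgroup.center ↥(Subgroup.closure S) := by
    ext z
    rw [Subgroup.mem_map_equiv]
    constructor
    · intro hz
      rw [Subgroup.mem_center_iff] at hz ⊢
      intro w
      apply e0.injective
      simpa using hz (e0 w)
    · intro hz
      rw [Subgroup.mem_center_iff] at hz ⊢
      intro w
      apply e0.symm.injective
      simpa using hz (e0.symm w)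
  exact ⟨QuotientGroup.congr _ _ e0.symm hcen⟩

theorem type22_transfer {G' : Type*} [Group G'] (e : G ≃* G') {E : Set G}
    (h : Cfsg.IsOfTypeM22 G E) : Cfsg.IsOfTypeM22 G' (e '' E) := by
  obtain ⟨hcen, d, hd, c, hc, hdc, ⟨F, iF, iFF, hF, ⟨p⟩⟩, c3, hc3, Q, hQ, hμ, ⟨q⟩⟩ := h
  have hback : ∀ a b, Commute (e a) (e b) ↔ Commute a b := fun a b =>
    ⟨fun q => by simpa using q.map e.symm.toMonoidHom, fun q => q.map e.toMonoidHom⟩
  have hnb : ∀ a, {y : G' | y ∈ e '' E ∧ y ≠ e a ∧ Commute (e a) y} =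
      e '' {y : G | y ∈ E ∧ y ≠ a ∧ Commute a y} := by
    intro a
    ext y
    constructor
    · rintro ⟨⟨x, hx, rfl⟩, hne, hc⟩
      exact ⟨x, ⟨hx, fun q => hne (by rw [q]), (hback a x).mp hc⟩, rfl⟩
    · rintro ⟨x, ⟨hx, hne, hc⟩, rfl⟩
      exact ⟨⟨x, hx, rfl⟩, fun q => hne (e.injective q), (hback a x).mpr hc⟩
  refine ⟨?_, e d, ⟨d, hd, rfl⟩, e c, ⟨c, hc, rfl⟩, fun q => hdc ((hback d c).mp q), ?_, ?_⟩
  · rw [eq_bot_iff]
    intro z hz
    have : e.symm z ∈ Subgroup.center G := Subgroup.mem_center_iff.mpr fun g => by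
      apply e.injective
      simpa using Subgroup.mem_center_iff.mp hz (e g)
    rw [hcen, Subgroup.mem_bot] at this
    exact Subgroup.mem_bot.mpr (by simpa using congrArg e this)
  · obtain ⟨r⟩ := closure_quot_equiv e {y : G | y ∈ E ∧ y ≠ d ∧ Commute d y} (hnb d)
    exact ⟨F, iF, iFF, hF, ⟨r.trans p⟩⟩
  · obtain ⟨r⟩ := closure_quot_equiv e
      ({y : G | y ∈ E ∧ y ≠ d ∧ Commute d y} ∩ {y : G | y ∈ E ∧ y ≠ c ∧ Commute c y})
      (show {y : G' | y ∈ e '' E ∧ y ≠ e d ∧ Commute (e d) y} ∩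
        {y : G' | y ∈ e '' E ∧ y ≠ e c ∧ Commute (e c) y} = _ by
        rw [hnb d, hnb c, ← Set.image_inter e.injective])
    exact ⟨c3, hc3, Q, hQ, hμ, ⟨r.trans q⟩⟩

/-- conjugation moves a residue -/
theorem residue_conj (hD : TT D) (g d : G) :
    ∃ e : Residue D d ≃* Residue D (g * d * g⁻¹), e '' resSet D d = resSet D (g * d * g⁻¹) := by
  set x := g * d * g⁻¹ with hx
  have back : ∀ {y}, y ∈ nb D x → g⁻¹ * y * g ∈ nb D d := fun {y} hy => by
    have := hD.nb_conj g⁻¹ hy
    rwa [hx, show g⁻¹ * (g * d * g⁻¹) * g⁻¹⁻¹ = d by group, inv_inv] at this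
  have hmap : (nbSub D d).map (MulAut.conj g).toMonoidHom = nbSub D x := by
    rw [MonoidHom.map_closure]
    congr 1
    ext y
    constructor
    · rintro ⟨z, hz, rfl⟩
      exact hD.nb_conj g hz
    · exact fun hy => ⟨g⁻¹ * y * g, back hy, by simp [mul_assoc]⟩
  let e0 : ↥(nbSub D d) ≃* ↥(nbSub D x) :=
    ((MulAut.conj g).subgroupMap (nbSub D d)).trans (MulEquiv.subgroupCongr hmap)
  have hcen : (Subgroup.center ↥(nbSub D d)).map e0.toMonoidHom = Subgroup.center ↥(nbSub D x) := by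
    ext z
    rw [Subgroup.mem_map_equiv]
    constructor
    · intro hz
      rw [Subgroup.mem_center_iff] at hz ⊢
      intro w
      apply e0.symm.injective
      rw [map_mul, map_mul]
      exact hz _
    · intro hz
      rw [Subgroup.mem_center_iff] at hz ⊢
      intro w
      apply e0.injective
      simp only [map_mul, MulEquiv.apply_symm_apply]
      exact hz _
  refine ⟨QuotientGroup.congr _ _ e0 hcen, ?_⟩
  ext z
  constructor
  · rintro ⟨_, hw, rfl⟩
    obtain ⟨y, hy, rfl⟩ := mem_resSet.mp hw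
    exact mem_resSet.mpr ⟨g * y * g⁻¹, hD.nb_conj g hy, rfl⟩
  · intro hz
    obtain ⟨y, hy, rfl⟩ := mem_resSet.mp hz
    refine ⟨_, mem_resSet.mpr ⟨_, back hy, rfl⟩, ?_⟩
    show QuotientGroup.mk (e0 (nbElem (back hy))) = _
    congr 1
    apply Subtype.ext
    show g * (g⁻¹ * y * g) * g⁻¹ = y
    group

/-! ### the data -/

/-- the facts used about a group of type M(23) -/
structure M23Data (D : Set G) : Prop where
  core : Core D
  ind : Indep D 6
  conn : Conn D
  sep : ∀ a ∈ D, Sep (nb D a)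
  cen : Subgroup.center G = ⊥
  gen : Subgroup.closure D = ⊤
  nonempty : D.Nonempty
  res : ∀ a ∈ D, ∃ (F : Type) (_ : Field F) (_ : Fintype F), M22Data (resSet D a) F ∧
    (∀ x ∈ resSet D a, Subgroup.centralizer ({x} : Set (Residue D a)) = nbSub (resSet D a) x) ∧
    ∃ (K : Type) (_ : Field K) (_ : Fintype K), Fintype.card K = 4 ∧ ∀ x ∈ resSet D a,
      ∃ π : ↥(Subgroup.centralizer ({x} : Set (Residue D a))) →* Cfsg.PSU 6 K 2,
        TwoExt π ⟨x, mem_cent (Commute.refl x)⟩

theorem m23data [Finite G] (hD : Cfsg.IsThreeTranspositionClass D) (h : Cfsg.IsOfTypeM23 G D) :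
    M23Data D := by
  have htt := TT.of_class hD
  have hne : ∀ a ∈ D, a ≠ 1 := fun a ha e => by simpa [e] using hD.1.1 a ha
  obtain ⟨hcore, hind, -, hres⟩ := good23 htt hD.2.2 hne h
  obtain ⟨hcen, d, hd, c, -, -, h22, -⟩ := h
  obtain ⟨hrig, -⟩ := rigid22 (tt_resSet htt hd) (closure_resSet d) (resSet_ne_one hcore hd) h22
  obtain ⟨-, -, -, F, iF, iFF, hF, hsp⟩ :=
    good22 (tt_resSet htt hd) (closure_resSet d) (resSet_ne_one hcore hd) h22
  have hl : Local D d := local_of_residue hcore hd (hres d hd).1 (hres d hd).2 hrig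
  refine ⟨hcore, hind, conn_of_residue_spaces hF hcore hd hsp,
    fun a ha => (local_all hcore hd hl a ha).sep, hcen, hD.2.2, ⟨d, hd⟩, fun a ha => ?_⟩
  obtain ⟨g, rfl⟩ := isConj_iff.mp (hcore.cls d hd a ha)
  obtain ⟨e, he⟩ := residue_conj htt g d
  have h22a := he ▸ type22_transfer e h22
  have hrc := (hres _ ha).1
  have hclass : Cfsg.IsThreeTranspositionClass (resSet D (g * d * g⁻¹)) := by
    refine ⟨⟨fun x hx => orderOf_eq_prime (by rw [pow_two]; exact hrc.tt.sq x hx) (hrc.ne_one x hx),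
      hrc.tt.pair⟩, ?_, closure_resSet _⟩
    obtain ⟨b, hb⟩ := hcore.edge _ ha
    refine ⟨rimg D _ b, rimg_mem hb, Set.ext fun x => ⟨fun hx => hrc.cls _ (rimg_mem hb) x hx,
      fun hx => ?_⟩⟩
    obtain ⟨k, rfl⟩ := isConj_iff.mp (show IsConj (rimg D _ b) x from hx)
    exact hrc.tt.conj_mem k _ (rimg_mem hb)
  obtain ⟨F', iF', iFF', hdata, K, iK, iKF, hK, hcent, hext⟩ := cent22 hclass h22a
  exact ⟨F', iF', iFF', hdata, hcent, K, iK, iKF, hK, hext⟩

end Cfsg.Agent.H93
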