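import Cfsg.Agent.H93.Common23
import Cfsg.Agent.H61.M24.Count
import Cfsg.Agent.Components.Layer

/-!
Groups of type M(24): the common neighbours of two members that do not commute, the subgroup they
generate, and the normaliser of the subgroup of order three generated by the product of the pair.
-/

set_option autoImplicit false

namespace Cfsg.Agent.H93

variable {G : Type*} [Group G] {D : Set G}

/-- common neighbours in a residue -/
theorem Core.res_mem_common (h : Core D) {z y y' x : G} (hz : z ∈ D) (hy : y ∈ nb D z)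
    (hy' : y' ∈ nb D z) (hx : x ∈ nb D z) :
    rimg D z x ∈ common (resSet D z) (rimg D z y) (rimg D z y') ↔ x ∈ common D y y' := by
  have key : ∀ {y}, y ∈ nb D z → (rimg D z x ∈ nb (resSet D z) (rimg D z y) ↔ x ∈ nb D y) := by
    intro y hy
    exact ⟨fun q => ⟨hx.1, fun e => q.2.1 (by rw [e]), (h.rimg_comm hy hx).mp q.2.2⟩,
      fun q => h.rimg_nb hz hy ⟨hx, q⟩⟩
  exact and_congr (key hy) (key hy')

/-- common neighbours in a residue come from the group -/
theorem Core.res_common_pull (h : Core D) {z y y' : G} (hz : z ∈ D) (hy : y ∈ nb D z)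
    (hy' : y' ∈ nb D z) {e : Residue D z}
    (he : e ∈ common (resSet D z) (rimg D z y) (rimg D z y')) :
    ∃ x ∈ common D y y' ∩ nb D z, rimg D z x = e := by
  obtain ⟨x, hx, rfl⟩ := rimg_surj he.1.1
  exact ⟨x, ⟨(h.res_mem_common hz hy hy' hx).mp he, hx⟩, rfl⟩

/-- the common neighbours in a residue generate images of the common neighbours -/
theorem Core.res_lift_closure (h : Core D) {a d z : G} (hz : z ∈ D) (az : a ∈ nb D z) (dz : d ∈ nb D z)
    {γ : Residue D z}
    (hγ : γ ∈ Subgroup.closure (common (resSet D z) (rimg D z a) (rimg D z d))) :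
    ∃ k, ∃ hk : k ∈ nbSub D z, k ∈ Subgroup.closure (common D a d) ∧
      (QuotientGroup.mk (⟨k, hk⟩ : ↥(nbSub D z)) : Residue D z) = γ := by
  refine Subgroup.closure_induction (fun e he => ?_) ?_ (fun p q _ _ hp hq => ?_) (fun p _ hp => ?_) hγ
  · obtain ⟨x, hx, rfl⟩ := h.res_common_pull hz az dz he
    exact ⟨x, Subgroup.subset_closure hx.2, Subgroup.subset_closure hx.1, (rimg_eq hx.2).symm⟩
  · exact ⟨1, one_mem _, one_mem _, rfl⟩
  · obtain ⟨k, hk, h1, rfl⟩ := hp
    obtain ⟨l, hl, h2, rfl⟩ := hq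
    exact ⟨k * l, mul_mem hk hl, mul_mem h1 h2, rfl⟩
  · obtain ⟨k, hk, h1, rfl⟩ := hp
    exact ⟨k⁻¹, inv_mem hk, inv_mem h1, rfl⟩

/-- a normal simple subgroup with trivial centraliser is the generalised Fitting subgroup -/
theorem genFitting_eq_of_simple [Finite G] (N : Subgroup G) [N.Normal] [IsSimpleGroup ↥N]
    (hC : Subgroup.centralizer (N : Set G) = ⊥) : Cfsg.generalizedFittingSubgroup G = N := by
  have hne : N ≠ ⊥ := fun e => by
    obtain ⟨x, hx⟩ := exists_ne (1 : ↥N)
    exact hx (Subtype.ext (Subgroup.mem_bot.mp (show (x : G) ∈ (⊥ : Subgroup G) from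
      (SetLike.ext_iff.mp e (x : G)).mp x.2)))
  have dich : ∀ M : Subgroup G, M.Normal → M ≤ Subgroup.centralizer (N : Set G) ∨ N ≤ M := by
    intro M hM
    rcases (Subgroup.Normal.subgroupOf hM N).eq_bot_or_eq_top with e | e
    · refine Or.inl fun m hm => Subgroup.mem_centralizer_iff.mpr fun n hn => ?_
      have h1 : n * m * n⁻¹ * m⁻¹ ∈ M := mul_mem (hM.conj_mem m hm n) (inv_mem hm)
      have h2 : n * m * n⁻¹ * m⁻¹ ∈ N := by
        rw [show n * m * n⁻¹ * m⁻¹ = n * (m * n⁻¹ * m⁻¹) by group]
        exact mul_mem hn (‹N.Normal›.conj_mem _ (inv_mem hn) m)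
      have h3 : (⟨_, h2⟩ : ↥N) ∈ (⊥ : Subgroup ↥N) := e ▸ Subgroup.mem_subgroupOf.mpr h1
      have h4 : n * m * n⁻¹ * m⁻¹ = 1 := congrArg Subtype.val (Subgroup.mem_bot.mp h3)
      rw [mul_inv_eq_one, mul_inv_eq_iff_eq_mul] at h4
      exact h4
    · exact Or.inr (Subgroup.subgroupOf_eq_top.mp e)
  refine le_antisymm (Components.genFitting_le_of_centralizer_le N ?_ (hC.le.trans bot_le)) ?_
  · rcases dich (Cfsg.fittingSubgroup G) inferInstance with q | q
    · exact q.trans (hC.le.trans bot_le)
    · exfalso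
      haveI : Group.IsNilpotent ↥N :=
        Group.nilpotent_of_mulEquiv (Subgroup.subgroupOfEquivOfLe q)
      have hc : ∀ x y : ↥N, x * y = y * x := IsSimpleGroup.comm_iff_isSolvable.mpr inferInstance
      exact hne (eq_bot_iff.mpr fun n hn => hC ▸ Subgroup.mem_centralizer_iff.mpr fun m hm =>
        congrArg Subtype.val (hc ⟨m, hm⟩ ⟨n, hn⟩))
  · rcases dich (Cfsg.generalizedFittingSubgroup G) inferInstance with q | q
    · have h1 : N ≤ Subgroup.centralizer (Cfsg.generalizedFittingSubgroup G : Set G) := fun n hn =>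
        Subgroup.mem_centralizer_iff.mpr fun m hm =>
          (Subgroup.mem_centralizer_iff.mp (q hm) n hn).symm
      exact h1.trans Components.centralizer_genFitting_le
    · exact q

namespace Common24

open Cfsg.Agent.H61.M24 (Geo24)

variable (h : Geo24 D) {a d : G} (ha : a ∈ D) (hd : d ∈ D) (hn : ¬ Commute a d)

include h ha hd hn

/-- a member commuting with the product is a common neighbour -/
theorem member_commute_product {e : G} :
    e ∈ D ∧ Commute e (a * d) ↔ e ∈ common D a d := by
  refine ⟨fun ⟨he, hc⟩ => ?_, fun he =>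
    ⟨he.1.1, he.1.2.2.symm.mul_right he.2.2.2.symm⟩⟩
  obtain ⟨c1, c2⟩ := h.data.core.tt.commute_of_commute_product ha hd he hn hc
  exact ⟨⟨he, fun q => hn (q ▸ c2), c1.symm⟩, he, fun q => hn (q ▸ c1).symm, c2.symm⟩

variable [Finite G]

/-- for two common neighbours there is one commuting with neither -/
theorem exists_apart {z w : G} (hz : z ∈ common D a d) (hw : w ∈ common D a d) :
    ∃ u ∈ common D a d, ¬ Commute z u ∧ ¬ Commute w u := by
  by_contra hall
  simp only [not_exists, not_and, not_not] at hall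
  have hsub : common D a d ⊆ insert z (common D a d ∩ nb D z) ∪ insert w (common D a d ∩ nb D w) := by
    intro u hu
    have side : ∀ {t}, Commute t u → u ∈ insert t (common D a d ∩ nb D t) := fun {t} c => by
      by_cases e : u = t
      · exact Or.inl e
      · exact Or.inr ⟨hu, hu.1.1, e, c⟩
    by_cases c : Commute z u
    · exact Or.inl (side c)
    · exact Or.inr (side (hall u hu c))
  have h1 := (Set.ncard_le_ncard hsub (Set.toFinite _)).trans (Set.ncard_union_le _ _)
  have h2 := Set.ncard_insert_le z (common D a d ∩ nb D z)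
  have h3 := Set.ncard_insert_le w (common D a d ∩ nb D w)
  rw [h.data.card_slice ha hd hn hz] at h2
  rw [h.data.card_slice ha hd hn hw] at h3
  rw [h.common a ha d hd hn] at h1
  omega

/-- the common neighbours are conjugate under the subgroup they generate -/
theorem orbit_all {z w : G} (hz : z ∈ common D a d) (hw : w ∈ common D a d) :
    ∃ k ∈ Subgroup.closure (common D a d), k * z * k⁻¹ = w := by
  have htt := h.data.core.tt
  have step : ∀ {p q}, p ∈ common D a d → q ∈ common D a d → ¬ Commute p q →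
      ∃ k ∈ Subgroup.closure (common D a d), k * p * k⁻¹ = q := fun {p q} hp hq hpq => by
    refine ⟨p * q, mul_mem (Subgroup.subset_closure hp) (Subgroup.subset_closure hq), ?_⟩
    rw [mul_inv_rev, htt.inv_eq hp.1.1, htt.inv_eq hq.1.1,
      show p * q * p * (q * p) = p * (q * p * q) * p by group, ← htt.braid hp.1.1 hq.1.1 hpq,
      show p * (p * q * p) * p = (p * p) * q * (p * p) by group, htt.sq p hp.1.1, one_mul, mul_one]
  obtain ⟨u, hu, n1, n2⟩ := exists_apart h ha hd hn hz hw
  obtain ⟨k, hk, e⟩ := step hz hu n1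
  obtain ⟨k', hk', e'⟩ := step hu hw fun q => n2 q.symm
  refine ⟨k' * k, mul_mem hk' hk, ?_⟩
  rw [show k' * k * z * (k' * k)⁻¹ = k' * (k * z * k⁻¹) * k'⁻¹ by group, e, e']

/-- what centralises the pair and a common neighbour, in the residue at that neighbour -/
theorem res_mem {z k : G} (hz : z ∈ common D a d) (hk : k ∈ nbSub D z) (hka : Commute k a)
    (hkd : Commute k d) :
    (QuotientGroup.mk (⟨k, hk⟩ : ↥(nbSub D z)) : Residue D z) ∈
      Subgroup.closure (common (resSet D z) (rimg D z a) (rimg D z d)) := by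
  have az := nb_symm ha hz.1
  have dz := nb_symm hd hz.2
  rw [← (h.data.res z hz.1.1).1.cent_eq (rimg_mem az) (rimg_mem dz)
    (fun q => hn ((h.data.core.rimg_comm az dz).mp q))]
  refine Subgroup.mem_centralizer_iff.mpr ?_
  rintro t (rfl | rfl)
  · rw [rimg_eq az]
    exact congrArg QuotientGroup.mk (Subtype.ext hka.eq.symm :
      nbElem az * (⟨k, hk⟩ : ↥(nbSub D z)) = (⟨k, hk⟩ : ↥(nbSub D z)) * nbElem az)
  · rw [rimg_eq dz]
    exact congrArg QuotientGroup.mk (Subtype.ext hkd.eq.symm :
      nbElem dz * (⟨k, hk⟩ : ↥(nbSub D z)) = (⟨k, hk⟩ : ↥(nbSub D z)) * nbElem dz)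

/-- the centraliser of the pair is generated by the common neighbours -/
theorem cent_eq : Subgroup.centralizer ({a, d} : Set G) = Subgroup.closure (common D a d) := by
  have hle : Subgroup.closure (common D a d) ≤ Subgroup.centralizer ({a, d} : Set G) :=
    (Subgroup.closure_le _).mpr fun y hy => Subgroup.mem_centralizer_iff.mpr (by
      rintro t (rfl | rfl)
      exacts [hy.1.2.2.eq, hy.2.2.2.eq])
  refine le_antisymm (fun g hg => ?_) hle
  have hga : Commute g a := (Subgroup.mem_centralizer_iff.mp hg a (by simp)).symm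
  have hgd : Commute g d := (Subgroup.mem_centralizer_iff.mp hg d (by simp)).symm
  obtain ⟨z, hz⟩ := h.far a ha d hd hn
  have hm := h.data.core.tt.common_conj g hz
  rw [show g * a * g⁻¹ = a from mul_inv_eq_iff_eq_mul.mpr hga.eq,
    show g * d * g⁻¹ = d from mul_inv_eq_iff_eq_mul.mpr hgd.eq] at hm
  obtain ⟨k, hk, e⟩ := orbit_all h ha hd hn hz hm
  have hka : Commute k a := (Subgroup.mem_centralizer_iff.mp (hle hk) a (by simp)).symm
  have hkd : Commute k d := (Subgroup.mem_centralizer_iff.mp (hle hk) d (by simp)).symm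
  have hu : k⁻¹ * g ∈ nbSub D z := by
    rw [← h.cent z hz.1.1, Subgroup.mem_centralizer_singleton_iff]
    refine mul_inv_eq_iff_eq_mul.mp ?_
    rw [show k⁻¹ * g * z * (k⁻¹ * g)⁻¹ = k⁻¹ * (g * z * g⁻¹) * k by group, ← e]; group
  have hγ := res_mem h ha hd hn hz hu (hka.inv_left.mul_left hga) (hkd.inv_left.mul_left hgd)
  obtain ⟨l, hl, hlL, el⟩ :=
    h.data.core.res_lift_closure hz.1.1 (nb_symm ha hz.1) (nb_symm hd hz.2) hγ
  have hlast : l⁻¹ * (k⁻¹ * g) ∈ Subgroup.closure (common D a d) := by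
    rcases (h.center_iff hz.1.1 _).mp (QuotientGroup.eq.mp el) with q | q
    · rw [show l⁻¹ * (k⁻¹ * g) = 1 from q]; exact one_mem _
    · rw [show l⁻¹ * (k⁻¹ * g) = z from q]; exact Subgroup.subset_closure hz
  have := mul_mem (mul_mem hk hlL) hlast
  rwa [show k * l * (l⁻¹ * (k⁻¹ * g)) = g by group] at this

/-- the subgroup of the common neighbours has trivial centre -/
theorem center_common : Subgroup.center ↥(Subgroup.closure (common D a d)) = ⊥ := by
  rw [eq_bot_iff]
  intro k hk
  have hkc : ∀ y ∈ common D a d, Commute (k : G) y := fun y hy =>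
    (congrArg Subtype.val (Subgroup.mem_center_iff.mp hk ⟨y, Subgroup.subset_closure hy⟩)).symm
  have hk' : (k : G) ∈ Subgroup.centralizer ({a, d} : Set G) := by
    rw [cent_eq h ha hd hn]; exact k.2
  obtain ⟨z, hz⟩ := h.far a ha d hd hn
  have hu : (k : G) ∈ nbSub D z := by
    rw [← h.cent z hz.1.1, Subgroup.mem_centralizer_singleton_iff]; exact (hkc z hz).eq
  have az := nb_symm ha hz.1
  have dz := nb_symm hd hz.2
  have hn2 : ¬ Commute (rimg D z a) (rimg D z d) :=
    fun q => hn ((h.data.core.rimg_comm az dz).mp q)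
  have hγ := res_mem h ha hd hn hz hu
    (Subgroup.mem_centralizer_iff.mp hk' a (by simp)).symm
    (Subgroup.mem_centralizer_iff.mp hk' d (by simp)).symm
  set γ : Residue D z := QuotientGroup.mk (⟨(k : G), hu⟩ : ↥(nbSub D z))
  have hcen : (⟨γ, hγ⟩ : ↥(Subgroup.closure (common (resSet D z) (rimg D z a) (rimg D z d)))) ∈
      Subgroup.center ↥(Subgroup.closure (common (resSet D z) (rimg D z a) (rimg D z d))) := by
    have hc : Subgroup.closure (common (resSet D z) (rimg D z a) (rimg D z d)) ≤
        Subgroup.centralizer ({γ} : Set (Residue D z)) := (Subgroup.closure_le _).mpr fun e he => by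
      obtain ⟨y, hy, rfl⟩ := h.data.core.res_common_pull hz.1.1 az dz he
      rw [SetLike.mem_coe, Subgroup.mem_centralizer_singleton_iff, rimg_eq hy.2]
      exact congrArg QuotientGroup.mk (Subtype.ext (hkc y hy.1).eq.symm :
        nbElem hy.2 * (⟨(k : G), hu⟩ : ↥(nbSub D z)) = (⟨(k : G), hu⟩ : ↥(nbSub D z)) * nbElem hy.2)
    exact Subgroup.mem_center_iff.mpr fun t =>
      Subtype.ext (Subgroup.mem_centralizer_singleton_iff.mp (hc t.2))
  rw [(h.data.res z hz.1.1).1.center_common (rimg_mem az) (rimg_mem dz) hn2, Subgroup.mem_bot] at hcen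
  rw [Subgroup.mem_bot]
  rcases h.data.center_two hz.1.1 hu (congrArg Subtype.val hcen) with q | q
  · exact Subtype.ext q
  · obtain ⟨w, hw, hzw, -⟩ := exists_apart h ha hd hn hz hz
    exact absurd (show Commute z w by rw [← q]; exact hkc w hw) hzw

omit [Finite G] in
/-- members that invert the product -/
theorem inverting [Finite G] {e : G} (he : e ∈ D) (hx : e * (a * d) * e = (a * d)⁻¹) :
    e = a ∨ e = d ∨ e = a * d * a := by
  have htt := h.data.core.tt
  by_cases c1 : Commute e a
  · left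
    have h1 : e * d * e = a * d * a := by
      rw [mul_inv_rev, htt.inv_eq ha, htt.inv_eq hd] at hx
      have hx' : a * (e * d * e) = d * a := by
        rw [← hx, ← mul_assoc e a d, c1.eq]; simp only [mul_assoc]
      calc e * d * e = a * (a * (e * d * e)) := (htt.cancel ha _).symm
        _ = a * d * a := by rw [hx', mul_assoc]
    have hned : ¬ Commute e d := fun q => hn (by
      rw [q.eq, mul_assoc, htt.sq e he, mul_one] at h1
      refine (mul_inv_eq_iff_eq_mul.mp ?_ : a * d = d * a)
      rw [htt.inv_eq ha]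
      exact h1.symm)
    have h2 : d * e * d = a * d * a := (htt.braid he hd hned).symm.trans h1
    calc e = d * (d * e * d) * d := by
          rw [show d * (d * e * d) * d = (d * d) * e * (d * d) by group, htt.sq d hd, one_mul,
            mul_one]
      _ = (d * a * d) * (a * d) := by rw [h2]; group
      _ = a * d * (a * a) * d := by rw [← htt.braid ha hd hn]; group
      _ = a := by rw [htt.sq a ha, mul_one, mul_assoc, htt.sq d hd, mul_one]
  by_cases c2 : Commute e d
  · right; left
    have hx' : e * (d * a) * e = (d * a)⁻¹ := by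
      have h' := congrArg (fun t => t⁻¹) hx
      simp only [mul_inv_rev, htt.inv_eq ha, htt.inv_eq hd, htt.inv_eq he, inv_inv] at h'
      rw [mul_inv_rev, htt.inv_eq ha, htt.inv_eq hd]
      simpa only [mul_assoc] using h'
    have h1 : e * a * e = d * a * d := by
      rw [mul_inv_rev, htt.inv_eq ha, htt.inv_eq hd] at hx'
      have hx'' : d * (e * a * e) = a * d := by
        rw [← hx', ← mul_assoc e d a, c2.eq]; simp only [mul_assoc]
      calc e * a * e = d * (d * (e * a * e)) := (htt.cancel hd _).symm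
        _ = d * a * d := by rw [hx'', mul_assoc]
    calc e = a * (a * e * a) * a := by
          rw [show a * (a * e * a) * a = (a * a) * e * (a * a) by group, htt.sq a ha, one_mul,
            mul_one]
      _ = a * (d * a * d) * a := by rw [(htt.braid he ha c1).symm.trans h1]
      _ = (a * d * a) * (d * a) := by group
      _ = d * a * (d * d) * a := by rw [htt.braid ha hd hn]; group
      _ = d := by rw [htt.sq d hd, mul_one, mul_assoc, htt.sq a ha, mul_one]
  right; right
  obtain ⟨z, hz⟩ := h.far a ha d hd hn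
  have hall : Commute e z := by
    by_contra hne
    have cz : Commute z (a * d) := ((member_commute_product h ha hd hn).mpr hz).2
    have hc : Commute (e * z * e) (a * d) := by
      have := (commute_conj (g := e)).mpr cz
      rw [htt.inv_eq he, hx] at this
      simpa using this.inv_right
    have hm := (member_commute_product h ha hd hn).mp ⟨htt.conj_self_mem he hz.1.1, hc⟩
    rw [htt.braid he hz.1.1 hne] at hm
    have := (commute_conj (g := z)).mpr hm.1.2.2
    rw [htt.inv_eq hz.1.1, show z * a * z = a by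
      rw [hz.1.2.2.symm.eq, mul_assoc, htt.sq z hz.1.1, mul_one],
      show z * (z * e * z) * z = e by
        rw [show z * (z * e * z) * z = (z * z) * e * (z * z) by group, htt.sq z hz.1.1, one_mul,
          mul_one]] at this
    exact c1 this.symm
  have hez : e ∈ nb D z := ⟨he, fun q => c1 (q ▸ hz.1.2.2.symm), hall.symm⟩
  have az := nb_symm ha hz.1
  have dz := nb_symm hd hz.2
  have hnr : ∀ {p q}, p ∈ nb D z → q ∈ nb D z → ¬ Commute p q →
      ¬ Commute (rimg D z p) (rimg D z q) :=
    fun hp hq hpq c => hpq ((h.data.core.rimg_comm hp hq).mp c)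
  have hx' : rimg D z e * (rimg D z a * rimg D z d) * rimg D z e = (rimg D z a * rimg D z d)⁻¹ := by
    rw [rimg_eq hez, rimg_eq az, rimg_eq dz]
    exact congrArg QuotientGroup.mk (Subtype.ext hx :
      nbElem hez * (nbElem az * nbElem dz) * nbElem hez = (nbElem az * nbElem dz)⁻¹)
  have h23 := (h.data.res z hz.1.1).1
  rcases h23.inverting (rimg_mem az) (rimg_mem dz) (hnr az dz hn) (rimg_mem hez) hx' with q | q | q
  · exact absurd (q ▸ Commute.refl _) (hnr hez az c1)
  · exact absurd (q ▸ Commute.refl _) (hnr hez dz c2)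
  · obtain ⟨hm, em⟩ := Geo23.rimg_conj htt hz.1.1 (Subgroup.subset_closure az) dz
    have ei : (rimg D z a)⁻¹ = rimg D z a := h23.core.tt.inv_eq (rimg_mem az)
    rw [show (⟨a, Subgroup.subset_closure az⟩ : ↥(nbSub D z)) = nbElem az from rfl, ← rimg_eq az, ei]
      at em
    have := (h.data.core.rimg_inj hz.1.1 hez hm).mp (q.trans em.symm)
    rwa [htt.inv_eq ha] at this

/-- at most eight common neighbours commute pairwise, and eight do -/
theorem width_eight : Cfsg.commutingWidth (common D a d) = 8 := by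
  have bound : ∀ {H : Type _} [Group H] [Finite H] (T : Set H), BddAbove {n : ℕ | ∃ E : Set H,
      E ⊆ T ∧ E.Finite ∧ (∀ p ∈ E, ∀ q ∈ E, Commute p q) ∧ E.ncard = n} := fun {H} _ _ T =>
    ⟨Nat.card H, fun n ⟨E, _, _, _, e⟩ => e ▸ (Set.ncard_univ H ▸ Set.ncard_le_ncard (Set.subset_univ E))⟩
  have seven : ∀ {z}, z ∈ common D a d →
      Cfsg.commutingWidth (common (resSet D z) (rimg D z a) (rimg D z d)) = 7 := fun {z} hz =>
    (h.data.res z hz.1.1).1.width_seven (rimg_mem (nb_symm ha hz.1)) (rimg_mem (nb_symm hd hz.2))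
      fun q => hn ((h.data.core.rimg_comm (nb_symm ha hz.1) (nb_symm hd hz.2)).mp q)
  have bdd : ∀ n ∈ {n : ℕ | ∃ E : Set G, E ⊆ common D a d ∧ E.Finite ∧
      (∀ p ∈ E, ∀ q ∈ E, Commute p q) ∧ E.ncard = n}, n ≤ 8 := by
    rintro n ⟨E, hE, hfin, hc, rfl⟩
    rcases E.eq_empty_or_nonempty with e | ⟨z, hz⟩
    · subst e; simp
    have zD := (hE hz).1.1
    have az := nb_symm ha (hE hz).1
    have dz := nb_symm hd (hE hz).2
    have hsub : ∀ y ∈ E \ {z}, y ∈ nb D z := fun y hy => ⟨(hE hy.1).1.1, hy.2, hc z hz y hy.1⟩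
    have h7 : (E \ {z}).ncard ≤ 7 := by
      rw [← seven (hE hz)]
      refine le_csSup (bound _) ⟨rimg D z '' (E \ {z}), ?_, Set.toFinite _, ?_, ?_⟩
      · rintro _ ⟨y, hy, rfl⟩
        exact (h.data.core.res_mem_common zD az dz (hsub y hy)).mpr (hE hy.1)
      · rintro _ ⟨p, hp, rfl⟩ _ ⟨q, hq, rfl⟩
        exact (h.data.core.rimg_comm (hsub p hp) (hsub q hq)).mpr (hc p hp.1 q hq.1)
      · exact Set.InjOn.ncard_image fun p hp q hq e =>
          (h.data.core.rimg_inj zD (hsub p hp) (hsub q hq)).mp e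
    have := Set.ncard_sdiff_singleton_add_one hz hfin
    omega
  refine le_antisymm (csSup_le' bdd) (le_csSup ⟨8, bdd⟩ ?_)
  obtain ⟨z, hz⟩ := h.far a ha d hd hn
  have az := nb_symm ha hz.1
  have dz := nb_symm hd hz.2
  obtain ⟨E, hE, -, hc, h7⟩ := Nat.sSup_mem (s := {n : ℕ | ∃ E : Set (Residue D z),
    E ⊆ common (resSet D z) (rimg D z a) (rimg D z d) ∧ E.Finite ∧
      (∀ p ∈ E, ∀ q ∈ E, Commute p q) ∧ E.ncard = n})
    ⟨0, ∅, Set.empty_subset _, Set.finite_empty, by simp, by simp⟩ (bound _)
  rw [show sSup _ = 7 from seven hz] at h7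
  set E' := {y | y ∈ common D a d ∩ nb D z ∧ rimg D z y ∈ E}
  have hcard : E'.ncard = 7 := by
    rw [← h7]
    refine Set.BijOn.ncard_eq (f := rimg D z) ⟨fun y hy => hy.2,
      fun p hp q hq e => (h.data.core.rimg_inj hz.1.1 hp.1.2 hq.1.2).mp e, fun e he => ?_⟩
    obtain ⟨y, hy, rfl⟩ := h.data.core.res_common_pull hz.1.1 az dz (hE he)
    exact ⟨y, ⟨hy, he⟩, rfl⟩
  refine ⟨insert z E', Set.insert_subset hz fun y hy => hy.1.1, Set.toFinite _, ?_, ?_⟩
  · rintro p (rfl | hp) q (rfl | hq)
    exacts [Commute.refl _, hq.1.2.2.2, hp.1.2.2.2.symm,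
      (h.data.core.rimg_comm hp.1.2 hq.1.2).mp (hc _ hp.2 _ hq.2)]
  · rw [Set.ncard_insert_of_notMem (fun q => q.1.2.2.1 rfl), hcard]

/-- two common neighbours of a third one that do not commute -/
theorem exists_two {y : G} (hy : y ∈ common D a d) :
    ∃ z1 ∈ common D a d, ∃ z2 ∈ common D a d,
      Commute y z1 ∧ Commute y z2 ∧ ¬ Commute z1 z2 := by
  have az := nb_symm ha hy.1
  have dz := nb_symm hd hy.2
  have h23 := (h.data.res y hy.1.1).1
  have hn2 : ¬ Commute (rimg D y a) (rimg D y d) :=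
    fun q => hn ((h.data.core.rimg_comm az dz).mp q)
  obtain ⟨e1, he1⟩ := h23.exists_common (rimg_mem az) (rimg_mem dz) hn2
  obtain ⟨e2, he2, hne⟩ := h23.exists_apart (rimg_mem az) (rimg_mem dz) hn2 he1
  obtain ⟨z1, h1, rfl⟩ := h.data.core.res_common_pull hy.1.1 az dz he1
  obtain ⟨z2, h2, rfl⟩ := h.data.core.res_common_pull hy.1.1 az dz he2
  exact ⟨z1, h1.1, z2, h2.1, h1.2.2.2, h2.2.2.2,
    fun q => hne ((h.data.core.rimg_comm h1.2 h2.2).mpr q)⟩

/-- the kernel of a map onto the symmetric group of degree three has trivial centraliser -/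
theorem kernel_centralizer (q : ↥(Subgroup.closure (common D a d)) →* Equiv.Perm (Fin 3))
    (hq : Function.Surjective q)
    (hN : Subgroup.centralizer (q.ker : Set ↥(Subgroup.closure (common D a d))) ⊓ q.ker = ⊥) :
    Subgroup.centralizer (q.ker : Set ↥(Subgroup.closure (common D a d))) = ⊥ := by
  have htt := h.data.core.tt
  let el : ∀ y, y ∈ common D a d → ↥(Subgroup.closure (common D a d)) :=
    fun y hy => ⟨y, Subgroup.subset_closure hy⟩
  have qne : ∀ y (hy : y ∈ common D a d), q (el y hy) ≠ 1 := by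
    intro y hy e
    have hall : ∀ x, ∀ hx : x ∈ common D a d, q (el x hx) = 1 := fun x hx => by
      obtain ⟨k, hk, ek⟩ := orbit_all h ha hd hn hy hx
      rw [show el x hx = ⟨k, hk⟩ * el y hy * (⟨k, hk⟩ : ↥(Subgroup.closure (common D a d)))⁻¹ from Subtype.ext ek.symm, map_mul,
        map_mul, map_inv, e, mul_one, mul_inv_cancel]
    have htriv : ∀ x : G, ∀ hx : x ∈ Subgroup.closure (common D a d), q ⟨x, hx⟩ = 1 := fun x hx => by
      induction hx using Subgroup.closure_induction with
      | mem x hx => exact hall x hx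
      | one => exact map_one q
      | mul x y hx hy ex ey =>
        rw [show (⟨x * y, _⟩ : ↥(Subgroup.closure (common D a d))) = ⟨x, hx⟩ * ⟨y, hy⟩ from rfl, map_mul, ex, ey, one_mul]
      | inv x hx ex => rw [show (⟨x⁻¹, _⟩ : ↥(Subgroup.closure (common D a d))) = (⟨x, hx⟩)⁻¹ from rfl, map_inv, ex, inv_one]
    obtain ⟨g, hg⟩ := hq (Equiv.swap 0 1)
    rw [htriv g g.2] at hg
    exact absurd hg (by decide)
  have qsame : ∀ {x y} (hx : x ∈ common D a d) (hy : y ∈ common D a d), Commute x y →
      q (el x hx) = q (el y hy) := by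
    intro x y hx hy c
    have key : ∀ s t : Equiv.Perm (Fin 3), s * s = 1 ∧ t * t = 1 ∧ s * t = t * s →
        s = 1 ∨ t = 1 ∨ s = t := by decide
    have sq : ∀ z (hz : z ∈ common D a d), q (el z hz) * q (el z hz) = 1 := fun z hz => by
      rw [← map_mul, show el z hz * el z hz = 1 from Subtype.ext (htt.sq z hz.1.1), map_one]
    refine ((key _ _ ⟨sq x hx, sq y hy, ?_⟩).resolve_left (qne x hx)).resolve_left (qne y hy)
    rw [← map_mul, ← map_mul, show el x hx * el y hy = el y hy * el x hx from Subtype.ext c.eq]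
  rw [eq_bot_iff]
  intro w hw
  by_cases hw1 : q w = 1
  · rw [← hN]; exact ⟨hw, hw1⟩
  exfalso
  -- a member whose image does not commute with the image of `w`
  obtain ⟨y, hy, hyw⟩ : ∃ y, ∃ hy : y ∈ common D a d, ¬ Commute (q (el y hy)) (q w) := by
    by_contra hall
    simp only [not_exists, not_not] at hall
    have hc : ∀ x : G, ∀ hx : x ∈ Subgroup.closure (common D a d), Commute (q ⟨x, hx⟩) (q w) := fun x hx => by
      induction hx using Subgroup.closure_induction with
      | mem x hx => exact hall x hx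
      | one => exact (map_one q).symm ▸ Commute.one_left _
      | mul x y hx hy ex ey =>
        rw [show (⟨x * y, _⟩ : ↥(Subgroup.closure (common D a d))) = ⟨x, hx⟩ * ⟨y, hy⟩ from rfl, map_mul]
        exact ex.mul_left ey
      | inv x hx ex =>
        rw [show (⟨x⁻¹, _⟩ : ↥(Subgroup.closure (common D a d))) = (⟨x, hx⟩)⁻¹ from rfl, map_inv]
        exact ex.inv_left
    have key : ∀ s : Equiv.Perm (Fin 3), (∀ t, t * s = s * t) → s = 1 := by decide
    refine hw1 (key _ fun t => ?_)
    obtain ⟨g, rfl⟩ := hq t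
    exact (hc g g.2).eq
  obtain ⟨z1, h1, z2, h2, c1, c2, n12⟩ := exists_two h ha hd hn hy
  have hwc : (w : G) ∈ Subgroup.centralizer ({a, d} : Set G) := by
    rw [cent_eq h ha hd hn]; exact w.2
  have hy' : (w : G) * y * (w : G)⁻¹ ∈ common D a d := by
    have := h.data.core.tt.common_conj (w : G) hy
    rwa [show (w : G) * a * (w : G)⁻¹ = a from
        mul_inv_eq_iff_eq_mul.mpr (Subgroup.mem_centralizer_iff.mp hwc a (by simp)).symm,
      show (w : G) * d * (w : G)⁻¹ = d from
        mul_inv_eq_iff_eq_mul.mpr (Subgroup.mem_centralizer_iff.mp hwc d (by simp)).symm] at this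
  have hm : el z1 h1 * el z2 h2 ∈ q.ker := by
    rw [MonoidHom.mem_ker, map_mul, ← qsame hy h1 c1, ← qsame hy h2 c2, ← map_mul,
      show el y hy * el y hy = 1 from Subtype.ext (htt.sq y hy.1.1), map_one]
  have hwz : Commute (w : G) (z1 * z2) :=
    (congrArg Subtype.val (Subgroup.mem_centralizer_iff.mp hw _ hm)).symm
  have hyz : Commute ((w : G) * y * (w : G)⁻¹) (z1 * z2) := by
    have := (commute_conj (g := (w : G))).mpr (c1.mul_right c2)
    rwa [show (w : G) * (z1 * z2) * (w : G)⁻¹ = z1 * z2 from mul_inv_eq_iff_eq_mul.mpr hwz.eq] at this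
  obtain ⟨d1, -⟩ := htt.commute_of_commute_product h1.1.1 h2.1.1 hy'.1.1 n12 hyz
  have e := (qsame hy' h1 d1).trans (qsame hy h1 c1).symm
  rw [show el _ hy' = w * el y hy * w⁻¹ from rfl, map_mul, map_mul, map_inv,
    mul_inv_eq_iff_eq_mul] at e
  exact hyw e.symm

end Common24

end Cfsg.Agent.H93
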