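import Cfsg.Agent.H93.Over23
import Cfsg.Agent.H93.Seven22
import Cfsg.Agent.H66.PermLift

/-!
Subgroups of order seven in groups of type M(23): they centralise ten members, the transpositions of a
symmetric group of degree five.
-/

set_option autoImplicit false

namespace Cfsg.Agent.H93

theorem perm_five_center_aux : ∀ u : Equiv.Perm (Fin 5),
    (∀ i : Fin 4, u * Equiv.swap i.castSucc i.succ = Equiv.swap i.castSucc i.succ * u) → u = 1 := by
  decide +kernel

theorem perm_five_center (u : Equiv.Perm (Fin 5)) (hu : ∀ v, u * v = v * u) : u = 1 :=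
  perm_five_center_aux u fun _ => hu _

/-- orbit and stabiliser for conjugation -/
theorem card_orbit_conj {G : Type*} [Group G] [Finite G] (H : Subgroup G) (Φ : Set G) {d : G} (hd : d ∈ Φ)
    (hmap : ∀ g ∈ H, ∀ y ∈ Φ, g * y * g⁻¹ ∈ Φ) (htr : ∀ y ∈ Φ, ∃ g ∈ H, g * d * g⁻¹ = y) :
    Nat.card ↥H = Φ.ncard * Nat.card ↥(H ⊓ Subgroup.centralizer ({d} : Set G)) := by
  classical
  letI : MulAction ↥H ↥Φ :=
    { smul := fun x y => ⟨x.1 * y.1 * x.1⁻¹, hmap x.1 x.2 y.1 y.2⟩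
      one_smul := fun y => Subtype.ext (by show (1 : G) * y.1 * (1 : G)⁻¹ = y.1; group)
      mul_smul := fun x x' y => Subtype.ext (by
        show x.1 * x'.1 * y.1 * (x.1 * x'.1)⁻¹ = x.1 * (x'.1 * y.1 * x'.1⁻¹) * x.1⁻¹; group) }
  haveI : MulAction.IsPretransitive ↥H ↥Φ := ⟨fun p q => by
    obtain ⟨g, hg, eg⟩ := htr p.1 p.2
    obtain ⟨k, hk, ek⟩ := htr q.1 q.2
    refine ⟨⟨k * g⁻¹, mul_mem hk (inv_mem hg)⟩, Subtype.ext ?_⟩
    show k * g⁻¹ * p.1 * (k * g⁻¹)⁻¹ = q.1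
    rw [← eg, ← ek]; group⟩
  have h1 := Subgroup.card_mul_index (MulAction.stabilizer ↥H (⟨d, hd⟩ : ↥Φ))
  rw [MulAction.index_stabilizer_of_transitive, Nat.card_coe_set_eq] at h1
  rw [← h1, mul_comm]
  congr 1
  rw [← Subgroup.card_map_of_injective (f := H.subtype) Subtype.val_injective]
  congr 2
  ext g
  constructor
  · rintro ⟨k, hk, rfl⟩
    exact ⟨k.2, Subgroup.mem_centralizer_singleton_iff.mpr
      (mul_inv_eq_iff_eq_mul.mp (congrArg Subtype.val hk))⟩
  · rintro ⟨hg, hgd⟩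
    exact ⟨⟨g, hg⟩, Subtype.ext (mul_inv_eq_iff_eq_mul.mpr
      (Subgroup.mem_centralizer_singleton_iff.mp hgd)), rfl⟩

namespace Geo23

variable {G : Type*} [Group G] {D : Set G} (h : Geo23 D) [Finite G] {X : Subgroup G}
  (hX : Nat.card X = 7)

omit [Finite G] in
theorem mem_fixed {e : G} :
    e ∈ D ∩ (Subgroup.centralizer (X : Set G) : Set G) ↔ e ∈ D ∧ ∀ x ∈ X, Commute x e :=
  Iff.and Iff.rfl (Subgroup.mem_centralizer_iff.trans Iff.rfl)

include h

theorem fixed_conj {g y : G} (hg : g ∈ Subgroup.normalizer (X : Set G))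
    (hy : y ∈ D ∩ (Subgroup.centralizer (X : Set G) : Set G)) :
    g * y * g⁻¹ ∈ D ∩ (Subgroup.centralizer (X : Set G) : Set G) := by
  rw [mem_fixed] at hy ⊢
  refine ⟨h.core.tt.conj_mem g y hy.1, fun x hx => ?_⟩
  have hm : g⁻¹ * x * g ∈ X := by
    have := (Subgroup.mem_normalizer_iff.mp (inv_mem hg) x).mp hx
    rwa [inv_inv] at this
  have c := (commute_conj (g := g)).mpr (hy.2 _ hm)
  rwa [show g * (g⁻¹ * x * g) * g⁻¹ = x by group] at c

include hX

/-- the number of centralised members is 3 modulo 7 -/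
theorem seven_mod : (D ∩ (Subgroup.centralizer (X : Set G) : Set G)).ncard % 7 = 3 := by
  classical
  haveI : Fact (Nat.Prime 7) := ⟨by norm_num⟩
  obtain ⟨a0, ha0⟩ : D.Nonempty := by
    by_contra hne
    rw [Set.not_nonempty_iff_eq_empty] at hne
    have htriv : ∀ g : G, g = 1 := fun g => h.cen g fun t ht => by simp [hne] at ht
    have : Subsingleton ↥X := ⟨fun x y => Subtype.ext ((htriv x).trans (htriv y).symm)⟩
    rw [Nat.card_of_subsingleton (1 : ↥X)] at hX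
    norm_num at hX
  letI : MulAction ↥X ↥D :=
    { smul := fun x y => ⟨x.1 * y.1 * x.1⁻¹, h.core.tt.conj_mem x.1 y.1 y.2⟩
      one_smul := fun y => Subtype.ext (by show (1 : G) * y.1 * (1 : G)⁻¹ = y.1; group)
      mul_smul := fun x x' y => Subtype.ext (by
        show x.1 * x'.1 * y.1 * (x.1 * x'.1)⁻¹ = x.1 * (x'.1 * y.1 * x'.1⁻¹) * x.1⁻¹; group) }
  have hp : IsPGroup 7 ↥X := IsPGroup.of_card (n := 1) (by rw [hX, pow_one])
  have hmod := hp.card_modEq_card_fixedPoints ↥D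
  rw [Nat.card_coe_set_eq, h.card_members ha0] at hmod
  have hcard : Nat.card ↥(MulAction.fixedPoints ↥X ↥D) =
      (D ∩ (Subgroup.centralizer (X : Set G) : Set G)).ncard := by
    rw [← Nat.card_coe_set_eq (D ∩ _)]
    refine Nat.card_eq_of_bijective (fun y => ⟨y.1.1, mem_fixed.mpr ⟨y.1.2, fun x hx =>
      mul_inv_eq_iff_eq_mul.mp (congrArg Subtype.val (y.2 ⟨x, hx⟩))⟩⟩) ⟨fun p q e => ?_, ?_⟩
    · exact Subtype.ext (Subtype.ext (congrArg
        (fun t : ↥(D ∩ (Subgroup.centralizer (X : Set G) : Set G)) => t.1) e))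
    · rintro ⟨y, hy⟩
      exact ⟨⟨⟨y, hy.1⟩, fun x => Subtype.ext (mul_inv_eq_iff_eq_mul.mpr ((mem_fixed.mp hy).2 x.1 x.2))⟩, rfl⟩
  rw [hcard] at hmod
  exact hmod.symm

theorem seven_odd_card : Odd (Nat.card X) := by rw [hX]; decide

/-- the centralised neighbours of a centralised member form a line -/
theorem seven_line {d : G} (hd : d ∈ D ∩ (Subgroup.centralizer (X : Set G) : Set G)) :
    ((D ∩ (Subgroup.centralizer (X : Set G) : Set G)) ∩ nb D d).ncard = 3 ∧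
    (∀ p ∈ (D ∩ (Subgroup.centralizer (X : Set G) : Set G)) ∩ nb D d,
      ∀ q ∈ (D ∩ (Subgroup.centralizer (X : Set G) : Set G)) ∩ nb D d, Commute p q → p = q) ∧
    ∀ p ∈ (D ∩ (Subgroup.centralizer (X : Set G) : Set G)) ∩ nb D d,
      ∀ q ∈ (D ∩ (Subgroup.centralizer (X : Set G) : Set G)) ∩ nb D d, p ≠ q →
        (D ∩ (Subgroup.centralizer (X : Set G) : Set G)) ∩ nb D d = {p, q, p * q * p} := by
  classical
  set Φ := D ∩ (Subgroup.centralizer (X : Set G) : Set G) with hΦ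
  obtain ⟨hdD, hXd⟩ := mem_fixed.mp hd
  have hle : X ≤ Subgroup.centralizer ({d} : Set G) := fun x hx =>
    Subgroup.mem_centralizer_singleton_iff.mpr (hXd x hx).eq
  have hodd := h.seven_odd_card hX
  obtain ⟨K, iK, iKF, h22⟩ := h.res d hdD
  have hX' : Nat.card ↥(resImage D d X) = 7 := (h.over_card hdD hle hodd).trans hX
  have hbij : Set.BijOn (rimg D d) (Φ ∩ nb D d)
      (resSet D d ∩ (Subgroup.centralizer (resImage D d X : Set (Residue D d)) : Set (Residue D d))) := by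
    refine ⟨fun y hy => ⟨rimg_mem hy.2, (h.over_fixed hdD hle hodd hy.2).mp (mem_fixed.mp hy.1).2⟩,
      fun y hy y' hy' e => (h.core.rimg_inj hdD hy.2 hy'.2).mp e, fun e he => ?_⟩
    obtain ⟨y, hy, rfl⟩ := rimg_surj he.1
    exact ⟨y, ⟨mem_fixed.mpr ⟨hy.1, (h.over_fixed hdD hle hodd hy).mpr he.2⟩, hy⟩, rfl⟩
  have h3 : (Φ ∩ nb D d).ncard = 3 := hbij.ncard_eq.trans (h22.seven_orders hX').1
  have hapart : ∀ p ∈ Φ ∩ nb D d, ∀ q ∈ Φ ∩ nb D d, Commute p q → p = q := fun p hp q hq c =>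
    ((h.core.rimg_inj hdD hq.2 hp.2).mp (h22.seven_apart hX' (hbij.1 hp) (hbij.1 hq)
      ((h.core.rimg_comm hp.2 hq.2).mpr c))).symm
  refine ⟨h3, hapart, fun p hp q hq hne => ?_⟩
  have htt := h.core.tt
  have hpq : ¬ Commute p q := fun c => hne (hapart p hp q hq c)
  have hr : p * q * p ∈ Φ ∩ nb D d := by
    refine ⟨⟨htt.conj_self_mem hp.1.1 hq.1.1, mul_mem (mul_mem hp.1.2 hq.1.2) hp.1.2⟩, ?_⟩
    have := htt.nb_conj p hq.2
    rwa [htt.inv_eq hp.1.1, show p * d * p = d by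
      rw [hp.2.2.2.symm.eq, mul_assoc, htt.sq p hp.1.1, mul_one]] at this
  have e1 : p ≠ p * q * p := fun e => hne (by
    have : p * p * p = p * q * p := by rw [htt.sq p hp.1.1, one_mul]; exact e
    exact mul_left_cancel (mul_right_cancel this))
  have e2 : q ≠ p * q * p := fun e => hpq (by
    show p * q = q * p
    calc p * q = p * q * (p * p) := by rw [htt.sq p hp.1.1, mul_one]
      _ = (p * q * p) * p := by group
      _ = q * p := by rw [← e])
  refine (Set.eq_of_subset_of_ncard_le ?_ ?_ (Set.toFinite _)).symm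
  · rintro t (rfl | rfl | rfl) <;> assumption
  · rw [h3, Set.ncard_insert_of_notMem (by simp [hne, e1]), Set.ncard_pair e2]

/-- two centralised members that do not commute have a common centralised neighbour -/
theorem seven_common {p q : G} (hp : p ∈ D ∩ (Subgroup.centralizer (X : Set G) : Set G))
    (hq : q ∈ D ∩ (Subgroup.centralizer (X : Set G) : Set G)) (hn : ¬ Commute p q) :
    ∃ y ∈ D ∩ (Subgroup.centralizer (X : Set G) : Set G), y ∈ common D p q := by
  classical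
  haveI : Fact (Nat.Prime 7) := ⟨by norm_num⟩
  obtain ⟨hpD, hXp⟩ := mem_fixed.mp hp
  obtain ⟨hqD, hXq⟩ := mem_fixed.mp hq
  have hmap : ∀ x ∈ X, ∀ y ∈ common D p q, x * y * x⁻¹ ∈ common D p q := fun x hx y hy => by
    have := h.core.tt.common_conj x hy
    rwa [mul_inv_eq_iff_eq_mul.mpr (hXp x hx).eq, mul_inv_eq_iff_eq_mul.mpr (hXq x hx).eq] at this
  letI : MulAction ↥X ↥(common D p q) :=
    { smul := fun x y => ⟨x.1 * y.1 * x.1⁻¹, hmap x.1 x.2 y.1 y.2⟩
      one_smul := fun y => Subtype.ext (by show (1 : G) * y.1 * (1 : G)⁻¹ = y.1; group)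
      mul_smul := fun x x' y => Subtype.ext (by
        show x.1 * x'.1 * y.1 * (x.1 * x'.1)⁻¹ = x.1 * (x'.1 * y.1 * x'.1⁻¹) * x.1⁻¹; group) }
  have hpg : IsPGroup 7 ↥X := IsPGroup.of_card (n := 1) (by rw [hX, pow_one])
  have hmod := hpg.card_modEq_card_fixedPoints ↥(common D p q)
  rw [Nat.card_coe_set_eq, h.card_common hpD hqD hn] at hmod
  obtain ⟨y, hy⟩ : (MulAction.fixedPoints ↥X ↥(common D p q)).Nonempty := by
    by_contra hne
    rw [Set.not_nonempty_iff_eq_empty] at hne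
    rw [hne, Nat.card_coe_set_eq, Set.ncard_empty] at hmod
    exact absurd hmod (by decide)
  exact ⟨y.1, mem_fixed.mpr ⟨y.2.1.1, fun x hx =>
    mul_inv_eq_iff_eq_mul.mp (congrArg Subtype.val (hy ⟨x, hx⟩))⟩, y.2⟩

/-- the configuration: four generators and ten members -/
theorem seven_frame :
    ∃ b c f d : G, b ∈ D ∩ (Subgroup.centralizer (X : Set G) : Set G) ∧
      c ∈ D ∩ (Subgroup.centralizer (X : Set G) : Set G) ∧
      f ∈ D ∩ (Subgroup.centralizer (X : Set G) : Set G) ∧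
      d ∈ D ∩ (Subgroup.centralizer (X : Set G) : Set G) ∧
      (¬ Commute b c ∧ ¬ Commute c f ∧ ¬ Commute f d) ∧ (Commute b f ∧ Commute b d ∧ Commute c d) ∧
      (D ∩ (Subgroup.centralizer (X : Set G) : Set G)) ∩ nb D d = {b, c, b * c * b} ∧
      (D ∩ (Subgroup.centralizer (X : Set G) : Set G)) ∩ nb D b = {d, f, d * f * d} ∧
      (D ∩ (Subgroup.centralizer (X : Set G) : Set G)).ncard = 10 := by
  classical
  set Φ := D ∩ (Subgroup.centralizer (X : Set G) : Set G) with hΦ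
  have htt := h.core.tt
  have hmod := h.seven_mod hX
  change Φ.ncard % 7 = 3 at hmod
  obtain ⟨d, hd⟩ : Φ.Nonempty := Set.nonempty_of_ncard_ne_zero (by omega)
  obtain ⟨h3, hap, hline⟩ := h.seven_line hX hd
  change (Φ ∩ nb D d).ncard = 3 at h3
  obtain ⟨b, hb'⟩ : (Φ ∩ nb D d).Nonempty := Set.nonempty_of_ncard_ne_zero (by omega)
  obtain ⟨c, hc', hcb⟩ := Set.exists_ne_of_one_lt_ncard (by omega : 1 < (Φ ∩ nb D d).ncard) b
  have hset := hline b hb' c hc' hcb.symm
  have hbc : ¬ Commute b c := fun q => hcb (hap b hb' c hc' q).symm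
  set e := b * c * b with hedef
  have he' : e ∈ Φ ∩ nb D d := by rw [hset]; exact Or.inr (Or.inr rfl)
  have line : ∀ {y}, y ∈ Φ → (Φ ∩ nb D y).ncard = 3 := fun hy => (h.seven_line hX hy).1
  -- everything is within two steps
  have hcover : ∀ x ∈ Φ, x = d ∨ x ∈ Φ ∩ nb D d ∨ ∃ y ∈ Φ ∩ nb D d, x ∈ (Φ ∩ nb D y) \ {d} := by
    intro x hx
    by_cases e : x = d
    · exact Or.inl e
    by_cases hc : Commute d x
    · exact Or.inr (Or.inl ⟨hx, hx.1, e, hc⟩)
    obtain ⟨y, hy, hyc⟩ := h.seven_common hX hd hx hc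
    exact Or.inr (Or.inr ⟨y, ⟨hy, hyc.1⟩, ⟨hx, nb_symm hx.1 hyc.2⟩, e⟩)
  have hsmall : ∀ S : Set G, (∀ x ∈ Φ, x ∈ S) → Φ.ncard ≤ S.ncard := fun S hS =>
    Set.ncard_le_ncard hS (Set.toFinite _)
  have hlow : 4 ≤ Φ.ncard := by
    refine le_trans (le_of_eq ?_) (Set.ncard_le_ncard (s := insert d (Φ ∩ nb D d)) ?_ (Set.toFinite _))
    · rw [Set.ncard_insert_of_notMem (fun q => q.2.2.1 rfl), h3]
    · exact Set.insert_subset hd fun y hy => hy.1
  have hdy : ∀ {y}, y ∈ Φ ∩ nb D d → d ∈ Φ ∩ nb D y := fun hy => ⟨hd, nb_symm hd.1 hy.2⟩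
  obtain ⟨f, hf', hfd, hcf⟩ : ∃ f, f ∈ Φ ∩ nb D b ∧ f ≠ d ∧ ¬ Commute c f := by
    by_contra hall
    simp only [not_exists, not_and, not_not] at hall
    have hsub : ∀ x ∈ Φ ∩ nb D b, x ∈ Φ ∩ nb D c ∧ x ∈ Φ ∩ nb D e := by
      intro x hx
      have cx : Commute c x := by
        by_cases q : x = d
        · exact q ▸ hc'.2.2.2.symm
        · exact hall x hx q
      have nc : x ≠ c := fun q => hbc (q ▸ hx.2.2.2)
      have ne : x ≠ e := fun q => he'.2.2.1 ((by
        have hbe : ¬ Commute b e := fun r => hbc ((by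
          have := (commute_conj (g := b)).mpr r
          rw [hedef, htt.inv_eq hb'.1.1, htt.sq b hb'.1.1, one_mul,
            show b * (b * c * b) * b = (b * b) * c * (b * b) by group, htt.sq b hb'.1.1, one_mul,
            mul_one] at this
          exact this) : Commute b c)
        exact absurd (q ▸ hx.2.2.2) hbe) : e = d)
      exact ⟨⟨hx.1, hx.1.1, nc, cx⟩, hx.1, hx.1.1, ne,
        ((hx.2.2.2.symm.mul_right cx.symm).mul_right hx.2.2.2.symm).symm⟩
    have heq : ∀ {y}, y ∈ Φ ∩ nb D d → (∀ x ∈ Φ ∩ nb D b, x ∈ Φ ∩ nb D y) → Φ ∩ nb D y = Φ ∩ nb D b :=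
      fun hy hs => (Set.eq_of_subset_of_ncard_le hs (by rw [line hy.1, line hb'.1]) (Set.toFinite _)).symm
    have hall' : ∀ x ∈ Φ, x ∈ (Φ ∩ nb D d) ∪ (Φ ∩ nb D b) := by
      intro x hx
      rcases hcover x hx with q | q | ⟨y, hy, q, -⟩
      · exact Or.inr (q ▸ hdy hb')
      · exact Or.inl q
      · right
        have hy2 : y ∈ ({b, c, e} : Set G) := hset ▸ hy
        rcases hy2 with rfl | rfl | rfl
        · exact q
        · rwa [heq hc' fun x hx => (hsub x hx).1] at q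
        · rwa [heq he' fun x hx => (hsub x hx).2] at q
    have := (hsmall _ hall').trans (Set.ncard_union_le _ _)
    rw [h3, line hb'.1] at this
    omega
  have hset' := (h.seven_line hX hb'.1).2.2 d (hdy hb') f hf' hfd.symm
  have hdf : ¬ Commute f d := fun q => hfd ((h.seven_line hX hb'.1).2.1 f hf' d (hdy hb') q)
  refine ⟨b, c, f, d, hb'.1, hc'.1, hf'.1, hd, ⟨hbc, hcf, hdf⟩,
    ⟨hf'.2.2.2, hb'.2.2.2.symm, hc'.2.2.2.symm⟩, hset, hset', ?_⟩
  have h10 : Φ.ncard ≤ 10 := by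
    refine (hsmall (insert d (Φ ∩ nb D d) ∪ (((Φ ∩ nb D b) \ {d}) ∪ (((Φ ∩ nb D c) \ {d}) ∪
      ((Φ ∩ nb D e) \ {d})))) fun x hx => ?_).trans ?_
    · rcases hcover x hx with q | q | ⟨y, hy, q⟩
      · exact Or.inl (Or.inl q)
      · exact Or.inl (Or.inr q)
      · right
        have hy2 : y ∈ ({b, c, e} : Set G) := hset ▸ hy
        rcases hy2 with rfl | rfl | rfl
        exacts [Or.inl q, Or.inr (Or.inl q), Or.inr (Or.inr q)]
    · have two : ∀ {y}, y ∈ Φ ∩ nb D d → ((Φ ∩ nb D y) \ {d}).ncard = 2 := fun hy => by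
        rw [Set.ncard_sdiff_singleton_of_mem (hdy hy), line hy.1]
      refine (Set.ncard_union_le _ _).trans ((add_le_add (Set.ncard_insert_le _ _)
        ((Set.ncard_union_le _ _).trans (add_le_add le_rfl (Set.ncard_union_le _ _)))).trans ?_)
      rw [h3, two hb', two hc', two he']
  omega

/-- the structure of the centraliser and the normaliser -/
theorem seven_product : ∃ F : Subgroup G, Nat.card ↥F = 42 ∧ X ≤ F ∧
    F ⊓ Subgroup.centralizer (X : Set G) = X ∧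
    F ⊓ Subgroup.closure (D ∩ (Subgroup.centralizer (X : Set G) : Set G)) = ⊥ ∧
    (∀ x ∈ F, ∀ y ∈ Subgroup.closure (D ∩ (Subgroup.centralizer (X : Set G) : Set G)),
      x * y = y * x) ∧
    F ⊔ Subgroup.closure (D ∩ (Subgroup.centralizer (X : Set G) : Set G)) =
      Subgroup.normalizer (X : Set G) ∧
    Nonempty (↥(Subgroup.closure (D ∩ (Subgroup.centralizer (X : Set G) : Set G))) ≃*
      Equiv.Perm (Fin 5)) := by
  classical
  obtain ⟨b, c, f, d, hb', hc', hf', hd, ⟨nbc, ncf, nfd⟩, ⟨cbf, cbd, ccd⟩, hset, hset', h10⟩ :=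
    h.seven_frame hX
  set Φ := D ∩ (Subgroup.centralizer (X : Set G) : Set G) with hΦ
  set C := Subgroup.centralizer (X : Set G) with hC
  set N := Subgroup.normalizer (X : Set G) with hN
  set S := Subgroup.closure Φ with hS
  have htt := h.core.tt
  have hCN : C ≤ N := Geo22.cent_le_normalizer
  have hSC : S ≤ C := (Subgroup.closure_le _).mpr fun y hy => hy.2
  have mS : ∀ {y}, y ∈ Φ → y ∈ S := fun hy => Subgroup.subset_closure hy
  have step : ∀ {p q}, p ∈ Φ → q ∈ Φ → ¬ Commute p q → (p * q) * p * (p * q)⁻¹ = q := by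
    intro p q hp hq hpq
    rw [mul_inv_rev, htt.inv_eq hp.1, htt.inv_eq hq.1, htt.braid hp.1 hq.1 hpq]
    calc q * p * q * (q * p) = q * p * (q * q) * p := by group
      _ = q * (p * p) := by rw [htt.sq q hq.1]; group
      _ = q := by rw [htt.sq p hp.1, mul_one]
  -- the isomorphism
  obtain ⟨φ, hφ⟩ := Cfsg.Agent.H66.exists_perm_hom 4
    (fun i => if i = 0 then b else if i = 1 then c else if i = 2 then f else d)
    (fun i hi => by
      interval_cases i <;> simp [htt.sq _ hb'.1, htt.sq _ hc'.1, htt.sq _ hf'.1, htt.sq _ hd.1])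
    (fun i hi => by
      have hi' : i < 3 := by omega
      interval_cases i <;> simp [htt.cube hb'.1 hc'.1 nbc, htt.cube hc'.1 hf'.1 ncf, htt.cube hf'.1 hd.1 nfd])
    (fun i j hij hj => by
      have hi : i < 4 := by omega
      interval_cases j <;> interval_cases i <;> (try omega) <;>
        simp [pow_two, htt.sq_of_commute hb'.1 hf'.1 cbf, htt.sq_of_commute hb'.1 hd.1 cbd,
          htt.sq_of_commute hc'.1 hd.1 ccd])
  have hinj : Function.Injective φ := by
    rw [← φ.ker_eq_bot_iff]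
    by_contra hne
    have hle := Equiv.Perm.alternatingGroup_le_of_normal (α := Fin (4 + 1)) (by simp)
      ((Subgroup.nontrivial_iff_ne_bot _).mpr hne)
    have hmem : Cfsg.Agent.H66.adjSwap 4 0 * Cfsg.Agent.H66.adjSwap 4 1 ∈ φ.ker := hle (by
      rw [Equiv.Perm.mem_alternatingGroup]
      decide)
    rw [MonoidHom.mem_ker, map_mul, hφ 0 (by norm_num), hφ 1 (by norm_num)] at hmem
    exact nbc (htt.commute_of_sq hb'.1 hc'.1 (by
      rw [show b * c = 1 by simpa using hmem, one_pow]))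
  have gb : b ∈ φ.range := ⟨_, hφ 0 (by norm_num)⟩
  have gc : c ∈ φ.range := ⟨Cfsg.Agent.H66.adjSwap 4 1, by rw [hφ 1 (by norm_num)]; simp⟩
  have gf : f ∈ φ.range := ⟨Cfsg.Agent.H66.adjSwap 4 2, by rw [hφ 2 (by norm_num)]; simp⟩
  have gd : d ∈ φ.range := ⟨Cfsg.Agent.H66.adjSwap 4 3, by rw [hφ 3 (by norm_num)]; simp⟩
  have hnb : ∀ {g y}, g ∈ N → y ∈ Φ → ∀ {t}, t ∈ Φ ∩ nb D y →
      g * t * g⁻¹ ∈ Φ ∩ nb D (g * y * g⁻¹) := fun hg _ _ ht =>
    ⟨h.fixed_conj hg ht.1, htt.nb_conj _ ht.2⟩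
  set k := b * c with hk
  have hkN : k ∈ N := hCN (mul_mem hb'.2 hc'.2)
  have kb : k * b * k⁻¹ = c := step hb' hc' nbc
  have kc : k * c * k⁻¹ = b * c * b := by
    rw [hk, mul_inv_rev, htt.inv_eq hb'.1, htt.inv_eq hc'.1]
    calc b * c * c * (c * b) = b * (c * c) * c * b := by group
      _ = b * c * b := by rw [htt.sq c hc'.1, mul_one]
  have kd : k * d * k⁻¹ = d := mul_inv_eq_iff_eq_mul.mpr (cbd.mul_left ccd).eq
  have hcommon : ∀ x ∈ Φ, ¬ Commute d x → ∃ y ∈ Φ ∩ nb D d, x ∈ Φ ∩ nb D y := fun x hx hn => by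
    obtain ⟨y, hy, hyc⟩ := h.seven_common hX hd hx hn
    exact ⟨y, ⟨hy, hyc.1⟩, hx, nb_symm hx.1 hyc.2⟩
  have hgen : ∀ x ∈ Φ, x ∈ φ.range := by
    intro x hx
    have base : ∀ y ∈ Φ ∩ nb D b, y ∈ φ.range := by
      rw [hset']
      rintro y (rfl | rfl | rfl)
      exacts [gd, gf, mul_mem (mul_mem gd gf) gd]
    have gk : k ∈ φ.range := mul_mem gb gc
    have shift : ∀ {y}, (∀ t ∈ Φ ∩ nb D y, t ∈ φ.range) → y ∈ Φ →
        ∀ t ∈ Φ ∩ nb D (k * y * k⁻¹), t ∈ φ.range := by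
      intro y hy hyΦ t ht
      have h2 := hnb (inv_mem hkN) (h.fixed_conj hkN hyΦ) ht
      rw [show k⁻¹ * (k * y * k⁻¹) * k⁻¹⁻¹ = y by group] at h2
      have := hy _ h2
      have h3 := mul_mem (mul_mem gk this) (inv_mem gk)
      rwa [show k * (k⁻¹ * t * k⁻¹⁻¹) * k⁻¹ = t by group] at h3
    by_cases e : x = d
    · exact e ▸ gd
    by_cases hc : Commute d x
    · have : x ∈ ({b, c, b * c * b} : Set G) := hset ▸ ⟨hx, hx.1, e, hc⟩
      rcases this with rfl | rfl | rfl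
      exacts [gb, gc, mul_mem (mul_mem gb gc) gb]
    obtain ⟨y, hy, hxy⟩ := hcommon x hx hc
    have : y ∈ ({b, c, b * c * b} : Set G) := hset ▸ hy
    rcases this with rfl | rfl | rfl
    · exact base x hxy
    · exact shift base hb' x (kb.symm ▸ hxy)
    · exact shift (kb ▸ shift base hb') hc' x (kc.symm ▸ hxy)
  have hrange : φ.range = S := by
    refine le_antisymm ?_ ((Subgroup.closure_le _).mpr hgen)
    rw [MonoidHom.range_eq_map, ← Cfsg.Agent.H66.closure_adjSwap 4, MonoidHom.map_closure,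
      Subgroup.closure_le]
    rintro _ ⟨_, ⟨i, hi, rfl⟩, rfl⟩
    have hi' : i < 4 := hi
    rw [hφ i hi', SetLike.mem_coe]
    interval_cases i <;> simp <;> exact mS (by assumption)
  have eS : Equiv.Perm (Fin 5) ≃* ↥S :=
    (MonoidHom.ofInjective hinj).trans (MulEquiv.subgroupCongr hrange)
  have hS120 : Nat.card ↥S = 120 := by
    rw [← Nat.card_congr eS.toEquiv, Nat.card_perm, Nat.card_fin]; rfl
  -- transitivity
  have htr : ∀ y ∈ Φ, ∃ g ∈ S, g * d * g⁻¹ = y := by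
    intro y hy
    have hf : ∃ g ∈ S, g * d * g⁻¹ = f := ⟨d * f, mul_mem (mS hd) (mS hf'), step hd hf' fun q => nfd q.symm⟩
    have next' : ∀ {p q}, p ∈ Φ → q ∈ Φ → ¬ Commute p q → (∃ g ∈ S, g * d * g⁻¹ = p) →
        ∃ g ∈ S, g * d * g⁻¹ = q := by
      rintro p q hp hq hpq ⟨g, hg, eg⟩
      refine ⟨p * q * g, mul_mem (mul_mem (mS hp) (mS hq)) hg, ?_⟩
      rw [show p * q * g * d * (p * q * g)⁻¹ = p * q * (g * d * g⁻¹) * (p * q)⁻¹ by group, eg,
        step hp hq hpq]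
    by_cases e : y = d
    · exact ⟨1, one_mem _, by simp [e]⟩
    by_cases hc : Commute d y
    · have : y ∈ ({b, c, b * c * b} : Set G) := hset ▸ ⟨hy, hy.1, e, hc⟩
      have hgc := next' hf' hc' (fun q => ncf q.symm) hf
      have hgb := next' hc' hb' (fun q => nbc q.symm) hgc
      rcases this with rfl | rfl | rfl
      · exact hgb
      · exact hgc
      · refine next' hb' hy (fun q => nbc ?_) hgb
        have := (commute_conj (g := b)).mpr q
        rwa [htt.inv_eq hb'.1, htt.sq b hb'.1, one_mul,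
          show b * (b * c * b) * b = (b * b) * c * (b * b) by group, htt.sq b hb'.1, one_mul,
          mul_one] at this
    · exact next' hd hy hc ⟨1, one_mem _, by simp⟩
  have hmap : ∀ {H : Subgroup G}, H ≤ N → ∀ g ∈ H, ∀ y ∈ Φ, g * y * g⁻¹ ∈ Φ := fun hH g hg y hy =>
    h.fixed_conj (hH hg) hy
  have htr' : ∀ {H : Subgroup G}, S ≤ H → ∀ y ∈ Φ, ∃ g ∈ H, g * d * g⁻¹ = y := fun hH y hy => by
    obtain ⟨g, hg, e⟩ := htr y hy
    exact ⟨g, hH hg, e⟩
  obtain ⟨hdD, hXd⟩ := mem_fixed.mp hd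
  have hle : X ≤ Subgroup.centralizer ({d} : Set G) := fun x hx =>
    Subgroup.mem_centralizer_singleton_iff.mpr (hXd x hx).eq
  have hodd := h.seven_odd_card hX
  obtain ⟨K, iK, iKF, h22⟩ := h.res d hdD
  have hX' : Nat.card ↥(resImage D d X) = 7 := (h.over_card hdD hle hodd).trans hX
  have hNcard : Nat.card ↥N = 5040 := by
    rw [card_orbit_conj N Φ hd (hmap le_rfl) (htr' (hSC.trans hCN)), h10,
      h.over_normalizer hdD hle hodd, (h22.seven_orders hX').2.1]
  have hCcard : Nat.card ↥C = 840 := by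
    obtain ⟨F', hF', hXF', hFC, -, -, hsup, ⟨eF⟩⟩ := h22.seven_product hX'
    obtain ⟨e', he'⟩ := h22.seven_nonempty hX'
    rw [card_orbit_conj C Φ hd (hmap hCN) (htr' hSC), h10, h.over_centralizer hdD hle hodd,
      h22.seven_count hX' he', (h22.seven_orders hX').1]
  -- the kernel of the action
  set F := N ⊓ Subgroup.centralizer (Φ : Set G) with hF
  have hcomm : ∀ x ∈ F, ∀ y ∈ S, x * y = y * x := by
    intro x hx y hy
    have hle' : S ≤ Subgroup.centralizer ({x} : Set G) := (Subgroup.closure_le _).mpr fun t ht =>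
      Subgroup.mem_centralizer_singleton_iff.mpr (Subgroup.mem_centralizer_iff.mp hx.2 t ht)
    exact (Subgroup.mem_centralizer_singleton_iff.mp (hle' hy)).symm
  have hFS : F ⊓ S = ⊥ := by
    rw [eq_bot_iff]
    intro z hz
    rw [Subgroup.mem_bot]
    obtain ⟨u, hu⟩ := eS.surjective ⟨z, hz.2⟩
    have hu1 : u ∈ Subgroup.center (Equiv.Perm (Fin 5)) := by
      refine Subgroup.mem_center_iff.mpr fun v => eS.injective ?_
      rw [map_mul, map_mul, hu]
      exact Subtype.ext (hcomm z hz.1 (eS v).1 (eS v).2).symm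
    have hu1 := perm_five_center u fun v => (Subgroup.mem_center_iff.mp hu1 v).symm
    have := congrArg Subtype.val hu
    rw [hu1, map_one] at this
    exact this.symm
  have hdec : ∀ g ∈ N, ∃ s ∈ S, s * g ∈ F := by
    intro g hg
    obtain ⟨s1, hs1, e1⟩ := htr _ (h.fixed_conj hg hd)
    set g1 := s1⁻¹ * g
    have m1 : g1 ∈ N := mul_mem (inv_mem (hCN (hSC hs1))) hg
    have d1 : g1 * d * g1⁻¹ = d := by
      rw [show g1 * d * g1⁻¹ = s1⁻¹ * (g * d * g⁻¹) * s1 by simp only [g1]; group, ← e1]; group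
    have b1 : g1 * b * g1⁻¹ ∈ ({b, c, b * c * b} : Set G) := by
      have := hnb m1 hd (t := b) (hset.symm ▸ Or.inl rfl)
      rw [d1, hset] at this
      exact this
    obtain ⟨s2, hs2, s2d, e2⟩ : ∃ s2 ∈ S, s2 * d * s2⁻¹ = d ∧ s2 * (g1 * b * g1⁻¹) * s2⁻¹ = b := by
      have hk' : k ∈ S := mul_mem (mS hb') (mS hc')
      have kd' : k⁻¹ * d * k⁻¹⁻¹ = d := by nth_rw 1 [← kd]; group
      rcases b1 with e | e | e
      · exact ⟨1, one_mem _, by simp, by simp [e]⟩
      · exact ⟨k⁻¹, inv_mem hk', kd', by rw [e, ← kb]; group⟩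
      · refine ⟨k⁻¹ * k⁻¹, mul_mem (inv_mem hk') (inv_mem hk'), ?_, ?_⟩
        · rw [show k⁻¹ * k⁻¹ * d * (k⁻¹ * k⁻¹)⁻¹ = k⁻¹ * (k⁻¹ * d * k⁻¹⁻¹) * k⁻¹⁻¹ by simp [mul_assoc], kd', kd']
        · rw [e, ← kc, ← kb]; group
    set g2 := s2 * g1
    have m2 : g2 ∈ N := mul_mem (hCN (hSC hs2)) m1
    have d2 : g2 * d * g2⁻¹ = d := by
      rw [show g2 * d * g2⁻¹ = s2 * (g1 * d * g1⁻¹) * s2⁻¹ by simp only [g2]; group, d1, s2d]
    have b2 : g2 * b * g2⁻¹ = b := by
      rw [show g2 * b * g2⁻¹ = s2 * (g1 * b * g1⁻¹) * s2⁻¹ by simp only [g2]; group, e2]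
    have fixb : ∀ {t}, t ∈ ({d, b} : Set G) → b * t * b⁻¹ = t := by
      rintro t (rfl | rfl)
      · exact mul_inv_eq_iff_eq_mul.mpr cbd.eq
      · rw [mul_inv_cancel_right]
    obtain ⟨s3, hs3, s3d, s3b, e3⟩ : ∃ s3 ∈ S, s3 * d * s3⁻¹ = d ∧ s3 * b * s3⁻¹ = b ∧
        s3 * (g2 * c * g2⁻¹) * s3⁻¹ = c := by
      have := hnb m2 hd (t := c) (hset.symm ▸ Or.inr (Or.inl rfl))
      rw [d2, hset] at this
      rcases this with e | e | e
      · exact absurd (mul_left_cancel (mul_right_cancel (b2.trans e.symm)))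
          (fun q => nbc (q ▸ Commute.refl b))
      · exact ⟨1, one_mem _, by simp, by simp, by simp [e]⟩
      · refine ⟨b, mS hb', fixb (Or.inl rfl), fixb (Or.inr rfl), ?_⟩
        rw [e, htt.inv_eq hb'.1, show b * (b * c * b) * b = (b * b) * c * (b * b) by group,
          htt.sq b hb'.1, one_mul, mul_one]
    set g3 := s3 * g2
    have m3 : g3 ∈ N := mul_mem (hCN (hSC hs3)) m2
    have d3 : g3 * d * g3⁻¹ = d := by
      rw [show g3 * d * g3⁻¹ = s3 * (g2 * d * g2⁻¹) * s3⁻¹ by simp only [g3]; group, d2, s3d]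
    have b3 : g3 * b * g3⁻¹ = b := by
      rw [show g3 * b * g3⁻¹ = s3 * (g2 * b * g2⁻¹) * s3⁻¹ by simp only [g3]; group, b2, s3b]
    have c3 : g3 * c * g3⁻¹ = c := by
      rw [show g3 * c * g3⁻¹ = s3 * (g2 * c * g2⁻¹) * s3⁻¹ by simp only [g3]; group, e3]
    obtain ⟨s4, hs4, s4d, s4b, s4c, e4⟩ : ∃ s4 ∈ S, Commute s4 d ∧ Commute s4 b ∧ Commute s4 c ∧
        s4 * (g3 * f * g3⁻¹) * s4⁻¹ = f := by
      have := hnb m3 hb' (t := f) (hset'.symm ▸ Or.inr (Or.inl rfl))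
      rw [b3, hset'] at this
      rcases this with e | e | e
      · exact absurd (mul_left_cancel (mul_right_cancel (d3.trans e.symm)))
          (fun q => nfd (q ▸ Commute.refl d))
      · exact ⟨1, one_mem _, Commute.one_left _, Commute.one_left _, Commute.one_left _, by simp [e]⟩
      · refine ⟨d, mS hd, Commute.refl d, cbd.symm, ccd.symm, ?_⟩
        rw [e, htt.inv_eq hd.1, show d * (d * f * d) * d = (d * d) * f * (d * d) by group,
          htt.sq d hd.1, one_mul, mul_one]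
    refine ⟨s4 * s3 * s2 * s1⁻¹, mul_mem (mul_mem (mul_mem hs4 hs3) hs2) (inv_mem hs1), ?_⟩
    have e : s4 * s3 * s2 * s1⁻¹ * g = s4 * g3 := by simp only [g3, g2, g1]; group
    rw [e]
    refine ⟨mul_mem (hCN (hSC hs4)) m3, Subgroup.mem_centralizer_iff.mpr ?_⟩
    have hle4 : φ.range ≤ Subgroup.centralizer ({s4 * g3} : Set G) := by
      rw [MonoidHom.range_eq_map, ← Cfsg.Agent.H66.closure_adjSwap 4, MonoidHom.map_closure,
        Subgroup.closure_le]
      rintro _ ⟨_, ⟨i, hi, rfl⟩, rfl⟩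
      have hi' : i < 4 := hi
      rw [hφ i hi', SetLike.mem_coe]
      have com : ∀ {t}, Commute s4 t → g3 * t * g3⁻¹ = t → t ∈ Subgroup.centralizer ({s4 * g3} : Set G) :=
        fun c1 c2 => Subgroup.mem_centralizer_singleton_iff.mpr
          (Commute.mul_left c1 (mul_inv_eq_iff_eq_mul.mp c2)).symm.eq
      have gf4 : f ∈ Subgroup.centralizer ({s4 * g3} : Set G) := by
        refine Subgroup.mem_centralizer_singleton_iff.mpr (Eq.symm ?_)
        refine mul_inv_eq_iff_eq_mul.mp ?_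
        rw [show s4 * g3 * f * (s4 * g3)⁻¹ = s4 * (g3 * f * g3⁻¹) * s4⁻¹ by group, e4]
      interval_cases i <;> simp
      exacts [com s4b b3, com s4c c3, gf4, com s4d d3]
    intro t ht
    exact Subgroup.mem_centralizer_singleton_iff.mp (hle4 (hgen t ht))
  have hprod : ∀ (H : Subgroup G), S ≤ H → H ≤ N → Nat.card ↥H = Nat.card ↥(F ⊓ H) * 120 := by
    intro H hSH hHN
    rw [← hS120, ← Nat.card_prod]
    refine (Nat.card_eq_of_bijective
      (fun p : ↥(F ⊓ H) × ↥S => (⟨p.1.1 * p.2.1, mul_mem p.1.2.2 (hSH p.2.2)⟩ : ↥H)) ⟨?_, ?_⟩).symm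
    · intro p q e
      have e' : p.1.1 * p.2.1 = q.1.1 * q.2.1 := congrArg Subtype.val e
      have : q.1.1⁻¹ * p.1.1 = q.2.1 * p.2.1⁻¹ := by
        rw [inv_mul_eq_iff_eq_mul, ← mul_assoc, ← e', mul_inv_cancel_right]
      have h1 : q.1.1⁻¹ * p.1.1 ∈ F ⊓ S :=
        ⟨F.mul_mem (F.inv_mem q.1.2.1) p.1.2.1, this ▸ S.mul_mem q.2.2 (S.inv_mem p.2.2)⟩
      rw [hFS, Subgroup.mem_bot] at h1
      rw [h1] at this
      exact Prod.ext (Subtype.ext (inv_mul_eq_one.mp h1).symm)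
        (Subtype.ext (mul_inv_eq_one.mp this.symm).symm)
    · rintro ⟨g, hg⟩
      obtain ⟨s, hs, hsg⟩ := hdec g (hHN hg)
      refine ⟨(⟨s * g, hsg, mul_mem (hSH hs) hg⟩, ⟨s⁻¹, inv_mem hs⟩), Subtype.ext ?_⟩
      show s * g * s⁻¹ = g
      rw [show s * g * s⁻¹ = (s * g) * s⁻¹ from rfl, hcomm _ hsg _ (inv_mem hs), inv_mul_cancel_left]
  have hF42 : Nat.card ↥F = 42 := by
    have := hprod N (hSC.trans hCN) le_rfl
    rw [hNcard, show F ⊓ N = F from inf_eq_left.mpr inf_le_left] at this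
    exact Nat.eq_of_mul_eq_mul_right (show 0 < 120 by norm_num) (this.symm.trans (by norm_num))
  have hXF : X ≤ F := le_inf Subgroup.le_normalizer fun x hx =>
    Subgroup.mem_centralizer_iff.mpr fun t ht => ((mem_fixed.mp ht).2 x hx).symm.eq
  have hXC : X ≤ C := Geo22.seven_abelian hX
  refine ⟨F, hF42, hXF, ?_, hFS, hcomm, ?_, ⟨eS.symm⟩⟩
  · refine (Subgroup.eq_of_le_of_card_ge (le_inf hXF hXC) ?_).symm
    have := hprod C hSC hCN
    rw [hCcard] at this
    omega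
  · refine le_antisymm (sup_le inf_le_left (hSC.trans hCN)) fun g hg => ?_
    obtain ⟨s, hs, hsg⟩ := hdec g hg
    rw [show g = s⁻¹ * (s * g) by group]
    exact mul_mem (Subgroup.mem_sup_right (inv_mem hs)) (Subgroup.mem_sup_left hsg)

/-- the Sylow 7-subgroups have order seven -/
theorem seven_sylow (P : Sylow 7 G) : Nat.card (P : Subgroup G) = 7 := by
  haveI : Fact (Nat.Prime 7) := ⟨by norm_num⟩
  obtain ⟨d, hd⟩ : (D ∩ (Subgroup.centralizer (X : Set G) : Set G)).Nonempty :=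
    Set.nonempty_of_ncard_ne_zero (by have := h.seven_mod hX; omega)
  have hG := h.card_group hd.1
  obtain ⟨n, hn⟩ := IsPGroup.iff_card.mp P.isPGroup'
  have hdvd := Subgroup.card_subgroup_dvd_card (P : Subgroup G)
  rw [hG, hn] at hdvd
  have hidx := Subgroup.card_mul_index (P : Subgroup G)
  rw [hG, hn] at hidx
  rcases n with _ | _ | n
  · exfalso
    rw [pow_zero, one_mul] at hidx
    exact P.not_dvd_index (by rw [hidx]; norm_num)
  · rw [hn]; norm_num
  · exfalso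
    have : 7 ^ 2 ∣ 31671 * (2 * 3510 * 18393661440) := (pow_dvd_pow 7 (by omega)).trans hdvd
    norm_num at this

end Geo23

end Cfsg.Agent.H93
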