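import Cfsg.Agent.H93.U6Rank

/-!
In a group of type M(22): the members commuting with a member in terms of the chosen lifts of transvections
in its centraliser, lines of five members, and an involution exchanging two commuting members.
-/

set_option autoImplicit false

namespace Cfsg.Agent.H93

variable {M : Type*} [Group M] {E : Set M} {F : Type*} [Field F] [Fintype F]
  {K : Type*} [Field K] [Fintype K] (hK : Fintype.card K = 4)

omit [Fintype K] in
/-- proportional combinations of two independent vectors -/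
theorem comb_not_same {u v : Vec K} (hu : u ≠ 0) (hs : ¬ SamePt u v) {a b a' b' : K}
    (hne : a * b' ≠ a' * b) : ¬ SamePt (a • u + b • v) (a' • u + b' • v) := by
  rintro ⟨t, ht⟩
  rw [smul_add, smul_smul, smul_smul] at ht
  obtain ⟨h1, h2⟩ := (indep_pair hu hs).eq_of_pair ht
  exact hne (by rw [h1, h2]; ring)

omit [Field F] [Fintype F] [Field K] [Fintype K] in
/-- an involution exchanging two commuting members -/
theorem M22Data.swap {F : Type*} [Field F] [Fintype F] (h : M22Data E F) {x y : M} (hx : x ∈ E)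
    (hy : y ∈ nb E x) : ∃ k : M, k * k = 1 ∧ k * x * k⁻¹ = y ∧ k * y * k⁻¹ = x := by
  have htt := h.core.tt
  obtain ⟨z, hzx, hzy⟩ : ∃ z, z ∈ nb E x ∧ z ∈ nb E y := by
    obtain ⟨z, hz⟩ := (local_of_space h.hF h.core (pair2_of_indep htt h.ind (by norm_num))
      (h.spaces x hx).some).edge y hy
    exact ⟨z, hz.1, hz.2⟩
  obtain ⟨w, hw, nx, ny⟩ :=
    h.sep z hzx.1 x (nb_symm hx hzx) y (nb_symm hy.1 hzy) hy.2.1.symm hy.2.2
  have bx := htt.braid hw.1 hx nx
  have by' := htt.braid hw.1 hy.1 ny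
  have xx := htt.sq x hx
  have ww := htt.sq w hw.1
  have yy := htt.sq y hy.1
  set k := w * y * (x * w) with hk
  have kk : k * k = 1 := by
    calc k * k = w * (y * x) * (w * w) * (y * x) * w := by rw [hk]; group
      _ = w * (y * (x * y) * x) * w := by rw [ww, mul_one]; group
      _ = w * (y * (y * x) * x) * w := by rw [hy.2.2.eq]
      _ = w * ((y * y) * (x * x)) * w := by group
      _ = 1 := by rw [yy, xx, mul_one, mul_one, ww]
  have e : k * x * k⁻¹ = y := by
    rw [hk, mul_inv_rev, mul_inv_rev, mul_inv_rev, htt.inv_eq hx, htt.inv_eq hw.1, htt.inv_eq hy.1]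
    calc w * y * (x * w) * x * (w * x * (y * w))
        = w * y * ((x * w * x) * w * x) * (y * w) := by group
      _ = w * y * ((w * x * w) * w * x) * (y * w) := by rw [bx]
      _ = w * y * (w * x * (w * w) * x) * (y * w) := by group
      _ = w * y * (w * (x * x)) * (y * w) := by rw [ww, mul_one]; group
      _ = w * (y * w * y) * w := by rw [xx, mul_one]; group
      _ = w * (w * y * w) * w := by rw [by']
      _ = (w * w) * y * (w * w) := by group
      _ = y := by rw [ww, one_mul, mul_one]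
  refine ⟨k, kk, e, ?_⟩
  rw [← e, inv_eq_of_mul_eq_one_left kk,
    show k * (k * x * k) * k = (k * k) * x * (k * k) by group, kk, one_mul, mul_one]

section member

variable {a : M} {π : ↥(Subgroup.centralizer ({a} : Set M)) →* Cfsg.PSU 6 K 2}
  {Y : Vec K → ↥(Subgroup.centralizer ({a} : Set M))}

/-- the member over a point -/
def mbr (a : M) (Y : Vec K → ↥(Subgroup.centralizer ({a} : Set M))) (v : Vec K) : M := (Y v : M) * a

variable (h : M22Data E F) (ha : a ∈ E)
  (P : PtClass hK π ⟨a, mem_cent (Commute.refl a)⟩ Y)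

include hK h ha P

/-- the member over a point and its image -/
theorem mbr_spec {v : Vec K} (hv : IsPt v) :
    mbr a Y v ∈ nb E a ∧ ∀ hm, π ⟨mbr a Y v, hm⟩ = ptv hK v := by
  classical
  have he := P.ext
  obtain ⟨-, cov⟩ := members_of_ext hK h.core he (h.core.edge a ha)
  have two : ∀ u, IsPt u → (Y u : M) ∈ nb E a ∨ mbr a Y u ∈ nb E a := fun u hu => by
    obtain ⟨y, hy, ey⟩ := cov u hu
    rcases he.eq_or ((P.img u hu).trans ey.symm) with q | q
    · exact Or.inl ((congrArg Subtype.val q) ▸ hy)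
    · have q' : y = (Y u : M) * a := congrArg Subtype.val q
      exact Or.inr (by show (Y u : M) * a ∈ nb E a; rw [← q']; exact hy)
  have unif : ∀ u w, IsPt u → IsPt w → (Y u : M) ∈ nb E a → (Y w : M) ∈ nb E a := by
    intro u w hu hw hm
    obtain ⟨g, hg⟩ := ptv_transitive hK hu hw
    obtain ⟨k, rfl⟩ := he.surj g
    have := h.core.tt.nb_conj (k : M) hm
    rw [mul_inv_eq_iff_eq_mul.mpr (Subgroup.mem_centralizer_singleton_iff.mp k.2)] at this
    rwa [← congrArg Subtype.val (P.conj k u w hu hw hg)]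
  have key : mbr a Y v ∈ nb E a := by
    refine (two v hv).resolve_left fun hm => ?_
    obtain ⟨u, w, hu, hw, huw, hs⟩ : ∃ u w : Vec K, IsPt u ∧ IsPt w ∧ hb u w = 0 ∧ ¬ SamePt u w := by
      obtain ⟨w, hw, e, hs⟩ := exists_orth_pt hK hv
      exact ⟨v, w, hv, hw, e, hs⟩
    obtain ⟨o, ho0, ho1, ho⟩ := exists_omega hK
    let c : Fin 5 → K × K := ![(1, 0), (0, 1), (1, 1), (1, o), (1, o ^ 2)]
    let T : Fin 5 → Vec K := fun i => (c i).1 • u + (c i).2 • w
    have hpt : ∀ i, IsPt (T i) := fun i => by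
      fin_cases i
      · simpa [T, c] using hu
      · simpa [T, c] using hw
      · simpa [T, c] using isPt_line hK hu hw huw hs 1
      · simpa [T, c] using isPt_line hK hu hw huw hs o
      · simpa [T, c] using isPt_line hK hu hw huw hs (o ^ 2)
    have orth : ∀ i j, hb (T i) (T j) = 0 := fun i j => by
      simp [T, hb_add_left, hb_add_right hK, hb_smul_left, hb_smul_right, hu.2, hw.2, huw,
        (hb_eq_zero_comm hK).mp huw]
    refine h.ind [(Y (T 0) : M), Y (T 1), Y (T 2), Y (T 3), Y (T 4)] ?_ (by simp) le_rfl ?_ ?_ ?_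
    · have o20 : o ^ 2 ≠ 0 := pow_ne_zero _ ho0
      have o21 : o ^ 2 ≠ 1 := fun q => ho1 (sq_eq_one hK q)
      have oo : o ≠ o ^ 2 := fun q => ho1 (mul_left_cancel₀ ho0 (by linear_combination -q))
      have hne : ∀ i j, (c i).1 * (c j).2 ≠ (c j).1 * (c i).2 →
          (Y (T i) : M) ≠ Y (T j) := fun i j hij e => by
        refine comb_not_same hu.1 hs hij ?_
        have e' := congrArg π (Subtype.ext e : Y (T i) = Y (T j))
        rw [P.img _ (hpt i), P.img _ (hpt j)] at e'
        exact SamePt.symm (ptv_eq hK (hpt i) (hpt j).2 e') (hpt i).1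
      simp only [List.nodup_cons, List.mem_cons, List.not_mem_nil, or_false, not_or,
        List.nodup_nil, and_true, not_false_eq_true]
      refine ⟨⟨?_, ?_, ?_, ?_⟩, ⟨?_, ?_, ?_⟩, ⟨?_, ?_⟩, ?_⟩ <;> refine hne _ _ ?_ <;>
        simp [c, ho0, o20, ho1, Ne.symm ho1, o21, Ne.symm o21, oo, Ne.symm oo]
    · intro x hx
      simp only [List.mem_cons, List.not_mem_nil, or_false] at hx
      rcases hx with rfl | rfl | rfl | rfl | rfl <;> exact (unif v _ hv (hpt _) hm).1
    · intro x hx y hy
      simp only [List.mem_cons, List.not_mem_nil, or_false] at hx hy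
      rcases hx with rfl | rfl | rfl | rfl | rfl <;> rcases hy with rfl | rfl | rfl | rfl | rfl <;>
        exact congrArg Subtype.val (P.commute hK (hpt _) (hpt _) (orth _ _))
    · have := congrArg Subtype.val (P.five u w hu hw huw hs o ho)
      simpa [T, c, mul_assoc] using this
  refine ⟨key, fun hm => ?_⟩
  rw [show (⟨mbr a Y v, hm⟩ : ↥(Subgroup.centralizer ({a} : Set M))) =
      Y v * ⟨a, mem_cent (Commute.refl a)⟩ from rfl, map_mul, he.π_d hK, mul_one, P.img v hv]

theorem mbr_surj {y : M} (hy : y ∈ nb E a) : ∃ v, IsPt v ∧ y = mbr a Y v := by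
  obtain ⟨img, -⟩ := members_of_ext hK h.core P.ext (h.core.edge a ha)
  obtain ⟨v, hv, e⟩ := img y hy
  obtain ⟨hm, em⟩ := mbr_spec hK h ha P hv
  exact ⟨v, hv, member_inj h.core ha P.ext hy hm (e.trans (em _).symm)⟩

omit h ha in
theorem mbr_same {u v : Vec K} (hu : IsPt u) (hv : IsPt v) :
    mbr a Y u = mbr a Y v ↔ SamePt u v := by
  constructor
  · intro e
    have e' := congrArg π (Subtype.ext (mul_right_cancel e) : Y u = Y v)
    rw [P.img u hu, P.img v hv] at e'
    exact (ptv_eq hK hu hv.2 e').symm hu.1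
  · rintro ⟨t, rfl⟩
    show (Y u : M) * a = (Y (t • u) : M) * a
    rw [P.smul hK hu fun q => hv.1 (by rw [q, zero_smul])]

omit h ha in
theorem mbr_commute {u v : Vec K} (hu : IsPt u) (hv : IsPt v) (e : hb u v = 0) :
    Commute (mbr a Y u) (mbr a Y v) := by
  refine (Commute.mul_left ?_ ?_).mul_right ((Commute.mul_left ?_ (Commute.refl a)))
  · exact congrArg Subtype.val (P.commute hK hu hv e)
  · exact (Subgroup.mem_centralizer_singleton_iff.mp (Y v).2).symm
  · exact Subgroup.mem_centralizer_singleton_iff.mp (Y u).2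

omit h ha in
theorem mbr_prod {u v w : Vec K} :
    mbr a Y u * mbr a Y v * mbr a Y w = ((Y u * Y v * Y w : ↥(Subgroup.centralizer ({a} : Set M))) : M) * a := by
  have c : ∀ x : ↥(Subgroup.centralizer ({a} : Set M)), (x : M) * a = a * x := fun x =>
    Subgroup.mem_centralizer_singleton_iff.mp x.2
  have aa : a * a = 1 := congrArg Subtype.val P.ext.sq
  simp only [mbr, Subgroup.coe_mul]
  calc (Y u : M) * a * ((Y v : M) * a) * ((Y w : M) * a)
      = (Y u : M) * (a * Y v) * (a * ((Y w : M) * a)) := by group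
    _ = (Y u : M) * Y v * (a * a) * ((Y w : M) * a) := by rw [← c]; group
    _ = _ := by rw [aa, mul_one]; group

omit h ha in
/-- the five members of a line -/
theorem line5' {u w : Vec K} (hu : IsPt u) (hw : IsPt w) (huw : hb u w = 0) (hs : ¬ SamePt u w)
    {o : K} (ho : o ^ 2 + o + 1 = 0) :
    [mbr a Y u, mbr a Y w, mbr a Y (u + w), mbr a Y (u + o • w), mbr a Y (u + o ^ 2 • w)].prod = a := by
  have aa : a * a = 1 := congrArg Subtype.val P.ext.sq
  have e := congrArg Subtype.val (P.five u w hu hw huw hs o ho)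
  have c : ∀ x : ↥(Subgroup.centralizer ({a} : Set M)), (x : M) * a = a * x := fun x =>
    Subgroup.mem_centralizer_singleton_iff.mp x.2
  have h3 := mbr_prod hK P (u := u) (v := w) (w := u + w)
  simp only [List.prod_cons, List.prod_nil, mul_one, ← mul_assoc, h3]
  simp only [mbr, Subgroup.coe_mul, Subgroup.coe_one] at e ⊢
  calc (Y u : M) * Y w * Y (u + w) * a * ((Y (u + o • w) : M) * a) * ((Y (u + o ^ 2 • w) : M) * a)
      = (Y u : M) * Y w * Y (u + w) * (a * (Y (u + o • w) : M)) * (a * ((Y (u + o ^ 2 • w) : M) * a)) := by group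
    _ = (Y u : M) * Y w * Y (u + w) * Y (u + o • w) * (a * a) * ((Y (u + o ^ 2 • w) : M) * a) := by
      rw [← c]; group
    _ = a := by rw [aa, mul_one, ← mul_assoc, e, one_mul]

theorem line5_spec {u w : Vec K} (hu : IsPt u) (hw : IsPt w) (huw : hb u w = 0) (hs : ¬ SamePt u w)
    {o : K} (ho : o ^ 2 + o + 1 = 0) : let l := [mbr a Y u, mbr a Y w, mbr a Y (u + w), mbr a Y (u + o • w), mbr a Y (u + o ^ 2 • w)]
    l.Nodup ∧ (∀ x ∈ l, x ∈ nb E a) ∧ ∀ x ∈ l, ∀ y ∈ l, Commute x y := by
  intro l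
  have ho0 : o ≠ 0 := fun q => by rw [q] at ho; simp at ho
  have ho1 : o ≠ 1 := fun q => by
    rw [q] at ho
    exact one_ne_zero (by linear_combination ho - two_zero hK)
  have o20 : o ^ 2 ≠ 0 := pow_ne_zero _ ho0
  have o21 : o ^ 2 ≠ 1 := fun q => ho1 (sq_eq_one hK q)
  have oo : o ≠ o ^ 2 := fun q => ho1 (mul_left_cancel₀ ho0 (by linear_combination -q))
  let c : Fin 5 → K × K := ![(1, 0), (0, 1), (1, 1), (1, o), (1, o ^ 2)]
  let T : Fin 5 → Vec K := fun i => (c i).1 • u + (c i).2 • w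
  have hpt : ∀ i, IsPt (T i) := fun i => by
    fin_cases i
    · simpa [T, c] using hu
    · simpa [T, c] using hw
    · simpa [T, c] using isPt_line hK hu hw huw hs 1
    · simpa [T, c] using isPt_line hK hu hw huw hs o
    · simpa [T, c] using isPt_line hK hu hw huw hs (o ^ 2)
  have orth : ∀ i j, hb (T i) (T j) = 0 := fun i j => by
    simp [T, hb_add_left, hb_add_right hK, hb_smul_left, hb_smul_right, hu.2, hw.2, huw,
      (hb_eq_zero_comm hK).mp huw]
  have hl : l = List.ofFn fun i => mbr a Y (T i) := by simp [l, T, c, List.ofFn_succ]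
  rw [hl]
  refine ⟨List.nodup_ofFn.mpr ?_, ?_, ?_⟩
  · intro i j e
    have e' := (mbr_same hK P (hpt i) (hpt j)).mp e
    by_contra hij
    refine comb_not_same hu.1 hs ?_ e'
    fin_cases i <;> fin_cases j <;> first
      | exact absurd rfl hij
      | simp [c, ho0, o20, ho1, Ne.symm ho0, Ne.symm o20, Ne.symm ho1, o21, Ne.symm o21, oo, Ne.symm oo]
  · intro x hx
    obtain ⟨i, rfl⟩ := List.mem_ofFn.mp hx
    exact (mbr_spec hK h ha P (hpt i)).1
  · intro x hx y hy
    obtain ⟨i, rfl⟩ := List.mem_ofFn.mp hx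
    obtain ⟨j, rfl⟩ := List.mem_ofFn.mp hy
    exact mbr_commute hK P (hpt i) (hpt j) (orth i j)

theorem line5 {u w : Vec K} (hu : IsPt u) (hw : IsPt w) (huw : hb u w = 0) (hs : ¬ SamePt u w)
    {o : K} (ho : o ^ 2 + o + 1 = 0) : ∃ l : List M, l.length = 5 ∧ l.Nodup ∧ (∀ x ∈ l, x ∈ nb E a) ∧
    (∀ x ∈ l, ∀ y ∈ l, Commute x y) ∧ l.prod = a := by
  obtain ⟨h1, h2, h3⟩ := line5_spec hK h ha P hu hw huw hs ho
  exact ⟨_, rfl, h1, h2, h3, line5' hK P hu hw huw hs ho⟩

/-- a line through a point: five commuting members with product the member -/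
theorem exists_line5 : ∃ l : List M, l.length = 5 ∧ l.Nodup ∧ (∀ x ∈ l, x ∈ nb E a) ∧
    (∀ x ∈ l, ∀ y ∈ l, Commute x y) ∧ l.prod = a := by
  classical
  obtain ⟨u, hu⟩ := exists_pt hK
  obtain ⟨w, hw, huw, hs⟩ := exists_orth_pt hK hu
  obtain ⟨o, ho0, ho1, ho⟩ := exists_omega hK
  exact line5 hK h ha P hu hw huw hs ho

end member

end Cfsg.Agent.H93
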