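import Cfsg.Agent.H93.PairQuot
import Cfsg.Agent.H27.RankSixMinus
import Cfsg.Agent.H92.ExtraIso

/-!
The generalised Fitting subgroup of the centraliser of the product of two commuting members in a
group of type M(22), and the quotient by it as the orthogonal group of minus type in dimension six.
-/

set_option autoImplicit false

namespace Cfsg.Agent.H93

/-- a nilpotent normal subgroup of the automorphism group of a non-abelian simple group is trivial -/
theorem nilpotent_normal_aut_eq_bot {S : Type*} [Group S] [IsSimpleGroup S]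
    (hc : Subgroup.center S = ⊥) (M : Subgroup (MulAut S)) [hn : M.Normal]
    (hM : Group.IsNilpotent M) : M = ⊥ := by
  rcases IsSimpleGroup.eq_bot_or_eq_top_of_normal (M.comap (MulAut.conj : S →* MulAut S))
    inferInstance with h | h
  · refine (Subgroup.eq_bot_iff_forall _).mpr fun σ hσ => MulEquiv.ext fun x => ?_
    have h1 : σ x * x⁻¹ ∈ M.comap (MulAut.conj : S →* MulAut S) := by
      rw [Subgroup.mem_comap,
        show MulAut.conj (σ x * x⁻¹) = σ * (MulAut.conj x * σ⁻¹ * (MulAut.conj x)⁻¹) from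
          MulEquiv.ext fun y => by simp [mul_assoc]]
      exact mul_mem hσ (hn.conj_mem _ (inv_mem hσ) _)
    rw [h, Subgroup.mem_bot, mul_inv_eq_one] at h1
    exact h1
  · exfalso
    let f : S →* M := (MulAut.conj : S →* MulAut S).codRestrict M fun x =>
      (Subgroup.mem_comap.mp (h ▸ Subgroup.mem_top x))
    haveI := hM
    haveI : Group.IsNilpotent S := isNilpotent_of_ker_le_center f fun x hx => by
      have h2 : MulAut.conj x = 1 := congrArg Subtype.val (MonoidHom.mem_ker.mp hx)
      refine Subgroup.mem_center_iff.mpr fun y => ?_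
      have h3 : x * y * x⁻¹ = y := congrArg (fun s : MulAut S => s y) h2
      exact (mul_inv_eq_iff_eq_mul.mp h3).symm
    exact Group.IsNilpotent.center_ne_bot S hc

section Orthogonal

open Cfsg.Agent.Orthogonal in
/-- the orthogonal group of minus type in dimension six over two elements has trivial centre -/
theorem isometry_central_eq_one {Q : QuadraticForm (ZMod 2) ((Fin 2 ⊕ Fin 2) ⊕ Fin 2 → ZMod 2)}
    (hQdef : Q = formMinus (ZMod 2) 2 (1 : ZMod 2) 1) (z : ↥(Cfsg.isometryGroup (ZMod 2) ⇑Q))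
    (hz : ∀ g, g * z * g⁻¹ = z) : z = 1 := by
  classical
  have hab : ∀ z₁ z₂ : ZMod 2, z₁ ^ 2 + 1 * z₁ * z₂ + 1 * z₂ ^ 2 = 0 → z₁ = 0 ∧ z₂ = 0 := by
    decide
  have hnd : Nondeg Q := hQdef ▸ formMinus_nondeg 2 hab
  set e := toO Q
  -- a central isometry fixes every vector of value one
  have hfix : ∀ v, Q v = 1 → (e z).1 v = v := by
    intro v hv
    have hc : e z * rO Q v * (e z)⁻¹ = rO Q v := by
      obtain ⟨g, hg⟩ := e.surjective (rO Q v)
      have hh : z * g * z⁻¹ = g := mul_inv_eq_iff_eq_mul.mpr (mul_inv_eq_iff_eq_mul.mp (hz g)).symm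
      rw [← hg]
      simpa only [map_mul, map_inv] using congrArg e hh
    rw [conj_rO] at hc
    set w := (e z).1 v
    have hw : Q w = 1 := by rw [show Q w = Q v from O.map_app (e z) v, hv]
    obtain ⟨x, hx⟩ := hnd.exists_polar_eq (x := v) (fun q => by simp [q] at hv) (1 : ZMod 2)
    have h := congrArg (fun g : O Q => g.1 x) hc
    simp only [rO_app, hv, hw, inv_one, one_mul, hx, one_smul, sub_right_inj] at h
    have two : ∀ t : ZMod 2, t = 0 ∨ t = 1 := by decide
    rcases two (QuadraticMap.polar Q w x) with q | q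
    · exfalso
      rw [q, zero_smul] at h
      rw [← h] at hv
      simp at hv
    · rwa [q, one_smul] at h
  have hid : ((e z).1.toLinearMap) = LinearMap.id := by
    refine (Pi.basisFun (ZMod 2) ((Fin 2 ⊕ Fin 2) ⊕ Fin 2)).ext fun k => ?_
    rw [Pi.basisFun_apply, LinearMap.id_apply, LinearEquiv.coe_coe]
    have h0 : Q (Pi.single (Sum.inr 0) 1) = 1 := by
      simp [hQdef, formMinus_coe, Cfsg.quadFormMinus, Fin.sum_univ_two]
    rcases k with k | k
    · have h1 : Q (Pi.single (Sum.inl k) 1 + Pi.single (Sum.inr 0) 1) = 1 := by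
        rcases k with k | k <;> fin_cases k <;>
          simp [hQdef, formMinus_coe, Cfsg.quadFormMinus, Fin.sum_univ_two]
      have := hfix _ h1
      rwa [map_add, hfix _ h0, add_left_inj] at this
    exact hfix _ (by fin_cases k <;> simp [hQdef, formMinus_coe, Cfsg.quadFormMinus, Fin.sum_univ_two])
  refine e.injective ?_
  rw [map_one]
  exact O.ext_app fun x => LinearMap.congr_fun hid x

/-- the automorphism group of `PSU 4 K 2` is the orthogonal group of minus type in dimension six -/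
theorem isometry_equiv_mulAut {K : Type*} [Field K] [Fintype K] (hK : Fintype.card K = 4) :
    Nonempty (MulAut (Cfsg.PSU 4 K 2) ≃*
      Cfsg.isometryGroup (ZMod 2) (Cfsg.quadFormMinus 2 (ZMod 2) 1 1)) := by
  classical
  have hK2 : Fintype.card K = 2 ^ 2 := card_eq_sq hK
  have hF : Fintype.card (ZMod 2) = 2 := ZMod.card 2
  have hab : ∀ z₁ z₂ : ZMod 2, z₁ ^ 2 + 1 * z₁ * z₂ + 1 * z₂ ^ 2 = 0 → z₁ = 0 ∧ z₂ = 0 := by
    decide
  obtain ⟨D⟩ := H27.RankSixMinus.exists_model hF hK2 (1 : ZMod 2) 1 hab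
  let φ := H27.RankSixMinus.suSix D hF hK2
  have hinj : Function.Injective φ := by
    rw [← MonoidHom.ker_eq_bot_iff, Subgroup.eq_bot_iff_forall]
    intro A hA
    obtain ⟨c, hc, e⟩ := H27.RankSixMinus.scalar_of_fix D hF hK2 (A := A) fun v => by
      rw [← H27.RankSixMinus.E_suSix D hF hK2,
        show H27.RankSixMinus.suSix D hF hK2 A = 1 from MonoidHom.mem_ker.mp hA, Subgroup.coe_one,
        Units.val_one, Matrix.one_mulVec]
    have h2 : (2 : K) = 0 := two_zero hK
    have h1 : (c + 1) ^ 2 = 0 := by linear_combination hc + (c + 1) * h2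
    have h1' : c + 1 = 0 := (pow_eq_zero_iff two_ne_zero).mp h1
    have h3 : c = 1 := by linear_combination h1' - h2
    refine Subtype.ext (Subtype.ext ?_)
    rw [e, h3, one_smul]
    rfl
  have hO : Nat.card (Cfsg.isometryGroup (ZMod 2) (Cfsg.quadFormMinus 2 (ZMod 2) 1 1)) =
      2 * Nat.card (Cfsg.SU 4 K 2) := by
    rw [Cfsg.Agent.S0288.result hF 3 (by norm_num) 1 1 hab, H27.RankSixMinus.card_su_four hK2]
    simp [Finset.prod_range_succ]
  let eS : ↥(Cfsg.SU 4 K 2) ≃* φ.range := MonoidHom.ofInjective hinj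
  have hidx : φ.range.index = 2 := by
    have h := Subgroup.card_mul_index φ.range
    rw [hO, ← Nat.card_congr eS.toEquiv, mul_comm 2] at h
    exact Nat.eq_of_mul_eq_mul_left Nat.card_pos h
  haveI : φ.range.Normal := Subgroup.normal_of_index_eq_two hidx
  let β : ↥(Cfsg.isometryGroup (ZMod 2) (Cfsg.quadFormMinus 2 (ZMod 2) 1 1)) →* MulAut φ.range :=
    MulAut.conjNormal
  have hZ : Subgroup.center ↥(Cfsg.SU 4 K 2) = ⊥ := by
    rw [← Subgroup.card_eq_one, Cfsg.Agent.Unitary.card_center_SU hK2 (by norm_num)]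
    rfl
  have hcomm : ∀ {z}, z ∈ β.ker → ∀ r ∈ φ.range, z * r * z⁻¹ = r := fun {z} hz r hr => by
    have h := congrArg (fun s : MulAut φ.range => ((s ⟨r, hr⟩ : φ.range) :
      ↥(Cfsg.isometryGroup (ZMod 2) (Cfsg.quadFormMinus 2 (ZMod 2) 1 1)))) (MonoidHom.mem_ker.mp hz)
    simpa [β, MulAut.conjNormal_apply] using h
  have hsmall : ∀ z ∈ β.ker, z ∈ φ.range → z = 1 := by
    rintro _ hz ⟨A, rfl⟩
    have : A ∈ Subgroup.center ↥(Cfsg.SU 4 K 2) := Subgroup.mem_center_iff.mpr fun B => hinj (by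
      rw [map_mul, map_mul]
      exact (mul_inv_eq_iff_eq_mul.mp (hcomm hz _ ⟨B, rfl⟩)).symm)
    rw [hZ, Subgroup.mem_bot] at this
    rw [this, map_one]
  have hcen : ∀ z ∈ β.ker, ∀ g, g * z * g⁻¹ = z := fun z hz g => by
    refine mul_inv_eq_one.mp (hsmall _ (mul_mem ((MonoidHom.normal_ker β).conj_mem z hz g)
      (inv_mem hz)) ?_)
    simp only [Subgroup.mul_mem_iff_of_index_two hidx, inv_mem_iff]
    tauto
  have hβ : Function.Injective β := by
    rw [← MonoidHom.ker_eq_bot_iff, Subgroup.eq_bot_iff_forall]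
    intro z hz
    exact isometry_central_eq_one rfl z fun g => hcen z hz g
  have e4 : ↥(Cfsg.SU 4 K 2) ≃* Cfsg.PSU 4 K 2 :=
    ((QuotientGroup.quotientMulEquivOfEq hZ).trans QuotientGroup.quotientBot).symm
  have hcard : Nat.card (MulAut φ.range) =
      Nat.card (Cfsg.isometryGroup (ZMod 2) (Cfsg.quadFormMinus 2 (ZMod 2) 1 1)) := by
    rw [hO, Nat.card_congr (MulAut.congr (eS.symm.trans e4)).toEquiv, Nat.card_congr e4.toEquiv,
      Cfsg.Agent.Unitary.card_mulAut_PSU hK2 (by norm_num) (by norm_num) (p := 2) (f := 1) le_rfl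
        (by norm_num)]
    norm_num
  haveI : Finite (MulAut φ.range) := inferInstance
  have hb : Function.Bijective β := (Nat.bijective_iff_injective_and_card β).mpr ⟨hβ, hcard.symm⟩
  exact ⟨(MulAut.congr (e4.symm.trans eS)).trans (MulEquiv.ofBijective β hb).symm⟩

end Orthogonal

variable {K : Type*} [Field K] [Fintype K] {hK : Fintype.card K = 4}

variable {G : Type*} [Group G] {D : Set G} {F : Type*} [Field F] [Fintype F] {a b : G}
  {π : ↥(Subgroup.centralizer ({a} : Set G)) →* Cfsg.PSU 6 K 2}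

namespace PairData

variable (P : PairData hK D (F := F) a b π)

/-- the joint centraliser elements centralising the kernel lie in it -/
theorem mem_E_of_commute {c : G} (hc : c ∈ P.K2) (hE : ∀ e ∈ P.E, Commute c e) : c ∈ P.E := by
  classical
  have htt := P.data.core.tt
  refine P.mem_E_iff.mpr ⟨hc, fun z hz => ?_⟩
  obtain ⟨X, hX, hXB, hs, rfl⟩ := P.mem_common_iff.mp hz
  obtain ⟨hX1, hX1B, -⟩ := P.shift hX hXB hs 1
  set u1 := P.pt X
  set u2 := P.pt (X + (1 : K) • P.B)
  have hne : u1 ≠ u2 := fun e => by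
    obtain ⟨k, hk⟩ := (P.xs.sp.same hX hX1).mp e
    obtain ⟨e1, -⟩ := (indep_pair P.pB.1 hs).eq_of_pair
      (show (1 : K) • P.B + (1 : K) • X = (0 : K) • P.B + k • X by
        rw [one_smul K X, zero_smul, zero_add, ← hk, add_comm])
    exact one_ne_zero e1
  have m1 := (P.xs.sp.mem hX).1
  have m2 := (P.xs.sp.mem hX1).1
  have c12 : Commute u1 u2 := (P.xs.sp.comm hX hX1).mpr (by
    rw [hb_add_right hK, hb_smul_right, hX.2, hXB, mul_zero, add_zero])
  have hprod : c * u1 * c⁻¹ * (c * u2 * c⁻¹) = u1 * u2 := by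
    rw [show c * u1 * c⁻¹ * (c * u2 * c⁻¹) = c * (u1 * u2) * c⁻¹ by group,
      (hE _ (P.pair_mem_E' hX hXB hs 1)).eq, mul_inv_cancel_right]
  have key := unique_factor' htt P.data.ind 2 (by norm_num) (by norm_num) (u1 * u2) [u1, u2]
    [c * u1 * c⁻¹, c * u2 * c⁻¹]
    ⟨by simpa using hne, rfl, by
      simp only [List.mem_cons, List.not_mem_nil, or_false]
      rintro p (rfl | rfl)
      exacts [m1, m2], by
      simp only [List.mem_cons, List.not_mem_nil, or_false]
      rintro p (rfl | rfl) q (rfl | rfl)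
      exacts [Commute.refl _, c12, c12.symm, Commute.refl _], by simp⟩
    ⟨by simpa using hne, rfl, by
      simp only [List.mem_cons, List.not_mem_nil, or_false]
      rintro p (rfl | rfl)
      exacts [htt.conj_mem _ _ m1, htt.conj_mem _ _ m2], by
      simp only [List.mem_cons, List.not_mem_nil, or_false]
      rintro p (rfl | rfl) q (rfl | rfl)
      exacts [Commute.refl _, commute_conj.mpr c12, commute_conj.mpr c12.symm, Commute.refl _],
      by simpa using hprod⟩
  have := (key (c * u1 * c⁻¹)).mpr (by simp)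
  simp only [List.mem_cons, List.not_mem_nil, or_false] at this
  rcases this with q | q <;> rw [q]
  · exact (P.cl_iff hX hXB hs).mpr ⟨0, by rw [zero_smul, add_zero]⟩
  · exact (P.cl_iff hX hXB hs).mpr ⟨1, rfl⟩

variable [Finite G]

/-- the centraliser of the kernel in the centraliser of the product lies in the kernel -/
theorem cent_E_le : Subgroup.centralizer ((P.E.subgroupOf P.C2 : Subgroup ↥P.C2) : Set ↥P.C2) ≤
    P.E.subgroupOf P.C2 := by
  intro c hc
  have hcomm : ∀ e ∈ P.E, Commute (c : G) e := fun e he =>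
    (congrArg Subtype.val (hc ⟨e, P.K2_le (P.E_le he)⟩ (Subgroup.mem_subgroupOf.mpr he))).symm
  have ha : a ∈ P.E := P.V_le (Subgroup.subset_closure (Or.inl rfl))
  have hb : b ∈ P.E := P.V_le (Subgroup.subset_closure (Or.inr rfl))
  exact Subgroup.mem_subgroupOf.mpr
    (P.mem_E_of_commute (P.mem_K2.mpr ⟨hcomm a ha, hcomm b hb⟩) hcomm)

variable (hext : ∀ x ∈ D, ∃ π' : ↥(Subgroup.centralizer ({x} : Set G)) →* Cfsg.PSU 6 K 2,
      TwoExt π' ⟨x, mem_cent (Commute.refl x)⟩)
  (hcent : ∀ x ∈ D, Subgroup.centralizer ({x} : Set G) = nbSub D x)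

include hext hcent

/-- the generalised Fitting subgroup of the centraliser of the product -/
theorem genFitting_C2 : Cfsg.generalizedFittingSubgroup ↥P.C2 = P.E.subgroupOf P.C2 := by
  haveI hn : (P.E.subgroupOf P.C2).Normal := P.ker_phi hext ▸ MonoidHom.normal_ker _
  have hp : IsPGroup 2 ↥(P.E.subgroupOf P.C2) :=
    IsPGroup.of_card (n := 10) (by
      rw [Nat.card_congr (Subgroup.subgroupOfEquivOfLe (P.E_le.trans P.K2_le)).toEquiv, P.card_E])
  refine le_antisymm (Components.genFitting_le_of_centralizer_le _ ?_ P.cent_E_le)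
    (le_sup_of_le_right (Cores.le_fittingSubgroup hp.isNilpotent))
  refine sSup_le fun N ⟨hNn, hNnil⟩ => ?_
  haveI := hNn
  haveI := hNnil
  rw [← P.ker_phi hext, ← Subgroup.map_eq_bot_iff]
  haveI : (N.map P.phi).Normal := hNn.map _ (P.phi_bijective hext hcent)
  haveI : IsSimpleGroup ↥(Cfsg.SU 4 K 2) := by
    haveI := Cfsg.Agent.Unitary.isSimpleGroup_PSU (n := 4) (card_eq_sq hK) (by norm_num)
      (by norm_num)
    have e : ↥(Cfsg.SU 4 K 2) ≃* Cfsg.PSU 4 K 2 :=
      ((QuotientGroup.quotientMulEquivOfEq P.center_su4).trans QuotientGroup.quotientBot).symm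
    exact e.isSimpleGroup
  refine nilpotent_normal_aut_eq_bot P.center_su4 _ ?_
  exact nilpotent_of_surjective (P.phi.subgroupMap N) (P.phi.subgroupMap_surjective N)

omit hext hcent

/-- the kernel is the product of `⟨a⟩` and the extraspecial part -/
theorem exists_kernel_equiv : ∃ (E0 : Type) (_ : Group E0) (_ : Finite E0),
    Cfsg.IsExtraspecial 2 E0 ∧ Nat.card E0 = 2 ^ 9 ∧
      Nonempty (↥P.E ≃* Multiplicative (ZMod 2) × E0) := by
  obtain ⟨E0, hle, hX, hcard, haE0, hcov⟩ := P.exists_extra_part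
  have htt := P.data.core.tt
  have haE : a ∈ P.E := P.V_le (Subgroup.subset_closure (Or.inl rfl))
  have hca : ∀ g ∈ P.E, Commute a g := fun g hg => (P.mem_K2.mp (P.E_le hg)).1.symm
  have hhi : IsPGroup 2 ↥E0 := IsPGroup.of_card hcard
  let f : Multiplicative (ZMod 2) × ↥E0 →* ↥P.E :=
    MonoidHom.noncommCoprod
      { toFun := fun t => if t.toAdd = 0 then 1 else ⟨a, haE⟩
        map_one' := if_pos rfl
        map_mul' := fun s t => by
          have two : ∀ r : ZMod 2, r = 0 ∨ r = 1 := by decide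
          rcases two s.toAdd with p | p <;> rcases two t.toAdd with q | q <;>
            simp [toAdd_mul, p, q, Subtype.ext_iff, htt.sq a P.ha,
              show (1 : ZMod 2) + 1 = 0 by decide] }
      (Subgroup.inclusion hle) fun t x => by
        show Commute (if t.toAdd = 0 then (1 : ↥P.E) else ⟨a, haE⟩) (Subgroup.inclusion hle x)
        split
        · exact Commute.one_left _
        · exact Subtype.ext (hca _ (hle x.2)).eq
  have hsurj : Function.Surjective f := fun ⟨g, hg⟩ => by
    rcases hcov g hg with q | q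
    · exact ⟨(1, ⟨g, q⟩), Subtype.ext (by simp [f])⟩
    · refine ⟨(Multiplicative.ofAdd 1, ⟨a * g, q⟩), Subtype.ext ?_⟩
      simp [f, htt.cancel P.ha]
  have hb : Function.Bijective f := (Nat.bijective_iff_surjective_and_card f).mpr ⟨hsurj, by
    rw [Nat.card_prod, hcard, P.card_E, Nat.card_congr Multiplicative.toAdd, Nat.card_zmod]
    norm_num⟩
  let e1 : Shrink.{0} ↥E0 ≃* ↥E0 := Shrink.mulEquiv
  haveI : Finite (Shrink.{0} ↥E0) := Finite.of_equiv _ (equivShrink.{0} ↥E0)
  refine ⟨Shrink.{0} ↥E0, inferInstance, inferInstance, H92.isExtraspecial_of_mulEquiv e1.symm hX,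
    by rw [Nat.card_congr e1.toEquiv, hcard],
    ⟨(MulEquiv.ofBijective f hb).symm.trans ((MulEquiv.refl _).prodCongr e1.symm)⟩⟩

end PairData

end Cfsg.Agent.H93
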