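import Cfsg.Agent.H93.Indep

/-!
Neighbourhoods in groups of type M(22), M(23), M(24) read as unitary polar spaces: every statement
is moved from the residue groups back into the group itself.
-/

set_option autoImplicit false

namespace Cfsg.Agent.H93

variable {G : Type*} [Group G]

/-- every two distinct commuting members have a member commuting with neither -/
def Sep (D : Set G) : Prop :=
  ∀ a ∈ D, ∀ b ∈ D, a ≠ b → Commute a b → ∃ v ∈ D, ¬ Commute v a ∧ ¬ Commute v b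

theorem resSet_diff_one {D : Set G} (h : Core D) {a : G} (ha : a ∈ D) :
    resSet D a \ {1} = resSet D a := by
  refine diff_one_eq ?_
  intro x hx
  obtain ⟨y, hy, rfl⟩ := mem_resSet.mp hx
  exact h.mk_ne_one ha hy

theorem Core.nb_eq_conj {D : Set G} (h : Core D) {a d : G} (ha : a ∈ D) (hd : d ∈ D) :
    ∃ g : G, nb D a = (fun y => g * y * g⁻¹) '' nb D d ∧ g * d * g⁻¹ = a := by
  obtain ⟨g, hg⟩ := isConj_iff.mp (h.cls d hd a ha)
  refine ⟨g, ?_, hg⟩
  ext y
  constructor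
  · intro hy
    have := h.tt.nb_conj g⁻¹ hy
    rw [← hg, show g⁻¹ * (g * d * g⁻¹) * g⁻¹⁻¹ = d by group] at this
    exact ⟨_, this, by show g * (g⁻¹ * y * g⁻¹⁻¹) * g⁻¹ = y; group⟩
  · rintro ⟨z, hz, rfl⟩
    rw [← hg]
    exact h.tt.nb_conj g hz

/-- a set of transpositions read as the isotropic points of a six dimensional Hermitian space -/
structure U6Space (F : Type*) [Field F] (S : Set G) where
  /-- the member attached to a vector -/
  pt : Vec F → G
  mem : ∀ {v}, IsPt v → pt v ∈ S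
  surj : ∀ y ∈ S, ∃ v, IsPt v ∧ pt v = y
  same : ∀ {u v}, IsPt u → IsPt v → (pt u = pt v ↔ SamePt u v)
  comm : ∀ {u v}, IsPt u → IsPt v → (Commute (pt u) (pt v) ↔ hb u v = 0)
  third : ∀ {u v}, IsPt u → IsPt v → pt u * pt v * pt u = pt (v + hb v u • u)
  line : ∀ {u v}, IsPt u → IsPt v → hb u v = 0 → ¬ SamePt u v → ∀ {w : F}, w ^ 2 + w + 1 = 0 →
    ∀ y ∈ S, Commute y (pt u * pt v * pt (u + v) * pt (u + w • v) * pt (u + w ^ 2 • v))

variable {F : Type*} [Field F]

/-- moving a space by conjugation -/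
def U6Space.map {S : Set G} (sp : U6Space F S) (g : G) :
    U6Space F ((fun y => g * y * g⁻¹) '' S) where
  pt v := g * sp.pt v * g⁻¹
  mem hv := ⟨_, sp.mem hv, rfl⟩
  surj := by
    rintro _ ⟨y, hy, rfl⟩
    obtain ⟨v, hv, rfl⟩ := sp.surj y hy
    exact ⟨v, hv, rfl⟩
  same hu hv := by
    rw [← sp.same hu hv]
    exact ⟨fun e => mul_left_cancel (mul_right_cancel e), fun e => by rw [e]⟩
  comm hu hv := commute_conj.trans (sp.comm hu hv)
  third hu hv := by rw [← sp.third hu hv]; group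
  line {u v} hu hv huv hs w hw := by
    rintro _ ⟨y, hy, rfl⟩
    have := commute_conj (g := g) |>.mpr (sp.line hu hv huv hs hw y hy)
    convert this using 1
    group

section F4

variable [Fintype F] (hF : Fintype.card F = 4)

include hF

theorem isPt_third {u v : Vec F} (hu : IsPt u) (hv : IsPt v) : IsPt (v + hb v u • u) := by
  have h := (act_pt (tv hF u) hv)
  rwa [tv_act hF hu.2] at h

theorem isPt_line {u v : Vec F} (hu : IsPt u) (hv : IsPt v) (huv : hb u v = 0) (hs : ¬ SamePt u v)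
    (a : F) : IsPt (u + a • v) := by
  refine ⟨fun e => ?_, ?_⟩
  · by_cases ha : a = 0
    · rw [ha, zero_smul, add_zero] at e; exact hu.1 e
    · exact hs ⟨a⁻¹, by rw [vec_eq_of_add hF e, smul_smul, inv_mul_cancel₀ ha, one_smul]⟩
  · simp [hb_add_left, hb_add_right hF, hb_smul_left, hb_smul_right, hu.2, hv.2, huv,
      (hb_eq_zero_comm hF).mp huv]

/-- the space on the neighbourhood whose residue is the transvection group -/
noncomputable def baseSpace {D : Set G} (h : Core D) {d : G} (hd : d ∈ D)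
    (m : U6Model F (Residue D d)) (heq : resSet D d = m.points) : U6Space F (nb D d) := by
  classical
  have hlift : ∀ v : Vec F, IsPt v → ∃ y, ∃ hy : y ∈ nb D d,
      m.τ v = QuotientGroup.mk (nbElem hy) := fun v hv => by
    have : m.τ v ∈ resSet D d := heq ▸ ⟨v, hv, rfl⟩
    exact mem_resSet.mp this
  let pt : Vec F → G := fun v => if hv : IsPt v then (hlift v hv).choose else 1
  have hpt : ∀ v (hv : IsPt v), ∃ hy : pt v ∈ nb D d, m.τ v = QuotientGroup.mk (nbElem hy) := by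
    intro v hv
    have h1 := (hlift v hv).choose_spec
    simp only [pt, dif_pos hv]
    exact h1
  refine
    { pt := pt
      mem := fun hv => (hpt _ hv).1
      surj := ?_
      same := ?_
      comm := ?_
      third := ?_
      line := ?_ }
  · intro y hy
    have : (QuotientGroup.mk (nbElem hy) : Residue D d) ∈ m.points := heq ▸ mem_resSet.mpr ⟨y, hy, rfl⟩
    obtain ⟨v, hv, e⟩ := this
    obtain ⟨hy', e'⟩ := hpt v hv
    exact ⟨v, hv, ((h.mk_inj hd hy' hy).mp (e'.symm.trans e.symm))⟩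
  · intro u v hu hv
    obtain ⟨hu', eu⟩ := hpt u hu
    obtain ⟨hv', ev⟩ := hpt v hv
    constructor
    · intro e
      exact (m.inj hv hu (by rw [eu, ev]; exact ((h.mk_inj hd hu' hv').mpr e).symm))
    · rintro ⟨a, ha⟩
      apply (h.mk_inj hd hu' hv').mp
      rw [← eu, ← ev, ha, m.smul]
      rintro rfl
      rw [zero_smul] at ha; exact hv.1 ha
  · intro u v hu hv
    obtain ⟨hu', eu⟩ := hpt u hu
    obtain ⟨hv', ev⟩ := hpt v hv
    rw [← residue_commute h.tt hu' hv', ← eu, ← ev]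
    exact m.comm_iff hF hu hv
  · intro u v hu hv
    obtain ⟨hu', eu⟩ := hpt u hu
    obtain ⟨hv', ev⟩ := hpt v hv
    obtain ⟨hw', ew⟩ := hpt _ (isPt_third hF hu hv)
    have hm : pt u * pt v * pt u ∈ nb D d := by
      have := h.tt.nbSub_conj_nb hd (nbElem hu').2 hv'
      show pt u * pt v * pt u ∈ nb D d
      simpa [nbElem, h.tt.inv_eq hu'.1] using this
    apply (h.mk_inj hd hm hw').mp
    rw [← ew, ← m.conj hu v, eu, ev, ← QuotientGroup.mk_mul, ← QuotientGroup.mk_mul]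
    rfl
  · intro u v hu hv huv hs w hw y hy
    have p3 : IsPt (u + v) := by simpa using isPt_line hF hu hv huv hs 1
    obtain ⟨h1, e1⟩ := hpt u hu
    obtain ⟨h2, e2⟩ := hpt v hv
    obtain ⟨h3, e3⟩ := hpt _ p3
    obtain ⟨h4, e4⟩ := hpt _ (isPt_line hF hu hv huv hs w)
    obtain ⟨h5, e5⟩ := hpt _ (isPt_line hF hu hv huv hs (w ^ 2))
    have hl := m.line hu hv huv hw
    rw [e1, e2, e3, e4, e5, ← QuotientGroup.mk_mul, ← QuotientGroup.mk_mul, ← QuotientGroup.mk_mul,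
      ← QuotientGroup.mk_mul, QuotientGroup.eq_one_iff, mem_center_nbSub] at hl
    exact hl y hy

/-- lifting a space from a subset of residue images -/
noncomputable def liftSpace {D : Set G} (h : Core D) {d : G} (hd : d ∈ D) {T : Set (Residue D d)}
    (hT : T ⊆ resSet D d) (sp : U6Space F T) :
    U6Space F {y : G | ∃ hy : y ∈ nb D d, (QuotientGroup.mk (nbElem hy) : Residue D d) ∈ T} := by
  classical
  have hlift : ∀ v : Vec F, IsPt v → ∃ y, ∃ hy : y ∈ nb D d,
      sp.pt v = QuotientGroup.mk (nbElem hy) := fun v hv => mem_resSet.mp (hT (sp.mem hv))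
  let pt : Vec F → G := fun v => if hv : IsPt v then (hlift v hv).choose else 1
  have hpt : ∀ v (hv : IsPt v), ∃ hy : pt v ∈ nb D d, sp.pt v = QuotientGroup.mk (nbElem hy) := by
    intro v hv
    have h1 := (hlift v hv).choose_spec
    simp only [pt, dif_pos hv]
    exact h1
  refine
    { pt := pt
      mem := fun hv => ⟨(hpt _ hv).1, (hpt _ hv).2 ▸ sp.mem hv⟩
      surj := ?_
      same := ?_
      comm := ?_
      third := ?_
      line := ?_ }
  · rintro y ⟨hy, hyT⟩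
    obtain ⟨v, hv, e⟩ := sp.surj _ hyT
    obtain ⟨hy', e'⟩ := hpt v hv
    exact ⟨v, hv, ((h.mk_inj hd hy' hy).mp (e'.symm.trans e))⟩
  · intro u v hu hv
    obtain ⟨hu', eu⟩ := hpt u hu
    obtain ⟨hv', ev⟩ := hpt v hv
    rw [← h.mk_inj hd hu' hv', ← eu, ← ev]
    exact sp.same hu hv
  · intro u v hu hv
    obtain ⟨hu', eu⟩ := hpt u hu
    obtain ⟨hv', ev⟩ := hpt v hv
    rw [← residue_commute h.tt hu' hv', ← eu, ← ev]
    exact sp.comm hu hv
  · intro u v hu hv
    obtain ⟨hu', eu⟩ := hpt u hu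
    obtain ⟨hv', ev⟩ := hpt v hv
    obtain ⟨hw', ew⟩ := hpt _ (isPt_third hF hu hv)
    have hm : pt u * pt v * pt u ∈ nb D d := by
      have := h.tt.nbSub_conj_nb hd (nbElem hu').2 hv'
      show pt u * pt v * pt u ∈ nb D d
      simpa [nbElem, h.tt.inv_eq hu'.1] using this
    apply (h.mk_inj hd hm hw').mp
    rw [← ew, ← sp.third hu hv, eu, ev, ← QuotientGroup.mk_mul, ← QuotientGroup.mk_mul]
    rfl
  · rintro u v hu hv huv hs w hw y ⟨hy, hyT⟩
    have p3 : IsPt (u + v) := by simpa using isPt_line hF hu hv huv hs 1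
    obtain ⟨h1, e1⟩ := hpt u hu
    obtain ⟨h2, e2⟩ := hpt v hv
    obtain ⟨h3, e3⟩ := hpt _ p3
    obtain ⟨h4, e4⟩ := hpt _ (isPt_line hF hu hv huv hs w)
    obtain ⟨h5, e5⟩ := hpt _ (isPt_line hF hu hv huv hs (w ^ 2))
    have hl := sp.line hu hv huv hs hw _ hyT
    rw [e1, e2, e3, e4, e5, ← QuotientGroup.mk_mul, ← QuotientGroup.mk_mul, ← QuotientGroup.mk_mul,
      ← QuotientGroup.mk_mul] at hl
    set P : ↥(nbSub D d) := nbElem h1 * nbElem h2 * nbElem h3 * nbElem h4 * nbElem h5 with hP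
    have hm := h.tt.nbSub_conj_nb hd P.2 hy
    have e : (QuotientGroup.mk (nbElem hm) : Residue D d) = QuotientGroup.mk (nbElem hy) := by
      have e0 : nbElem hm = P * nbElem hy * P⁻¹ := Subtype.ext rfl
      rw [e0, QuotientGroup.mk_mul, QuotientGroup.mk_mul, QuotientGroup.mk_inv, ← hl.eq,
        mul_inv_cancel_right]
    have e' := (h.mk_inj hd hm hy).mp e
    have e'' : (P : G) * y * (P : G)⁻¹ = y := e'
    exact (mul_inv_eq_iff_eq_mul.mp e'').symm

theorem U6Space.sep {S : Set G} (sp : U6Space F S) : Sep S := by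
  intro a ha b hb' hne hc
  obtain ⟨u, hu, rfl⟩ := sp.surj a ha
  obtain ⟨v, hv, rfl⟩ := sp.surj b hb'
  obtain ⟨w, hw, h1, h2⟩ := iso_two hF hu.1 (fun e => hne ((sp.same hu hv).mpr e)) 1 1
  have hwp := pt_of_hb_eq_one hw h1
  refine ⟨sp.pt w, sp.mem hwp, fun e => ?_, fun e => ?_⟩
  · have := (sp.comm hwp hu).mp e; rw [h1] at this; exact one_ne_zero this
  · have := (sp.comm hwp hv).mp e; rw [h2] at this; exact one_ne_zero this

end F4

/-- the step of the recursion for `Sep` -/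
theorem sep_step {D : Set G} (h : Core D) {d : G} (hd : d ∈ D) (hres : Core (resSet D d))
    (hsep : Sep (resSet D d)) : Sep D := by
  have key : ∀ a ∈ nb D d, ∀ b ∈ nb D d, a ≠ b → Commute a b →
      ∃ v ∈ nb D d, ¬ Commute v a ∧ ¬ Commute v b := by
    intro a ha b hb' hne hc
    obtain ⟨x, hx, hxa, hxb⟩ := hsep _ (mem_resSet.mpr ⟨a, ha, rfl⟩) _ (mem_resSet.mpr ⟨b, hb', rfl⟩)
      (fun e => hne ((h.mk_inj hd ha hb').mp e)) ((residue_commute h.tt ha hb').mpr hc)
    obtain ⟨v, hv, rfl⟩ := mem_resSet.mp hx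
    exact ⟨v, hv, fun e => hxa ((residue_commute h.tt hv ha).mpr e),
      fun e => hxb ((residue_commute h.tt hv hb').mpr e)⟩
  have edge_key : ∀ b ∈ nb D d, ∃ r ∈ nb D d, r ≠ b ∧ Commute b r := by
    intro b hb'
    obtain ⟨x, hx, hne, hc⟩ := hres.edge _ (mem_resSet.mpr ⟨b, hb', rfl⟩)
    obtain ⟨r, hr, rfl⟩ := mem_resSet.mp hx
    exact ⟨r, hr, fun e => hne (by subst e; rfl), (residue_commute h.tt hb' hr).mp hc⟩
  intro a ha b hb' hne hc
  -- a common neighbour of a and b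
  obtain ⟨g, hga⟩ := isConj_iff.mp (h.cls a ha d hd)
  have hbd : g * b * g⁻¹ ∈ nb D d := hga ▸ h.tt.nb_conj g ⟨hb', hne.symm, hc⟩
  obtain ⟨r, hr, hrb, hbr⟩ := edge_key _ hbd
  obtain ⟨g2, hg2⟩ := isConj_iff.mp (h.cls r hr.1 d hd)
  let φ := MulAut.conj (g2 * g)
  have hφ : ∀ x, φ x = g2 * (g * x * g⁻¹) * g2⁻¹ := fun x => by
    simp [φ, MulAut.conj_apply, mul_assoc]
  have h1 : φ a ∈ nb D d := by
    have := h.tt.nb_conj g2 (nb_symm hd hr)
    rw [hg2] at this
    rwa [hφ, hga]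
  have h2 : φ b ∈ nb D d := by
    rw [hφ, ← hg2]
    exact h.tt.nb_conj g2 ⟨hbd.1, hrb.symm, hbr.symm⟩
  obtain ⟨v, hv, hva, hvb⟩ := key _ h1 _ h2 (fun e => hne (φ.injective e)) (hc.map φ.toMonoidHom)
  refine ⟨φ.symm v, ?_, ?_, ?_⟩
  · have := h.tt.conj_mem (g2 * g)⁻¹ v hv.1
    rw [inv_inv] at this
    rw [show φ.symm v = (g2 * g)⁻¹ * v * (g2 * g) from MulAut.conj_symm_apply _ _]
    exact this
  · intro e
    exact hva (by simpa using e.map φ.toMonoidHom)
  · intro e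
    exact hvb (by simpa using e.map φ.toMonoidHom)

/-! ### spaces in the three types -/

theorem resSet_ne_one {D : Set G} (h : Core D) {d : G} (hd : d ∈ D) :
    ∀ x ∈ resSet D d, x ≠ 1 := by
  intro x hx
  obtain ⟨y, hy, rfl⟩ := mem_resSet.mp hx
  exact h.mk_ne_one hd hy

theorem good22 [Finite G] {D : Set G} (hD : TT D) (hgen : Subgroup.closure D = ⊤)
    (hne : ∀ a ∈ D, a ≠ 1) (h : Cfsg.IsOfTypeM22 G D) :
    Core D ∧ Indep D 5 ∧ Sep D ∧ ∃ (F : Type) (_ : Field F) (_ : Fintype F), Fintype.card F = 4 ∧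
      ∀ a ∈ D, Nonempty (U6Space F (nb D a)) := by
  have hcore : Core D := diff_one_eq hne ▸ core_of_M22 hD hgen h
  obtain ⟨d, c, hd, -, -, ⟨F, iF, iFF, hF, m, heq, hm⟩, -⟩ := residue_of_M22 hD h
  rw [resSet_diff_one hcore hd] at heq
  let sp := baseSpace hF hcore hd m heq
  refine ⟨hcore, diff_one_eq hne ▸ indep_of_M22 hD hgen h, ?_, F, iF, iFF, hF, fun a ha => ?_⟩
  · refine sep_step hcore hd (heq ▸ hm) ?_
    rw [heq]
    rintro _ ⟨u, hu, rfl⟩ _ ⟨v, hv, rfl⟩ hne' -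
    have hs : ¬ SamePt u v := by
      rintro ⟨a, ha⟩
      apply hne'
      rw [ha, m.smul]
      rintro rfl
      rw [zero_smul] at ha; exact hv.1 ha
    obtain ⟨w, hw, h1, h2⟩ := iso_two hF hu.1 hs 1 1
    have hwp := pt_of_hb_eq_one hw h1
    refine ⟨_, ⟨w, hwp, rfl⟩, fun e => ?_, fun e => ?_⟩
    · have := (m.comm_iff hF hwp hu).mp e; rw [h1] at this; exact one_ne_zero this
    · have := (m.comm_iff hF hwp hv).mp e; rw [h2] at this; exact one_ne_zero this
  · obtain ⟨g, hg, -⟩ := hcore.nb_eq_conj ha hd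
    exact ⟨hg ▸ sp.map g⟩

theorem good23 [Finite G] {D : Set G} (hD : TT D) (hgen : Subgroup.closure D = ⊤)
    (hne : ∀ a ∈ D, a ≠ 1) (h : Cfsg.IsOfTypeM23 G D) :
    Core D ∧ Indep D 6 ∧ Sep D ∧ ∀ x ∈ D, Core (resSet D x) ∧ Sep (resSet D x) := by
  have hcore : Core D := diff_one_eq hne ▸ core_of_M23 hD hgen h
  have hind : Indep D 6 := diff_one_eq hne ▸ indep_of_M23 hD hgen h
  obtain ⟨-, d, hd, c, -, -, h22, -⟩ := h
  obtain ⟨r1, -, r3, -⟩ := good22 (tt_resSet hD hd) (closure_resSet d) (resSet_ne_one hcore hd) h22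
  refine ⟨hcore, hind, sep_step hcore hd r1 r3, fun x hx => ?_⟩
  -- the residues are conjugate
  obtain ⟨g, hg⟩ := isConj_iff.mp (hcore.cls d hd x hx)
  have hmap : (nbSub D d).map (MulAut.conj g).toMonoidHom = nbSub D x := by
    rw [MonoidHom.map_closure]
    congr 1
    obtain ⟨g', -, -⟩ := hcore.nb_eq_conj hx hd
    ext y
    constructor
    · rintro ⟨z, hz, rfl⟩
      exact hg ▸ hcore.tt.nb_conj g hz
    · intro hy
      refine ⟨g⁻¹ * y * g, ?_, by simp [mul_assoc]⟩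
      have := hcore.tt.nb_conj g⁻¹ hy
      rw [← hg, show g⁻¹ * (g * d * g⁻¹) * g⁻¹⁻¹ = d by group, inv_inv] at this
      exact this
  let e0 : ↥(nbSub D d) ≃* ↥(nbSub D x) :=
    ((MulAut.conj g).subgroupMap (nbSub D d)).trans (MulEquiv.subgroupCongr hmap)
  have hcen : (Subgroup.center ↥(nbSub D d)).map e0.toMonoidHom = Subgroup.center ↥(nbSub D x) := by
    ext z
    rw [Subgroup.mem_map_equiv]
    constructor
    · intro hz
      rw [Subgroup.mem_center_iff] at hz ⊢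
      intro w
      apply e0.symm.injective
      rw [map_mul, map_mul]
      exact hz _
    · intro hz
      rw [Subgroup.mem_center_iff] at hz ⊢
      intro w
      apply e0.injective
      simp only [map_mul, MulEquiv.apply_symm_apply]
      exact hz _
  let e : Residue D d ≃* Residue D x := QuotientGroup.congr _ _ e0 hcen
  have himage : e '' resSet D d = resSet D x := by
    ext z
    constructor
    · rintro ⟨_, hw, rfl⟩
      obtain ⟨y, hy, rfl⟩ := mem_resSet.mp hw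
      exact mem_resSet.mpr ⟨g * y * g⁻¹, hg ▸ hcore.tt.nb_conj g hy, rfl⟩
    · intro hz
      obtain ⟨y, hy, rfl⟩ := mem_resSet.mp hz
      have hy' : g⁻¹ * y * g ∈ nb D d := by
        have := hcore.tt.nb_conj g⁻¹ hy
        rwa [← hg, show g⁻¹ * (g * d * g⁻¹) * g⁻¹⁻¹ = d by group, inv_inv] at this
      refine ⟨_, mem_resSet.mpr ⟨_, hy', rfl⟩, ?_⟩
      show QuotientGroup.mk (e0 (nbElem hy')) = _
      congr 1
      apply Subtype.ext
      show g * (g⁻¹ * y * g) * g⁻¹ = y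
      group
  have hback : ∀ a b, Commute (e a) (e b) ↔ Commute a b := fun a b =>
    ⟨fun hc => by simpa using hc.map e.symm.toMonoidHom, fun hc => hc.map e.toMonoidHom⟩
  rw [← himage]
  refine ⟨⟨?_, ?_, ?_, ?_, ?_, ?_⟩, ?_⟩
  · refine ⟨?_, ?_, ?_⟩
    · rintro _ ⟨a, ha, rfl⟩; rw [← map_mul, r1.tt.sq a ha, map_one]
    · rintro _ ⟨a, ha, rfl⟩ _ ⟨b, hb', rfl⟩
      rcases r1.tt.pair a ha b hb' with hp | hp
      · exact Or.inl (by rw [← map_mul, ← map_pow, hp, map_one])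
      · exact Or.inr (by rw [← map_mul, ← map_pow, hp, map_one])
    · rintro k _ ⟨a, ha, rfl⟩
      exact ⟨e.symm k * a * (e.symm k)⁻¹, r1.tt.conj_mem _ a ha, by simp⟩
  · rintro _ ⟨a, ha, rfl⟩ he
    exact r1.ne_one a ha (e.injective (he.trans (map_one e).symm))
  · rintro _ ⟨a, ha, rfl⟩ _ ⟨b, hb', rfl⟩
    exact e.toMonoidHom.map_isConj (r1.cls a ha b hb')
  · rintro _ ⟨a, ha, rfl⟩ _ ⟨⟨b, hb', rfl⟩, hne', hc⟩
    obtain ⟨v, hv, hvb⟩ := r1.nodom a ha b ⟨hb', fun eq => hne' (by rw [eq]), (hback a b).mp hc⟩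
    exact ⟨e v, ⟨⟨v, hv.1, rfl⟩, fun eq => hv.2.1 (e.injective eq), (hback a v).mpr hv.2.2⟩,
      fun eq => hvb ((hback v b).mp eq)⟩
  · rintro _ ⟨a, ha, rfl⟩
    obtain ⟨b, hb'⟩ := r1.edge a ha
    exact ⟨e b, ⟨b, hb'.1, rfl⟩, fun eq => hb'.2.1 (e.injective eq), (hback a b).mpr hb'.2.2⟩
  · obtain ⟨k, hk, hk'⟩ := r1.eleven
    exact ⟨e k, fun eq => hk (e.injective (eq.trans (map_one e).symm)), by rw [← map_pow, hk', map_one]⟩
  · rintro _ ⟨a, ha, rfl⟩ _ ⟨b, hb', rfl⟩ hne' hc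
    obtain ⟨v, hv, h1, h2⟩ := r3 a ha b hb' (fun eq => hne' (by rw [eq])) ((hback a b).mp hc)
    exact ⟨e v, ⟨v, hv, rfl⟩, fun eq => h1 ((hback v a).mp eq), fun eq => h2 ((hback v b).mp eq)⟩

end Cfsg.Agent.H93
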