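import Cfsg.Agent.H93.U6Move
import Cfsg.Agent.H93.Space

/-!
Hyperbolic frames of the six dimensional Hermitian space: transitivity of `SU` up to one scalar, and the
conjugations realising the elements of `SU` on a space of transpositions.
-/

set_option autoImplicit false

namespace Cfsg.Agent.H93

open Cfsg.Agent.Unitary (nondeg_top exists_isometry_of_gram gmat toSU Preserves)

variable {F : Type*} [Field F] [Fintype F] (hF : Fintype.card F = 4)

include hF

/-- vectors with dual vectors are independent -/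
theorem plane_of_dual {P Q : Fin 3 → Vec F} (ho : ∀ i j, hb (P i) (P j) = 0)
    (hd : ∀ i j, hb (Q i) (P j) = if i = j then 1 else 0) : Plane P Q := by
  refine ⟨Fintype.linearIndependent_iff.mpr fun c hc i => ?_, ho, hd⟩
  have e := congrArg (fun v => hb v (Q i)) hc
  simp only [Fin.sum_univ_three, hb_add_left, hb_smul_left, hb_zero_left,
    hb_conj hF (Q i) (P _), hd] at e
  fin_cases i <;> simpa using e

/-- a hyperbolic frame is a basis -/
theorem frame_basis {P Q : Fin 3 → Vec F} (p : Plane P Q) (hQ : ∀ i j, hb (Q i) (Q j) = 0) :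
    LinearIndependent F (Sum.elim P Q) ∧ ⊤ ≤ Submodule.span F (Set.range (Sum.elim P Q)) := by
  have hli : LinearIndependent F (Sum.elim P Q) := by
    refine Fintype.linearIndependent_iff.mpr fun c hc i => ?_
    rcases i with i | i
    · have e := congrArg (fun v => hb v (Q i)) hc
      simp only [Fintype.sum_sum_type, Fin.sum_univ_three, Sum.elim_inl, Sum.elim_inr, hb_add_left,
        hb_smul_left, hb_zero_left, p.dual' hF, hQ] at e
      fin_cases i <;> simpa using e
    · have e := congrArg (fun v => hb v (P i)) hc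
      simp only [Fintype.sum_sum_type, Fin.sum_univ_three, Sum.elim_inl, Sum.elim_inr, hb_add_left,
        hb_smul_left, hb_zero_left, p.dual, p.orth] at e
      fin_cases i <;> simpa using e
  refine ⟨hli, le_of_eq (hli.span_eq_top_of_card_eq_finrank ?_).symm⟩
  simp [Module.finrank_fin_fun]

/-- `SU` is transitive on hyperbolic frames, up to one scalar -/
theorem frame_move {P Q P' Q' : Fin 3 → Vec F} (p : Plane P Q) (hQ : ∀ i j, hb (Q i) (Q j) = 0)
    (p' : Plane P' Q') (hQ' : ∀ i j, hb (Q' i) (Q' j) = 0) :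
    ∃ g : ↥(Cfsg.SU 6 F 2), ∃ m : F, m ≠ 0 ∧ (∀ i, act g (P i) = (if i = 2 then m else 1) • P' i) ∧
      ∀ i, act g (Q i) = (if i = 2 then m else 1) • Q' i := by
  have hF' := card_eq_sq hF
  obtain ⟨hli, hsp⟩ := frame_basis hF p hQ
  have gram : ∀ {R S : Fin 3 → Vec F}, Plane R S → (∀ i j, hb (S i) (S j) = 0) → ∀ μ : Fin 3 → F,
      (∀ i, μ i ≠ 0) → ∀ a b,
        hb (Sum.elim (fun i => μ i • R i) (fun i => μ i • S i) a)
          (Sum.elim (fun i => μ i • R i) (fun i => μ i • S i) b) =
        hb (Sum.elim R S a) (Sum.elim R S b) := by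
    intro R S r hS μ hμ a b
    rcases a with i | i <;> rcases b with j | j <;>
      simp only [Sum.elim_inl, Sum.elim_inr, hb_smul_left, hb_smul_right, r.orth, hS, r.dual,
        r.dual' hF, mul_zero]
    all_goals
      by_cases e : i = j
      · subst e; simp only [if_true, mul_one]; linear_combination pow_three hF (hμ i)
      · simp [e, Ne.symm e]
  have same : ∀ a b, hb (Sum.elim P' Q' a) (Sum.elim P' Q' b) = hb (Sum.elim P Q a) (Sum.elim P Q b) :=
    by
    intro a b
    rcases a with i | i <;> rcases b with j | j <;>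
      simp only [Sum.elim_inl, Sum.elim_inr, p.orth, p'.orth, hQ, hQ', p.dual, p'.dual, p.dual' hF,
        p'.dual' hF]
  obtain ⟨g0, e0⟩ := exists_isometry_of_gram (q := 2) hF' hli hsp
    (b := Sum.elim P' Q') same
  set M0 : Matrix (Fin 6) (Fin 6) F := ((g0 : GL (Fin 6) F) : Matrix (Fin 6) (Fin 6) F) with hM0
  have hp0 : Preserves 2 M0 := g0.2
  set m := M0.det with hm
  have hnorm : m * m ^ 2 = 1 := hp0.det_norm hF'
  have hm0 : m ≠ 0 := fun q => by rw [q, zero_mul] at hnorm; exact zero_ne_one hnorm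
  let μ : Fin 3 → F := fun i => if i = 2 then m else 1
  have hμ : ∀ i, μ i ≠ 0 := fun i => by by_cases e : i = 2 <;> simp [μ, e, hm0]
  obtain ⟨g1, e1⟩ := exists_isometry_of_gram (q := 2) hF' hli hsp
    (b := Sum.elim (fun i => μ i • P' i) (fun i => μ i • Q' i))
    (fun a b => (gram p' hQ' μ hμ a b).trans (same a b))
  set M1 : Matrix (Fin 6) (Fin 6) F := ((g1 : GL (Fin 6) F) : Matrix (Fin 6) (Fin 6) F) with hM1
  let B := Module.Basis.mk hli hsp
  let ν : Fin 3 ⊕ Fin 3 → F := Sum.elim μ μ
  let Δ : Vec F →ₗ[F] Vec F := B.constr F fun a => ν a • B a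
  have hcomp : M1.mulVecLin = M0.mulVecLin ∘ₗ Δ := by
    refine B.ext fun a => ?_
    rw [LinearMap.comp_apply, Module.Basis.constr_basis, map_smul, Matrix.mulVecLin_apply,
      Matrix.mulVecLin_apply, Module.Basis.mk_apply, e0, e1]
    rcases a with i | i <;> rfl
  have hdet : LinearMap.det Δ = m ^ 2 := by
    rw [← LinearMap.det_toMatrix B, show LinearMap.toMatrix B B Δ = Matrix.diagonal ν by
      ext a b
      rw [LinearMap.toMatrix_apply, Module.Basis.constr_basis, map_smul, Finsupp.smul_apply,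
        B.repr_self, smul_eq_mul, Finsupp.single_apply, Matrix.diagonal_apply]
      by_cases e : a = b
      · subst e; simp
      · simp [e, Ne.symm e], Matrix.det_diagonal, Fintype.prod_sum_type, Fin.prod_univ_three]
    simp [ν, μ, pow_two]
  have hd1 : M1.det = 1 := by
    have e := congrArg LinearMap.det hcomp
    rw [LinearMap.det_comp, hdet, ← Matrix.toLin'_apply', LinearMap.det_toLin',
      ← Matrix.toLin'_apply', LinearMap.det_toLin', ← hm] at e
    exact e.trans hnorm
  refine ⟨toSU (M := M1) g1.2 hd1, m, hm0, fun i => ?_, fun i => ?_⟩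
  · exact e1 (Sum.inl i)
  · exact e1 (Sum.inr i)

/-- `SU` is generated by the transvections -/
theorem TS_univ (g : ↥(Cfsg.SU 6 F 2)) : g ∈ TS hF (Set.univ : Set (Vec F)) := by
  obtain ⟨P, hP⟩ := exists_pt hF
  have hF' := card_eq_sq hF
  obtain ⟨t, ht, e⟩ := move_iso hF (W := ⊤) (nondeg_top hF')
    (by rw [finrank_top, Module.finrank_fin_fun]; norm_num) Submodule.mem_top Submodule.mem_top
    (act_pt g hP).2 hP.2 (act_pt g hP).1 hP.1
  have h1 := TS_mono hF (Set.subset_univ _) (stab_vec hF hP (g := t * g) (by rw [act_mul, e]))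
  have h2 := TS_mono hF (Set.subset_univ _) ht
  exact (Subgroup.mul_mem_cancel_left _ h2).mp h1

omit hF in
/-- every element of `SU` is realised by conjugation -/
theorem U6Space.realise {G : Type*} [Group G] {S : Set G} (sp : U6Space F S)
    (hF : Fintype.card F = 4) (hinv : ∀ y ∈ S, y⁻¹ = y) (g : ↥(Cfsg.SU 6 F 2)) :
    ∃ k ∈ Subgroup.closure S, ∀ v, IsPt v → k * sp.pt v * k⁻¹ = sp.pt (act g v) := by
  have hg := TS_univ hF g
  induction hg using Subgroup.closure_induction with
  | mem t ht =>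
    obtain ⟨w, ⟨hw, -⟩, rfl⟩ := ht
    refine ⟨sp.pt w, Subgroup.subset_closure (sp.mem hw), fun v hv => ?_⟩
    rw [hinv _ (sp.mem hw), sp.third hw hv, tv_act hF hw.2]
  | one => exact ⟨1, one_mem _, fun v _ => by rw [act_one]; group⟩
  | mul g g' _ _ ih ih' =>
    obtain ⟨k, hk, e⟩ := ih
    obtain ⟨k', hk', e'⟩ := ih'
    refine ⟨k * k', mul_mem hk hk', fun v hv => ?_⟩
    rw [show k * k' * sp.pt v * (k * k')⁻¹ = k * (k' * sp.pt v * k'⁻¹) * k⁻¹ by group, e' v hv,
      e _ (act_pt g' hv), act_mul]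
  | inv g _ ih =>
    obtain ⟨k, hk, e⟩ := ih
    refine ⟨k⁻¹, inv_mem hk, fun v hv => ?_⟩
    have := e _ (act_pt g⁻¹ hv)
    rw [act_inv_right] at this
    rw [← this]
    group

end Cfsg.Agent.H93
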