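import Cfsg.Agent.H93.U6Class
import Cfsg.Agent.Unitary.Center

/-!
A perfect two-fold central extension of `PSU 6 F 2` is twisted: products of lifts of transvections
over two bases of totally isotropic planes may have the same image and differ by the central
involution.
-/

set_option autoImplicit false

namespace Cfsg.Agent.H93

/-- a sum of four lines through a point is the total plus the point -/
theorem nine_relation {A : Type*} [CommGroup A] (hsq : ∀ x : A, x * x = 1) (a b c d e f g h i : A) :
    a = (a * e * i) * (a * d * g) * (a * b * c) * (a * f * h) *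
      ((a * d * g) * (b * e * h) * (c * f * i)) := by
  have hsq' : ∀ x y : A, x * (x * y) = y := fun x y => by rw [← mul_assoc, hsq, one_mul]
  simp [mul_assoc, mul_left_comm, mul_comm, hsq, hsq']

/-- a subgroup generated by `n` commuting involutions has order at most `2 ^ n` -/
theorem card_closure_list {G : Type*} [Group G] :
    ∀ l : List G, (∀ x ∈ l, x * x = 1) → (∀ x ∈ l, ∀ y ∈ l, Commute x y) →
      Finite ↥(Subgroup.closure {x | x ∈ l}) ∧ Nat.card ↥(Subgroup.closure {x | x ∈ l}) ≤ 2 ^ l.length := by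
  classical
  intro l
  induction l with
  | nil =>
    intro _ _
    have : ({x | x ∈ ([] : List G)} : Set G) = ∅ := by ext; simp
    rw [this, Subgroup.closure_empty]
    exact ⟨inferInstance, by simp⟩
  | cons a l ih =>
    intro h2 hc
    obtain ⟨hfin, hle⟩ := ih (fun x hx => h2 x (List.mem_cons_of_mem a hx))
      (fun x hx y hy => hc x (List.mem_cons_of_mem a hx) y (List.mem_cons_of_mem a hy))
    set H := Subgroup.closure {x | x ∈ l}
    have hH : (H : Set G).Finite := Set.toFinite _
    have ha : ∀ x ∈ H, Commute a x := fun x hx => by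
      induction hx using Subgroup.closure_induction with
      | mem x hx => exact hc a List.mem_cons_self x (List.mem_cons_of_mem a hx)
      | one => exact Commute.one_right a
      | mul x y _ _ hx hy => exact hx.mul_right hy
      | inv x _ hx => exact hx.inv_right
    have haa : a * a = 1 := h2 a List.mem_cons_self
    have hsub : (Subgroup.closure {x | x ∈ a :: l} : Set G) ⊆ (H : Set G) ∪ (a * ·) '' (H : Set G) := by
      intro x hx
      induction hx using Subgroup.closure_induction with
      | mem x hx =>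
        rcases List.mem_cons.mp hx with rfl | hx
        exacts [Or.inr ⟨1, H.one_mem, mul_one _⟩, Or.inl (Subgroup.subset_closure hx)]
      | one => exact Or.inl H.one_mem
      | mul x y _ _ hx hy =>
        rcases hx with hx | ⟨u, hu, rfl⟩ <;> rcases hy with hy | ⟨v, hv, rfl⟩
        · exact Or.inl (H.mul_mem hx hy)
        · exact Or.inr ⟨x * v, H.mul_mem hx hv, by
            show a * (x * v) = x * (a * v)
            rw [← mul_assoc, (ha x hx).eq, mul_assoc]⟩
        · exact Or.inr ⟨u * y, H.mul_mem hu hy, (mul_assoc _ _ _).symm⟩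
        · refine Or.inl ?_
          show a * u * (a * v) ∈ H
          rw [show a * u * (a * v) = a * (u * a) * v by group, ← (ha u hu).eq, ← mul_assoc a a u,
            haa, one_mul]
          exact H.mul_mem hu hv
      | inv x _ hx =>
        rcases hx with hx | ⟨u, hu, rfl⟩
        · exact Or.inl (H.inv_mem hx)
        · refine Or.inr ⟨u⁻¹, H.inv_mem hu, ?_⟩
          show a * u⁻¹ = (a * u)⁻¹
          rw [mul_inv_rev, inv_eq_of_mul_eq_one_left haa, (ha u hu).inv_right.eq]
    have hfin' := (hH.union (hH.image _)).subset hsub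
    refine ⟨hfin'.to_subtype, ?_⟩
    rw [← SetLike.coe_sort_coe, Nat.card_coe_set_eq, List.length_cons, pow_succ]
    refine (Set.ncard_le_ncard hsub (hH.union (hH.image _))).trans ((Set.ncard_union_le _ _).trans ?_)
    have h1 := Set.ncard_image_le (f := (a * ·)) hH
    rw [← Nat.card_coe_set_eq (H : Set G), SetLike.coe_sort_coe] at h1
    rw [← Nat.card_coe_set_eq (H : Set G), SetLike.coe_sort_coe]
    omega

/-- a perfect group has no index two complement to a central involution in a subgroup of odd index -/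
theorem no_complement {C : Type*} [Group C] [Finite C] (hperf : commutator C = ⊤) {d : C}
    (hdd : d * d = 1) (hcen : ∀ x, Commute d x) {M : Subgroup C} (hdM : d ∉ M)
    (hodd : Odd (M ⊔ Subgroup.zpowers d).index) : False := by
  classical
  set M' := M ⊔ Subgroup.zpowers d
  have hMM : M ≤ M' := le_sup_left
  have hdM' : d ∈ M' := Subgroup.mem_sup_right (Subgroup.mem_zpowers d)
  have hmem : ∀ x ∈ M', x ∈ M ∨ x * d ∈ M := by
    have hle : M' ≤
        { carrier := {x | x ∈ M ∨ x * d ∈ M}
          one_mem' := Or.inl M.one_mem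
          mul_mem' := fun {x y} hx hy => by
            rcases hx with hx | hx <;> rcases hy with hy | hy
            · exact Or.inl (M.mul_mem hx hy)
            · exact Or.inr (by rw [mul_assoc]; exact M.mul_mem hx hy)
            · exact Or.inr (by rw [mul_assoc, ← (hcen y).eq, ← mul_assoc]; exact M.mul_mem hx hy)
            · refine Or.inl ?_
              have := M.mul_mem hx hy
              rwa [show x * d * (y * d) = x * (d * y) * d by group, (hcen y).eq,
                show x * (y * d) * d = x * y * (d * d) by group, hdd, mul_one] at this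
          inv_mem' := fun {x} hx => by
            rcases hx with hx | hx
            · exact Or.inl (M.inv_mem hx)
            · refine Or.inr ?_
              have := M.inv_mem hx
              rwa [mul_inv_rev, inv_eq_of_mul_eq_one_left hdd, (hcen x⁻¹).eq] at this } := by
      refine sup_le (fun x hx => Or.inl hx) ?_
      rw [Subgroup.zpowers_le]
      exact Or.inr (by rw [hdd]; exact M.one_mem)
    exact fun x hx => hle hx
  have hflip : ∀ x ∈ M', x ∉ M → x * d ∈ M := fun x hx hn => (hmem x hx).resolve_left hn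
  let φ : ↥M' →* ℤˣ := MonoidHom.mk' (fun x => if (x : C) ∈ M then 1 else -1) fun x y => by
    by_cases hx : (x : C) ∈ M <;> by_cases hy : (y : C) ∈ M
    · simp [hx, hy, M.mul_mem hx hy]
    · simp [hx, hy, M.mul_mem_cancel_left hx]
    · simp [hx, hy, M.mul_mem_cancel_right hy]
    · have h := M.mul_mem (hflip _ x.2 hx) (hflip _ y.2 hy)
      rw [show (x : C) * d * ((y : C) * d) = x * (d * y) * d by group, (hcen _).eq,
        show (x : C) * ((y : C) * d) * d = x * y * (d * d) by group, hdd, mul_one] at h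
      simp [hx, hy, h]
  have h1 : MonoidHom.transfer φ d = 1 := by
    have hle := Abelianization.commutator_subset_ker (MonoidHom.transfer φ)
    rw [hperf] at hle
    exact hle (Subgroup.mem_top d)
  rw [MonoidHom.transfer_eq_pow φ d fun k g₀ _ => by
    rw [mul_assoc, ((hcen g₀).pow_left k).eq, ← mul_assoc, inv_mul_cancel, one_mul]] at h1
  obtain ⟨m, hm⟩ := hodd
  have e : d ^ M'.index = d := by rw [hm, pow_succ, pow_mul, pow_two, hdd, one_pow, one_mul]
  simp [φ, e, hdM] at h1

variable {F : Type*} [Field F] [Fintype F] (hF : Fintype.card F = 4) {C : Type*} [Group C]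
  {π : C →* Cfsg.PSU 6 F 2} {d : C} {Y : Vec F → C}

/-- the product of the chosen lifts over a basis -/
def tri (Y : Vec F → C) (R : Fin 3 → Vec F) : C := Y (R 0) * Y (R 1) * Y (R 2)

/-- products over bases are determined by their images -/
def NoTwist (π : C →* Cfsg.PSU 6 F 2) (Y : Vec F → C) : Prop :=
  ∀ R S R' S' : Fin 3 → Vec F, Plane R S → Plane R' S' → π (tri Y R) = π (tri Y R') → tri Y R = tri Y R'

include hF

omit [Group C] in
theorem comb_pt {P Q : Fin 3 → Vec F} (p : Plane P Q) (a b : F) :
    IsPt (P 0 + a • P 1 + b • P 2) ∧ P 0 + a • P 1 + b • P 2 ∈ Submodule.span F (Set.range P) := by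
  have hm : P 0 + a • P 1 + b • P 2 ∈ Submodule.span F (Set.range P) :=
    Submodule.add_mem _ (Submodule.add_mem _ (Submodule.subset_span ⟨0, rfl⟩)
      (Submodule.smul_mem _ _ (Submodule.subset_span ⟨1, rfl⟩)))
      (Submodule.smul_mem _ _ (Submodule.subset_span ⟨2, rfl⟩))
  refine ⟨⟨fun e => ?_, p.hb_plane hF hm hm⟩, hm⟩
  have h := congrArg (fun v => hb v (Q 0)) e
  simp [hb_add_left, hb_smul_left, hb_zero_left, p.dual' hF] at h

/-- the group generated by the class on the three lines of a basis -/
noncomputable def lineGp (Y : Vec F → C) (P : Fin 3 → Vec F) : Subgroup C :=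
  Subgroup.closure {y | ∃ i j v, IsPt v ∧ v ∈ Submodule.span F ({P i, P j} : Set (Vec F)) ∧ y = Y v}

namespace PtClass

variable (K : PtClass hF π d Y)

include K

theorem line_relation {u v : Vec F} (hu : IsPt u) (hv : IsPt v) (huv : hb u v = 0)
    (hs : ¬ SamePt u v) {w : F} (hw : w ^ 2 + w + 1 = 0) :
    Y (u + v) * Y (u + w • v) * Y (u + w ^ 2 • v) = (Y u * Y v)⁻¹ := by
  refine eq_inv_of_mul_eq_one_right ?_
  rw [← K.five u v hu hv huv hs w hw]
  group

/-- without twist the point outside the lines of a basis is in their group -/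
theorem corner (hno : NoTwist π Y) {P Q : Fin 3 → Vec F} (p : Plane P Q) :
    Y (P 0 + P 1 + P 2) ∈ lineGp Y P := by
  classical
  obtain ⟨w, hw0, hw1, hw⟩ := exists_omega hF
  set V := lineGp Y P
  have hV : ∀ i j v, IsPt v → v ∈ Submodule.span F ({P i, P j} : Set (Vec F)) → Y v ∈ V :=
    fun i j v hv hm => Subgroup.subset_closure ⟨i, j, v, hv, hm, rfl⟩
  have hP : ∀ i, Y (P i) ∈ V := fun i =>
    hV i i _ (p.pt i) (Submodule.subset_span (Or.inl rfl))
  let W : F → F → C := fun a b => Y (P 0 + a • P 1 + b • P 2)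
  have sp : ∀ i j (a b : F), a • P i + b • P j ∈ Submodule.span F ({P i, P j} : Set (Vec F)) :=
    fun i j a b => Submodule.mem_span_pair.mpr ⟨a, b, rfl⟩
  have o : ∀ i j, hb (P i) (P j) = 0 := p.orth
  -- lines through the three base points
  have L2 : ∀ a : F, a ≠ 0 → W a 1 * W a w * W a (w ^ 2) ∈ V := by
    intro a _
    have hu : IsPt (P 0 + a • P 1) := by simpa using (comb_pt hF p a 0).1
    have h := K.line_relation hF hu (p.pt 2) (by simp [hb_add_left, hb_smul_left, o])
      (fun ⟨t, ht⟩ => by
        have h := congrArg (fun v => hb v (Q 2)) ht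
        simp [hb_add_left, hb_smul_left, p.dual' hF] at h) hw
    show Y _ * Y _ * Y _ ∈ V
    rw [one_smul, h]
    exact V.inv_mem (V.mul_mem (hV 0 1 _ hu (by simpa using sp 0 1 1 a)) (hP 2))
  have L1 : ∀ b : F, b ≠ 0 → W 1 b * W w b * W (w ^ 2) b ∈ V := by
    intro b _
    have hu : IsPt (P 0 + b • P 2) := by simpa using (comb_pt hF p 0 b).1
    have h := K.line_relation hF hu (p.pt 1) (by simp [hb_add_left, hb_smul_left, o])
      (fun ⟨t, ht⟩ => by
        have h := congrArg (fun v => hb v (Q 1)) ht
        simp [hb_add_left, hb_smul_left, p.dual' hF] at h) hw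
    show Y _ * Y _ * Y _ ∈ V
    rw [one_smul, add_right_comm _ (P 1), add_right_comm _ (w • P 1), add_right_comm _ (w ^ 2 • P 1), h]
    exact V.inv_mem (V.mul_mem (hV 0 2 _ hu (by simpa using sp 0 2 1 b)) (hP 1))
  have L0 : W 1 1 * W w w * W (w ^ 2) (w ^ 2) ∈ V := by
    have hv : IsPt (P 1 + P 2) := by
      simpa using isPt_line hF (p.pt 1) (p.pt 2) (o 1 2) (p.not_same (by decide)) 1
    have h := K.line_relation hF (p.pt 0) hv (by simp [hb_add_right hF, o])
      (fun ⟨t, ht⟩ => by
        have h := congrArg (fun v => hb v (Q 1)) ht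
        simp [hb_add_left, hb_smul_left, p.dual' hF] at h) hw
    show Y _ * Y _ * Y _ ∈ V
    simp only [one_smul, add_assoc, ← smul_add]
    rw [h]
    exact V.inv_mem (V.mul_mem (hP 0) (hV 1 2 _ hv (by simpa using sp 1 2 1 1)))
  -- the frame
  have hfr : W 1 1 * W w (w ^ 2) * W (w ^ 2) w = tri Y P := by
    set R : Fin 3 → Vec F :=
      ![P 0 + P 1 + P 2, P 0 + w • P 1 + w ^ 2 • P 2, P 0 + w ^ 2 • P 1 + w • P 2] with hR
    have two := two_zero hF
    have hli : LinearIndependent F R := by
      rw [Fintype.linearIndependent_iff]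
      intro g hg i
      simp only [Fin.sum_univ_three, hR, Matrix.cons_val_zero, Matrix.cons_val_one, Matrix.cons_val_two,
        Matrix.tail_cons, Matrix.head_cons] at hg
      have e0 := congrArg (fun v => hb v (Q 0)) hg
      have e1 := congrArg (fun v => hb v (Q 1)) hg
      have e2 := congrArg (fun v => hb v (Q 2)) hg
      simp [hb_add_left, hb_smul_left, hb_zero_left, p.dual' hF] at e0 e1 e2
      have z0 : g 0 = 0 := by grind
      have z1 : g 1 = 0 := by grind
      have z2 : g 2 = 0 := by grind
      fin_cases i <;> assumption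
    have hin : ∀ i, R i ∈ Submodule.span F (Set.range P) := fun i => by
      fin_cases i
      exacts [by simpa [hR] using (comb_pt hF p 1 1).2, (comb_pt hF p w (w ^ 2)).2,
        (comb_pt hF p (w ^ 2) w).2]
    have horth : ∀ i j, hb (R i) (R j) = 0 := fun i j => p.hb_plane hF (hin i) (hin j)
    obtain ⟨S, r⟩ := exists_plane_of_li hF hli horth
    have heq : tv hF (R 0) * tv hF (R 1) * tv hF (R 2) =
        tv hF (P 0) * tv hF (P 1) * tv hF (P 2) := by
      apply act_ext
      intro x
      refine add_right_cancel (b := x) ?_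
      rw [act_triple hF (horth 0 0) (horth 1 1) (horth 2 2) (horth 0 1) (horth 0 2) (horth 1 2),
        act_triple hF (o 0 0) (o 1 1) (o 2 2) (o 0 1) (o 0 2) (o 1 2)]
      simp only [hR, Matrix.cons_val_zero, Matrix.cons_val_one, Matrix.cons_val_two,
        Matrix.tail_cons, Matrix.head_cons, hb_add_right hF, hb_smul_right]
      funext i
      simp only [Pi.add_apply, Pi.smul_apply, smul_eq_mul]
      grind
    have hπ : π (tri Y R) = π (tri Y P) := by
      simp only [tri, map_mul, K.img _ (r.pt 0), K.img _ (r.pt 1), K.img _ (r.pt 2), K.img _ (p.pt 0),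
        K.img _ (p.pt 1), K.img _ (p.pt 2)]
      simp only [ptv, ← QuotientGroup.mk_mul, heq]
    have := hno R S P Q r p hπ
    simpa [tri, hR, W] using this
  have hw20 : w ^ 2 ≠ 0 := pow_ne_zero 2 hw0
  -- the relation
  set A := prePlane hF π p
  letI : CommGroup ↥A :=
    { (inferInstance : Group ↥A) with
      mul_comm := fun x y => Subtype.ext ((K.prePlane_elem hF p).1 _ x.2 _ y.2).eq }
  let T : F → F → ↥A := fun a b => ⟨W a b, K.Y_mem hF p (comb_pt hF p a b).1 (comb_pt hF p a b).2⟩
  have hkey := congrArg Subtype.val (nine_relation (A := ↥A)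
    (fun x => Subtype.ext ((K.prePlane_elem hF p).2 _ x.2))
    (T 1 1) (T 1 w) (T 1 (w ^ 2)) (T w 1) (T w w) (T w (w ^ 2)) (T (w ^ 2) 1) (T (w ^ 2) w)
    (T (w ^ 2) (w ^ 2)))
  simp only [Subgroup.coe_mul, T] at hkey
  have hgoal : W 1 1 ∈ V := by
    rw [hkey]
    exact V.mul_mem (V.mul_mem (V.mul_mem (V.mul_mem L0 (L1 1 one_ne_zero)) (L2 1 one_ne_zero))
      (hfr ▸ V.mul_mem (V.mul_mem (hP 0) (hP 1)) (hP 2)))
      (V.mul_mem (V.mul_mem (L1 1 one_ne_zero) (L1 w hw0)) (L1 _ hw20))
  simpa [W] using hgoal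

/-- without twist the class of a plane lies in the group of its three lines -/
theorem plane_le_lineGp (hno : NoTwist π Y) {P Q : Fin 3 → Vec F} (p : Plane P Q) {v : Vec F}
    (hv : IsPt v) (hvP : v ∈ Submodule.span F (Set.range P)) : Y v ∈ lineGp Y P := by
  obtain ⟨c, hc⟩ := (Submodule.mem_span_range_iff_exists_fun F).mp hvP
  simp only [Fin.sum_univ_three] at hc
  have inline : ∀ i j, v ∈ Submodule.span F ({P i, P j} : Set (Vec F)) → Y v ∈ lineGp Y P :=
    fun i j hm => Subgroup.subset_closure ⟨i, j, v, hv, hm, rfl⟩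
  by_cases h0 : c 0 = 0
  · exact inline 1 2 (Submodule.mem_span_pair.mpr ⟨c 1, c 2, by rw [← hc, h0, zero_smul, zero_add]⟩)
  by_cases h1 : c 1 = 0
  · exact inline 0 2 (Submodule.mem_span_pair.mpr ⟨c 0, c 2, by rw [← hc, h1, zero_smul, add_zero]⟩)
  by_cases h2 : c 2 = 0
  · exact inline 0 1 (Submodule.mem_span_pair.mpr ⟨c 0, c 1, by rw [← hc, h2, zero_smul, add_zero]⟩)
  set R : Fin 3 → Vec F := fun i => c i • P i with hR
  have hc0 : ∀ i, c i ≠ 0 := fun i => by fin_cases i <;> assumption
  obtain ⟨S, r⟩ := exists_plane_of_li hF (P := R)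
    (by
      rw [Fintype.linearIndependent_iff]
      intro g hg i
      have h := Fintype.linearIndependent_iff.mp p.li (fun i => g i * c i)
        (by rw [← hg]; exact Finset.sum_congr rfl fun i _ => (smul_smul _ _ _).symm) i
      exact (mul_eq_zero.mp h).resolve_right (hc0 i))
    (fun i j => by simp [hR, hb_smul_left, hb_smul_right, p.orth])
  have hle : lineGp Y R ≤ lineGp Y P := by
    refine Subgroup.closure_mono ?_
    rintro _ ⟨i, j, u, hu, hm, rfl⟩
    refine ⟨i, j, u, hu, (Submodule.span_le.mpr ?_) hm, rfl⟩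
    rintro _ (rfl | rfl)
    · exact Submodule.smul_mem _ _ (Submodule.subset_span (Or.inl rfl))
    · exact Submodule.smul_mem _ _ (Submodule.subset_span (Or.inr rfl))
  have := hle (K.corner hF hno r)
  rwa [show R 0 + R 1 + R 2 = v from hc] at this

theorem line_mem (H : Subgroup C) {u v x : Vec F} {w : F} (hw : w ^ 2 + w + 1 = 0) (hu : IsPt u)
    (hv : IsPt v) (huv : hb u v = 0) (hs : ¬ SamePt u v) (h0 : Y u ∈ H) (h1 : Y v ∈ H)
    (h2 : Y (u + v) ∈ H) (h3 : Y (u + w • v) ∈ H) (hx : IsPt x)
    (hxm : x ∈ Submodule.span F ({u, v} : Set (Vec F))) : Y x ∈ H := by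
  have h4 : Y (u + w ^ 2 • v) ∈ H := by
    rw [← H.mul_mem_cancel_left (H.mul_mem (H.mul_mem (H.mul_mem h0 h1) h2) h3),
      K.five u v hu hv huv hs w hw]
    exact H.one_mem
  obtain ⟨a, b, rfl⟩ := Submodule.mem_span_pair.mp hxm
  by_cases ha : a = 0
  · subst ha
    rw [zero_smul, zero_add] at hx ⊢
    rw [K.smul hF hv (fun e => hx.1 (by rw [e, zero_smul]))]
    exact h1
  rw [show a • u + b • v = a • (u + (a⁻¹ * b) • v) by
    rw [smul_add, smul_smul, ← mul_assoc, mul_inv_cancel₀ ha, one_mul],
    K.smul hF (isPt_line hF hu hv huv hs _) ha]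
  generalize a⁻¹ * b = t
  have h3w : t * (t - 1) * (t - w) * (t - w ^ 2) = 0 := by
    have h4' := pow_four hF t
    have hw3 : w ^ 3 = 1 := by linear_combination (w - 1) * hw
    linear_combination h4' + (-(t ^ 3) + t ^ 2) * hw + (t ^ 2 - t) * hw3
  rcases mul_eq_zero.mp h3w with e | e
  · rcases mul_eq_zero.mp e with e | e
    · rcases mul_eq_zero.mp e with e | e
      · rwa [e, zero_smul, add_zero]
      · rwa [sub_eq_zero.mp e, one_smul]
    · rwa [sub_eq_zero.mp e]
  · rwa [sub_eq_zero.mp e]

/-- without twist the class of a plane generates a complement to `d` -/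
theorem not_mem_planeGp (hno : NoTwist π Y) {P Q : Fin 3 → Vec F} (p : Plane P Q) :
    d ∉ Subgroup.closure {y | ∃ v, IsPt v ∧ v ∈ Submodule.span F (Set.range P) ∧ y = Y v} := by
  intro hd
  obtain ⟨w, hw0, hw1, hw⟩ := exists_omega hF
  set T : Set C := {y | ∃ v, IsPt v ∧ v ∈ Submodule.span F (Set.range P) ∧ y = Y v}
  have hpre : prePlane hF π p ≤ Subgroup.closure T := by
    rw [K.prePlane_eq hF p]
    exact (Subgroup.closure_le _).mpr (Set.insert_subset hd Subgroup.subset_closure)
  set l : List C := [Y (P 0), Y (P 1), Y (P 2), Y (P 0 + P 1), Y (P 0 + w • P 1), Y (P 0 + P 2),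
    Y (P 0 + w • P 2), Y (P 1 + P 2), Y (P 1 + w • P 2)]
  set H := Subgroup.closure {x | x ∈ l} with hH
  have hl : ∀ i, Y (P i) ∈ H := fun i =>
    Subgroup.subset_closure (by fin_cases i <;> simp [l])
  have hij : ∀ i j, i < j → Y (P i + P j) ∈ H ∧ Y (P i + w • P j) ∈ H := fun i j h => by
    constructor <;> refine Subgroup.subset_closure ?_ <;> fin_cases i <;> fin_cases j <;>
      first | (simp [l]; done) | exact absurd h (by decide)
  have hline : ∀ i j v, IsPt v → v ∈ Submodule.span F ({P i, P j} : Set (Vec F)) → Y v ∈ H := by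
    intro i j v hv hm
    rcases lt_trichotomy i j with h | h | h
    · exact K.line_mem hF H hw (p.pt i) (p.pt j) (p.orth i j) (p.not_same h.ne) (hl i) (hl j)
        (hij i j h).1 (hij i j h).2 hv hm
    · subst h
      rw [Set.pair_eq_singleton] at hm
      obtain ⟨a, rfl⟩ := Submodule.mem_span_singleton.mp hm
      rw [K.smul hF (p.pt i) (fun e => hv.1 (by rw [e, zero_smul]))]
      exact hl i
    · rw [Set.pair_comm] at hm
      exact K.line_mem hF H hw (p.pt j) (p.pt i) (p.orth j i) (p.not_same h.ne) (hl j) (hl i)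
        (hij j i h).1 (hij j i h).2 hv hm
  have hle : Subgroup.closure T ≤ H := by
    refine (Subgroup.closure_le _).mpr ?_
    rintro _ ⟨v, hv, hvP, rfl⟩
    refine ((Subgroup.closure_le _).mpr ?_) (K.plane_le_lineGp hF hno p hv hvP)
    rintro _ ⟨i, j, u, hu, hm, rfl⟩
    exact hline i j u hu hm
  have hlP : ∀ x ∈ l, x ∈ prePlane hF π p := by
    have hs : ∀ i, P i ∈ Submodule.span F (Set.range P) := fun i => Submodule.subset_span ⟨i, rfl⟩
    have hpl : ∀ i j, i ≠ j → ∀ t : F, Y (P i + t • P j) ∈ prePlane hF π p := fun i j h t =>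
      K.Y_mem hF p (isPt_line hF (p.pt i) (p.pt j) (p.orth i j) (p.not_same h) t)
        (Submodule.add_mem _ (hs i) (Submodule.smul_mem _ _ (hs j)))
    have h1 : ∀ i j, i ≠ j → Y (P i + P j) ∈ prePlane hF π p := fun i j h => by
      simpa using hpl i j h 1
    intro x hx
    simp only [l, List.mem_cons, List.not_mem_nil, or_false] at hx
    rcases hx with rfl | rfl | rfl | rfl | rfl | rfl | rfl | rfl | rfl
    all_goals first
      | exact K.Y_mem hF p (p.pt _) (hs _)
      | exact hpl _ _ (by decide) _
      | exact h1 _ _ (by decide)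
  obtain ⟨hfin, hcard⟩ := card_closure_list l (fun x hx => (K.prePlane_elem hF p).2 x (hlP x hx))
    (fun x hx y hy => (K.prePlane_elem hF p).1 x (hlP x hx) y (hlP y hy))
  have h1 := Subgroup.card_le_of_le (hpre.trans hle)
  rw [K.card_prePlane hF p] at h1
  have h512 : Nat.card ↥H ≤ 512 := hcard.trans (by simp [l])
  omega

end PtClass

end Cfsg.Agent.H93
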