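import Cfsg.Agent.H93.Parity

/-!
The orthogonal space of an isotropic point, in coordinates.
-/

set_option autoImplicit false

namespace Cfsg.Agent.H93

variable {F : Type*} [Field F]

/-- an isotropic vector and two hyperbolic pairs orthogonal to it and to each other -/
structure Frame (P e₁ f₁ e₂ f₂ : Vec F) : Prop where
  hP : IsPt P
  e11 : hb e₁ e₁ = 0
  f11 : hb f₁ f₁ = 0
  e22 : hb e₂ e₂ = 0
  f22 : hb f₂ f₂ = 0
  ef1 : hb e₁ f₁ = 1
  ef2 : hb e₂ f₂ = 1
  ee : hb e₁ e₂ = 0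
  ef : hb e₁ f₂ = 0
  fe : hb f₁ e₂ = 0
  ff : hb f₁ f₂ = 0
  pe1 : hb P e₁ = 0
  pf1 : hb P f₁ = 0
  pe2 : hb P e₂ = 0
  pf2 : hb P f₂ = 0

variable [Fintype F] (hF : Fintype.card F = 4)

include hF

theorem hb_one_comm {u v : Vec F} (h : hb u v = 1) : hb v u = 1 := by
  rw [hb_conj hF u v, h, one_pow]

theorem Frame.fe1 {P e₁ f₁ e₂ f₂ : Vec F} (h : Frame P e₁ f₁ e₂ f₂) : hb f₁ e₁ = 1 :=
  hb_one_comm hF h.ef1

theorem Frame.fe2 {P e₁ f₁ e₂ f₂ : Vec F} (h : Frame P e₁ f₁ e₂ f₂) : hb f₂ e₂ = 1 :=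
  hb_one_comm hF h.ef2

/-- the inner products with the members of a frame of a combination of them -/
theorem Frame.val {P e₁ f₁ e₂ f₂ : Vec F} (h : Frame P e₁ f₁ e₂ f₂) (n a b c d : F) :
    hb (n • P + a • e₁ + b • f₁ + c • e₂ + d • f₂) P = 0 ∧
      hb (n • P + a • e₁ + b • f₁ + c • e₂ + d • f₂) e₁ = b ∧
      hb (n • P + a • e₁ + b • f₁ + c • e₂ + d • f₂) f₁ = a ∧
      hb (n • P + a • e₁ + b • f₁ + c • e₂ + d • f₂) e₂ = d ∧
      hb (n • P + a • e₁ + b • f₁ + c • e₂ + d • f₂) f₂ = c := by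
  have z := fun {u v : Vec F} (e : hb u v = 0) => (hb_eq_zero_comm hF).mp e
  simp only [hb_add_left, hb_smul_left, h.hP.2, h.e11, h.f11, h.e22, h.f22, h.ef1, h.ef2, h.ee,
    h.ef, h.fe, h.ff, h.pe1, h.pf1, h.pe2, h.pf2, h.fe1 hF, h.fe2 hF, z h.ee, z h.ef, z h.fe,
    z h.ff, z h.pe1, z h.pf1, z h.pe2, z h.pf2]
  refine ⟨?_, ?_, ?_, ?_, ?_⟩ <;> ring

/-- the Hermitian product in coordinates -/
theorem Frame.form {P e₁ f₁ e₂ f₂ : Vec F} (h : Frame P e₁ f₁ e₂ f₂) (n a b c d n' a' b' c' d' : F) :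
    hb (n • P + a • e₁ + b • f₁ + c • e₂ + d • f₂) (n' • P + a' • e₁ + b' • f₁ + c' • e₂ + d' • f₂) =
      a * b' ^ 2 + b * a' ^ 2 + c * d' ^ 2 + d * c' ^ 2 := by
  obtain ⟨v0, v1, v2, v3, v4⟩ := h.val hF n a b c d
  set x := n • P + a • e₁ + b • f₁ + c • e₂ + d • f₂
  simp only [hb_add_right hF, hb_smul_right, v0, v1, v2, v3, v4]
  ring

/-- coordinates of a vector orthogonal to the point -/
theorem Frame.coord {P e₁ f₁ e₂ f₂ : Vec F} (h : Frame P e₁ f₁ e₂ f₂) {x : Vec F} (hx : hb x P = 0) :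
    ∃ n : F, x = n • P + hb x f₁ • e₁ + hb x e₁ • f₁ + hb x f₂ • e₂ + hb x e₂ • f₂ := by
  set l : Fin 5 → Vec F := ![P, e₁, f₁, e₂, f₂] with hl
  have hli : LinearIndependent F l := by
    rw [Fintype.linearIndependent_iff]
    intro g hg i
    simp only [Fin.sum_univ_five, hl, Matrix.cons_val_zero, Matrix.cons_val_one, Matrix.cons_val_two,
      Matrix.cons_val_three, Matrix.cons_val_four, Matrix.tail_cons, Matrix.head_cons] at hg
    obtain ⟨-, v1, v2, v3, v4⟩ := h.val hF (g 0) (g 1) (g 2) (g 3) (g 4)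
    rw [hg, hb_zero_left] at v1 v2 v3 v4
    rw [← v1, ← v2, ← v3, ← v4, zero_smul, zero_smul, zero_smul, zero_smul, add_zero, add_zero,
      add_zero, add_zero] at hg
    have g0 := (smul_eq_zero.mp hg).resolve_right h.hP.1
    fin_cases i
    exacts [g0, v2.symm, v1.symm, v4.symm, v3.symm]
  have h1 := LinearMap.finrank_range_add_finrank_ker (evalMap l)
  rw [LinearMap.range_eq_top.mpr (evalMap_surjective hF hli), finrank_top] at h1
  simp only [Module.finrank_fintype_fun_eq_card, Fintype.card_fin] at h1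
  have hPk : P ∈ LinearMap.ker (evalMap l) := by
    funext i
    show hb P (l i) = 0
    fin_cases i <;> simp [hl, h.hP.2, h.pe1, h.pf1, h.pe2, h.pf2]
  obtain ⟨v0, v1, v2, v3, v4⟩ := h.val hF 0 (hb x f₁) (hb x e₁) (hb x f₂) (hb x e₂)
  set y := (0 : F) • P + hb x f₁ • e₁ + hb x e₁ • f₁ + hb x f₂ • e₂ + hb x e₂ • f₂ with hy
  have hk : x + y ∈ LinearMap.ker (evalMap l) := by
    funext i
    show hb (x + y) (l i) = 0
    fin_cases i <;> simp [hl, hb_add_left, hx, v0, v1, v2, v3, v4, add_self_zero hF]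
  have h2 : Module.finrank F ↥(LinearMap.ker (evalMap l)) = 1 := by omega
  obtain ⟨c, hc⟩ := (finrank_eq_one_iff_of_nonzero' ⟨P, hPk⟩
    (fun e => h.hP.1 (congrArg Subtype.val e))).mp h2 ⟨x + y, hk⟩
  have hc' : c • P = x + y := congrArg Subtype.val hc
  refine ⟨c, ?_⟩
  rw [hy, zero_smul, zero_add] at hc'
  calc x = (x + (hb x f₁ • e₁ + hb x e₁ • f₁ + hb x f₂ • e₂ + hb x e₂ • f₂)) +
        (hb x f₁ • e₁ + hb x e₁ • f₁ + hb x f₂ • e₂ + hb x e₂ • f₂) := by
          rw [add_assoc, vec_add_self hF, add_zero]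
    _ = _ := by rw [← hc']; simp only [← add_assoc]

theorem indep_four {P e f u : Vec F} (hP : IsPt P) (he : hb P e = 0) (hf : hb P f = 0)
    (hu : hb P u = 0) (e11 : hb e e = 0) (f11 : hb f f = 0) (ef : hb e f = 1)
    (hs : u ∉ Submodule.span F (Set.range ![P, e, f])) :
    LinearIndependent F (Fin.snoc ![P, e, f] u) := by
  refine linearIndependent_finSnoc.mpr ⟨?_, hs⟩
  rw [Fintype.linearIndependent_iff]
  intro g hg i
  simp only [Fin.sum_univ_three, Matrix.cons_val_zero, Matrix.cons_val_one, Matrix.cons_val_two,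
    Matrix.tail_cons, Matrix.head_cons] at hg
  have g1 : g 1 = 0 := by
    have h := congrArg (fun x => hb x f) hg
    simpa [hb_add_left, hb_smul_left, hb_zero_left, hf, ef, f11] using h
  have g2 : g 2 = 0 := by
    have h := congrArg (fun x => hb x e) hg
    simpa [hb_add_left, hb_smul_left, hb_zero_left, he, e11, hb_one_comm hF ef] using h
  rw [g1, g2, zero_smul, zero_smul, add_zero, add_zero] at hg
  have g0 := (smul_eq_zero.mp hg).resolve_right hP.1
  fin_cases i <;> assumption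

/-- completing a frame from its second first vector -/
theorem exists_frame_f {P e₁ f₁ e₂ : Vec F} (hP : IsPt P) (e11 : hb e₁ e₁ = 0) (f11 : hb f₁ f₁ = 0)
    (ef1 : hb e₁ f₁ = 1) (e22 : hb e₂ e₂ = 0) (pe1 : hb P e₁ = 0) (pf1 : hb P f₁ = 0)
    (pe2 : hb P e₂ = 0) (ee : hb e₁ e₂ = 0) (fe : hb f₁ e₂ = 0)
    (hs : ∀ t : F, e₂ ≠ t • P) : ∃ f₂, Frame P e₁ f₁ e₂ f₂ := by
  have hns : e₂ ∉ Submodule.span F (Set.range ![P, e₁, f₁]) := by
    intro hin
    obtain ⟨g, hg⟩ := (Submodule.mem_span_range_iff_exists_fun F).mp hin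
    simp only [Fin.sum_univ_three, Matrix.cons_val_zero, Matrix.cons_val_one, Matrix.cons_val_two,
      Matrix.tail_cons, Matrix.head_cons] at hg
    have z := fun {u v : Vec F} (e : hb u v = 0) => (hb_eq_zero_comm hF).mp e
    have g1 : g 1 = 0 := by
      have h := congrArg (fun x => hb x f₁) hg
      simpa [hb_add_left, hb_smul_left, pf1, ef1, f11, z fe] using h
    have g2 : g 2 = 0 := by
      have h := congrArg (fun x => hb x e₁) hg
      simpa [hb_add_left, hb_smul_left, pe1, e11, hb_one_comm hF ef1, z ee] using h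
    rw [g1, g2, zero_smul, zero_smul, add_zero, add_zero] at hg
    exact hs _ hg.symm
  have hli := indep_four hF hP pe1 pf1 pe2 e11 f11 ef1 hns
  obtain ⟨w, hw, hwl⟩ := iso_solve_of_mem hF hli (Fin.snoc ![0, 0, 0] 1) (Fin.last 3)
    (fun i => by
      refine Fin.lastCases ?_ (fun i => ?_) i
      · rw [Fin.snoc_last]; exact e22
      · rw [Fin.snoc_last, Fin.snoc_castSucc]
        fin_cases i
        exacts [(hb_eq_zero_comm hF).mp pe2, (hb_eq_zero_comm hF).mp ee, (hb_eq_zero_comm hF).mp fe])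
    (by rw [Fin.snoc_last]; exact one_ne_zero)
  have w0 : hb w P = 0 := by
    have := hwl (0 : Fin 3).castSucc; rwa [Fin.snoc_castSucc, Fin.snoc_castSucc] at this
  have w1 : hb w e₁ = 0 := by
    have := hwl (1 : Fin 3).castSucc; rwa [Fin.snoc_castSucc, Fin.snoc_castSucc] at this
  have w2 : hb w f₁ = 0 := by
    have := hwl (2 : Fin 3).castSucc; rwa [Fin.snoc_castSucc, Fin.snoc_castSucc] at this
  have w3 : hb w e₂ = 1 := by
    have := hwl (Fin.last 3); rwa [Fin.snoc_last, Fin.snoc_last] at this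
  exact ⟨w, hP, e11, f11, e22, hw, ef1, hb_one_comm hF w3, ee, (hb_eq_zero_comm hF).mp w1, fe,
    (hb_eq_zero_comm hF).mp w2, pe1, pf1, pe2, (hb_eq_zero_comm hF).mp w0⟩

/-- completing a frame from one hyperbolic pair -/
theorem exists_frame {P e₁ f₁ : Vec F} (hP : IsPt P) (e11 : hb e₁ e₁ = 0) (f11 : hb f₁ f₁ = 0)
    (ef1 : hb e₁ f₁ = 1) (pe1 : hb P e₁ = 0) (pf1 : hb P f₁ = 0) :
    ∃ e₂ f₂, Frame P e₁ f₁ e₂ f₂ := by
  have z := fun {u v : Vec F} (e : hb u v = 0) => (hb_eq_zero_comm hF).mp e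
  have hli : LinearIndependent F ![P, e₁, f₁] := by
    rw [Fintype.linearIndependent_iff]
    intro g hg i
    simp only [Fin.sum_univ_three, Matrix.cons_val_zero, Matrix.cons_val_one, Matrix.cons_val_two,
      Matrix.tail_cons, Matrix.head_cons] at hg
    have g1 : g 1 = 0 := by
      have h := congrArg (fun x => hb x f₁) hg
      simpa [hb_add_left, hb_smul_left, hb_zero_left, pf1, ef1, f11] using h
    have g2 : g 2 = 0 := by
      have h := congrArg (fun x => hb x e₁) hg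
      simpa [hb_add_left, hb_smul_left, hb_zero_left, pe1, e11, hb_one_comm hF ef1] using h
    rw [g1, g2, zero_smul, zero_smul, add_zero, add_zero] at hg
    have g0 := (smul_eq_zero.mp hg).resolve_right hP.1
    fin_cases i <;> assumption
  obtain ⟨u, hu, hus⟩ := exists_extra hF hli (Or.inr ⟨rfl, 1, 2, by simp [ef1]⟩)
  have u0 : hb u P = 0 := hu 0
  have u1 : hb u e₁ = 0 := hu 1
  have u2 : hb u f₁ = 0 := hu 2
  have finish : ∀ x, hb x x = 0 → hb x P = 0 → hb x e₁ = 0 → hb x f₁ = 0 → (∀ t : F, x ≠ t • P) →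
      ∃ e₂ f₂, Frame P e₁ f₁ e₂ f₂ := fun x hx x0 x1 x2 hs =>
    ⟨x, exists_frame_f hF hP e11 f11 ef1 hx pe1 pf1 (z x0) (z x1) (z x2) hs⟩
  rcases hb_self_cases hF u with h0 | h0
  · exact finish u h0 u0 u1 u2 fun t ht => hus (ht ▸
      Submodule.smul_mem _ _ (Submodule.subset_span ⟨0, rfl⟩))
  have hli4 := indep_four hF hP pe1 pf1 (z u0) e11 f11 ef1 hus
  set l : Fin 4 → Vec F := Fin.snoc ![P, e₁, f₁] u with hl
  have h1 := LinearMap.finrank_range_add_finrank_ker (evalMap l)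
  rw [LinearMap.range_eq_top.mpr (evalMap_surjective hF hli4), finrank_top] at h1
  simp only [Module.finrank_fintype_fun_eq_card, Fintype.card_fin] at h1
  obtain ⟨v, hv, hvs⟩ : ∃ v ∈ LinearMap.ker (evalMap l), v ∉ Submodule.span F {P} := by
    by_contra hall
    simp only [not_exists, not_and, not_not] at hall
    have h2 : Module.finrank F (LinearMap.ker (evalMap l)) ≤ 1 :=
      (Submodule.finrank_mono hall).trans (finrank_span_singleton hP.1).le
    omega
  have v0 : hb v P = 0 := by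
    have := congrFun hv (0 : Fin 3).castSucc
    change hb v (l _) = 0 at this
    rwa [hl, Fin.snoc_castSucc] at this
  have v1 : hb v e₁ = 0 := by
    have := congrFun hv (1 : Fin 3).castSucc
    change hb v (l _) = 0 at this
    rwa [hl, Fin.snoc_castSucc] at this
  have v2 : hb v f₁ = 0 := by
    have := congrFun hv (2 : Fin 3).castSucc
    change hb v (l _) = 0 at this
    rwa [hl, Fin.snoc_castSucc] at this
  have v3 : hb v u = 0 := by
    have := congrFun hv (Fin.last 3)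
    change hb v (l _) = 0 at this
    rwa [hl, Fin.snoc_last] at this
  rcases hb_self_cases hF v with g0 | g0
  · exact finish v g0 v0 v1 v2 fun t ht => hvs (ht ▸ Submodule.smul_mem _ _ (Submodule.subset_span rfl))
  refine finish (v + u) ?_ (by rw [hb_add_left, v0, u0, add_zero])
    (by rw [hb_add_left, v1, u1, add_zero]) (by rw [hb_add_left, v2, u2, add_zero]) fun t ht => ?_
  · rw [hb_add_left, hb_add_right hF, hb_add_right hF, g0, v3, z v3, h0]
    simpa using add_self_zero hF (1 : F)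
  · have := congrArg (fun x => hb x u) ht
    simp only [hb_add_left, hb_smul_left, v3, h0, z u0, mul_zero, zero_add] at this
    exact one_ne_zero this

theorem mem_of_orth {k : ℕ} {l : Fin k → Vec F} (hl : LinearIndependent F l)
    (horth : ∀ i j, hb (l i) (l j) = 0) {x : Vec F} (hx : hb x x = 0) (hxl : ∀ i, hb x (l i) = 0)
    (h : ∀ y, IsPt y → (∀ i, hb y (l i) = 0) → hb y x = 0) :
    x ∈ Submodule.span F (Set.range l) := by
  by_contra hns
  have hli' : LinearIndependent F (Fin.snoc l x) := linearIndependent_finSnoc.mpr ⟨hl, hns⟩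
  obtain ⟨y, hy, hyl⟩ := iso_solve_of_mem hF hli' (Fin.snoc 0 1) (Fin.last k)
    (fun i => by
      refine Fin.lastCases ?_ (fun i => ?_) i
      · rw [Fin.snoc_last]; exact hx
      · rw [Fin.snoc_last, Fin.snoc_castSucc]; exact hxl i)
    (by rw [Fin.snoc_last]; exact one_ne_zero)
  have y1 : hb y x = 1 := by
    have := hyl (Fin.last k); rwa [Fin.snoc_last, Fin.snoc_last] at this
  refine one_ne_zero (y1.symm.trans (h y (pt_of_hb_eq_one hy y1) fun i => ?_))
  have := hyl i.castSucc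
  rwa [Fin.snoc_castSucc, Fin.snoc_castSucc] at this

end Cfsg.Agent.H93
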