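import Cfsg.Agent.H93.Stab6
import Cfsg.Agent.H93.Frame

/-!
The stabiliser of an isotropic vector `B` in `SU 6 F 2` acts on `B^⊥/B` as `SU 4 F 2`; the kernel of
this action has commutators and squares in the group generated by the transvection of `B`.
-/

set_option autoImplicit false

namespace Cfsg.Agent.H93

open Cfsg.Agent.Unitary (perp Nondeg nondeg_pair nondeg_perp perp_span exists_partner finrank_pair
  exists_ON_basis finrank_perp_add nondeg_top mem_perp_span)

variable {F : Type*} [Field F] [Fintype F] (hF : Fintype.card F = 4)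

/-- a basis of a complement of `B` in `B^⊥` -/
structure PointBasis (B : Vec F) where
  u : Fin 4 → Vec F
  partner : Vec F
  pt : IsPt B
  on : ∀ i j, hb (u i) (u j) = if i = j then 1 else 0
  orth : ∀ i, hb (u i) B = 0
  pB : hb partner B = 1
  pp : hb partner partner = 0
  decomp : ∀ x, hb x B = 0 → x = hb x partner • B + ∑ i, hb x (u i) • u i

include hF in
theorem exists_pointBasis {B : Vec F} (hB : IsPt B) : Nonempty (PointBasis B) := by
  have hF' := card_eq_sq hF
  obtain ⟨P, -, hP, hPB⟩ := exists_partner hF' (nondeg_top hF') Submodule.mem_top hB.1 hB.2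
  change hb P P = 0 at hP
  have hPB' : hb P B = 1 := hPB
  have hBP : hb B P = 1 := hb_one_comm hF hPB'
  set Pl := Submodule.span F ({B, P} : Set (Vec F)) with hPl
  have hne : Cfsg.hermForm 6 F 2 B P ≠ 0 := by
    rw [show Cfsg.hermForm 6 F 2 B P = 1 from hBP]; exact one_ne_zero
  have hnd : Nondeg 2 Pl := nondeg_pair hF' hB.2 hP hne
  set W := perp 2 (Pl : Set (Vec F)) with hW
  have hW4 : Module.finrank F W = 4 := by
    have h1 := finrank_perp_add hF' hnd
    rw [finrank_pair (indep_pair hB.1 (fun ⟨c, hc⟩ => by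
      rw [hc, hb_smul_left, hB.2, mul_zero] at hPB'; exact zero_ne_one hPB'))] at h1
    have h1' : 2 + Module.finrank F ↥W = 6 := h1
    omega
  have hWnd : Nondeg 2 W := nondeg_perp hF' hnd
  obtain ⟨f, hf, hspan⟩ := exists_ON_basis hF' W hWnd
  revert f
  rw [hW4]
  intro f hf hspan
  have fW : ∀ i, f i ∈ W := fun i => hspan ▸ Submodule.subset_span ⟨i, rfl⟩
  have fB : ∀ i, hb (f i) B = 0 := fun i => fW i B (Submodule.subset_span (Or.inl rfl))
  have fP : ∀ i, hb (f i) P = 0 := fun i => fW i P (Submodule.subset_span (Or.inr rfl))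
  refine ⟨⟨f, P, hB, hf, fB, hPB', hP, fun x hx => ?_⟩⟩
  set y := x + hb x P • B with hy
  have yW : y ∈ W := by
    rw [hW, perp_span hF', mem_pair_perp hF]
    constructor
    · rw [hy, hb_add_left, hb_smul_left, hx, hB.2, mul_zero, add_zero]
    · rw [hy, hb_add_left, hb_smul_left, hBP, mul_one, add_self_zero hF]
  have e := hf.proj_eq_self hF' (x := y) (by rw [hspan]; exact yW)
  have ey : ∀ i, hb y (f i) = hb x (f i) := fun i => by
    rw [hy, hb_add_left, hb_smul_left, (hb_eq_zero_comm hF).mp (fB i), mul_zero, add_zero]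
  have e' : y = ∑ i, hb x (f i) • f i := by
    refine e.symm.trans (Finset.sum_congr rfl fun i _ => ?_)
    show hb y (f i) • f i = _
    rw [ey]
  calc x = hb x P • B + y := by
        rw [hy, ← add_assoc, add_comm (hb x P • B), add_assoc, vec_add_self hF, add_zero]
    _ = _ := by rw [e']

omit [Fintype F] in
/-- the form in dimension four -/
theorem hb4_eq (c d : Fin 4 → F) : Cfsg.hermForm 4 F 2 c d = ∑ i, c i * d i ^ 2 := rfl

namespace PointBasis

variable {B : Vec F} (p : PointBasis B)

/-- the coordinates of a vector -/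
def co (x : Vec F) : Fin 4 → F := fun i => hb x (p.u i)

/-- the vector with given coordinates -/
def emb (c : Fin 4 → F) : Vec F := ∑ i, c i • p.u i

omit [Fintype F] in
theorem co_emb (c : Fin 4 → F) : p.co (p.emb c) = c := by
  funext j
  rw [co, emb, sum_hb_left, Finset.sum_eq_single j]
  · rw [p.on, if_pos rfl, mul_one]
  · intro i _ hij; rw [p.on, if_neg hij, mul_zero]
  · simp

omit [Fintype F] in
theorem emb_B (c : Fin 4 → F) : hb (p.emb c) B = 0 := by
  rw [emb, sum_hb_left]
  exact Finset.sum_eq_zero fun i _ => by rw [p.orth, mul_zero]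

omit [Fintype F] in
theorem decomp' {x : Vec F} (hx : hb x B = 0) : x = hb x p.partner • B + p.emb (p.co x) := p.decomp x hx

omit [Fintype F] in
theorem co_add (x y : Vec F) : p.co (x + y) = p.co x + p.co y := funext fun _ => hb_add_left _ _ _

omit [Fintype F] in
theorem co_smul (t : F) (x : Vec F) : p.co (t • x) = t • p.co x := funext fun _ => hb_smul_left _ _ _

include hF

theorem co_B : p.co B = 0 := funext fun i => (hb_eq_zero_comm hF).mp (p.orth i)

theorem hb_eq_co {x y : Vec F} (hx : hb x B = 0) (hy : hb y B = 0) :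
    hb x y = Cfsg.hermForm 4 F 2 (p.co x) (p.co y) := by
  conv_lhs => rw [p.decomp' hx]
  rw [hb_add_left, hb_smul_left, (hb_eq_zero_comm hF).mp hy, mul_zero, zero_add, emb, sum_hb_left,
    hb4_eq]
  exact Finset.sum_congr rfl fun i _ => by rw [co, co, hb_conj hF y (p.u i)]

omit [Fintype F] hF in
/-- a vector with no coordinates is a multiple of `B` -/
theorem eq_smul_of_co {x : Vec F} (hx : hb x B = 0) (h : p.co x = 0) : x = hb x p.partner • B := by
  conv_lhs => rw [p.decomp' hx, h]
  simp [emb]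

omit [Fintype F] hF in
/-- the matrix of an isometry in the quotient -/
def mat4 (g : ↥(Cfsg.SU 6 F 2)) : Matrix (Fin 4) (Fin 4) F :=
  Matrix.of fun i j => hb (act g (p.u j)) (p.u i)

variable {g : ↥(Cfsg.SU 6 F 2)} (hg : act g B = B)

include hg

omit [Fintype F] hF in
theorem act_perp {x : Vec F} (hx : hb x B = 0) : hb (act g x) B = 0 := by
  have := act_hb g x B
  rwa [hg, hx] at this

theorem co_act {x : Vec F} (hx : hb x B = 0) : p.co (act g x) = (p.mat4 g).mulVec (p.co x) := by
  have e : act g x = hb x p.partner • B + ∑ i, p.co x i • act g (p.u i) := by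
    conv_lhs => rw [p.decomp' hx]
    rw [act_add, act_smul, hg, emb]
    congr 1
    simp only [act, Matrix.mulVec_sum, Matrix.mulVec_smul]
  funext i
  rw [e, co, hb_add_left, hb_smul_left, (hb_eq_zero_comm hF).mp (p.orth i), mul_zero, zero_add,
    sum_hb_left]
  simp only [Matrix.mulVec, dotProduct, mat4, Matrix.of_apply]
  exact Finset.sum_congr rfl fun j _ => mul_comm _ _

theorem co_act_emb (c : Fin 4 → F) : p.co (act g (p.emb c)) = (p.mat4 g).mulVec c := by
  rw [p.co_act hF hg (p.emb_B c), co_emb]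

theorem mat4_mul {g' : ↥(Cfsg.SU 6 F 2)} (hg' : act g' B = B) :
    p.mat4 (g * g') = p.mat4 g * p.mat4 g' := by
  apply Matrix.ext_iff_mulVec.mpr
  intro c
  rw [← p.co_act_emb hF (g := g * g') (by rw [act_mul, hg', hg]), act_mul,
    p.co_act hF hg (act_perp hg' (p.emb_B c)), p.co_act_emb hF hg', Matrix.mulVec_mulVec]

theorem mat4_preserves (c d : Fin 4 → F) :
    Cfsg.hermForm 4 F 2 ((p.mat4 g).mulVec c) ((p.mat4 g).mulVec d) = Cfsg.hermForm 4 F 2 c d := by
  rw [← p.co_act_emb hF hg, ← p.co_act_emb hF hg,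
    ← p.hb_eq_co hF (act_perp hg (p.emb_B c)) (act_perp hg (p.emb_B d)), act_hb,
    p.hb_eq_co hF (p.emb_B c) (p.emb_B d), co_emb, co_emb]

omit hg

theorem mat4_one : p.mat4 (1 : ↥(Cfsg.SU 6 F 2)) = 1 := by
  apply Matrix.ext_iff_mulVec.mpr
  intro c
  rw [← p.co_act_emb hF (act_one B), act_one, co_emb, Matrix.one_mulVec]

theorem mat4_tv {v : Vec F} (hv : IsPt v) (hvB : hb v B = 0) :
    p.mat4 (tv hF v) * p.mat4 (tv hF v) = 1 ∧ act (tv hF v) B = B := by
  have hfix : act (tv hF v) B = B := by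
    rw [tv_act hF hv.2, (hb_eq_zero_comm hF).mp hvB, zero_smul, add_zero]
  exact ⟨by rw [← p.mat4_mul hF hfix hfix, tv_mul_self, p.mat4_one hF], hfix⟩

include hg in
/-- the determinant in the quotient is one -/
theorem mat4_det : (p.mat4 g).det = 1 := by
  have hmem := stab_vec hF p.pt hg
  have hfixall : ∀ t ∈ TS hF {z | hb z B = 0}, act t B = B := fun t ht =>
    TS_fix hF (fun v hv => (hb_eq_zero_comm hF).mp hv) ht
  clear hg
  induction hmem using Subgroup.closure_induction with
  | mem t ht =>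
    obtain ⟨v, ⟨hv, hvB⟩, rfl⟩ := ht
    apply sq_eq_one hF
    rw [sq, ← Matrix.det_mul, (p.mat4_tv hF hv hvB).1, Matrix.det_one]
  | one => rw [p.mat4_one hF, Matrix.det_one]
  | mul t s ht hs iht ihs =>
    rw [p.mat4_mul hF (hfixall t ht) (hfixall s hs), Matrix.det_mul, iht, ihs, mul_one]
  | inv t ht iht =>
    have := congrArg Matrix.det (p.mat4_mul hF (hfixall _ (inv_mem ht)) (hfixall t ht))
    rw [inv_mul_cancel, p.mat4_one hF, Matrix.det_one, Matrix.det_mul, iht, mul_one] at this
    exact this.symm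

omit hF

/-- the stabiliser of the vector -/
def stabB (B : Vec F) : Subgroup ↥(Cfsg.SU 6 F 2) where
  carrier := {g | act g B = B}
  one_mem' := act_one B
  mul_mem' {g g'} h h' := by
    show act (g * g') B = B
    rw [act_mul, show act g' B = B from h', show act g B = B from h]
  inv_mem' {g} h := by
    show act g⁻¹ B = B
    conv_lhs => rw [← (show act g B = B from h)]
    exact act_inv_left g B

/-- the action on `B^⊥/B` -/
noncomputable def toSU4 : ↥(stabB B) →* ↥(Cfsg.SU 4 F 2) :=
  MonoidHom.mk' (fun g => ⟨⟨p.mat4 g.1, p.mat4_det hF g.2⟩, fun c d => p.mat4_preserves hF g.2 c d⟩)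
    fun g g' => Subtype.ext (Subtype.ext (p.mat4_mul hF g.2 g'.2))

include hF

theorem toSU4_surjective : Function.Surjective (p.toSU4 hF) := by
  intro A
  suffices h : (p.toSU4 hF).range = ⊤ from MonoidHom.range_eq_top.mp h A
  rw [eq_top_iff, ← Cfsg.Agent.Unitary.tgroup_eq_top (F := F) (q := 2) (n := 4) (card_eq_sq hF)
    (Or.inl le_rfl), Cfsg.Agent.Unitary.tgroup, Subgroup.closure_le]
  rintro T ⟨c, k, hc, hT⟩
  have hT' : ∀ x, (Cfsg.Agent.Unitary.mat T).mulVec x =
      x + (k * Cfsg.hermForm 4 F 2 x c) • c := fun x => by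
    rw [hT, Cfsg.Agent.Unitary.unitaryTransvection_mulVec]
  by_cases hone : ∀ x, (k * Cfsg.hermForm 4 F 2 x c) • c = 0
  · refine ⟨1, ?_⟩
    rw [map_one]
    refine Subtype.ext (Subtype.ext (Matrix.ext_iff_mulVec.mpr fun x => ?_))
    exact (Matrix.one_mulVec x).trans ((hT' x).trans (by rw [hone, add_zero])).symm
  · simp only [not_forall] at hone
    obtain ⟨x, hx⟩ := hone
    have hc0 : c ≠ 0 := fun e => hx (by rw [e, smul_zero])
    have hk0 : k ≠ 0 := fun e => hx (by rw [e, zero_mul, zero_smul])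
    have hk : k = 1 := by
      obtain ⟨y, hy⟩ := Cfsg.Agent.Unitary.exists_herm_eq (card_eq_sq hF) (q := 2)
        (b := fun _ : Unit => c) (linearIndependent_unique_iff.mpr hc0) (fun _ => 1)
      have hy1 : Cfsg.hermForm 4 F 2 y c = 1 := hy ()
      have hp : Cfsg.hermForm 4 F 2 ((Cfsg.Agent.Unitary.mat T).mulVec y)
          ((Cfsg.Agent.Unitary.mat T).mulVec y) = Cfsg.hermForm 4 F 2 y y := T.2 y y
      rw [hT', hy1, mul_one, Cfsg.Agent.Unitary.herm_self_add (card_eq_sq hF),
        Cfsg.Agent.Unitary.herm_self_smul, hc, Cfsg.Agent.Unitary.herm_smul_right, hy1, mul_zero,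
        mul_one, add_zero] at hp
      have h4 : k * k + k = 0 := by
        have h3 : k ^ 2 + (k ^ 2) ^ 2 = 0 := add_left_cancel (hp.trans (add_zero _).symm)
        rw [sq_sq hF] at h3
        linear_combination h3
      rcases mul_eq_zero.mp (show k * (k + 1) = 0 by linear_combination h4) with q | q
      · exact absurd q hk0
      · exact (add_eq_zero_iff_eq' hF).mp q
    have hv : IsPt (p.emb c) := by
      refine ⟨fun e => hc0 ?_, ?_⟩
      · rw [← p.co_emb c, e]; funext i; exact hb_zero_left _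
      · rw [p.hb_eq_co hF (p.emb_B c) (p.emb_B c), co_emb]; exact hc
    obtain ⟨-, hfix⟩ := p.mat4_tv hF hv (p.emb_B c)
    refine ⟨⟨tv hF (p.emb c), hfix⟩, Subtype.ext (Subtype.ext (Matrix.ext_iff_mulVec.mpr fun y => ?_))⟩
    show (p.mat4 (tv hF (p.emb c))).mulVec y = (Cfsg.Agent.Unitary.mat T).mulVec y
    rw [← p.co_act_emb hF hfix, tv_act hF hv.2, co_add, co_smul, co_emb,
      p.hb_eq_co hF (p.emb_B y) (p.emb_B c), co_emb, co_emb, hT', hk, one_mul]

theorem mem_ker {g : ↥(stabB B)} :
    g ∈ (p.toSU4 hF).ker ↔ ∀ x, hb x B = 0 → ∃ t : F, act g.1 x = x + t • B := by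
  rw [MonoidHom.mem_ker]
  constructor
  · intro h x hx
    have hm : p.mat4 g.1 = 1 := congrArg Subtype.val (congrArg Subtype.val h)
    have e : hb (act g.1 x + x) B = 0 := by rw [hb_add_left, act_perp g.2 hx, hx, add_zero]
    have := p.eq_smul_of_co e (by
      rw [co_add, p.co_act hF g.2 hx, hm, Matrix.one_mulVec]
      exact funext fun i => add_self_zero hF _)
    exact ⟨_, by rw [← this, add_comm (act g.1 x), ← add_assoc, vec_add_self hF, zero_add]⟩
  · intro h
    refine Subtype.ext (Subtype.ext (Matrix.ext_iff_mulVec.mpr fun c => ?_))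
    show (p.mat4 g.1).mulVec c = (1 : Matrix (Fin 4) (Fin 4) F).mulVec c
    obtain ⟨t, ht⟩ := h _ (p.emb_B c)
    rw [← p.co_act_emb hF g.2, ht, co_add, co_smul, p.co_B hF, smul_zero, add_zero, co_emb,
      Matrix.one_mulVec]

include p in
/-- fixing `B^⊥` pointwise -/
theorem fix_perp (h : ∀ x, hb x B = 0 → act g x = x) : g = 1 ∨ g = tv hF B := by
  have hgB : act g B = B := h B p.pt.2
  set D := act g p.partner + p.partner with hD
  have hDperp : ∀ y, hb y B = 0 → hb D y = 0 := fun y hy => by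
    have := act_hb g p.partner y
    rw [h y hy] at this
    rw [hD, hb_add_left, this, add_self_zero hF]
  have hDB : hb D B = 0 := hDperp B p.pt.2
  have hDc : D = hb D p.partner • B := p.eq_smul_of_co hDB (funext fun i => hDperp _ (p.orth i))
  set t := hb D p.partner with ht
  have hgP : act g p.partner = p.partner + t • B := by
    rw [← hDc, hD, add_comm (act g p.partner), ← add_assoc, vec_add_self hF, zero_add]
  have hBP : hb B p.partner = 1 := hb_one_comm hF p.pB
  have h2 : t * (t + 1) = 0 := by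
    have := act_hb g p.partner p.partner
    rw [hgP] at this
    simp only [hb_add_left, hb_add_right hF, hb_smul_left, hb_smul_right, p.pp, p.pB, hBP, p.pt.2,
      mul_zero, mul_one, zero_add, add_zero] at this
    linear_combination this
  have key : ∀ g' : ↥(Cfsg.SU 6 F 2), (∀ x, hb x B = 0 → act g' x = x) →
      act g' p.partner = act g p.partner → g = g' := fun g' h' e => act_ext fun x => by
    have hy : hb (x + hb x B • p.partner) B = 0 := by
      rw [hb_add_left, hb_smul_left, p.pB, mul_one, add_self_zero hF]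
    have ex : x = (x + hb x B • p.partner) + hb x B • p.partner := by
      rw [add_assoc, vec_add_self hF, add_zero]
    rw [ex, act_add, act_smul, act_add g', act_smul g', h _ hy, h' _ hy, e]
  rcases mul_eq_zero.mp h2 with q | q
  · exact Or.inl (key 1 (fun x _ => act_one x) (by rw [act_one, hgP, q, zero_smul, add_zero]))
  · refine Or.inr (key _ (fun x hx => ?_) ?_)
    · rw [tv_act hF p.pt.2, hx, zero_smul, add_zero]
    · rw [tv_act hF p.pt.2, p.pB, hgP, (add_eq_zero_iff_eq' hF).mp q]

/-- commutators and squares in the kernel -/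
theorem ker_comm {g g' : ↥(stabB B)} (hg : g ∈ (p.toSU4 hF).ker) (hg' : g' ∈ (p.toSU4 hF).ker) :
    (g.1 * g'.1 * g.1⁻¹ * g'.1⁻¹ = 1 ∨ g.1 * g'.1 * g.1⁻¹ * g'.1⁻¹ = tv hF B) ∧
      (g.1 * g.1 = 1 ∨ g.1 * g.1 = tv hF B) := by
  rw [p.mem_ker hF] at hg hg'
  have hgB : act g.1 B = B := g.2
  have hgB' : act g'.1 B = B := g'.2
  have two : ∀ x, hb x B = 0 → act (g.1 * g'.1) x = act (g'.1 * g.1) x := fun x hx => by
    obtain ⟨t, ht⟩ := hg x hx
    obtain ⟨t', ht'⟩ := hg' x hx
    rw [act_mul, act_mul, ht', ht, act_add, act_add, act_smul, act_smul, hgB, hgB', ht, ht']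
    abel
  refine ⟨p.fix_perp hF fun x hx => ?_, p.fix_perp hF fun x hx => ?_⟩
  · have hy : hb (act (g.1⁻¹ * g'.1⁻¹) x) B = 0 := by
      refine act_perp (g := g.1⁻¹ * g'.1⁻¹) ?_ hx
      exact mul_mem (inv_mem g.2) (inv_mem g'.2) |> fun h => h
    rw [mul_assoc, act_mul, two _ hy, ← act_mul, show g'.1 * g.1 * (g.1⁻¹ * g'.1⁻¹) = 1 by group,
      act_one]
  · obtain ⟨t, ht⟩ := hg x hx
    rw [act_mul, ht, act_add, act_smul, hgB, ht, add_assoc, vec_add_self hF, add_zero]

end PointBasis

end Cfsg.Agent.H93
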