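import Mathlib

/-!
A linear map of a six dimensional space over four elements whose cube is a scalar `c ≠ 1` has
determinant `c ^ 2`.
-/

set_option autoImplicit false

namespace Cfsg.Agent.H93

variable {F V : Type*} [Field F] [Fintype F] [AddCommGroup V] [Module F V]

/-- the orbit triple is independent -/
theorem cube_indep (hF : Fintype.card F = 4) (L : V →ₗ[F] V) {c : F} (hc0 : c ≠ 0) (hc1 : c ≠ 1)
    (hL : ∀ x, L (L (L x)) = c • x) {x : V} (hx : x ≠ 0) :
    LinearIndependent F ![x, L x, L (L x)] := by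
  have h3 : ∀ t : F, t ≠ 0 → t ^ 3 = 1 := fun t ht => by
    have := FiniteField.pow_card_sub_one_eq_one t ht
    rwa [hF] at this
  have heig : ∀ t : F, L x ≠ t • x := by
    intro t ht
    have := hL x
    rw [ht, map_smul, ht, smul_smul, map_smul, ht, smul_smul] at this
    have h1 : t * t * t = c := smul_left_injective F hx this
    by_cases ht0 : t = 0
    · exact hc0 (by rw [← h1, ht0, mul_zero])
    · exact hc1 (by rw [← h1, ← h3 t ht0]; ring)
  rw [Fintype.linearIndependent_iff]
  intro g hg
  simp only [Fin.sum_univ_three, Matrix.cons_val_zero, Matrix.cons_val_one, Matrix.cons_val] at hg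
  by_cases h2 : g 2 = 0
  · rw [h2, zero_smul, add_zero] at hg
    by_cases h1 : g 1 = 0
    · rw [h1, zero_smul, add_zero] at hg
      have h0 : g 0 = 0 := (smul_eq_zero.mp hg).resolve_right hx
      intro i; fin_cases i <;> assumption
    · exfalso
      refine heig (-(g 1)⁻¹ * g 0) ?_
      rw [mul_smul, neg_smul, eq_neg_iff_add_eq_zero, ← inv_smul_smul₀ h1 (L x), ← smul_add,
        add_comm, hg, smul_zero]
  · exfalso
    obtain ⟨a, b, hab⟩ : ∃ a b : F, L (L x) = a • x + b • L x := by
      refine ⟨-(g 2)⁻¹ * g 0, -(g 2)⁻¹ * g 1, ?_⟩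
      rw [mul_smul, mul_smul, ← smul_add, neg_smul, eq_neg_iff_add_eq_zero,
        ← inv_smul_smul₀ h2 (L (L x)), ← smul_add, add_comm, hg, smul_zero]
    have := hL x
    rw [hab, map_add, map_smul, map_smul, hab, smul_add, smul_smul, smul_smul] at this
    have e : (b * a - c) • x + (a + b * b) • L x = 0 := by
      rw [sub_smul, add_smul, ← sub_eq_zero.mpr this]
      abel
    have hb2 : a + b * b = 0 := by
      by_contra hne
      refine heig (-(a + b * b)⁻¹ * (b * a - c)) ?_
      rw [mul_smul, neg_smul, eq_neg_iff_add_eq_zero, ← inv_smul_smul₀ hne (L x), ← smul_add,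
        add_comm (_ • L x), e, smul_zero]
    rw [hb2, zero_smul, add_zero] at e
    have hba : b * a = c := sub_eq_zero.mp ((smul_eq_zero.mp e).resolve_right hx)
    haveI : Fact (Nat.Prime 2) := ⟨Nat.prime_two⟩
    haveI : CharP F 2 := charP_of_card_eq_prime_pow (f := 2) (by rw [hF]; norm_num)
    have hcb : c = b ^ 3 := by
      rw [← hba, eq_neg_of_add_eq_zero_left hb2, CharTwo.neg_eq]; ring
    by_cases hb : b = 0
    · exact hc0 (by rw [hcb, hb, zero_pow (by norm_num)])
    · exact hc1 (by rw [hcb, h3 b hb])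

/-- the determinant -/
theorem det_cube_scalar (hF : Fintype.card F = 4) (hV : Module.finrank F V = 6) (L : V →ₗ[F] V)
    {c : F} (hc0 : c ≠ 0) (hc1 : c ≠ 1) (hL : ∀ x, L (L (L x)) = c • x) :
    LinearMap.det L = c ^ 2 := by
  classical
  haveI : FiniteDimensional F V := FiniteDimensional.of_finrank_pos (by rw [hV]; norm_num)
  let S : V → Submodule F V := fun x => Submodule.span F (Set.range ![x, L x, L (L x)])
  have hdim : ∀ x, x ≠ 0 → Module.finrank F ↥(S x) = 3 := fun x hx => by
    rw [finrank_span_eq_card (cube_indep hF L hc0 hc1 hL hx), Fintype.card_fin]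
  have hmem : ∀ x, x ∈ S x := fun x => Submodule.subset_span ⟨0, rfl⟩
  have hinv : ∀ x, ∀ v ∈ S x, L v ∈ S x := by
    intro x v hv
    refine Submodule.span_induction ?_ ?_ ?_ ?_ hv
    · rintro _ ⟨i, rfl⟩
      fin_cases i
      · exact Submodule.subset_span ⟨1, rfl⟩
      · exact Submodule.subset_span ⟨2, rfl⟩
      · show L (L (L x)) ∈ S x
        rw [hL]
        exact Submodule.smul_mem _ _ (hmem x)
    · rw [map_zero]; exact zero_mem _
    · intro a b _ _ ha hb; rw [map_add]; exact add_mem ha hb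
    · intro t a _ ha; rw [map_smul]; exact Submodule.smul_mem _ _ ha
  have hle : ∀ x (T : Submodule F V), (∀ v ∈ T, L v ∈ T) → x ∈ T → S x ≤ T := by
    intro x T hT hx
    refine Submodule.span_le.mpr ?_
    rintro _ ⟨i, rfl⟩
    fin_cases i
    · exact hx
    · exact hT _ hx
    · exact hT _ (hT _ hx)
  haveI : Nontrivial V := Module.nontrivial_of_finrank_pos (R := F) (by rw [hV]; norm_num)
  obtain ⟨x, hx⟩ := exists_ne (0 : V)
  obtain ⟨y, hy⟩ : ∃ y, y ∉ S x := by
    by_contra hno
    simp only [not_exists, not_not] at hno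
    have : S x = ⊤ := eq_top_iff.mpr fun y _ => hno y
    have := hdim x hx
    rw [‹S x = ⊤›, finrank_top, hV] at this
    norm_num at this
  have hy0 : y ≠ 0 := fun e => hy (e ▸ zero_mem _)
  have hdisj : Disjoint (S x) (S y) := by
    rw [disjoint_iff, eq_bot_iff]
    intro z hz
    rw [Submodule.mem_bot]
    by_contra hz0
    have h1 : S z ≤ S x ⊓ S y :=
      hle z _ (fun v hv => ⟨hinv x v hv.1, hinv y v hv.2⟩) hz
    have h2 : S z = S y := Submodule.eq_of_le_of_finrank_le (h1.trans inf_le_right)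
      (by rw [hdim z hz0, hdim y hy0])
    exact hy (h1.trans inf_le_left (h2 ▸ hmem y))
  have hli : LinearIndependent F (Sum.elim ![x, L x, L (L x)] ![y, L y, L (L y)]) :=
    (cube_indep hF L hc0 hc1 hL hx).sum_type (cube_indep hF L hc0 hc1 hL hy0) hdisj
  let b := basisOfLinearIndependentOfCardEqFinrank hli (by rw [hV]; rfl)
  have hb : ∀ i, b i = Sum.elim ![x, L x, L (L x)] ![y, L y, L (L y)] i := fun i => by
    simp only [b, coe_basisOfLinearIndependentOfCardEqFinrank]
  have hM : LinearMap.toMatrix b b L =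
      Matrix.fromBlocks !![0, 0, c; 1, 0, 0; 0, 1, 0] 0 0 !![0, 0, c; 1, 0, 0; 0, 1, 0] := by
    have e10 : L (b (.inl 0)) = b (.inl 1) := by simp [hb]
    have e11 : L (b (.inl 1)) = b (.inl 2) := by simp [hb]
    have e12 : L (b (.inl 2)) = c • b (.inl 0) := by simp [hb, hL]
    have e20 : L (b (.inr 0)) = b (.inr 1) := by simp [hb]
    have e21 : L (b (.inr 1)) = b (.inr 2) := by simp [hb]
    have e22 : L (b (.inr 2)) = c • b (.inr 0) := by simp [hb, hL]
    ext i j
    rw [LinearMap.toMatrix_apply]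
    rcases j with j | j <;> fin_cases j <;>
      simp only [Fin.zero_eta, Fin.mk_one, Fin.reduceFinMk, e10, e11, e12, e20, e21, e22] <;>
      (rcases i with i | i <;> fin_cases i <;> simp [Finsupp.single_apply])
  rw [← LinearMap.det_toMatrix b, hM, Matrix.det_fromBlocks_zero₂₁, Matrix.det_fin_three]
  simp
  ring

end Cfsg.Agent.H93
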