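import Cfsg.Agent.H93.Eleven22
import Cfsg.Agent.H93.SevenDet

/-!
Elements of order seven of `SU 6 F 2`: they fix no vector, split the space into two totally
isotropic planes, and have a centraliser of order twenty one.
-/

set_option autoImplicit false

namespace Cfsg.Agent.H93

theorem seven_dim_arith : ∀ n < 7, 4 ^ n % 7 = 1 → n = 0 ∨ n = 3 ∨ n = 6 := by decide +kernel

variable {F : Type*} [Field F] [Fintype F] (hF : Fintype.card F = 4)

include hF

/-- an invariant subspace without fixed vectors has dimension a multiple of three -/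
theorem invariant_dim_seven {g : ↥(Cfsg.SU 6 F 2)} (hg : g ^ 7 = 1) (S : Submodule F (Vec F))
    (hinv : ∀ v ∈ S, act g v ∈ S) (hfix : ∀ v ∈ S, act g v = v → v = 0) :
    Module.finrank F S = 0 ∨ Module.finrank F S = 3 ∨ Module.finrank F S = 6 := by
  classical
  have hpow : ∀ (n : ℕ), ∀ v ∈ S, act (g ^ n) v ∈ S := by
    intro n
    induction n with
    | zero => intro v hv; rwa [pow_zero, act_one]
    | succ n ih => intro v hv; rw [pow_succ', act_mul]; exact hinv _ (ih v hv)
  have hz : ∀ k ∈ Subgroup.zpowers g, ∀ v ∈ S, act k v ∈ S := by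
    intro k hk v hv
    obtain ⟨n, hn : g ^ n = k⟩ := (isOfFinOrder_of_finite g).mem_powers_iff_mem_zpowers.mpr hk
    rw [← hn]; exact hpow n v hv
  letI : MulAction ↥(Subgroup.zpowers g) ↥S :=
    { smul := fun k v => ⟨act k.1 v.1, hz k.1 k.2 v.1 v.2⟩
      one_smul := fun v => Subtype.ext (act_one v.1)
      mul_smul := fun k k' v => Subtype.ext (act_mul k.1 k'.1 v.1) }
  haveI : Fact (Nat.Prime 7) := ⟨by norm_num⟩
  have hp : IsPGroup 7 ↥(Subgroup.zpowers g) := by
    rintro ⟨k, i, rfl⟩
    refine ⟨1, Subtype.ext ?_⟩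
    show (g ^ i) ^ (7 ^ 1) = 1
    rw [pow_one, ← zpow_natCast, ← zpow_mul, mul_comm i, zpow_mul, zpow_natCast, hg, one_zpow]
  have hone : MulAction.fixedPoints ↥(Subgroup.zpowers g) ↥S = {0} := by
    ext v
    refine ⟨fun hv => Subtype.ext (hfix v.1 v.2 ?_), fun hv k => Subtype.ext ?_⟩
    · exact congrArg Subtype.val (hv ⟨g, Subgroup.mem_zpowers g⟩)
    · show act k.1 v.1 = v.1
      rw [show v = 0 from hv, Submodule.coe_zero, act_zero]
  have hmod := hp.card_modEq_card_fixedPoints ↥S
  rw [hone, Nat.card_coe_set_eq, Set.ncard_singleton, Module.natCard_eq_pow_finrank (K := F),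
    Nat.card_eq_fintype_card, hF] at hmod
  have hle : Module.finrank F S ≤ 6 := (Submodule.finrank_le S).trans (by simp)
  exact seven_dim_arith _ (by omega) hmod

/-- the first cubic in `g` -/
def cubic (g : ↥(Cfsg.SU 6 F 2)) : Vec F →ₗ[F] Vec F :=
  actL (g ^ 3) + actL g + LinearMap.id

theorem scalar_center {t : F} (ht : t ≠ 0) :
    ∃ z ∈ Subgroup.center ↥(Cfsg.SU 6 F 2), ∀ x, act z x = t • x := by
  classical
  have hchoose : ∀ z : ↥(Subgroup.center ↥(Cfsg.SU 6 F 2)),
      ∃ a : {a : F // a ≠ 0}, ∀ x, act z.1 x = a.1 • x := fun z => by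
    obtain ⟨a, ha0, ha⟩ := central_scalar hF z.2
    exact ⟨⟨a, ha0⟩, ha⟩
  choose f hf using hchoose
  have hinj : Function.Injective f := fun z z' e => Subtype.ext (act_ext fun x => by rw [hf, hf, e])
  have hbij := (Nat.bijective_iff_injective_and_card f).mpr ⟨hinj, by
    rw [Cfsg.Agent.Unitary.card_center_SU (card_eq_sq hF) (by norm_num),
      show Nat.gcd 6 (2 + 1) = 3 by decide, Nat.card_eq_fintype_card, Fintype.card_subtype_compl,
      Fintype.card_subtype_eq, hF]⟩
  obtain ⟨z, hz⟩ := hbij.2 ⟨t, ht⟩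
  exact ⟨z.1, z.2, fun x => by rw [hf, hz]⟩

omit [Fintype F] hF in
theorem cubic_apply (g : ↥(Cfsg.SU 6 F 2)) (x : Vec F) :
    cubic g x = act (g ^ 3) x + act g x + x := rfl

omit [Fintype F] hF in
/-- moving a power across the form -/
theorem hb_act_left (g : ↥(Cfsg.SU 6 F 2)) (x y : Vec F) : hb (act g x) y = hb x (act g⁻¹ y) := by
  conv_lhs => rw [← act_inv_right g y]
  rw [act_hb]

/-- the cubic and its reverse have no common zero other than fixed vectors -/
theorem cubic_both {g : ↥(Cfsg.SU 6 F 2)} {x : Vec F} (h1 : cubic g x = 0)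
    (h2 : cubic g⁻¹ x = 0) : act g x = x := by
  rw [cubic_apply] at h1 h2
  have h3 := congrArg (act (g ^ 3)) h2
  rw [act_add, act_add, act_zero, ← act_mul, ← act_mul, show g ^ 3 * g⁻¹ ^ 3 = 1 by group,
    act_one, show g ^ 3 * g⁻¹ = g ^ 2 by group] at h3
  -- subtract
  have h4 : act g x + act (g ^ 2) x = 0 := by
    rw [vec_eq_of_add hF (x := act g x) (y := act (g ^ 2) x) ?_]
    · exact vec_add_self hF _
    · calc act g x + act (g ^ 2) x
          = (act (g ^ 3) x + act g x + x) + (x + act (g ^ 2) x + act (g ^ 3) x) +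
            ((act (g ^ 3) x + act (g ^ 3) x) + (x + x)) * 0 := by
            rw [mul_zero, add_zero]
            have a := vec_add_self hF (act (g ^ 3) x)
            have b := vec_add_self hF x
            calc act g x + act (g ^ 2) x
                = (act g x + act (g ^ 2) x) + ((act (g ^ 3) x + act (g ^ 3) x) + (x + x)) := by
                  rw [a, b, add_zero, add_zero]
              _ = _ := by abel
        _ = 0 := by rw [h1, h3, mul_zero, add_zero, add_zero]
  have h5 := congrArg (act g⁻¹) (vec_eq_of_add hF h4)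
  rw [act_inv_left, ← act_mul, show g⁻¹ * g ^ 2 = g by group] at h5
  exact h5.symm

variable {g : ↥(Cfsg.SU 6 F 2)} (hg : g ^ 7 = 1) (hg1 : g ≠ 1)

include hg hg1

/-- no fixed vectors -/
theorem seven_no_fixed {x : Vec F} (hx : act g x = x) : x = 0 := by
  classical
  set L : Vec F →ₗ[F] Vec F := actL g - LinearMap.id with hL
  set U := LinearMap.range L
  set W := LinearMap.ker L
  have hLa : ∀ x, L x = act g x - x := fun x => rfl
  have hneg : ∀ (h : ↥(Cfsg.SU 6 F 2)) (a b : Vec F), act h (a - b) = act h a - act h b := fun h a b =>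
    (actL h).map_sub a b
  have hU : ∀ v ∈ U, act g v ∈ U := by
    rintro _ ⟨x, rfl⟩
    exact ⟨act g x, by rw [hLa, hLa, hneg]⟩
  have hfix : ∀ v ∈ U, act g v = v → v = 0 := by
    rintro _ ⟨x, rfl⟩ hfx
    set v := L x
    have hx : act g x = x + v := by rw [show v = act g x - x from hLa x]; abel
    have hn : ∀ n : ℕ, act (g ^ n) x = x + (n : F) • v := by
      intro n
      induction n with
      | zero => rw [pow_zero, act_one, Nat.cast_zero, zero_smul, add_zero]
      | succ n ih =>
        rw [pow_succ', act_mul, ih, act_add, act_smul, hfx, hx, Nat.cast_succ, add_smul, one_smul]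
        abel
    have := hn 7
    rw [hg, act_one, show ((7 : ℕ) : F) = 1 by linear_combination (3 : F) * two_zero hF,
      one_smul] at this
    exact left_eq_add.mp this
  rcases invariant_dim_seven hF hg U hU hfix with e | e | e
  · exfalso
    refine hg1 (act_ext fun y => ?_)
    rw [Submodule.finrank_eq_zero] at e
    have : L y ∈ U := ⟨y, rfl⟩
    rw [e, Submodule.mem_bot, hLa, sub_eq_zero] at this
    rw [this, act_one]
  · -- a plane with an invariant non-degenerate form
    exfalso
    have hUW : ∀ u ∈ U, ∀ w ∈ W, hb u w = 0 := by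
      rintro _ ⟨y, rfl⟩ w hw
      rw [LinearMap.mem_ker, hLa, sub_eq_zero] at hw
      have hwi : act g⁻¹ w = w := by
        conv_lhs => rw [← hw]
        rw [act_inv_left]
      rw [hLa, sub_eq_add_neg, hb_add_left, ← neg_one_smul F y, hb_smul_left, hb_act_left, hwi,
        neg_one_mul, add_neg_cancel]
    have hinf : U ⊓ W = ⊥ := by
      rw [eq_bot_iff]
      rintro v ⟨hvU, hvW⟩
      rw [Submodule.mem_bot]
      exact hfix v hvU (sub_eq_zero.mp hvW)
    have htop : U ⊔ W = ⊤ := Submodule.eq_top_of_finrank_eq (by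
      have h6 := L.finrank_range_add_finrank_ker
      change Module.finrank F U + Module.finrank F W = _ at h6
      have := Submodule.finrank_sup_add_finrank_inf_eq U W
      rw [hinf, finrank_bot] at this
      omega)
    have hnd : ∀ v ∈ U, (∀ u ∈ U, hb v u = 0) → v = 0 := fun v hv hall => hb_nondeg hF fun y => by
      obtain ⟨u, hu, w, hw, rfl⟩ := Submodule.mem_sup.mp (htop.symm ▸ Submodule.mem_top (x := y))
      rw [hb_add_right hF, hall u hu, hUW v hv w hw, add_zero]
    -- one of the two cubics vanishes on it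
    have hgi : ∀ v ∈ U, act g⁻¹ v ∈ U := by
      intro v hv
      have hpow : ∀ n : ℕ, act (g ^ n) v ∈ U := by
        intro n
        induction n with
        | zero => rwa [pow_zero, act_one]
        | succ n ih => rw [pow_succ', act_mul]; exact hU _ ih
      rw [show g⁻¹ = g ^ 6 from inv_eq_of_mul_eq_one_right (by rw [← pow_succ', hg])]
      exact hpow 6
    have hpowU : ∀ (n : ℕ) (k : ↥(Cfsg.SU 6 F 2)), (∀ v ∈ U, act k v ∈ U) → ∀ v ∈ U,
        act (k ^ n) v ∈ U := by
      intro n k hk
      induction n with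
      | zero => intro v hv; rwa [pow_zero, act_one]
      | succ n ih => intro v hv; rw [pow_succ', act_mul]; exact hk _ (ih v hv)
    have hcU : ∀ k : ↥(Cfsg.SU 6 F 2), (∀ v ∈ U, act k v ∈ U) → ∀ v ∈ U, cubic k v ∈ U :=
      fun k hk v hv => U.add_mem (U.add_mem (hpowU 3 k hk v hv) (hk v hv)) hv
    have adj : ∀ x y : Vec F, hb (cubic g x) y = hb x (cubic g⁻¹ y) := by
      intro x y
      rw [cubic_apply, cubic_apply, hb_add_left, hb_add_left, hb_add_right hF, hb_add_right hF,
        hb_act_left, hb_act_left, inv_pow]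
    have adj' : ∀ x y : Vec F, hb (cubic g⁻¹ x) y = hb x (cubic g y) := by
      intro x y
      rw [cubic_apply, cubic_apply, hb_add_left, hb_add_left, hb_add_right hF, hb_add_right hF,
        hb_act_left, hb_act_left, inv_inv, inv_pow, inv_inv]
    have hcomp : ∀ v ∈ U, cubic g (cubic g⁻¹ v) = 0 := by
      intro v hv
      -- the product of the cubics is the sum of all powers
      have hsum : act (g ^ 6) v + act (g ^ 5) v + act (g ^ 4) v + act (g ^ 3) v + act (g ^ 2) v +
          act g v + v = 0 := by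
        refine hfix _ (U.add_mem (U.add_mem (U.add_mem (U.add_mem (U.add_mem (U.add_mem
          (hpowU 6 g hU v hv) (hpowU 5 g hU v hv)) (hpowU 4 g hU v hv)) (hpowU 3 g hU v hv))
          (hpowU 2 g hU v hv)) (hU v hv)) hv) ?_
        simp only [act_add, ← act_mul]
        rw [show g * g ^ 6 = 1 by rw [← pow_succ', hg], act_one, show g * g ^ 5 = g ^ 6 by group,
          show g * g ^ 4 = g ^ 5 by group, show g * g ^ 3 = g ^ 4 by group,
          show g * g ^ 2 = g ^ 3 by group, show g * g = g ^ 2 from (pow_two g).symm]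
        abel
      simp only [cubic_apply, act_add, ← act_mul]
      rw [show g ^ 3 * (g⁻¹) ^ 3 = 1 by group, show g ^ 3 * g⁻¹ = g ^ 2 by group,
        show g * (g⁻¹) ^ 3 = g ^ 5 by
          rw [show g * (g⁻¹) ^ 3 = g ^ 7 * (g⁻¹) ^ 2 by rw [hg]; group]; group,
        show g * g⁻¹ = 1 by group, act_one,
        show (g⁻¹) ^ 3 = g ^ 4 by
          rw [show (g⁻¹) ^ 3 = g ^ 7 * (g⁻¹) ^ 3 by rw [hg, one_mul]]; group,
        show g⁻¹ = g ^ 6 from inv_eq_of_mul_eq_one_right (by rw [← pow_succ', hg])]
      calc v + act (g ^ 2) v + act (g ^ 3) v + (act (g ^ 5) v + v + act g v) +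
            (act (g ^ 4) v + act (g ^ 6) v + v)
          = (act (g ^ 6) v + act (g ^ 5) v + act (g ^ 4) v + act (g ^ 3) v + act (g ^ 2) v +
              act g v + v) + (v + v) := by abel
        _ = 0 := by rw [hsum, vec_add_self hF, add_zero]
    set S := U ⊓ LinearMap.ker (cubic g)
    have hSfix : ∀ v ∈ S, act g v = v → v = 0 := fun v hv => hfix v hv.1
    have hSinv : ∀ v ∈ S, act g v ∈ S := fun v hv => ⟨hU v hv.1, by
      show cubic g (act g v) = 0
      have h0 : cubic g v = 0 := hv.2
      rw [cubic_apply, ← act_mul, ← pow_succ, pow_succ', act_mul, ← act_add, ← act_add,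
        ← cubic_apply, h0, act_zero]⟩
    rcases invariant_dim_seven hF hg S hSinv hSfix with e' | e' | e'
    · -- then the reverse cubic vanishes on it, and so does the cubic
      rw [Submodule.finrank_eq_zero] at e'
      have hz : ∀ v ∈ U, cubic g⁻¹ v = 0 := fun v hv => by
        have : cubic g⁻¹ v ∈ S := ⟨hcU _ hgi v hv, hcomp v hv⟩
        rwa [e', Submodule.mem_bot] at this
      have hz' : ∀ v ∈ U, cubic g v = 0 := fun v hv =>
        hnd _ (hcU _ hU v hv) fun u hu => by rw [adj, hz u hu, hb_zero_right]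
      obtain ⟨v, hv, hv0⟩ := U.exists_mem_ne_zero_of_ne_bot (fun q => by
        rw [q, finrank_bot] at e; norm_num at e)
      exact hv0 (hfix v hv (cubic_both hF (hz' v hv) (hz v hv)))
    · have hSU : S = U := Submodule.eq_of_le_of_finrank_le inf_le_left (by rw [e', e])
      have hz : ∀ v ∈ U, cubic g v = 0 := fun v hv => (hSU.symm ▸ hv : v ∈ S).2
      have hz' : ∀ v ∈ U, cubic g⁻¹ v = 0 := fun v hv =>
        hnd _ (hcU _ hgi v hv) fun u hu => by rw [adj', hz u hu, hb_zero_right]
      obtain ⟨v, hv, hv0⟩ := U.exists_mem_ne_zero_of_ne_bot (fun q => by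
        rw [q, finrank_bot] at e; norm_num at e)
      exact hv0 (hfix v hv (cubic_both hF (hz v hv) (hz' v hv)))
    · have h' : Module.finrank F ↥S ≤ Module.finrank F ↥U := Submodule.finrank_mono inf_le_left
      rw [e', e] at h'
      norm_num at h'

  · have hW : W = ⊥ := by
      rw [← Submodule.finrank_eq_zero]
      have h6 := L.finrank_range_add_finrank_ker
      rw [Module.finrank_fin_fun] at h6
      change Module.finrank F U + Module.finrank F W = 6 at h6
      omega
    have : x ∈ W := by rw [LinearMap.mem_ker, hLa, hx, sub_self]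
    rwa [hW, Submodule.mem_bot] at this

omit hg1 in
/-- the cubics annihilate each other -/
theorem cubic_comp (hnf : ∀ x, act g x = x → x = 0) (v : Vec F) :
    cubic g (cubic g⁻¹ v) = 0 := by
  have hsum : act (g ^ 6) v + act (g ^ 5) v + act (g ^ 4) v + act (g ^ 3) v + act (g ^ 2) v +
      act g v + v = 0 := by
    refine hnf _ ?_
    simp only [act_add, ← act_mul]
    rw [show g * g ^ 6 = 1 by rw [← pow_succ', hg], act_one, show g * g ^ 5 = g ^ 6 by group,
      show g * g ^ 4 = g ^ 5 by group, show g * g ^ 3 = g ^ 4 by group,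
      show g * g ^ 2 = g ^ 3 by group, show g * g = g ^ 2 from (pow_two g).symm]
    abel
  simp only [cubic_apply, act_add, ← act_mul]
  rw [show g ^ 3 * (g⁻¹) ^ 3 = 1 by group, show g ^ 3 * g⁻¹ = g ^ 2 by group,
    show g * (g⁻¹) ^ 3 = g ^ 5 by
      rw [show g * (g⁻¹) ^ 3 = g ^ 7 * (g⁻¹) ^ 2 by rw [hg]; group]; group,
    show g * g⁻¹ = 1 by group, act_one,
    show (g⁻¹) ^ 3 = g ^ 4 by
      rw [show (g⁻¹) ^ 3 = g ^ 7 * (g⁻¹) ^ 3 by rw [hg, one_mul]]; group,
    show g⁻¹ = g ^ 6 from inv_eq_of_mul_eq_one_right (by rw [← pow_succ', hg])]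
  calc v + act (g ^ 2) v + act (g ^ 3) v + (act (g ^ 5) v + v + act g v) +
        (act (g ^ 4) v + act (g ^ 6) v + v)
      = (act (g ^ 6) v + act (g ^ 5) v + act (g ^ 4) v + act (g ^ 3) v + act (g ^ 2) v +
          act g v + v) + (v + v) := by abel
    _ = 0 := by rw [hsum, vec_add_self hF, add_zero]

/-- the order of the centraliser -/
theorem centralizer_seven :
    Nat.card ↥(Subgroup.centralizer ({g} : Set ↥(Cfsg.SU 6 F 2))) = 21 := by
  classical
  have hnf : ∀ x, act g x = x → x = 0 := fun x => seven_no_fixed hF hg hg1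
  have hgi7 : (g⁻¹) ^ 7 = 1 := by rw [inv_pow, hg, inv_one]
  have hnfi : ∀ x, act g⁻¹ x = x → x = 0 := fun x e => hnf x (by
    conv_lhs => rw [← e]
    rw [act_inv_right])
  set H := Subgroup.centralizer ({g} : Set ↥(Cfsg.SU 6 F 2))
  have adj : ∀ x y : Vec F, hb (cubic g x) y = hb x (cubic g⁻¹ y) := by
    intro x y
    rw [cubic_apply, cubic_apply, hb_add_left, hb_add_left, hb_add_right hF, hb_add_right hF,
      hb_act_left, hb_act_left, inv_pow]
  have adj' : ∀ x y : Vec F, hb (cubic g⁻¹ x) y = hb x (cubic g y) := by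
    intro x y
    rw [cubic_apply, cubic_apply, hb_add_left, hb_add_left, hb_add_right hF, hb_add_right hF,
      hb_act_left, hb_act_left, inv_inv, inv_pow, inv_inv]
  have hcomm : ∀ h ∈ H, ∀ (n : ℕ) x, act h (act (g ^ n) x) = act (g ^ n) (act h x) := by
    intro h hh n x
    rw [← act_mul, ← act_mul,
      (show Commute h (g ^ n) from (show Commute h g from
        Subgroup.mem_centralizer_singleton_iff.mp hh).pow_right n).eq]
  have hgc : ∀ h ∈ H, ∀ x, act h (cubic g x) = cubic g (act h x) := by
    intro h hh x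
    have e1 := hcomm h hh 1 x
    rw [pow_one] at e1
    rw [cubic_apply, cubic_apply, act_add, act_add, hcomm h hh, e1]
  set P := LinearMap.ker (cubic g)
  set Q := LinearMap.ker (cubic g⁻¹)
  have hPinv : ∀ v ∈ P, act g v ∈ P := fun v hv => by
    have hgH : g ∈ H := Subgroup.mem_centralizer_singleton_iff.mpr rfl
    rw [LinearMap.mem_ker, ← hgc g hgH, LinearMap.mem_ker.mp hv, act_zero]
  have hinf : P ⊓ Q = ⊥ := by
    rw [eq_bot_iff]
    rintro v ⟨h1, h2⟩
    rw [Submodule.mem_bot]
    exact hnf v (cubic_both hF h1 h2)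
  -- both planes are proper
  obtain ⟨hP3, hQ3⟩ : Module.finrank F P = 3 ∧ Module.finrank F Q = 3 := by
    have hsum := Submodule.finrank_sup_add_finrank_inf_eq P Q
    rw [hinf, finrank_bot, add_zero] at hsum
    have hle := Submodule.finrank_le (P ⊔ Q)
    rw [Module.finrank_fin_fun] at hle
    have hrange : LinearMap.range (cubic g⁻¹) ≤ P := by
      rintro _ ⟨v, rfl⟩
      exact cubic_comp hF hg hnf v
    have hrn := (cubic g⁻¹).finrank_range_add_finrank_ker
    rw [Module.finrank_fin_fun] at hrn
    have := Submodule.finrank_mono hrange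
    change Module.finrank F (LinearMap.range (cubic g⁻¹)) + Module.finrank F Q = 6 at hrn
    rcases invariant_dim_seven hF hg P hPinv (fun v _ => hnf v) with e | e | e
    · exfalso
      rw [Submodule.finrank_eq_zero] at e
      have hz : ∀ v, cubic g⁻¹ v = 0 := fun v => by
        have : cubic g⁻¹ v ∈ P := hrange ⟨v, rfl⟩
        rwa [e, Submodule.mem_bot] at this
      have hz' : ∀ v, cubic g v = 0 := fun v => hb_nondeg hF fun y => by
        rw [adj, hz, hb_zero_right]
      obtain ⟨v, hv⟩ := exists_ne (0 : Vec F)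
      exact hv (hnf v (cubic_both hF (hz' v) (hz v)))
    · exact ⟨e, by omega⟩
    · exfalso
      have hz : ∀ v, cubic g v = 0 := fun v => by
        have : P = ⊤ := Submodule.eq_top_of_finrank_eq (by rw [e, Module.finrank_fin_fun])
        exact LinearMap.mem_ker.mp (this ▸ Submodule.mem_top (x := v) : v ∈ P)
      have hz' : ∀ v, cubic g⁻¹ v = 0 := fun v => hb_nondeg hF fun y => by
        rw [adj', hz, hb_zero_right]
      obtain ⟨v, hv⟩ := exists_ne (0 : Vec F)
      exact hv (hnf v (cubic_both hF (hz v) (hz' v)))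
  have htop : P ⊔ Q = ⊤ := Submodule.eq_top_of_finrank_eq (by
    have := Submodule.finrank_sup_add_finrank_inf_eq P Q
    rw [hinf, finrank_bot, hP3, hQ3] at this
    rw [Module.finrank_fin_fun]
    omega)
  have hHP : ∀ h ∈ H, ∀ v ∈ P, act h v ∈ P := fun h hh v hv => by
    rw [LinearMap.mem_ker, ← hgc h hh, LinearMap.mem_ker.mp hv, act_zero]
  -- an element fixing a point of the first plane is trivial
  have hfree : ∀ h ∈ H, ∀ v ∈ P, v ≠ 0 → act h v = v → h = 1 := by
    intro h hh v hv hv0 hfv
    set S := P ⊓ LinearMap.ker (actL h - LinearMap.id) with hS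
    have hmem : ∀ x, x ∈ LinearMap.ker (actL h - LinearMap.id) ↔ act h x = x := fun x => by
      rw [LinearMap.mem_ker, LinearMap.sub_apply, LinearMap.id_apply, sub_eq_zero]
      rfl
    have hfixP : ∀ x ∈ P, act h x = x := by
      rcases invariant_dim_seven hF hg S (fun x hx => ⟨hPinv x hx.1, (hmem _).mpr (by
          have e1 := hcomm h hh 1 x
          rw [pow_one] at e1
          rw [e1, (hmem x).mp hx.2])⟩) (fun x hx => hnf x) with e | e | e
      · rw [Submodule.finrank_eq_zero] at e
        have : v ∈ S := ⟨hv, (hmem v).mpr hfv⟩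
        rw [e, Submodule.mem_bot] at this
        exact absurd this hv0
      · intro x hx
        have : S = P := Submodule.eq_of_le_of_finrank_le inf_le_left (by rw [e, hP3])
        exact (hmem x).mp (this.symm ▸ hx : x ∈ S).2
      · have h' : Module.finrank F ↥S ≤ Module.finrank F ↥P := Submodule.finrank_mono inf_le_left
        rw [e, hP3] at h'
        norm_num at h'

    refine act_ext fun x => ?_
    rw [act_one]
    set N : Vec F → Vec F := fun x => act h x + x
    suffices N x = 0 from vec_eq_of_add hF this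
    -- the difference maps into the first plane
    have hNQ : ∀ y ∈ Q, N y = 0 := by
      intro y hy
      have hQinv : act h y ∈ Q := by
        rw [LinearMap.mem_ker] at hy ⊢
        have hh' : h ∈ Subgroup.centralizer ({g⁻¹} : Set ↥(Cfsg.SU 6 F 2)) :=
          Subgroup.mem_centralizer_singleton_iff.mpr (show Commute h g from
            Subgroup.mem_centralizer_singleton_iff.mp hh).inv_right.eq
        rw [cubic_apply, ← act_mul, ← act_mul,
          ((show Commute h g⁻¹ from Subgroup.mem_centralizer_singleton_iff.mp hh').pow_right 3).symm.eq,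
          (show Commute h g⁻¹ from Subgroup.mem_centralizer_singleton_iff.mp hh').symm.eq,
          act_mul, act_mul, ← act_add, ← act_add, ← cubic_apply, hy, act_zero]
      refine hb_nondeg hF fun z => ?_
      obtain ⟨a, ha, b, hb', rfl⟩ := Submodule.mem_sup.mp (htop.symm ▸ Submodule.mem_top (x := z))
      have e1 : hb (N y) a = 0 := by
        show hb (act h y + y) a = 0
        rw [hb_add_left]
        nth_rw 1 [← hfixP a ha]
        rw [act_hb]
        exact add_self_zero hF _
      -- the reverse plane is totally isotropic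
      have e2 : ∀ p q, p ∈ Q → q ∈ Q → hb p q = 0 := by
        intro p q hp hq
        have hrange : Q ≤ LinearMap.range (cubic g) := by
          refine le_of_eq (Submodule.eq_of_le_of_finrank_le ?_ ?_).symm
          · rintro _ ⟨w, rfl⟩
            rw [LinearMap.mem_ker]
            have := cubic_comp hF hgi7 hnfi w
            rwa [inv_inv] at this
          · have hrn := (cubic g).finrank_range_add_finrank_ker
            rw [Module.finrank_fin_fun] at hrn
            change Module.finrank F (LinearMap.range (cubic g)) + Module.finrank F P = 6 at hrn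
            omega
        obtain ⟨w, rfl⟩ := hrange hp
        rw [adj, LinearMap.mem_ker.mp hq, hb_zero_right]
      show hb (act h y + y) (a + b) = 0
      rw [hb_add_right hF, show hb (act h y + y) a = 0 from e1, zero_add,
        e2 _ _ (Q.add_mem hQinv hy) hb']
    obtain ⟨a, ha, b, hb', rfl⟩ := Submodule.mem_sup.mp (htop.symm ▸ Submodule.mem_top (x := x))
    show act h (a + b) + (a + b) = 0
    rw [act_add, hfixP a ha, vec_eq_of_add hF (hNQ b hb')]
    exact vec_add_self hF _
  -- free on sixty three points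
  let α := {v : ↥P // v ≠ 0}
  letI : MulAction ↥H α :=
    { smul := fun h p => ⟨⟨act h.1 p.1.1, hHP _ h.2 _ p.1.2⟩, fun e => p.2 (Subtype.ext
        (act_eq_zero (congrArg Subtype.val e)))⟩
      one_smul := fun p => Subtype.ext (Subtype.ext (act_one _))
      mul_smul := fun h h' p => Subtype.ext (Subtype.ext (act_mul _ _ _)) }
  have hdvd : Nat.card ↥H ∣ 63 := by
    refine (free_dvd (α := α) fun h p e => Subtype.ext (hfree h.1 h.2 p.1.1 p.1.2
      (fun q => p.2 (Subtype.ext q)) (congrArg (fun t : α => t.1.1) e))).trans (dvd_of_eq ?_)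
    rw [show Nat.card α = ({0}ᶜ : Set ↥P).ncard from Nat.card_coe_set_eq _, Set.ncard_compl,
      Set.ncard_singleton, Module.natCard_eq_pow_finrank (K := F), Nat.card_eq_fintype_card, hF, hP3]
    norm_num
  have h21 : 21 ∣ Nat.card ↥H := by
    refine Nat.Coprime.mul_dvd_of_dvd_of_dvd (m := 3) (n := 7) (by norm_num) ?_ ?_
    · have hz : Subgroup.center ↥(Cfsg.SU 6 F 2) ≤ H := fun z hz =>
        Subgroup.mem_centralizer_singleton_iff.mpr (Subgroup.mem_center_iff.mp hz g).symm
      have := Subgroup.card_dvd_of_le hz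
      rwa [Cfsg.Agent.Unitary.card_center_SU (card_eq_sq hF) (by norm_num),
        show Nat.gcd 6 (2 + 1) = 3 by decide] at this
    · haveI : Fact (Nat.Prime 7) := ⟨by norm_num⟩
      have h7 := orderOf_dvd_natCard (⟨g, Subgroup.mem_centralizer_singleton_iff.mpr rfl⟩ : ↥H)
      rwa [Subgroup.orderOf_mk, orderOf_eq_prime hg hg1] at h7
  obtain ⟨m, hm⟩ := h21
  rw [hm] at hdvd
  have hm3 : m ∣ 3 := (Nat.mul_dvd_mul_iff_left (show 0 < 21 by norm_num)).mp hdvd
  rcases (Nat.dvd_prime Nat.prime_three).mp hm3 with e | e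
  · rw [hm, e]
  exfalso
  -- an element of order nine would have determinant different from one
  haveI : Fact (Nat.Prime 3) := ⟨Nat.prime_three⟩
  subst e
  obtain ⟨P9, hP9⟩ : ∃ P9 : Sylow 3 ↥H, Nat.card (P9 : Subgroup ↥H) = 9 := by
    obtain ⟨P9⟩ : Nonempty (Sylow 3 ↥H) := Sylow.nonempty
    refine ⟨P9, ?_⟩
    obtain ⟨n, hn⟩ := IsPGroup.iff_card.mp P9.isPGroup'
    have h1 := Subgroup.card_subgroup_dvd_card (P9 : Subgroup ↥H)
    rw [hm, hn] at h1
    have h2 := Subgroup.card_mul_index (P9 : Subgroup ↥H)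
    rw [hm, hn] at h2
    have h3 := P9.not_dvd_index
    rcases n with _ | _ | _ | n
    · rw [pow_zero, one_mul] at h2; rw [h2] at h3; norm_num at h3
    · rw [show (P9 : Subgroup ↥H).index = 21 by omega] at h3; norm_num at h3
    · exact hn
    · have := (pow_dvd_pow 3 (show 3 ≤ n + 1 + 1 + 1 by omega)).trans h1
      norm_num at this
  obtain ⟨k, hk, hk3⟩ : ∃ k : ↥(Cfsg.SU 6 F 2), k ∈ H ∧ k ∉ Subgroup.center ↥(Cfsg.SU 6 F 2) ∧
      k ^ 9 = 1 := by
    by_contra hno
    simp only [not_exists, not_and] at hno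
    have hsub : (P9 : Subgroup ↥H).map H.subtype ≤ Subgroup.center ↥(Cfsg.SU 6 F 2) := by
      rintro _ ⟨q, hq, rfl⟩
      by_contra hc
      refine hno q q.2 hc ?_
      have : (⟨q, hq⟩ : ↥(P9 : Subgroup ↥H)) ^ Nat.card ↥(P9 : Subgroup ↥H) = 1 := pow_card_eq_one'
      rw [hP9] at this
      exact congrArg (fun t : ↥(P9 : Subgroup ↥H) => (t.1 : ↥(Cfsg.SU 6 F 2))) this
    have := Subgroup.card_dvd_of_le hsub
    rw [Subgroup.card_map_of_injective Subtype.val_injective, hP9,
      Cfsg.Agent.Unitary.card_center_SU (card_eq_sq hF) (by norm_num),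
      show Nat.gcd 6 (2 + 1) = 3 by decide] at this
    norm_num at this
  obtain ⟨hkc, hk9⟩ := hk3
  -- its cube is a scalar other than one
  have key : ∀ k ∈ H, k ^ 3 = 1 → k ∈ Subgroup.center ↥(Cfsg.SU 6 F 2) := by
    intro k hk hk3
    obtain ⟨v, hv, hv0⟩ := P.exists_mem_ne_zero_of_ne_bot (fun q => by
      rw [q, finrank_bot] at hP3; norm_num at hP3)
    obtain ⟨w, hw0, hw1, hw⟩ := exists_omega hF
    have hk1 : act k (act k (act k v)) = v := by
      rw [← act_mul, ← act_mul, show k * k * k = k ^ 3 by rw [pow_succ, pow_two], hk3, act_one]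
    -- one of three projections is an eigenvector
    obtain ⟨u, hu, hu0, t, ht0, hut⟩ :
        ∃ u ∈ P, u ≠ 0 ∧ ∃ t : F, t ≠ 0 ∧ act k u = t • u := by
      let pr : F → Vec F := fun t => v + t ^ 2 • act k v + t • act k (act k v)
      have hprP : ∀ t, pr t ∈ P := fun t => P.add_mem (P.add_mem hv (P.smul_mem _ (hHP k hk v hv)))
        (P.smul_mem _ (hHP k hk _ (hHP k hk v hv)))
      have hpr : ∀ t : F, t ≠ 0 → act k (pr t) = t • pr t := by
        intro t ht
        show act k (v + t ^ 2 • act k v + t • act k (act k v)) = _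
        rw [act_add, act_add, act_smul, act_smul, hk1, smul_add, smul_add, smul_smul, smul_smul,
          show t * t ^ 2 = 1 by rw [← pow_succ']; exact pow_three hF ht, one_smul,
          show t * t = t ^ 2 by ring]
        abel
      by_contra hno
      simp only [not_exists, not_and] at hno
      have z : ∀ t : F, t ≠ 0 → pr t = 0 := fun t ht => by
        by_contra hne
        exact hno _ (hprP t) hne t ht (hpr t ht)
      refine hv0 ?_
      have hw3 := pow_three hF hw0
      have hw2 : w ^ 2 ≠ 0 := pow_ne_zero _ hw0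
      have : pr 1 + pr w + pr (w ^ 2) = 0 := by rw [z 1 one_ne_zero, z w hw0, z _ hw2, add_zero, add_zero]
      calc v = (v + v + v) + (1 + w ^ 2 + (w ^ 2) ^ 2) • act k v +
            (1 + w + w ^ 2) • act k (act k v) := by
              rw [show (1 : F) + w ^ 2 + (w ^ 2) ^ 2 = 0 by linear_combination w * hw3 + hw,
                show (1 : F) + w + w ^ 2 = 0 by linear_combination hw, zero_smul, zero_smul,
                add_zero, add_zero, vec_add_self hF, zero_add]
        _ = 0 := by
              rw [← this]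
              show _ = v + (1 : F) ^ 2 • act k v + (1 : F) • act k (act k v) +
                (v + w ^ 2 • act k v + w • act k (act k v)) +
                (v + (w ^ 2) ^ 2 • act k v + w ^ 2 • act k (act k v))
              simp only [add_smul, one_smul, one_pow]
              abel
    obtain ⟨z, hz, hzs⟩ := scalar_center (hF := hF) (t := t ^ 2) (pow_ne_zero 2 ht0)
    have hzH : z * k ∈ H := mul_mem (Subgroup.mem_centralizer_singleton_iff.mpr
      (Subgroup.mem_center_iff.mp hz g).symm) hk
    have : z * k = 1 := hfree _ hzH u hu hu0 (by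
      rw [act_mul, hut, hzs, smul_smul, show t ^ 2 * t = 1 by rw [← pow_succ]; exact pow_three hF ht0,
        one_smul])
    rw [eq_inv_of_mul_eq_one_right this]
    exact inv_mem hz
  have hk3H : k ^ 3 ∈ H := pow_mem hk 3
  have hzc : k ^ 3 ∈ Subgroup.center ↥(Cfsg.SU 6 F 2) := key _ hk3H (by rw [← pow_mul]; exact hk9)
  obtain ⟨c, hc0, hc⟩ := central_scalar hF hzc
  have hc1 : c ≠ 1 := fun e => hkc (key k hk (act_ext fun x => by rw [hc, e, one_smul, act_one]))
  have hdet := det_cube_scalar hF (Module.finrank_fin_fun F) (actL k) hc0 hc1 (fun x => by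
    show act k (act k (act k x)) = c • x
    rw [← act_mul, ← act_mul, show k * k * k = k ^ 3 by rw [pow_succ, pow_two], hc])
  rw [show LinearMap.det (actL k) = 1 by
    rw [show actL k = Matrix.toLin' ((k : Matrix.SpecialLinearGroup (Fin 6) F) :
      Matrix (Fin 6) (Fin 6) F) from LinearMap.ext fun x => rfl, LinearMap.det_toLin']
    exact (k : Matrix.SpecialLinearGroup (Fin 6) F).det_coe] at hdet
  exact hc1 (sq_eq_one hF hdet.symm)

end Cfsg.Agent.H93
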