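import Cfsg.Agent.H93.Over23
import Cfsg.Agent.H93.Five22

/-!
Subgroups of order five in groups of type M(23): one or twenty one members are centralised.
-/

set_option autoImplicit false

namespace Cfsg.Agent.H93

namespace Geo23

variable {G : Type*} [Group G] {D : Set G} (h : Geo23 D) [Finite G] {X : Subgroup G}
  (hX : Nat.card X = 5)

include h hX

/-- some member is centralised -/
theorem five_nonempty {a : G} (ha : a ∈ D) : (fixSet D X).Nonempty := by
  haveI : Fact (Nat.Prime 5) := ⟨by norm_num⟩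
  have hm := fix_modEq (IsPGroup.of_card (p := 5) (n := 1) (by rw [hX, pow_one]) : IsPGroup 5 ↥X) D
    (fun z _ y hy => h.core.tt.conj_mem z y hy)
  rw [h.card_members ha] at hm
  refine Set.nonempty_iff_ne_empty.mpr fun e => ?_
  change fixSet D X = ∅ at e
  change 31671 ≡ (fixSet D X).ncard [MOD 5] at hm
  rw [e, Set.ncard_empty] at hm
  exact absurd hm (by decide)

/-- the centralised neighbours in the residue -/
theorem five_nb {d : G} (hd : d ∈ fixSet D X) :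
    fixSet D X ∩ nb D d = ∅ ∨ ((fixSet D X ∩ nb D d).ncard = 10 ∧
      ∀ f ∈ fixSet D X ∩ nb D d, (fixSet D X ∩ nb D d ∩ nb D f).ncard = 3 ∧
        ∀ e ∈ fixSet D X ∩ nb D d, ¬ Commute f e →
          ∃ g, g ∈ fixSet D X ∩ nb D d ∩ (nb D f ∩ nb D e)) := by
  classical
  by_cases hemp : fixSet D X ∩ nb D d = ∅
  · exact Or.inl hemp
  refine Or.inr ?_
  obtain ⟨hdD, hXd⟩ := mem_fix.mp hd
  have hle : X ≤ Subgroup.centralizer ({d} : Set G) := fun x hx =>
    Subgroup.mem_centralizer_singleton_iff.mpr (hXd x hx).eq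
  have hodd : Odd (Nat.card X) := by rw [hX]; decide
  obtain ⟨K, iK, iKF, h22⟩ := h.res d hdD
  have hX' : Nat.card ↥(resImage D d X) = 5 := (h.over_card hdD hle hodd).trans hX
  set N := fixSet D X ∩ nb D d
  set M := fixSet (resSet D d) (resImage D d X) with hM
  have hbij : Set.BijOn (rimg D d) N M := by
    refine ⟨fun y hy => ⟨rimg_mem hy.2, (h.over_fixed hdD hle hodd hy.2).mp (mem_fix.mp hy.1).2⟩,
      fun y hy y' hy' e => (h.core.rimg_inj hdD hy.2 hy'.2).mp e, fun e he => ?_⟩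
    obtain ⟨y, hy, rfl⟩ := rimg_surj he.1
    exact ⟨y, ⟨mem_fix.mpr ⟨hy.1, (h.over_fixed hdD hle hodd hy).mpr he.2⟩, hy⟩, rfl⟩
  obtain ⟨p, hp⟩ := Set.nonempty_iff_ne_empty.mpr hemp
  refine ⟨hbij.ncard_eq.trans (h22.five_ten hX' ⟨_, hbij.1 hp⟩), fun f hf => ⟨?_, fun e he hn => ?_⟩⟩
  · rw [← (h22.five_three hX' (hbij.1 hf)).1]
    refine Set.BijOn.ncard_eq (f := rimg D d)
      ⟨fun y hy => ⟨hbij.1 hy.1, h.core.rimg_nb hdD hf.2 ⟨hy.1.2, hy.2⟩⟩,
        fun y hy y' hy' e => hbij.2.1 hy.1 hy'.1 e, fun e he => ?_⟩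
    obtain ⟨y, hy, rfl⟩ := hbij.2.2 he.1
    refine ⟨y, ⟨hy, ?_⟩, rfl⟩
    exact ⟨hy.2.1, fun q => he.2.2.1 (by rw [q]), (h.core.rimg_comm hf.2 hy.2).mp he.2.2.2⟩
  · have hc := h22.five_common hX' (hbij.1 hf) (hbij.1 he) fun c => hn ((h.core.rimg_comm hf.2 he.2).mp c)
    obtain ⟨g', hg'⟩ : (fixSet (resSet D d) (resImage D d X) ∩
        common (resSet D d) (rimg D d f) (rimg D d e)).Nonempty := by
      refine Set.nonempty_iff_ne_empty.mpr fun q => ?_
      rw [q, Set.ncard_empty] at hc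
      exact absurd hc (by decide)
    obtain ⟨g, hg, rfl⟩ := hbij.2.2 hg'.1
    exact ⟨g, hg, (h.res_common hdD hf.2 he.2 hg.2).mp hg'.2⟩

/-- centralised members that do not commute have a centralised common neighbour -/
theorem five_common {d e : G} (hd : d ∈ fixSet D X) (he : e ∈ fixSet D X) (hn : ¬ Commute d e) :
    (fixSet D X ∩ common D d e).ncard % 5 = 1 := by
  haveI : Fact (Nat.Prime 5) := ⟨by norm_num⟩
  obtain ⟨hdD, hXd⟩ := mem_fix.mp hd
  obtain ⟨heD, hXe⟩ := mem_fix.mp he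
  have hm := fix_modEq (IsPGroup.of_card (p := 5) (n := 1) (by rw [hX, pow_one]) : IsPGroup 5 ↥X)
    (common D d e) (fun z hz y hy => by
      have h1 := h.core.tt.nb_conj z hy.1
      have h2 := h.core.tt.nb_conj z hy.2
      rw [show z * d * z⁻¹ = d from mul_inv_eq_iff_eq_mul.mpr (hXd z hz).eq] at h1
      rw [show z * e * z⁻¹ = e from mul_inv_eq_iff_eq_mul.mpr (hXe z hz).eq] at h2
      exact ⟨h1, h2⟩)
  rw [h.card_common hdD heD hn,
    show common D d e ∩ (Subgroup.centralizer (X : Set G) : Set G) = fixSet D X ∩ common D d e from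
      Set.ext fun y => ⟨fun ⟨a, b⟩ => ⟨⟨a.1.1, b⟩, a⟩, fun ⟨a, b⟩ => ⟨b, a.2⟩⟩] at hm
  exact hm.symm

/-- one member or twenty one -/
theorem five_cases {d : G} (hd : d ∈ fixSet D X) :
    fixSet D X = {d} ∨ ((fixSet D X).ncard = 21 ∧
      ∀ e ∈ fixSet D X, (fixSet D X ∩ nb D e).ncard = 10) := by
  classical
  have lonely : ∀ a ∈ fixSet D X, fixSet D X ∩ nb D a = ∅ → fixSet D X = {a} := by
    intro a ha hemp
    refine Set.eq_singleton_iff_unique_mem.mpr ⟨ha, fun y hy => by_contra fun hne => ?_⟩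
    by_cases c : Commute a y
    · exact Set.eq_empty_iff_forall_notMem.mp hemp y ⟨hy, hy.1, hne, c⟩
    · have hc := h.five_common hX ha hy c
      rw [show fixSet D X ∩ common D a y = ∅ from Set.eq_empty_iff_forall_notMem.mpr fun z hz =>
        Set.eq_empty_iff_forall_notMem.mp hemp z ⟨hz.1, hz.2.1⟩, Set.ncard_empty] at hc
      exact absurd hc (by decide)
  by_cases hs : fixSet D X = {d}
  · exact Or.inl hs
  refine Or.inr ?_
  have hten : ∀ a ∈ fixSet D X, (fixSet D X ∩ nb D a).ncard = 10 ∧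
      ∀ f ∈ fixSet D X ∩ nb D a, (fixSet D X ∩ nb D a ∩ nb D f).ncard = 3 ∧
        ∀ e ∈ fixSet D X ∩ nb D a, ¬ Commute f e →
          ∃ g, g ∈ fixSet D X ∩ nb D a ∩ (nb D f ∩ nb D e) := by
    intro a ha
    refine (h.five_nb hX ha).resolve_left fun hemp => hs ?_
    have := lonely a ha hemp
    rw [this] at hd ⊢
    rw [Set.mem_singleton_iff.mp hd]
  refine ⟨?_, fun a ha => (hten a ha).1⟩
  set Φ := fixSet D X
  set N := Φ ∩ nb D d with hN
  set F := {e | e ∈ Φ ∧ ¬ Commute d e} with hF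
  have e10 : N.ncard = 10 := (hten d hd).1
  have key := count_edges N F (fun f e => e ∈ nb D f) (k := 6) (m := 6) (fun f hf => ?_) (fun e he => ?_)
  · have hsplit : Φ = insert d (N ∪ F) := Set.ext fun y => ⟨fun hy => by
        by_cases e : y = d
        · exact Or.inl e
        by_cases c : Commute d y
        · exact Or.inr (Or.inl ⟨hy, hy.1, e, c⟩)
        · exact Or.inr (Or.inr ⟨hy, c⟩), by
      rintro (rfl | q | q)
      exacts [hd, q.1, q.1]⟩
    rw [hsplit, Set.ncard_insert_of_notMem, Set.ncard_union_eq, e10]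
    · omega
    · exact Set.disjoint_left.mpr fun y hy hy' => hy'.2 hy.2.2.2
    · rintro (q | q)
      exacts [q.2.2.1 rfl, q.2 (Commute.refl d)]
  · have hdf : d ∈ Φ ∩ nb D f := ⟨hd, nb_symm hd.1 hf.2⟩
    have h3 : (N ∩ nb D f).ncard = 3 := ((hten d hd).2 f hf).1
    have hf10 : (Φ ∩ nb D f).ncard = 10 := (hten f hf.1).1
    have hsub : insert d (N ∩ nb D f) ⊆ Φ ∩ nb D f := by
      rintro y (rfl | q)
      exacts [hdf, ⟨q.1.1, q.2⟩]
    rw [show {e | e ∈ F ∧ e ∈ nb D f} = (Φ ∩ nb D f) \ insert d (N ∩ nb D f) from Set.ext fun y =>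
      ⟨fun ⟨a, b⟩ => ⟨⟨a.1, b⟩, by
        rintro (rfl | q)
        exacts [a.2 (Commute.refl _), a.2 q.1.2.2.2]⟩,
        fun ⟨a, b⟩ => ⟨⟨a.1, fun c => b (by
          by_cases q : y = d
          · exact Or.inl q
          · exact Or.inr ⟨⟨a.1, a.1.1, q, c⟩, a.2⟩)⟩, a.2⟩⟩,
      Set.ncard_sdiff hsub, Set.ncard_insert_of_notMem (fun q => q.1.2.2.1 rfl), hf10, h3]
  · have hc := h.five_common hX hd he.1 he.2
    change (Φ ∩ common D d e).ncard % 5 = 1 at hc
    obtain ⟨f, hf⟩ : (Φ ∩ common D d e).Nonempty := by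
      refine Set.nonempty_iff_ne_empty.mpr fun q => ?_
      rw [q, Set.ncard_empty] at hc
      exact absurd hc (by decide)
    obtain ⟨g, ⟨⟨hgΦ, hgf⟩, hgd, hge⟩⟩ := ((hten f hf.1).2 d ⟨hd, nb_symm hd.1 hf.2.1⟩).2 e
      ⟨he.1, nb_symm he.1.1 hf.2.2⟩ he.2
    have h2 : 1 < (Φ ∩ common D d e).ncard := (Set.one_lt_ncard (Set.toFinite _)).mpr
      ⟨f, hf, g, ⟨hgΦ, hgd, hge⟩, fun q => hgf.2.1 q.symm⟩
    have hle : Φ ∩ common D d e ⊆ N := fun y hy => ⟨hy.1, hy.2.1⟩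
    have hle' := Set.ncard_le_ncard hle (Set.toFinite _)
    rw [show {f | f ∈ N ∧ e ∈ nb D f} = Φ ∩ common D d e from Set.ext fun y =>
      ⟨fun ⟨a, b⟩ => ⟨a.1, a.2, nb_symm a.1.1 b⟩, fun ⟨a, b⟩ => ⟨⟨a, b.1⟩, nb_symm he.1.1 b.2⟩⟩]
    show (Φ ∩ common D d e).ncard = 6
    omega

end Geo23

end Cfsg.Agent.H93
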