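import Cfsg.Agent.H93.Invol23
import Cfsg.Agent.H93.Five23
import Cfsg.Agent.H93.Thirteen23

/-!
Subgroups of order seventeen and twenty three in groups of type M(23) are self centralised.
-/

set_option autoImplicit false

namespace Cfsg.Agent.H93

theorem card_group23_factor :
    31671 * (2 * 3510 * 18393661440) = 3 ^ 13 * 17 * 23 * (2 ^ 18 * 5 ^ 2 * 7 * 11 * 13) := by norm_num

theorem prime_pow_cases {p a : ℕ} (hp : p.Prime) {n : ℕ} (hn : n ∣ 3 ^ a * p) :
    ∃ b ≤ a, ∃ c ≤ 1, n = 3 ^ b * p ^ c := by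
  obtain ⟨u, v, hu, hv, rfl⟩ := Nat.dvd_mul.mp hn
  obtain ⟨b, hb, rfl⟩ := (Nat.dvd_prime_pow Nat.prime_three).mp hu
  obtain ⟨c, hc, rfl⟩ := (Nat.dvd_prime_pow hp).mp (show v ∣ p ^ 1 by rwa [pow_one])
  exact ⟨b, hb, c, hc, rfl⟩

theorem count_seventeen : ∀ d < 352, 351 % d = 0 → d % 17 = 1 → d = 1 := by decide +kernel

theorem count_twenty_three_aux : ∀ i < 4, ∀ j < 2, ∀ k < 2,
    (3 ^ i * 13 ^ j * 17 ^ k) % 23 = 1 → 3 ^ i * 13 ^ j * 17 ^ k = 1 := by decide +kernel

theorem count_twenty_three {d : ℕ} (hd : d ∣ 3 ^ 3 * 13 * 17) (h : d % 23 = 1) : d = 1 := by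
  obtain ⟨y, z, hy, hz, rfl⟩ := Nat.dvd_mul.mp hd
  obtain ⟨i, hi, j, hj, rfl⟩ := prime_pow_cases (by norm_num : Nat.Prime 13) hy
  obtain ⟨k, hk, rfl⟩ := (Nat.dvd_prime_pow (by norm_num : Nat.Prime 17)).mp
    (show z ∣ 17 ^ 1 by rwa [pow_one])
  exact count_twenty_three_aux i (by omega) j (by omega) k (by omega) h

/-- the test on the shape of the normaliser in order twenty three -/
def normTwentyThree (e b c : ℕ) : Bool :=
  !(decide ((31671 * (2 * 3510 * 18393661440)) % (e * (23 * (3 ^ b * 17 ^ c))) = 0) && decide (22 % e = 0) &&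
    decide (e ≠ 1) && decide ((31671 * (2 * 3510 * 18393661440)) / (e * (23 * (3 ^ b * 17 ^ c))) % 23 = 1) &&
    (decide (e % 11 ≠ 0) || decide ((23 * (3 ^ b * 17 ^ c)) % 11 = 1))) ||
  decide (e = 11 ∧ b = 0 ∧ c = 0) || decide (e = 2 ∧ c = 1 ∧ (b = 0 ∨ b = 11))

theorem norm_twenty_three_aux : ∀ e < 23, ∀ b < 14, ∀ c < 2, normTwentyThree e b c = true := by
  decide +kernel

theorem norm_twenty_three (e : ℕ) (he : e < 23) (b : ℕ) (hb : b < 14) (c : ℕ) (hc : c < 2)
    (h1 : (31671 * (2 * 3510 * 18393661440)) % (e * (23 * (3 ^ b * 17 ^ c))) = 0) (h2 : 22 % e = 0)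
    (h3 : e ≠ 1)
    (h4 : (31671 * (2 * 3510 * 18393661440)) / (e * (23 * (3 ^ b * 17 ^ c))) % 23 = 1)
    (h5 : e % 11 = 0 → (23 * (3 ^ b * 17 ^ c)) % 11 = 1) :
    (e = 11 ∧ b = 0 ∧ c = 0) ∨ (e = 2 ∧ c = 1 ∧ (b = 0 ∨ b = 11)) := by
  have h := norm_twenty_three_aux e he b hb c hc
  simp only [normTwentyThree, Bool.or_eq_true, Bool.not_eq_true', Bool.and_eq_false_iff,
    Bool.or_eq_false_iff, decide_eq_false_iff_not, decide_eq_true_eq, not_not] at h
  tauto

set_option synthInstance.maxSize 4096 in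
theorem norm_seventeen : ∀ e < 17, ∀ b < 14,
    (31671 * (2 * 3510 * 18393661440)) % (e * (17 * 3 ^ b)) = 0 → 16 % e = 0 → e ≠ 1 →
    (31671 * (2 * 3510 * 18393661440)) / (e * (17 * 3 ^ b)) % 17 = 1 →
    (e = 16 ∧ b = 0) ∨ (e = 4 ∧ b = 12) ∨ (e = 2 ∧ b = 10) := by decide +kernel

theorem three_count : ∀ b < 14, 3 ^ b % 23 = 1 → b = 0 ∨ b = 11 := by decide +kernel

theorem norm_mixed : ∀ e < 17, 16 % e = 0 → 782 % (e * 391) = 0 →
    (31671 * (2 * 3510 * 18393661440)) / (e * 391) % 17 = 1 → False := by decide +kernel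

namespace Geo23

variable {G : Type*} [Group G] {D : Set G} (h : Geo23 D) [Finite G] {a : G} (ha : a ∈ D)

include h ha

/-- the small primes avoid the subgroups of orders seventeen and twenty three -/
theorem prime_free {p : ℕ} (hp : p = 17 ∨ p = 23) {X : Subgroup G} (hX : Nat.card X = p) :
    ∀ d ∈ D, ¬ ∀ x ∈ X, Commute x d := by
  intro d hd hc
  have hle : X ≤ Subgroup.centralizer ({d} : Set G) := fun x hx =>
    Subgroup.mem_centralizer_singleton_iff.mpr (hc x hx).eq
  have := Subgroup.card_dvd_of_le hle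
  rw [hX, h.card_member hd] at this
  rcases hp with rfl | rfl <;> norm_num at this

/-- a large 3-group permutes no small configuration of members -/
theorem three_group_small {Q : Subgroup G} {b : ℕ} (hQ : Nat.card Q = 3 ^ b) (hb : 10 ≤ b)
    (Φ : Set G) (hΦ : Φ ⊆ D) (hinv : ∀ g ∈ Q, ∀ y ∈ Φ, g * y * g⁻¹ ∈ Φ) (h9 : ¬ 9 ∣ Φ.ncard)
    (hcases : ∀ d ∈ Φ, Φ = {d} ∨ ¬ 3 ∣ (Φ ∩ nb D d).ncard) : False := by
  classical
  haveI : Fact (Nat.Prime 3) := ⟨by norm_num⟩
  obtain ⟨d, hd, hbig⟩ : ∃ d ∈ Φ, 3 ^ (b - 1) ∣ Nat.card ↥(Q ⊓ Subgroup.centralizer ({d} : Set G)) := by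
    by_contra hno
    simp only [not_exists, not_and] at hno
    refine h9 (dvd_of_orbits Q 9 Φ.ncard Φ le_rfl hinv fun d hd => ?_)
    have horb := card_orbit_conj Q ((fun q => q * d * q⁻¹) '' (Q : Set G)) (d := d)
      ⟨1, Q.one_mem, by simp⟩ (by
        rintro g hg _ ⟨q, hq, rfl⟩
        exact ⟨g * q, Q.mul_mem hg hq, by group⟩) (by
        rintro _ ⟨q, hq, rfl⟩
        exact ⟨q, hq, rfl⟩)
    rw [hQ] at horb
    obtain ⟨j, -, hj⟩ := (Nat.dvd_prime_pow Nat.prime_three).mp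
      (hQ ▸ Subgroup.card_dvd_of_le (inf_le_left : Q ⊓ Subgroup.centralizer ({d} : Set G) ≤ Q))
    rw [hj] at horb
    have hjb : j + 2 ≤ b := by
      by_contra q
      exact hno d hd (hj ▸ pow_dvd_pow 3 (by omega))
    obtain ⟨i, rfl⟩ := Nat.exists_eq_add_of_le hjb
    refine ⟨3 ^ i, Nat.eq_of_mul_eq_mul_right (show 0 < 3 ^ j by positivity) (horb.symm.trans ?_)⟩
    ring
  set S := Q ⊓ Subgroup.centralizer ({d} : Set G) with hS
  have h39 : 3 ^ 9 ∣ Nat.card ↥S := (pow_dvd_pow 3 (by omega)).trans hbig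
  have hfixd : ∀ g ∈ S, g * d * g⁻¹ = d := fun g hg =>
    mul_inv_eq_iff_eq_mul.mpr (Subgroup.mem_centralizer_singleton_iff.mp hg.2)
  rcases hcases d hd with e | e
  · have hle : Q ≤ Subgroup.centralizer ({d} : Set G) := fun g hg => by
      have hg' := hinv g hg d hd
      rw [e, Set.mem_singleton_iff] at hg'
      exact Subgroup.mem_centralizer_singleton_iff.mpr (mul_inv_eq_iff_eq_mul.mp hg')
    have h10 : 3 ^ 10 ∣ 2 * 3510 * 18393661440 := (h.card_member (hΦ hd)) ▸
      ((pow_dvd_pow 3 hb).trans (hQ ▸ Subgroup.card_dvd_of_le hle))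
    norm_num at h10
  · have hp : IsPGroup 3 ↥S := by
      obtain ⟨j, -, hj⟩ := (Nat.dvd_prime_pow Nat.prime_three).mp
        (hQ ▸ Subgroup.card_dvd_of_le (inf_le_left : S ≤ Q))
      exact IsPGroup.of_card hj
    have hm := fix_modEq hp (Φ ∩ nb D d) fun g hg y hy => ⟨hinv g hg.1 y hy.1, by
      have := h.core.tt.nb_conj g hy.2
      rwa [hfixd g hg] at this⟩
    obtain ⟨f, hf⟩ : (Φ ∩ nb D d ∩ (Subgroup.centralizer (S : Set G) : Set G)).Nonempty := by
      refine Set.nonempty_iff_ne_empty.mpr fun q => e ?_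
      rw [q, Set.ncard_empty] at hm
      exact Nat.modEq_zero_iff_dvd.mp hm
    have hle : S ≤ Subgroup.centralizer ({d, f} : Set G) := fun g hg => by
      refine Subgroup.mem_centralizer_iff.mpr ?_
      rintro t (rfl | rfl)
      · exact (Subgroup.mem_centralizer_singleton_iff.mp hg.2).symm
      · exact ((mem_fix.mp hf).2 g hg).symm.eq
    have h9' : 3 ^ 9 ∣ 2 * 18393661440 := (h.card_commuting_pair (hΦ hd) hf.1.2) ▸
      (h39.trans (Subgroup.card_dvd_of_le hle))
    norm_num at h9'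

omit ha in
/-- the configuration of a subgroup of order five -/
theorem five_small {Z : Subgroup G} (hZ : Nat.card Z = 5) {d : G} (hd : d ∈ fixSet D Z) :
    ((fixSet D Z).ncard = 1 ∨ (fixSet D Z).ncard = 21) ∧
      ∀ e ∈ fixSet D Z, fixSet D Z = {e} ∨ ¬ 3 ∣ (fixSet D Z ∩ nb D e).ncard := by
  rcases h.five_cases hZ hd with e | ⟨e, e'⟩
  · refine ⟨Or.inl (by rw [e, Set.ncard_singleton]), fun y hy => Or.inl ?_⟩
    rw [e, Set.mem_singleton_iff] at hy
    rw [hy, e]
  · exact ⟨Or.inr e, fun y hy => Or.inr (by rw [e' y hy]; norm_num)⟩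

variable (hM : M23Data D)

include hM

/-- what centralises a large 3-group -/
theorem three_group_cent {Q : Subgroup G} {b : ℕ} (hQ : Nat.card Q = 3 ^ b) (hb : 10 ≤ b) {q : ℕ}
    (hq : q = 2 ∨ q = 5 ∨ q = 7 ∨ q = 11) : ¬ q ∣ Nat.card ↥(Subgroup.centralizer (Q : Set G)) := by
  intro hdvd
  haveI : Fact q.Prime := ⟨by rcases hq with rfl | rfl | rfl | rfl <;> norm_num⟩
  obtain ⟨z, hz, hzq, hcard⟩ := exists_zpowers_of_dvd hdvd
  have hle : Q ≤ Subgroup.centralizer (Subgroup.zpowers z : Set G) := zpowers_cent.mp hz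
  have hbig : 3 ^ 10 ∣ Nat.card ↥(Subgroup.normalizer (Subgroup.zpowers z : Set G)) :=
    (pow_dvd_pow 3 hb).trans (hQ ▸ Subgroup.card_dvd_of_le (hle.trans Geo22.cent_le_normalizer))
  rcases hq with rfl | rfl | rfl | rfl
  · have hz1 : z ≠ 1 := fun e => by simp [e, Subgroup.zpowers_one_eq_bot] at hcard
    obtain ⟨Φ, hΦ, h1, h3, hcom, hinv⟩ := hM.invol_set h (by rw [← pow_two]; exact hzq) hz1
    refine h.three_group_small ha hQ hb Φ hΦ (fun g hg y hy =>
      hinv g (Subgroup.mem_centralizer_iff.mp (hle hg) z (Subgroup.mem_zpowers z)).symm y hy)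
      (fun c => by have := Nat.le_of_dvd (by omega) c; omega) fun d hd => ?_
    rw [show Φ ∩ nb D d = Φ \ {d} from Set.ext fun y => ⟨fun hy => ⟨hy.1, hy.2.2.1⟩,
      fun hy => ⟨hy.1, hΦ hy.1, hy.2, hcom d hd y hy.1⟩⟩]
    by_cases e : Φ = {d}
    · exact Or.inl e
    refine Or.inr ?_
    rw [Set.ncard_sdiff (Set.singleton_subset_iff.mpr hd), Set.ncard_singleton]
    have h2 : 2 ≤ Φ.ncard := by
      by_contra q
      exact e ((Set.eq_singleton_iff_unique_mem).mpr ⟨hd, fun y hy =>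
        Set.ncard_le_one_iff (Set.toFinite Φ) |>.mp (by omega) hy hd⟩)
    omega
  · obtain ⟨d, hd⟩ := h.five_nonempty hcard ha
    obtain ⟨hc, hc'⟩ := h.five_small hcard hd
    refine h.three_group_small ha hQ hb _ Set.inter_subset_left (fun g hg y hy =>
      h.fixed_conj (Geo22.cent_le_normalizer (hle hg)) hy) (by rcases hc with e | e <;> rw [e] <;> norm_num) hc'
  · rw [h.seven_norm hcard] at hbig; norm_num at hbig
  · rw [(h.eleven_norm hcard).2] at hbig; norm_num at hbig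

/-- the centraliser of a subgroup of order seventeen or twenty three -/
theorem prime_cent {p : ℕ} (hp : p = 17 ∨ p = 23) {X : Subgroup G} (hX : Nat.card X = p) :
    Nat.card ↥(Subgroup.centralizer (X : Set G)) ∣ 3 ^ 13 * 17 * 23 := by
  have hdiv := Subgroup.card_subgroup_dvd_card (Subgroup.centralizer (X : Set G))
  rw [h.card_group ha, card_group23_factor] at hdiv
  haveI : Fact p.Prime := ⟨by rcases hp with rfl | rfl <;> norm_num⟩
  have hno : ∀ q, q = 2 ∨ q = 5 ∨ q = 7 ∨ q = 11 ∨ q = 13 →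
      ¬ q ∣ Nat.card ↥(Subgroup.centralizer (X : Set G)) := by
    intro q hq hdvd
    haveI : Fact q.Prime := ⟨by rcases hq with rfl | rfl | rfl | rfl | rfl <;> norm_num⟩
    obtain ⟨z, hz, hzq, hcard⟩ := exists_zpowers_of_dvd hdvd
    have hle : X ≤ Subgroup.centralizer (Subgroup.zpowers z : Set G) := zpowers_cent.mp hz
    have hfree := h.prime_free ha hp hX
    have hXp : IsPGroup p ↥X := IsPGroup.of_card (n := 1) (by rw [hX, pow_one])
    have hbig : p ∣ Nat.card ↥(Subgroup.normalizer (Subgroup.zpowers z : Set G)) :=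
      hX ▸ Subgroup.card_dvd_of_le (hle.trans Geo22.cent_le_normalizer)
    rcases hq with rfl | rfl | rfl | rfl | rfl
    · have hz1 : z ≠ 1 := fun e => by simp [e, Subgroup.zpowers_one_eq_bot] at hcard
      obtain ⟨Φ, hΦ, h1, h3, -, hinv⟩ := hM.invol_set h (by rw [← pow_two]; exact hzq) hz1
      have := Nat.le_of_dvd (by omega) (fix_dvd hXp Φ (fun g hg y hy =>
        hinv g (Subgroup.mem_centralizer_iff.mp (hle hg) z (Subgroup.mem_zpowers z)).symm y hy)
        fun y hy => hfree y (hΦ hy))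
      omega
    · obtain ⟨d, hd⟩ := h.five_nonempty hcard ha
      obtain ⟨hc, -⟩ := h.five_small hcard hd
      have hd' := fix_dvd hXp (fixSet D (Subgroup.zpowers z))
        (fun g hg y hy => h.fixed_conj (Geo22.cent_le_normalizer (hle hg)) hy) fun y hy => hfree y hy.1
      rcases hc with e | e <;> rcases hp with rfl | rfl <;> omega
    · rw [h.seven_norm hcard] at hbig; rcases hp with rfl | rfl <;> norm_num at hbig
    · rw [(h.eleven_norm hcard).2] at hbig; rcases hp with rfl | rfl <;> norm_num at hbig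
    · exact h.thirteen_free hcard hp hX hle hfree ha
  refine Nat.Coprime.dvd_of_dvd_mul_right ?_ hdiv
  exact Nat.Coprime.mul_right (Nat.Coprime.mul_right (Nat.Coprime.mul_right (Nat.Coprime.mul_right
    (coprime_of_no_prime (by norm_num) (hno 2 (by tauto)) 18)
    (coprime_of_no_prime (by norm_num) (hno 5 (by tauto)) 2))
    (pow_one 7 ▸ coprime_of_no_prime (by norm_num) (hno 7 (by tauto)) 1))
    (pow_one 11 ▸ coprime_of_no_prime (by norm_num) (hno 11 (by tauto)) 1))
    (pow_one 13 ▸ coprime_of_no_prime (by norm_num) (hno 13 (by tauto)) 1)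

/-- a large 3-group centralising a subgroup of order seventeen or twenty three is not maximal -/
theorem three_group_grow {p : ℕ} [Fact p.Prime] {X Q : Subgroup G} (hX : Nat.card X = p)
    (hp : p = 17 ∨ p = 23) {b : ℕ} (hQ : Nat.card Q = 3 ^ b) (hb : 10 ≤ b) (hb' : b ≤ 12)
    (hQX : Q ≤ Subgroup.centralizer (X : Set G))
    (hcount : ∀ n : ℕ, n * 3 ^ 10 ∣ Nat.card G → n % p = 1 →
      n ∣ Nat.card ↥(Subgroup.centralizer (Q : Set G)) → n = 1) :
    3 ^ (b + 1) ∣ Nat.card ↥(Subgroup.normalizer (X : Set G)) := by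
  classical
  haveI : Fact (Nat.Prime 3) := ⟨by norm_num⟩
  have hp2 : ¬ p ^ 2 ∣ Nat.card G := by
    rw [h.card_group ha]; rcases hp with rfl | rfl <;> norm_num
  set C := Subgroup.centralizer (Q : Set G) with hC
  have hXC : X ≤ C := fun x hx => Subgroup.mem_centralizer_iff.mpr fun g hg =>
    (Subgroup.mem_centralizer_iff.mp (hQX hg) x hx).symm
  have hXp : Nat.card ↥(X.subgroupOf C) = p := by
    rw [Nat.card_congr (Subgroup.subgroupOfEquivOfLe hXC).toEquiv, hX]
  have hpC : ¬ p ^ 2 ∣ Nat.card ↥C := fun q => hp2 (q.trans (Subgroup.card_subgroup_dvd_card C))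
  set M := Subgroup.normalizer ((X.subgroupOf C : Subgroup ↥C) : Set ↥C) with hMdef
  have hnmod : M.index % p = 1 := prime_index_mod hXp hpC
  -- the product with the 3-group
  let f : ↥C × ↥Q →* G := MonoidHom.noncommCoprod C.subtype Q.subtype
    fun c g => (Subgroup.mem_centralizer_iff.mp c.2 g.1 g.2).symm
  have hker : Nat.card ↥f.ker = Nat.card ↥((Q ⊓ C).subgroupOf C) := by
    refine Nat.card_eq_of_bijective (fun k => ⟨k.1.1, ?_⟩) ⟨fun k l e => ?_, fun z => ?_⟩
    · have e1 : k.1.1.1 * k.1.2.1 = 1 := k.2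
      exact ⟨by
        show k.1.1.1 ∈ Q
        rw [eq_inv_of_mul_eq_one_left e1]
        exact Q.inv_mem k.1.2.2, k.1.1.2⟩
    · have e1 : k.1.1.1 * k.1.2.1 = 1 := k.2
      have e2 : l.1.1.1 * l.1.2.1 = 1 := l.2
      have e3 : k.1.1.1 = l.1.1.1 := congrArg (fun t : ↥((Q ⊓ C).subgroupOf C) => t.1.1) e
      refine Subtype.ext (Prod.ext (Subtype.ext e3) (Subtype.ext ?_))
      rw [← e2, ← e3] at e1
      exact mul_left_cancel e1
    · exact ⟨⟨(z.1, ⟨z.1.1⁻¹, Q.inv_mem z.2.1⟩), mul_inv_cancel z.1.1⟩, rfl⟩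
  have hprod := Subgroup.card_mul_index f.ker
  rw [Subgroup.index_ker, Nat.card_prod, hQ, hker] at hprod
  have hZM : (Q ⊓ C).subgroupOf C ≤ M := fun z hz => Geo22.cent_le_normalizer
    (Subgroup.mem_centralizer_iff.mpr fun x hx => Subtype.ext
      (Subgroup.mem_centralizer_iff.mp (hQX hz.1) x.1 hx))
  obtain ⟨k, hk⟩ := Subgroup.card_dvd_of_le hZM
  have hMi := Subgroup.card_mul_index M
  have hn : M.index * 3 ^ b ∣ Nat.card G := by
    refine dvd_trans ⟨k, ?_⟩ (Subgroup.card_subgroup_dvd_card f.range)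
    have hpos : 0 < Nat.card ↥((Q ⊓ C).subgroupOf C) := Nat.card_pos
    refine Nat.eq_of_mul_eq_mul_left hpos ?_
    rw [hprod, ← hMi, hk]; ring
  have h1 := hcount M.index ((Nat.mul_dvd_mul_left _ (pow_dvd_pow 3 hb)).trans hn) hnmod
    (Dvd.intro_left _ hMi)
  have htop : M = ⊤ := Subgroup.index_eq_one.mp h1
  refine (Sylow.prime_pow_dvd_card_normalizer (p := 3) (n := b) ?_ hQ).trans (Subgroup.card_dvd_of_le ?_)
  · rw [h.card_group ha]
    exact (pow_dvd_pow 3 (show b + 1 ≤ 13 by omega)).trans (by norm_num)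
  · intro g hg
    have hmapC : X.map (MulAut.conj g).toMonoidHom ≤ C := by
      rintro _ ⟨x, hx, rfl⟩
      refine Subgroup.mem_centralizer_iff.mpr fun r hr => ?_
      have hr' : g⁻¹ * r * g ∈ Q := by
        have := (Subgroup.mem_normalizer_iff.mp (inv_mem hg) r).mp hr
        rwa [inv_inv] at this
      have hc : Commute x (g⁻¹ * r * g) := (Subgroup.mem_centralizer_iff.mp (hXC hx) _ hr').symm
      have := (commute_conj (g := g)).mpr hc
      rw [show g * (g⁻¹ * r * g) * g⁻¹ = r by group] at this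
      exact this.symm.eq
    obtain ⟨j, hj, ej⟩ := prime_conj_in hXC hmapC hX
      (by rw [Subgroup.card_map_of_injective (MulAut.conj g).injective, hX]) hpC
    have hjM : (⟨j, hj⟩ : ↥C) ∈ M := htop ▸ Subgroup.mem_top _
    have hjX : X.map (MulAut.conj j).toMonoidHom = X := by
      refine Subgroup.eq_of_le_of_card_ge ?_ (by rw [Subgroup.card_map_of_injective (MulAut.conj j).injective])
      rintro _ ⟨x, hx, rfl⟩
      exact (Subgroup.mem_normalizer_iff.mp hjM ⟨x, hXC hx⟩).mp hx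
    rw [hjX] at ej
    refine Subgroup.mem_normalizer_iff.mpr fun x => ?_
    constructor
    · intro hx
      have := Subgroup.mem_map_of_mem (MulAut.conj g).toMonoidHom hx
      rwa [← ej] at this
    · intro hx
      have hx' : g * x * g⁻¹ ∈ X.map (MulAut.conj g).toMonoidHom := by rw [← ej]; exact hx
      obtain ⟨x', hx', e'⟩ := hx'
      exact (mul_left_cancel (mul_right_cancel e') : x' = x) ▸ hx'

/-- a group containing only primes three, thirteen and one other gives few conjugates -/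
theorem count_dvd {Q : Subgroup G} {b : ℕ} (hQ : Nat.card Q = 3 ^ b) (hb : 10 ≤ b) {n p r : ℕ}
    (hpr : p = 17 ∧ r = 23 ∨ p = 23 ∧ r = 17) (hn : n * 3 ^ 10 ∣ Nat.card G) (hnp : n % p = 1)
    (hnC : n ∣ Nat.card ↥(Subgroup.centralizer (Q : Set G))) : n ∣ 3 ^ 3 * 13 * r := by
  rw [h.card_group ha, card_group23_factor,
    show 3 ^ 13 * 17 * 23 * (2 ^ 18 * 5 ^ 2 * 7 * 11 * 13) =
      (3 ^ 3 * 13 * r * (2 ^ 18 * 5 ^ 2 * 7 ^ 1 * 11 ^ 1 * p ^ 1)) * 3 ^ 10 by
      rcases hpr with ⟨rfl, rfl⟩ | ⟨rfl, rfl⟩ <;> norm_num] at hn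
  have hno : ∀ q, q = 2 ∨ q = 5 ∨ q = 7 ∨ q = 11 → ¬ q ∣ n := fun q hq c =>
    h.three_group_cent ha hM hQ hb hq (c.trans hnC)
  have hpn : ¬ p ∣ n := fun c => by rw [Nat.mod_eq_zero_of_dvd c] at hnp; omega
  refine Nat.Coprime.dvd_of_dvd_mul_right ?_ (Nat.dvd_of_mul_dvd_mul_right (by norm_num) hn)
  exact Nat.Coprime.mul_right (Nat.Coprime.mul_right (Nat.Coprime.mul_right (Nat.Coprime.mul_right
    (coprime_of_no_prime (by norm_num) (hno 2 (by tauto)) 18)
    (coprime_of_no_prime (by norm_num) (hno 5 (by tauto)) 2))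
    (coprime_of_no_prime (by norm_num) (hno 7 (by tauto)) 1))
    (coprime_of_no_prime (by norm_num) (hno 11 (by tauto)) 1))
    (coprime_of_no_prime (by rcases hpr with ⟨rfl, -⟩ | ⟨rfl, -⟩ <;> norm_num) hpn 1)

variable (hgen : Subgroup.closure D = ⊤)

include hgen

/-- order twenty three, up to one configuration -/
theorem twenty_three_cases {X : Subgroup G} (hX : Nat.card X = 23) :
    (Nat.card ↥(Subgroup.normalizer (X : Set G)) = 23 * 11 ∧
      Nat.card ↥(Subgroup.centralizer (X : Set G)) = 23) ∨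
    (Nat.card ↥(Subgroup.normalizer (X : Set G)) = 782 ∧
      Nat.card ↥(Subgroup.centralizer (X : Set G)) = 391) := by
  classical
  haveI : Fact (Nat.Prime 23) := ⟨by norm_num⟩
  haveI : Fact (Nat.Prime 3) := ⟨by norm_num⟩
  haveI : Fact (Nat.Prime 11) := ⟨by norm_num⟩
  have hp2 : ¬ 23 ^ 2 ∣ Nat.card G := by rw [h.card_group ha]; norm_num
  have hC := h.prime_cent ha hM (Or.inr rfl) hX
  have hXC : X ≤ Subgroup.centralizer (X : Set G) := by
    haveI := isCyclic_of_prime_card hX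
    letI := IsCyclic.commGroup (α := ↥X)
    exact fun x hx => Subgroup.mem_centralizer_iff.mpr fun y hy =>
      congrArg Subtype.val (mul_comm (⟨y, hy⟩ : ↥X) ⟨x, hx⟩)
  obtain ⟨k, hk⟩ : 23 ∣ Nat.card ↥(Subgroup.centralizer (X : Set G)) := hX ▸ Subgroup.card_dvd_of_le hXC
  have hk' : k ∣ 3 ^ 13 * 17 := Nat.dvd_of_mul_dvd_mul_left (show 0 < 23 by norm_num) (by
    rw [← hk, mul_comm 23]; exact hC)
  obtain ⟨b, hb, c, hc, rfl⟩ := prime_pow_cases (by norm_num : Nat.Prime 17) hk'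
  obtain ⟨e, he, hN⟩ := norm_div_cent hX
  rw [hk] at hN
  have hidx := prime_index_mod hX hp2
  have hmul := Subgroup.card_mul_index (Subgroup.normalizer (X : Set G))
  have hG := h.card_group ha
  have hdiv : (31671 * (2 * 3510 * 18393661440)) / (e * (23 * (3 ^ b * 17 ^ c))) =
      (Subgroup.normalizer (X : Set G)).index := by
    rw [← hG, ← hN, ← hmul, Nat.mul_div_cancel_left _ Nat.card_pos]
  have he1 : e ≠ 1 := fun q => norm_ne_cent hX hp2 (by norm_num) hgen
    (fun d hd => h.core.tt.sq d hd) (by rw [hN, hk, q, one_mul])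
  have h11 : e % 11 = 0 → (23 * (3 ^ b * 17 ^ c)) % 11 = 1 := by
    intro q
    obtain ⟨y, hy, -, hY⟩ := exists_zpowers_of_dvd (H := Subgroup.normalizer (X : Set G)) (q := 11)
      (hN ▸ Dvd.dvd.mul_right (Nat.dvd_of_mod_eq_zero q) _)
    have hm := fix_modEq (IsPGroup.of_card (p := 11) (n := 1) (by rw [hY, pow_one]) :
      IsPGroup 11 ↥(Subgroup.zpowers y)) (Subgroup.centralizer (X : Set G) : Set G) fun g hg t ht => by
        have hgN : g ∈ Subgroup.normalizer (X : Set G) := Subgroup.zpowers_le.mpr hy hg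
        refine Subgroup.mem_centralizer_iff.mpr fun x hx => ?_
        have hx' : g⁻¹ * x * g ∈ X := by
          have := (Subgroup.mem_normalizer_iff.mp (inv_mem hgN) x).mp hx
          rwa [inv_inv] at this
        have cc : Commute (g⁻¹ * x * g) t := Subgroup.mem_centralizer_iff.mp ht _ hx'
        have := (commute_conj (g := g)).mpr cc
        rw [show g * (g⁻¹ * x * g) * g⁻¹ = x by group] at this
        exact this.eq
    rw [← Subgroup.coe_inf, ← Nat.card_coe_set_eq, ← Nat.card_coe_set_eq] at hm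
    have e2 : Nat.card ↥(Subgroup.centralizer (X : Set G) ⊓
        Subgroup.centralizer (Subgroup.zpowers y : Set G)) = 1 :=
      Nat.eq_one_of_dvd_coprimes (show Nat.Coprime (3 ^ 13 * 17 * 23) 440 by norm_num)
        ((Subgroup.card_dvd_of_le inf_le_left).trans hC)
        ((h.eleven_norm hY).2 ▸ Subgroup.card_dvd_of_le (inf_le_right.trans Geo22.cent_le_normalizer))
    change Nat.card ↥(Subgroup.centralizer (X : Set G)) ≡ Nat.card ↥(Subgroup.centralizer (X : Set G) ⊓
        Subgroup.centralizer (Subgroup.zpowers y : Set G)) [MOD 11] at hm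
    rw [e2, hk] at hm
    exact hm
  rcases norm_twenty_three e (Nat.lt_succ_of_le (Nat.le_of_dvd (by norm_num) he)) b (by omega) c (by omega)
      (Nat.mod_eq_zero_of_dvd (hN ▸ hG ▸ Dvd.intro _ hmul)) (Nat.mod_eq_zero_of_dvd he) he1
      (hdiv ▸ hidx) h11 with ⟨rfl, rfl, rfl⟩ | ⟨rfl, rfl, rfl | rfl⟩
  · exact Or.inl ⟨by rw [hN]; norm_num, by rw [hk]; norm_num⟩
  · exact Or.inr ⟨by rw [hN]; norm_num, by rw [hk]; norm_num⟩
  · exfalso
    obtain ⟨Q0, hQ0⟩ := Sylow.exists_subgroup_card_pow_prime (G := ↥(Subgroup.centralizer (X : Set G))) 3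
      (n := 11) (hk ▸ by norm_num)
    have hQ : Nat.card ↥(Q0.map (Subgroup.centralizer (X : Set G)).subtype) = 3 ^ 11 := by
      rw [Subgroup.card_map_of_injective Subtype.val_injective, hQ0]
    have := h.three_group_grow ha hM hX (Or.inr rfl) hQ (by norm_num) (by norm_num)
      (by rintro _ ⟨q, -, rfl⟩; exact q.2) fun n hn hnp hnC => by
        have := h.count_dvd ha hM hQ (by norm_num) (Or.inr ⟨rfl, rfl⟩) hn hnp hnC
        exact count_twenty_three this hnp
    rw [hN] at this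
    norm_num at this

/-- order twenty three -/
theorem twenty_three {X : Subgroup G} (hX : Nat.card X = 23) :
    Nat.card ↥(Subgroup.normalizer (X : Set G)) = 23 * 11 ∧
      Nat.card ↥(Subgroup.centralizer (X : Set G)) = 23 := by
  classical
  rcases h.twenty_three_cases ha hM hgen hX with c | ⟨hN, hC⟩
  · exact c
  exfalso
  haveI : Fact (Nat.Prime 23) := ⟨by norm_num⟩
  haveI : Fact (Nat.Prime 17) := ⟨by norm_num⟩
  haveI : Fact (Nat.Prime 3) := ⟨by norm_num⟩
  obtain ⟨w, hw, -, hW⟩ := exists_zpowers_of_dvd (H := Subgroup.centralizer (X : Set G)) (q := 17)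
    (by rw [hC]; norm_num)
  set W := Subgroup.zpowers w
  set C := Subgroup.centralizer (W : Set G) with hCdef
  have hXC : X ≤ C := zpowers_cent.mp hw
  have hWC : W ≤ C := Subgroup.zpowers_le.mpr (Subgroup.mem_centralizer_iff.mpr fun t ht => by
    obtain ⟨n, rfl⟩ := ht
    exact ((Commute.refl w).zpow_left n).eq)
  have hdiv := h.prime_cent ha hM (Or.inl rfl) hW
  obtain ⟨k, hk⟩ : 391 ∣ Nat.card ↥C := Nat.Coprime.mul_dvd_of_dvd_of_dvd (m := 17) (n := 23)
    (by norm_num) (hW ▸ Subgroup.card_dvd_of_le hWC) (hX ▸ Subgroup.card_dvd_of_le hXC)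
  have hk' : k ∣ 3 ^ 13 := Nat.dvd_of_mul_dvd_mul_left (show 0 < 391 by norm_num) (by
    rw [← hk, show 391 * 3 ^ 13 = 3 ^ 13 * 17 * 23 by norm_num]; exact hdiv)
  obtain ⟨b, hb, rfl⟩ := (Nat.dvd_prime_pow Nat.prime_three).mp hk'
  have hp2 : ¬ 23 ^ 2 ∣ Nat.card G := by rw [h.card_group ha]; norm_num
  set X' := X.subgroupOf C
  have hX' : Nat.card ↥X' = 23 := by rw [Nat.card_congr (Subgroup.subgroupOfEquivOfLe hXC).toEquiv, hX]
  set M := Subgroup.normalizer (X' : Set ↥C) with hMdef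
  have hmod : M.index % 23 = 1 := prime_index_mod hX' fun q => hp2 (q.trans (Subgroup.card_subgroup_dvd_card C))
  have hMc : Nat.card ↥M = 391 := by
    refine Nat.dvd_antisymm ?_ ?_
    · have h1 : Nat.card ↥M ∣ 782 := by
        rw [← hN, ← Subgroup.card_map_of_injective (f := C.subtype) Subtype.val_injective]
        refine Subgroup.card_dvd_of_le ?_
        rintro _ ⟨g, hg, rfl⟩
        refine Subgroup.mem_normalizer_iff.mpr fun x => ⟨fun hx =>
          (Subgroup.mem_normalizer_iff.mp hg ⟨x, hXC hx⟩).mp hx, fun hx => ?_⟩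
        have hxC : x ∈ C := by
          have := C.mul_mem (C.mul_mem (C.inv_mem g.2) (hXC hx)) g.2
          rwa [show (g : G)⁻¹ * (C.subtype g * x * (C.subtype g)⁻¹) * (g : G) = x by
            simp only [Subgroup.coe_subtype]; group] at this
        exact (Subgroup.mem_normalizer_iff.mp hg ⟨x, hxC⟩).mpr hx
      have h2 : Nat.card ↥M ∣ 3 ^ 13 * 17 * 23 := (Subgroup.card_subgroup_dvd_card M).trans hdiv
      exact (Nat.dvd_gcd h1 h2).trans (by norm_num)
    · refine Nat.Coprime.mul_dvd_of_dvd_of_dvd (m := 17) (n := 23) (by norm_num) ?_ ?_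
      · have hle : W.subgroupOf C ≤ M := fun g hg => Geo22.cent_le_normalizer
          (Subgroup.mem_centralizer_iff.mpr fun x hx => Subtype.ext
            (Subgroup.mem_centralizer_iff.mp (hXC hx) g.1 hg).symm)
        have := Subgroup.card_dvd_of_le hle
        rwa [Nat.card_congr (Subgroup.subgroupOfEquivOfLe hWC).toEquiv, hW] at this
      · exact hX' ▸ Subgroup.card_dvd_of_le Subgroup.le_normalizer
  have hidx := Subgroup.card_mul_index M
  rw [hMc, hk] at hidx
  rw [Nat.eq_of_mul_eq_mul_left (by norm_num) hidx] at hmod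
  obtain ⟨e, he, heN⟩ := norm_div_cent hW
  rcases three_count b (by omega) hmod with rfl | rfl
  · have htop : M = ⊤ := Subgroup.eq_top_of_card_eq _ (by rw [hMc, hk]; norm_num)
    have hle : Subgroup.normalizer (W : Set G) ≤ Subgroup.normalizer (X : Set G) := by
      intro g hg
      have hmapC : X.map (MulAut.conj g).toMonoidHom ≤ C := by
        rintro _ ⟨x, hx, rfl⟩
        refine Subgroup.mem_centralizer_iff.mpr fun r hr => ?_
        have hr' : g⁻¹ * r * g ∈ W := by
          have := (Subgroup.mem_normalizer_iff.mp (inv_mem hg) r).mp hr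
          rwa [inv_inv] at this
        have hc : Commute x (g⁻¹ * r * g) := (Subgroup.mem_centralizer_iff.mp (hXC hx) _ hr').symm
        have := (commute_conj (g := g)).mpr hc
        rw [show g * (g⁻¹ * r * g) * g⁻¹ = r by group] at this
        exact this.symm.eq
      obtain ⟨j, hj, ej⟩ := prime_conj_in hXC hmapC hX
        (by rw [Subgroup.card_map_of_injective (MulAut.conj g).injective, hX])
        fun q => hp2 (q.trans (Subgroup.card_subgroup_dvd_card C))
      have hjM : (⟨j, hj⟩ : ↥C) ∈ M := htop ▸ Subgroup.mem_top _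
      have hjX : X.map (MulAut.conj j).toMonoidHom = X := by
        refine Subgroup.eq_of_le_of_card_ge ?_ (by rw [Subgroup.card_map_of_injective (MulAut.conj j).injective])
        rintro _ ⟨x, hx, rfl⟩
        exact (Subgroup.mem_normalizer_iff.mp hjM ⟨x, hXC hx⟩).mp hx
      rw [hjX] at ej
      refine Subgroup.mem_normalizer_iff.mpr fun x => ⟨fun hx => ?_, fun hx => ?_⟩
      · have := Subgroup.mem_map_of_mem (MulAut.conj g).toMonoidHom hx
        rwa [← ej] at this
      · have hx' : g * x * g⁻¹ ∈ X.map (MulAut.conj g).toMonoidHom := by rw [← ej]; exact hx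
        obtain ⟨x', hx', e'⟩ := hx'
        exact (mul_left_cancel (mul_right_cancel e') : x' = x) ▸ hx'
    have h1 := Subgroup.card_dvd_of_le hle
    rw [hN, heN, hk, pow_zero, mul_one] at h1
    have hWp2 : ¬ 17 ^ 2 ∣ Nat.card G := by rw [h.card_group ha]; norm_num
    have hidxW := prime_index_mod hW hWp2
    have hmulW := Subgroup.card_mul_index (Subgroup.normalizer (W : Set G))
    rw [heN, hk, pow_zero, mul_one] at hmulW
    have hpos : 0 < e * 391 := Nat.mul_pos (Nat.pos_of_ne_zero fun q => by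
      rw [q] at he; norm_num at he) (by norm_num)
    refine norm_mixed e (Nat.lt_succ_of_le (Nat.le_of_dvd (by norm_num) he)) (Nat.mod_eq_zero_of_dvd he)
      (Nat.mod_eq_zero_of_dvd h1) ?_
    rw [← h.card_group ha, ← hmulW, Nat.mul_div_cancel_left _ hpos]
    exact hidxW
  · obtain ⟨Q0, hQ0⟩ := Sylow.exists_subgroup_card_pow_prime (G := ↥C) 3 (n := 11) (hk ▸ Dvd.intro_left _ rfl)
    have hQ : Nat.card ↥(Q0.map C.subtype) = 3 ^ 11 := by
      rw [Subgroup.card_map_of_injective Subtype.val_injective, hQ0]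
    have := h.three_group_grow ha hM hW (Or.inl rfl) hQ (by norm_num) (by norm_num)
      (by rintro _ ⟨q, -, rfl⟩; exact q.2) fun n hn hnp hnC => by
        have hd := h.count_dvd ha hM hQ (by norm_num) (Or.inl ⟨rfl, rfl⟩) hn hnp hnC
        have h23 : ¬ 23 ∣ n := by
          intro q
          obtain ⟨z, hz, -, hZ⟩ := exists_zpowers_of_dvd (q.trans hnC)
          have hle := Subgroup.card_dvd_of_le (zpowers_cent.mp hz)
          rw [hQ] at hle
          rcases h.twenty_three_cases ha hM hgen hZ with ⟨-, e'⟩ | ⟨-, e'⟩ <;>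
            rw [e'] at hle <;> norm_num at hle
        have hd' : n ∣ 3 ^ 3 * 13 := Nat.Coprime.dvd_of_dvd_mul_right
          ((Nat.Prime.coprime_iff_not_dvd (by norm_num)).mpr h23).symm hd
        exact count_seventeen n (Nat.lt_succ_of_le (Nat.le_of_dvd (by norm_num) hd'))
          (Nat.mod_eq_zero_of_dvd hd') hnp
    rw [heN, hk] at this
    have he16 : e ∣ 16 := he
    have h3e : Nat.Coprime (3 ^ 12) e :=
      Nat.Coprime.coprime_dvd_right he16 (by norm_num)
    have := h3e.dvd_of_dvd_mul_left this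
    norm_num at this

/-- order seventeen -/
theorem seventeen {X : Subgroup G} (hX : Nat.card X = 17) :
    Nat.card ↥(Subgroup.normalizer (X : Set G)) = 17 * 16 ∧
      Nat.card ↥(Subgroup.centralizer (X : Set G)) = 17 := by
  classical
  haveI : Fact (Nat.Prime 17) := ⟨by norm_num⟩
  haveI : Fact (Nat.Prime 3) := ⟨by norm_num⟩
  haveI : Fact (Nat.Prime 23) := ⟨by norm_num⟩
  have hp2 : ¬ 17 ^ 2 ∣ Nat.card G := by rw [h.card_group ha]; norm_num
  have h23 : ∀ {Y : Subgroup G}, (∀ Z : Subgroup G, Nat.card Z = 23 → Y ≤ Subgroup.centralizer (Z : Set G) →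
      Nat.card Y ∣ 23) := fun {Y} Z hZ hle => (h.twenty_three ha hM hgen hZ).2 ▸ Subgroup.card_dvd_of_le hle
  have hC := h.prime_cent ha hM (Or.inl rfl) hX
  have hno : ¬ 23 ∣ Nat.card ↥(Subgroup.centralizer (X : Set G)) := by
    intro q
    obtain ⟨z, hz, -, hZ⟩ := exists_zpowers_of_dvd q
    have := h23 _ hZ (zpowers_cent.mp hz)
    rw [hX] at this
    norm_num at this
  have hXC : X ≤ Subgroup.centralizer (X : Set G) := by
    haveI := isCyclic_of_prime_card hX
    letI := IsCyclic.commGroup (α := ↥X)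
    exact fun x hx => Subgroup.mem_centralizer_iff.mpr fun y hy =>
      congrArg Subtype.val (mul_comm (⟨y, hy⟩ : ↥X) ⟨x, hx⟩)
  have hC' : Nat.card ↥(Subgroup.centralizer (X : Set G)) ∣ 3 ^ 13 * 17 := Nat.Coprime.dvd_of_dvd_mul_right
    ((Nat.Prime.coprime_iff_not_dvd (by norm_num)).mpr hno).symm hC
  obtain ⟨k, hk⟩ : 17 ∣ Nat.card ↥(Subgroup.centralizer (X : Set G)) := hX ▸ Subgroup.card_dvd_of_le hXC
  have hk' : k ∣ 3 ^ 13 := Nat.dvd_of_mul_dvd_mul_left (show 0 < 17 by norm_num) (by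
    rw [← hk, mul_comm 17]; exact hC')
  obtain ⟨b, hb, rfl⟩ := (Nat.dvd_prime_pow Nat.prime_three).mp hk'
  obtain ⟨e, he, hN⟩ := norm_div_cent hX
  rw [hk] at hN
  have hidx := prime_index_mod hX hp2
  have hmul := Subgroup.card_mul_index (Subgroup.normalizer (X : Set G))
  have hG := h.card_group ha
  have hdiv : (31671 * (2 * 3510 * 18393661440)) / (e * (17 * 3 ^ b)) =
      (Subgroup.normalizer (X : Set G)).index := by
    rw [← hG, ← hN, ← hmul, Nat.mul_div_cancel_left _ Nat.card_pos]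
  have he1 : e ≠ 1 := fun q => norm_ne_cent hX hp2 (by norm_num) hgen
    (fun d hd => h.core.tt.sq d hd) (by rw [hN, hk, q, one_mul])
  have hbad : ∀ m, e * (17 * 3 ^ m) = e * (17 * 3 ^ b) → 10 ≤ m → m ≤ 12 → b = m →
      ¬ 3 ^ (m + 1) ∣ e * (17 * 3 ^ m) → False := by
    intro m _ h1 h2 hbm hnd
    subst hbm
    obtain ⟨Q0, hQ0⟩ := Sylow.exists_subgroup_card_pow_prime (G := ↥(Subgroup.centralizer (X : Set G))) 3
      (n := b) (hk ▸ Dvd.intro_left _ rfl)
    have hQ : Nat.card ↥(Q0.map (Subgroup.centralizer (X : Set G)).subtype) = 3 ^ b := by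
      rw [Subgroup.card_map_of_injective Subtype.val_injective, hQ0]
    refine hnd (hN ▸ h.three_group_grow ha hM hX (Or.inl rfl) hQ h1 h2
      (by rintro _ ⟨q, -, rfl⟩; exact q.2) fun n hn hnp hnC => ?_)
    have hd := h.count_dvd ha hM hQ h1 (Or.inl ⟨rfl, rfl⟩) hn hnp hnC
    have h23n : ¬ 23 ∣ n := fun q => by
      obtain ⟨z, hz, -, hZ⟩ := exists_zpowers_of_dvd (q.trans hnC)
      have := h23 _ hZ (zpowers_cent.mp hz)
      rw [hQ] at this
      have h3 : 3 ∣ 23 := (dvd_pow_self 3 (by omega)).trans this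
      norm_num at h3
    have hd' : n ∣ 3 ^ 3 * 13 := Nat.Coprime.dvd_of_dvd_mul_right
      ((Nat.Prime.coprime_iff_not_dvd (by norm_num)).mpr h23n).symm hd
    exact count_seventeen n (Nat.lt_succ_of_le (Nat.le_of_dvd (by norm_num) hd'))
      (Nat.mod_eq_zero_of_dvd hd') hnp
  rcases norm_seventeen e (Nat.lt_succ_of_le (Nat.le_of_dvd (by norm_num) he)) b (by omega)
      (Nat.mod_eq_zero_of_dvd (hN ▸ hG ▸ Dvd.intro _ hmul)) (Nat.mod_eq_zero_of_dvd he) he1
      (hdiv ▸ hidx) with ⟨rfl, rfl⟩ | ⟨rfl, rfl⟩ | ⟨rfl, rfl⟩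
  · exact ⟨by rw [hN]; norm_num, by rw [hk]; norm_num⟩
  · exact (hbad 12 rfl (by norm_num) le_rfl rfl (by norm_num)).elim
  · exact (hbad 10 rfl le_rfl (by norm_num) rfl (by norm_num)).elim

end Geo23

end Cfsg.Agent.H93
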