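import Cfsg.Agent.H93.Inner

/-!
In a group of type M(22): automorphisms fixing the closed neighbourhood of a member.
-/

set_option autoImplicit false

namespace Cfsg.Agent.H93

variable {G : Type*} [Group G] {D : Set G} {F : Type*} [Field F] [Fintype F]

/-- an automorphism preserving the class and fixing the closed neighbourhood of a member is trivial
or is that member -/
theorem M22Data.kernel_aut (h : M22Data D F) (φ : MulAut G) (hmem : ∀ x ∈ D, φ x ∈ D) {a : G}
    (ha : a ∈ D) (hga : φ a = a) (hg : ∀ v ∈ nb D a, φ v = v) :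
    (∀ t ∈ D, φ t = t) ∨ ∀ t ∈ D, φ t = a * t * a := by
  have hF := h.hF
  have htt := h.core.tt
  obtain ⟨b, hb'⟩ := h.core.edge a ha
  have near : ∀ {v}, v ∈ nb D b → Commute v a → φ v = v := fun {v} hv hc => by
    by_cases e : v = a
    · exact e ▸ hga
    · exact hg v ⟨hv.1, e, hc.symm⟩
  have hgb : φ b = b := hg b hb'
  obtain ⟨sp⟩ := h.spaces b hb'.1
  obtain ⟨P, hP, hPa⟩ := sp.surj a (nb_symm ha hb')
  have hcomm : ∀ {u v : G}, Commute (φ u) (φ v) ↔ Commute u v := fun {u v} =>
    ⟨fun q => by simpa using q.map φ.symm.toMonoidHom, fun q => q.map φ.toMonoidHom⟩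
  -- the two possible images
  have dich : ∀ Y, IsPt Y → hb Y P = 1 →
      φ (sp.pt Y) = sp.pt Y ∨ φ (sp.pt Y) = a * sp.pt Y * a := by
    intro Y hY hYP
    have hvn : ¬ Commute (sp.pt Y) a := fun q => by
      rw [← hPa, sp.comm hY hP, hYP] at q; exact one_ne_zero q
    have hv' : φ (sp.pt Y) ∈ nb D b := by
      refine ⟨hmem _ (sp.mem hY).1, fun q => (sp.mem hY).2.1 (φ.injective (q.trans hgb.symm)), ?_⟩
      have := hcomm.mpr (sp.mem hY).2.2
      rwa [hgb] at this
    have hv'n : ¬ Commute (φ (sp.pt Y)) a := fun q => by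
      rw [← hga, hcomm] at q; exact hvn q
    obtain ⟨Y0, hY0, e0⟩ := sp.surj _ hv'
    have hY0P : hb Y0 P ≠ 0 := fun q => hv'n (by rw [← e0, ← hPa]; exact (sp.comm hY0 hP).mpr q)
    obtain ⟨hY', eY'⟩ := sp.smul_pt (inv_ne_zero hY0P) hY0
    set Y' := (hb Y0 P)⁻¹ • Y0 with hY'def
    have hY'P : hb Y' P = 1 := by rw [hY'def, hb_smul_left, inv_mul_cancel₀ hY0P]
    have key : ∀ w, IsPt w → hb w P = 0 → hb Y w = 0 → hb Y' w = 0 := by
      intro w hw hwP hz
      have hfix : φ (sp.pt w) = sp.pt w := near (sp.mem hw) (hPa ▸ (sp.comm hw hP).mpr hwP)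
      have := hcomm.mpr ((sp.comm hY hw).mpr hz)
      rw [hfix, ← e0, ← eY'] at this
      exact (sp.comm hY' hw).mp this
    have van : ∀ e, hb e e = 0 → hb P e = 0 → hb (Y + Y') e = 0 := by
      intro e he hPe
      have heP := (hb_eq_zero_comm hF).mp hPe
      set t := hb Y e ^ 2 with htdef
      have ht : t ^ 2 = hb Y e := sq_sq hF _
      set w := e + t • P with hwdef
      have hwv : ∀ X, hb X P = 1 → hb X w = hb X e + t ^ 2 := fun X hX => by
        rw [hwdef, hb_add_right hF, hb_smul_right, hX, mul_one]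
      rw [hb_add_left]
      by_cases hw0 : w = 0
      · have e' : e = t • P := vec_eq_of_add hF hw0
        rw [e', hb_smul_right, hb_smul_right, hYP, hY'P]
        exact add_self_zero hF _
      · have hwp : IsPt w := ⟨hw0, by
          simp [hwdef, hb_add_left, hb_add_right hF, hb_smul_left, hb_smul_right, he, hPe, heP,
            hP.2]⟩
        have hwP : hb w P = 0 := by rw [hwdef, hb_add_left, hb_smul_left, heP, hP.2]; ring
        have h2 := key w hwp hwP (by rw [hwv Y hYP, ht]; exact add_self_zero hF _)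
        rw [hwv Y' hY'P, ht] at h2
        rw [add_comm]; exact h2
    obtain ⟨e₁, f₁, he₁, hf₁, pe, pf, ef, -⟩ := exists_hyperbolic hF hP
    obtain ⟨e₂, f₂, fr⟩ := exists_frame hF hP he₁.2 hf₁.2 ef pe pf
    obtain ⟨n, hn⟩ := fr.coord hF (x := Y + Y') (by
      rw [hb_add_left, hYP, hY'P]; exact add_self_zero hF 1)
    rw [van _ fr.f11 fr.pf1, van _ fr.e11 fr.pe1, van _ fr.f22 fr.pf2, van _ fr.e22 fr.pe2,
      zero_smul, zero_smul, zero_smul, zero_smul, add_zero, add_zero, add_zero, add_zero] at hn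
    have hY'eq : Y' = Y + n • P := by
      rw [← hn, ← add_assoc, vec_add_self hF, zero_add]
    have hn01 : n = 0 ∨ n = 1 := by
      have h2 := hY'.2
      rw [hY'eq] at h2
      simp only [hb_add_left, hb_add_right hF, hb_smul_left, hb_smul_right, hY.2, hP.2, hYP,
        hb_one_comm hF hYP, mul_zero, mul_one, add_zero, zero_add] at h2
      rcases mul_eq_zero.mp (show n * (n + 1) = 0 by linear_combination h2) with q | q
      · exact Or.inl q
      · exact Or.inr ((add_eq_zero_iff_eq' hF).mp q)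
    rcases hn01 with q | q
    · left
      rw [← e0, ← eY', hY'eq, q, zero_smul, add_zero]
    · right
      rw [← e0, ← eY', hY'eq, q, ← hPa, sp.third hP hY, hYP]
  -- the choice is uniform
  have step : ∀ Y1 Y2, IsPt Y1 → IsPt Y2 → hb Y1 P = 1 → hb Y2 P = 1 → hb Y1 Y2 = 0 →
      φ (sp.pt Y1) = sp.pt Y1 → φ (sp.pt Y2) = sp.pt Y2 := by
    intro Y1 Y2 h1 h2 h1P h2P h12 f1
    refine (dich Y2 h2 h2P).resolve_right fun f2 => ?_
    have := hcomm.mpr ((sp.comm h1 h2).mpr h12)
    rw [f1, f2, ← hPa, sp.third hP h2, h2P, sp.comm h1 (by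
      have := isPt_third hF hP h2; rwa [h2P] at this), one_smul, hb_add_right hF, h12, h1P,
      zero_add] at this
    exact one_ne_zero this
  have uniform : ∀ Y1 Y2, IsPt Y1 → IsPt Y2 → hb Y1 P = 1 → hb Y2 P = 1 →
      φ (sp.pt Y1) = sp.pt Y1 → φ (sp.pt Y2) = sp.pt Y2 := by
    intro Y1 Y2 h1 h2 h1P h2P f1
    have hs : ¬ SamePt P Y1 := fun ⟨c, hc⟩ => by
      rw [hc, hb_smul_left, hP.2, mul_zero] at h1P; exact zero_ne_one h1P
    by_cases hin : Y2 ∈ Submodule.span F (Set.range ![P, Y1])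
    · obtain ⟨c, hc⟩ := (Submodule.mem_span_range_iff_exists_fun F).mp hin
      simp only [Fin.sum_univ_two, Matrix.cons_val_zero, Matrix.cons_val_one] at hc
      have c1 : c 1 = 1 := by
        rw [← hc] at h2P
        simpa [hb_add_left, hb_smul_left, hP.2, h1P] using h2P
      rw [c1, one_smul] at hc
      have hz := h2.2
      rw [← hc] at hz
      simp only [hb_add_left, hb_add_right hF, hb_smul_left, hb_smul_right, h1.2, hP.2, h1P,
        hb_one_comm hF h1P, mul_zero, mul_one, add_zero, zero_add] at hz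
      rcases mul_eq_zero.mp (show c 0 * (c 0 + 1) = 0 by linear_combination hz) with q | q
      · rwa [← hc, q, zero_smul, zero_add]
      · have e : sp.pt Y2 = a * sp.pt Y1 * a := by
          rw [← hPa, sp.third hP h1, h1P, ← hc, (add_eq_zero_iff_eq' hF).mp q, add_comm]
        rw [e]
        rw [map_mul, map_mul, f1, hga]
    · have hli : LinearIndependent F (Fin.snoc ![P, Y1] Y2) :=
        linearIndependent_finSnoc.mpr ⟨indep_pair hP.1 hs, hin⟩
      obtain ⟨w, hw, hwl⟩ := iso_solve hF hli (Fin.snoc ![1, 0] 0)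
        (Or.inr ⟨rfl, (0 : Fin 2).castSucc, (1 : Fin 2).castSucc, by
          rw [Fin.snoc_castSucc, Fin.snoc_castSucc]
          simp [hb_one_comm hF h1P]⟩)
      have w0 : hb w P = 1 := by
        have := hwl (0 : Fin 2).castSucc; rwa [Fin.snoc_castSucc, Fin.snoc_castSucc] at this
      have w1 : hb w Y1 = 0 := by
        have := hwl (1 : Fin 2).castSucc; rwa [Fin.snoc_castSucc, Fin.snoc_castSucc] at this
      have w2 : hb w Y2 = 0 := by
        have := hwl (Fin.last 2); rwa [Fin.snoc_last, Fin.snoc_last] at this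
      have hwp := pt_of_hb_eq_one hw w0
      exact step w Y2 hwp h2 w0 h2P w2 (step Y1 w h1 hwp h1P w0 ((hb_eq_zero_comm hF).mp w1) f1)
  have vec : ∀ v ∈ nb D b, ¬ Commute v a → ∃ Y, IsPt Y ∧ hb Y P = 1 ∧ sp.pt Y = v := by
    intro v hv hn
    obtain ⟨Y0, hY0, rfl⟩ := sp.surj v hv
    have h0 : hb Y0 P ≠ 0 := fun q => hn (hPa ▸ (sp.comm hY0 hP).mpr q)
    obtain ⟨hY, eY⟩ := sp.smul_pt (inv_ne_zero h0) hY0
    exact ⟨_, hY, by rw [hb_smul_left, inv_mul_cancel₀ h0], eY⟩
  by_cases hex : ∃ Y, IsPt Y ∧ hb Y P = 1 ∧ φ (sp.pt Y) = sp.pt Y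
  · obtain ⟨Y1, h1, h1P, f1⟩ := hex
    left
    refine fix_of_two h.core h.conn h.sep ha hb' hga hg fun v hv => ?_
    by_cases hc : Commute v a
    · exact near hv hc
    · obtain ⟨Y, hY, hYP, rfl⟩ := vec v hv hc
      exact uniform Y1 Y h1 hY h1P hYP f1
  · right
    have e0 : ∀ t, a * (a * t * a) * a = t := fun t => by
      rw [show a * (a * t * a) * a = a * a * t * (a * a) by group, htt.sq a ha, one_mul, mul_one]
    have ψ : ∀ x, (φ.trans (MulAut.conj a)) x = a * φ x * a := fun x => by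
      show a * φ x * a⁻¹ = _
      rw [htt.inv_eq ha]
    have hall := fix_of_two h.core h.conn h.sep (φ := φ.trans (MulAut.conj a)) ha hb'
      (by rw [ψ, hga, htt.sq a ha, one_mul])
      (fun v hv => by rw [ψ, hg v hv, hv.2.2.eq, mul_assoc, htt.sq a ha, mul_one])
      (fun v hv => by
        rw [ψ]
        by_cases hc : Commute v a
        · rw [near hv hc, ← hc.eq, mul_assoc, htt.sq a ha, mul_one]
        · obtain ⟨Y, hY, hYP, rfl⟩ := vec v hv hc
          rw [(dich Y hY hYP).resolve_left fun f => hex ⟨Y, hY, hYP, f⟩, e0])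
    intro t ht
    have := hall t ht
    rw [ψ] at this
    calc φ t = a * (a * φ t * a) * a := (e0 _).symm
      _ = _ := by rw [this]

end Cfsg.Agent.H93
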