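import Cfsg.Agent.H93.Cover
import Cfsg.Agent.H93.Stab6
import Cfsg.Agent.H93.Members

/-!
In a group of type M(22) the centraliser of a member `c` is generated by the members commuting with it, and
is a two-fold central extension of `PSU 6 F 2`.
-/

set_option autoImplicit false

namespace Cfsg.Agent.H93

variable {G : Type*} [Group G] {D : Set G} {F : Type*} [Field F] [Fintype F]

/-- a member lies in the subgroup generated by its neighbours -/
theorem M22Data.self_mem_nbSub (h : M22Data D F) {a : G} (ha : a ∈ D) : a ∈ nbSub D a := by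
  classical
  have hF := h.hF
  have htt := h.core.tt
  obtain ⟨sp⟩ := h.spaces a ha
  obtain ⟨b, hb⟩ := h.core.edge a ha
  obtain ⟨c, hc, hcb⟩ := (local_of_space hF h.core
    (pair2_of_indep htt h.ind (by norm_num)) sp).edge b hb
  obtain ⟨p, q, r, hp, hq, hr, hnd, hcom, -, -, hline⟩ := sp.exists_line hF
    (fun y hy => htt.sq y hy.1) hb hc hcb.2.1.symm hcb.2.2
  have hmem : ∀ x ∈ [b, c, p, q, r], x ∈ nb D a := by
    intro x hx
    simp only [List.mem_cons, List.not_mem_nil, or_false] at hx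
    rcases hx with rfl | rfl | rfl | rfl | rfl <;> assumption
  have hprod : [b, c, p, q, r].prod = b * c * p * q * r := by simp [mul_assoc]
  rcases h.kernel_nb (g := b * c * p * q * r) ha
      (((((hb.2.2.symm.mul_left hc.2.2.symm).mul_left hp.2.2.symm).mul_left hq.2.2.symm).mul_left
        hr.2.2.symm)) (fun v hv => (hline v hv).symm) with e | e
  · exact absurd (hprod.trans e) (h.ind _ hnd (by simp) (by simp) (fun x hx => (hmem x hx).1) hcom)
  · have hm : [b, c, p, q, r].prod ∈ nbSub D a :=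
      Subgroup.list_prod_mem _ fun x hx => Subgroup.subset_closure (hmem x hx)
    rwa [hprod, e] at hm

theorem nbSub_commute {a g : G} (hg : g ∈ nbSub D a) : Commute a g := by
  have hle : nbSub D a ≤ Subgroup.centralizer ({a} : Set G) := by
    rw [Subgroup.closure_le]
    exact fun y hy => mem_cent hy.2.2
  exact (Subgroup.mem_centralizer_singleton_iff.mp (hle hg)).symm

variable {K : Type*} [Field K] [Fintype K] (hK : Fintype.card K = 4)

include hK

omit [Field F] [Fintype F] in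
/-- in any subgroup centralising `x` and extending `PSU` the neighbours map onto the transvections -/
theorem members_of_sub (hD : Core D) {x : G} {H : Subgroup G} (hH : ∀ y ∈ nb D x, y ∈ H)
    (hcen : ∀ k ∈ H, Commute x k) {hx : x ∈ H} {π : ↥H →* Cfsg.PSU 6 K 2}
    (he : TwoExt π ⟨x, hx⟩) (hT : (nb D x).Nonempty) :
    (∀ y, ∀ hy : y ∈ nb D x, ∃ v, IsPt v ∧ π ⟨y, hH y hy⟩ = ptv hK v) ∧
      ∀ v, IsPt v → ∃ y, ∃ hy : y ∈ nb D x, π ⟨y, hH y hy⟩ = ptv hK v := by
  have htt := hD.tt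
  set E : Set (Cfsg.PSU 6 K 2) := {p | ∃ y, ∃ hy : y ∈ nb D x, π ⟨y, hH y hy⟩ = p} with hE
  have hinv : ∀ g : Cfsg.PSU 6 K 2, ∀ a ∈ E, g * a * g⁻¹ ∈ E := by
    rintro g _ ⟨y, hy, rfl⟩
    obtain ⟨k, rfl⟩ := he.surj g
    have hm := htt.nb_conj (k : G) hy
    rw [show (k : G) * x * (k : G)⁻¹ = x from
      mul_inv_eq_iff_eq_mul.mpr (hcen k k.2).symm.eq] at hm
    refine ⟨_, hm, ?_⟩
    rw [← map_inv, ← map_mul, ← map_mul]
    exact congrArg π (Subtype.ext rfl)
  have first : ∀ a ∈ E, ∃ v, IsPt v ∧ a = ptv hK v := by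
    refine three_transposition_is_ptv hK E ?_ hinv ?_
    · rintro _ ⟨y, hy, rfl⟩
      refine ⟨?_, fun e => ?_⟩
      · rw [← map_mul, show (⟨y, hH y hy⟩ : ↥H) * ⟨y, hH y hy⟩ = 1 from
          Subtype.ext (htt.sq y hy.1), map_one]
      · rcases he.ker _ e with q | q
        · exact hD.ne_one y hy.1 (congrArg Subtype.val q)
        · exact hy.2.1 (congrArg Subtype.val q)
    · rintro _ ⟨y, hy, rfl⟩ _ ⟨z, hz, rfl⟩
      rcases htt.pair y hy.1 z hz.1 with q | q
      · left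
        rw [← map_mul, ← map_pow, ← map_one π]
        exact congrArg π (Subtype.ext q)
      · right
        rw [← map_mul, ← map_pow, ← map_one π]
        exact congrArg π (Subtype.ext q)
  refine ⟨fun y hy => first _ ⟨y, hy, rfl⟩, fun v hv => ?_⟩
  obtain ⟨y0, hy0⟩ := hT
  obtain ⟨v0, hv0, e0⟩ := first _ ⟨y0, hy0, rfl⟩
  obtain ⟨g, hg⟩ := ptv_transitive hK hv0 hv
  have := hinv g _ (e0 ▸ ⟨y0, hy0, rfl⟩ : ptv hK v0 ∈ E)
  rwa [hg] at this

omit [Field F] [Fintype F] in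
/-- commuting is orthogonality of images, in a subgroup -/
theorem sub_comm {x : G} {H : Subgroup G} {hx : x ∈ H} {π : ↥H →* Cfsg.PSU 6 K 2}
    (he : TwoExt π ⟨x, hx⟩) {y z : G} (hy : y ∈ H) (hz : z ∈ H) {u v : Vec K} (hu : IsPt u)
    (hv : IsPt v) (ey : π ⟨y, hy⟩ = ptv hK u) (ez : π ⟨z, hz⟩ = ptv hK v) :
    Commute y z ↔ hb u v = 0 := by
  constructor
  · intro h
    have h' : Commute (π ⟨y, hy⟩) (π ⟨z, hz⟩) := Commute.map (Subtype.ext h.eq) π
    rw [ey, ez] at h'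
    exact (hb_eq_zero_comm hK).mp (ptv_hb_zero hK hu hv h')
  · intro h
    exact (he.commute_congr ((he.π_lift hK u).trans ey.symm) ((he.π_lift hK v).trans ez.symm)
      (he.lift_commute hK hu hv h)).map H.subtype

omit [Field F] [Fintype F] in
/-- an element of `H x` fixing the neighbour `u` lies in the subgroup of the neighbours of `u` -/
theorem stab_of_ext (hD : Core D) {x u : G} (hx : x ∈ D) (hu : u ∈ nb D x) {hxH : x ∈ nbSub D x}
    (huH : u ∈ nbSub D u) {π : ↥(nbSub D x) →* Cfsg.PSU 6 K 2} (he : TwoExt π ⟨x, hxH⟩) {g : G}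
    (hg : g ∈ nbSub D x) (hgu : Commute g u) : g ∈ nbSub D u := by
  have hH : ∀ y ∈ nb D x, y ∈ nbSub D x := fun y hy => Subgroup.subset_closure hy
  obtain ⟨img, cov⟩ := members_of_sub hK hD hH (fun k hk => nbSub_commute hk) he ⟨u, hu⟩
  obtain ⟨P, hP, eP⟩ := img u hu
  have hcp : Commute (π ⟨g, hg⟩) (ptv hK P) := eP ▸ Commute.map (Subtype.ext hgu.eq) π
  have hmem := stab_point hK hP hcp
  have hle : Subgroup.closure {p | ∃ v, IsPt v ∧ hb v P = 0 ∧ p = ptv hK v} ≤
      ((nbSub D u).subgroupOf (nbSub D x)).map π := by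
    rw [Subgroup.closure_le]
    rintro _ ⟨v, hv, hvP, rfl⟩
    obtain ⟨y, hy, ey⟩ := cov v hv
    refine ⟨⟨y, hH y hy⟩, ?_, ey⟩
    show y ∈ nbSub D u
    by_cases e : y = u
    · exact e ▸ huH
    · exact Subgroup.subset_closure
        ⟨hy.1, e, ((sub_comm hK he _ _ hv hP ey eP).mpr hvP).symm⟩
  obtain ⟨l, hl, el⟩ := hle hmem
  rcases he.eq_or el with q | q
  · have : g = (l : G) := congrArg Subtype.val q
    rw [this]; exact hl
  · have : g = (l : G) * x := congrArg Subtype.val q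
    rw [this]
    exact mul_mem hl (Subgroup.subset_closure (nb_symm hx hu))

omit [Field F] [Fintype F] [Fintype K] hK in
/-- the extensions at conjugate members correspond -/
theorem sub_ext_of_conj (hD : TT D) {x : G} {hx : x ∈ nbSub D x}
    {π : ↥(nbSub D x) →* Cfsg.PSU 6 K 2} (he : TwoExt π ⟨x, hx⟩) (g : G)
    (hgx : g * x * g⁻¹ ∈ nbSub D (g * x * g⁻¹)) :
    ∃ π' : ↥(nbSub D (g * x * g⁻¹)) →* Cfsg.PSU 6 K 2, TwoExt π' ⟨g * x * g⁻¹, hgx⟩ := by
  have mv : ∀ (k a : G) {y : G}, y ∈ nbSub D a → k * y * k⁻¹ ∈ nbSub D (k * a * k⁻¹) := by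
    intro k a y hy
    have hle : nbSub D a ≤ (nbSub D (k * a * k⁻¹)).comap (MulAut.conj k).toMonoidHom := by
      rw [Subgroup.closure_le]
      exact fun w hw => Subgroup.subset_closure (hD.nb_conj k hw)
    exact hle hy
  have back : ∀ y : ↥(nbSub D (g * x * g⁻¹)), g⁻¹ * (y : G) * g ∈ nbSub D x := fun y => by
    have := mv g⁻¹ _ y.2
    rwa [show g⁻¹ * (g * x * g⁻¹) * g⁻¹⁻¹ = x by group, inv_inv] at this
  let ρ : ↥(nbSub D (g * x * g⁻¹)) →* ↥(nbSub D x) :=
    MonoidHom.mk' (fun y => ⟨g⁻¹ * (y : G) * g, back y⟩) fun y z => Subtype.ext (by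
      show g⁻¹ * ((y : G) * z) * g = g⁻¹ * y * g * (g⁻¹ * z * g)
      group)
  refine ⟨π.comp ρ, ⟨fun p => ?_, fun y hy => ?_, Subtype.ext ?_, fun y => Subtype.ext ?_⟩⟩
  · obtain ⟨k, rfl⟩ := he.surj p
    refine ⟨⟨g * k * g⁻¹, mv g x k.2⟩, ?_⟩
    show π _ = π k
    exact congrArg π (Subtype.ext (by show g⁻¹ * (g * k * g⁻¹) * g = k; group))
  · rcases he.ker _ hy with q | q <;> have q' : g⁻¹ * (y : G) * g = _ := congrArg Subtype.val q
    · refine Or.inl (Subtype.ext ?_)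
      show (y : G) = 1
      calc (y : G) = g * (g⁻¹ * (y : G) * g) * g⁻¹ := by group
        _ = 1 := by rw [q']; simp
    · refine Or.inr (Subtype.ext ?_)
      show (y : G) = g * x * g⁻¹
      calc (y : G) = g * (g⁻¹ * (y : G) * g) * g⁻¹ := by group
        _ = _ := by rw [q']
  · show g * x * g⁻¹ * (g * x * g⁻¹) = 1
    have : x * x = 1 := congrArg Subtype.val he.sq
    rw [show g * x * g⁻¹ * (g * x * g⁻¹) = g * (x * x) * g⁻¹ by group, this]; group
  · exact (nbSub_commute y.2).eq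

omit hK [Field K] [Fintype K] in
/-- a common neighbour of two far members commuting with a third -/
theorem M22Data.far_step (h : M22Data D F) {a x b y : G} (ha : a ∈ D) (hx : x ∈ D)
    (hax : ¬ Commute a x) (hb' : b ∈ nb D a ∩ nb D x) (hy : y ∈ nb D x) :
    ∃ z ∈ nb D a ∩ nb D x, Commute z b ∧ Commute z y := by
  have hF := h.hF
  have htt := h.core.tt
  by_cases hby : Commute b y
  · exact ⟨b, hb', Commute.refl b, hby⟩
  obtain ⟨sx⟩ := h.spaces x hx
  obtain ⟨sb⟩ := h.spaces b hb'.1.1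
  obtain ⟨B, hB, eB⟩ := sx.surj b hb'.2
  obtain ⟨Y0, hY0, eY0⟩ := sx.surj y hy
  have h0 : hb Y0 B ≠ 0 := fun q => hby (by rw [← eB, ← eY0]; exact ((sx.comm hY0 hB).mpr q).symm)
  obtain ⟨hY, eY⟩ := sx.smul_pt (inv_ne_zero h0) hY0
  set Y := (hb Y0 B)⁻¹ • Y0 with hYdef
  have hYB : hb Y B = 1 := by rw [hYdef, hb_smul_left, inv_mul_cancel₀ h0]
  have hBY : hb B Y = 1 := hb_one_comm hF hYB
  rw [eY0] at eY
  have inS : ∀ {s}, s ∈ nb D x → Commute a s → s ∈ nb D a ∩ nb D x := fun hs hc =>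
    ⟨⟨hs.1, fun e => hax (e ▸ hs.2.2.symm), hc⟩, hs⟩
  -- on each line through `b` some member commutes with `a`
  have lam : ∀ e : Vec F, IsPt e → hb e B = 0 → ¬ SamePt B e →
      ∃ t : F, IsPt (e + t • B) ∧ Commute a (sx.pt (e + t • B)) := by
    intro e he eb hs
    have hxb : x ∈ nb D b := nb_symm hx hb'.2
    have hab : a ∈ nb D b := nb_symm ha hb'.1
    have hpe : sx.pt e ∈ nb D b := by
      refine ⟨(sx.mem he).1, fun q => hs ?_, ?_⟩
      · rw [← eB] at q; exact (sx.same hB he).mp q.symm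
      · rw [← eB]; exact ((sx.comm he hB).mpr eb).symm
    obtain ⟨X, hX, eX⟩ := sb.surj x hxb
    obtain ⟨A, hA, eA⟩ := sb.surj a hab
    obtain ⟨E, hE, eE⟩ := sb.surj _ hpe
    have hXE : hb X E = 0 := (sb.comm hX hE).mp (by rw [eX, eE]; exact (sx.mem he).2.2)
    have hsXE : ¬ SamePt X E := fun q => (sx.mem he).2.1 (by
      rw [← eE, ← eX]; exact ((sb.same hX hE).mpr q).symm)
    have hAX : hb X A ≠ 0 := fun q => hax (by
      rw [← eA, ← eX]; exact ((sb.comm hX hA).mpr q).symm)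
    set M : Vec F := E + (hb E A / hb X A) • X with hM
    have hMA : hb M A = 0 := by
      rw [hM, hb_add_left, hb_smul_left, div_mul_cancel₀ _ hAX]; exact add_self_zero hF _
    have hMp : IsPt M := isPt_line hF hE hX ((hb_eq_zero_comm hF).mp hXE) (fun q => hsXE (q.symm hX.1)) _
    set m := sb.pt M with hm
    have hmb : m ∈ nb D b := sb.mem hMp
    have hma : Commute a m := by rw [← eA]; exact ((sb.comm hMp hA).mpr hMA).symm
    have hmx : m ∈ nb D x := by
      refine ⟨hmb.1, fun q => hax (q ▸ hma), ?_⟩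
      rw [← eX]
      refine ((sb.comm hMp hX).mpr ?_).symm
      rw [hM, hb_add_left, hb_smul_left, hX.2, (hb_eq_zero_comm hF).mp hXE]; ring
    have hperp : ∀ z, z ∈ nb D x → Commute z b → Commute z (sx.pt e) → Commute z m := by
      intro z hz zb ze
      by_cases q : z = b
      · exact q ▸ hmb.2.2
      obtain ⟨Z, hZ, eZ⟩ := sb.surj z ⟨hz.1, q, zb.symm⟩
      rw [← eZ, sb.comm hZ hMp, hM, hb_add_right hF, hb_smul_right,
        (sb.comm hZ hX).mp (by rw [eZ, eX]; exact hz.2.2.symm),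
        (sb.comm hZ hE).mp (by rw [eZ, eE]; exact ze)]
      ring
    obtain ⟨N, hN, eN⟩ := sx.surj m hmx
    have hNB : hb N B = 0 := (sx.comm hN hB).mp (by rw [eN, eB]; exact hmb.2.2.symm)
    have hNe : hb N e = 0 := (sx.comm hN he).mp (by
      rw [eN]
      exact (hperp _ (sx.mem he) hpe.2.2.symm (Commute.refl _)).symm)
    have hspan := mem_of_orth hF (indep_pair hB.1 hs) (x := N) (fun i j => by
        fin_cases i <;> fin_cases j <;> simp [hB.2, he.2, eb, (hb_eq_zero_comm hF).mp eb])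
      hN.2 (fun i => by fin_cases i <;> simp [hNB, hNe]) (fun z hz hzl => (sx.comm hz hN).mp (by
        rw [eN]
        exact hperp _ (sx.mem hz) (eB ▸ (sx.comm hz hB).mpr (hzl 0)) ((sx.comm hz he).mpr (hzl 1))))
    obtain ⟨c, hc⟩ := (Submodule.mem_span_range_iff_exists_fun F).mp hspan
    simp only [Fin.sum_univ_two, Matrix.cons_val_zero, Matrix.cons_val_one] at hc
    have c1 : c 1 ≠ 0 := fun q => hmb.2.1 (by
      rw [q, zero_smul, add_zero] at hc
      rw [← eN, ← eB]; exact ((sx.same hB hN).mpr ⟨c 0, hc.symm⟩).symm)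
    obtain ⟨hp, ep⟩ := sx.smul_pt (inv_ne_zero c1) hN
    have e' : (c 1)⁻¹ • N = e + ((c 1)⁻¹ * c 0) • B := by
      rw [← hc, smul_add, smul_smul, smul_smul, inv_mul_cancel₀ c1, one_smul, add_comm]
    rw [e'] at hp ep
    exact ⟨_, hp, by rw [ep, eN]; exact hma⟩
  -- two hyperbolic pairs orthogonal to `b` and `y`
  obtain ⟨e₀, f₀, he₀, hf₀, pe, pf, ef, -⟩ := exists_hyperbolic hF hB
  obtain ⟨e₂, f₂, fr⟩ := exists_frame hF hB he₀.2 hf₀.2 ef pe pf
  have fixY : ∀ {e : Vec F}, hb e e = 0 → hb B e = 0 →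
      hb (e + hb e Y • B) (e + hb e Y • B) = 0 ∧ hb (e + hb e Y • B) B = 0 ∧
        hb (e + hb e Y • B) Y = 0 := by
    intro e he be
    have eb := (hb_eq_zero_comm hF).mp be
    refine ⟨?_, ?_, ?_⟩
    · simp [hb_add_left, hb_add_right hF, hb_smul_left, hb_smul_right, he, be, eb, hB.2]
    · rw [hb_add_left, hb_smul_left, eb, hB.2, mul_zero, add_zero]
    · rw [hb_add_left, hb_smul_left, hBY, mul_one]; exact add_self_zero hF _
  have hpair : ∀ {e f : Vec F}, hb B e = 0 → hb B f = 0 →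
      hb (e + hb e Y • B) (f + hb f Y • B) = hb e f := by
    intro e f be bf
    simp [hb_add_left, hb_add_right hF, hb_smul_left, hb_smul_right, bf,
      (hb_eq_zero_comm hF).mp be, hB.2]
  obtain ⟨e1i, e1B, e1Y⟩ := fixY fr.e11 fr.pe1
  obtain ⟨f1i, f1B, f1Y⟩ := fixY fr.f11 fr.pf1
  obtain ⟨e2i, e2B, e2Y⟩ := fixY fr.e22 fr.pe2
  obtain ⟨f2i, f2B, f2Y⟩ := fixY fr.f22 fr.pf2
  set E1 := e₀ + hb e₀ Y • B
  set F1 := f₀ + hb f₀ Y • B
  set E2 := e₂ + hb e₂ Y • B
  set F2 := f₂ + hb f₂ Y • B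
  have v11 : hb F1 E1 = 1 := (hpair fr.pf1 fr.pe1).trans (fr.fe1 hF)
  have v22 : hb F2 E2 = 1 := (hpair fr.pf2 fr.pe2).trans (fr.fe2 hF)
  have v12 : hb F1 E2 = 0 := (hpair fr.pf1 fr.pe2).trans fr.fe
  have v21 : hb F2 E1 = 0 :=
    (hpair fr.pf2 fr.pe1).trans ((hb_eq_zero_comm hF).mp fr.ef)
  have vff : hb F1 F2 = 0 := (hpair fr.pf1 fr.pf2).trans fr.ff
  have vee : hb E1 E2 = 0 := (hpair fr.pe1 fr.pe2).trans fr.ee
  have notB : ∀ {e g : Vec F}, hb B g = 0 → hb e g = 1 → ¬ SamePt B e := fun hg he ⟨t, ht⟩ => by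
    rw [ht, hb_smul_left, hg, mul_zero] at he; exact zero_ne_one he
  have zB := fun {u : Vec F} (q : hb u B = 0) => (hb_eq_zero_comm hF).mp q
  have finish : ∀ {e : Vec F}, IsPt e → hb e B = 0 → hb e Y = 0 → Commute a (sx.pt e) →
      ∃ z ∈ nb D a ∩ nb D x, Commute z b ∧ Commute z y := fun he hB' hY' hc =>
    ⟨_, inS (sx.mem he) hc, eB ▸ (sx.comm he hB).mpr hB', eY ▸ (sx.comm he hY).mpr hY'⟩
  have pE1 := pt_of_hb_eq_one e1i (hb_one_comm hF v11)
  have pE2 := pt_of_hb_eq_one e2i (hb_one_comm hF v22)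
  obtain ⟨c1, hp1, hc1⟩ := lam E1 pE1 e1B (notB (zB f1B) (hb_one_comm hF v11))
  obtain ⟨c2, hp2, hc2⟩ := lam E2 pE2 e2B (notB (zB f2B) (hb_one_comm hF v22))
  by_cases q1 : c1 = 0
  · rw [q1, zero_smul, add_zero] at hc1
    exact finish pE1 e1B e1Y hc1
  by_cases q2 : c2 = 0
  · rw [q2, zero_smul, add_zero] at hc2
    exact finish pE2 e2B e2Y hc2
  obtain ⟨o, ho0, ho1, ho⟩ := exists_omega hF
  set V := (o / c1) • F1 + (o ^ 2 / c2) • F2 with hV
  have hVB : hb V B = 0 := by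
    rw [hV, hb_add_left, hb_smul_left, hb_smul_left, f1B, f2B, mul_zero, mul_zero, add_zero]
  have hVY : hb V Y = 0 := by
    rw [hV, hb_add_left, hb_smul_left, hb_smul_left, f1Y, f2Y, mul_zero, mul_zero, add_zero]
  have hV1 : hb V E1 = o / c1 := by
    rw [hV, hb_add_left, hb_smul_left, hb_smul_left, v11, v21, mul_one, mul_zero, add_zero]
  have hV2 : hb V E2 = o ^ 2 / c2 := by
    rw [hV, hb_add_left, hb_smul_left, hb_smul_left, v12, v22, mul_zero, mul_one, zero_add]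
  have hVV : hb V V = 0 := by
    simp [hV, hb_add_left, hb_add_right hF, hb_smul_left, hb_smul_right, f1i, f2i, vff,
      (hb_eq_zero_comm hF).mp vff]
  have pV : IsPt V := ⟨fun e => div_ne_zero ho0 q1 (by rw [← hV1, e, hb_zero_left]), hVV⟩
  obtain ⟨c3, hp3, hc3⟩ := lam V pV hVB (fun ⟨t, ht⟩ => div_ne_zero ho0 q1 (by
    rw [← hV1, ht, hb_smul_left, zB e1B, mul_zero]))
  -- thirds
  have thirdmem : ∀ {P Q : Vec F}, IsPt P → IsPt Q → Commute a (sx.pt P) → Commute a (sx.pt Q) →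
      IsPt (Q + hb Q P • P) ∧ Commute a (sx.pt (Q + hb Q P • P)) := fun hP hQ cP cQ =>
    ⟨isPt_third hF hP hQ, by rw [← sx.third hP hQ]; exact (cP.mul_right cQ).mul_right cP⟩
  set M3 := V + c3 • B
  have h31 : hb M3 (E1 + c1 • B) = o / c1 := by
    simp only [M3, hb_add_left, hb_add_right hF, hb_smul_left, hb_smul_right, hVB, hV1, hB.2,
      zB e1B, mul_zero, add_zero]
  have h32 : hb M3 (E2 + c2 • B) = o ^ 2 / c2 := by
    simp only [M3, hb_add_left, hb_add_right hF, hb_smul_left, hb_smul_right, hVB, hV2, hB.2,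
      zB e2B, mul_zero, add_zero]
  obtain ⟨pA, cA⟩ := thirdmem hp1 hp3 hc1 hc3
  obtain ⟨pA2, cA2⟩ := thirdmem hp2 hp3 hc2 hc3
  rw [h31] at pA cA
  rw [h32] at pA2 cA2
  have h32' : hb (M3 + (o / c1) • (E1 + c1 • B)) (E2 + c2 • B) = o ^ 2 / c2 := by
    rw [hb_add_left, h32, hb_smul_left, show hb (E1 + c1 • B) (E2 + c2 • B) = 0 by
      simp [hb_add_left, hb_add_right hF, hb_smul_left, hb_smul_right, vee, e1B, zB e2B, hB.2],
      mul_zero, add_zero]
  obtain ⟨pC, cC⟩ := thirdmem hp2 pA hc2 cA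
  rw [h32'] at pC cC
  have h2z := two_zero hF
  have d1 : (o / c1) * c1 = o := div_mul_cancel₀ _ q1
  have d2 : (o ^ 2 / c2) * c2 = o ^ 2 := div_mul_cancel₀ _ q2
  rcases (show c3 = 0 ∨ c3 = 1 ∨ c3 = o ∨ c3 = o ^ 2 by
    by_cases q : c3 = 0
    · exact Or.inl q
    right
    have : (c3 - 1) * (c3 - o) * (c3 - o ^ 2) = 0 := by
      linear_combination pow_three hF q + (-c3 ^ 2 + o * c3) * ho + ((1 : F) - o) * ho
    rcases mul_eq_zero.mp this with q' | q'
    · rcases mul_eq_zero.mp q' with q'' | q''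
      · exact Or.inl (sub_eq_zero.mp q'')
      · exact Or.inr (Or.inl (sub_eq_zero.mp q''))
    · exact Or.inr (Or.inr (sub_eq_zero.mp q'))) with q | q | q | q
  · have e : M3 = V := by simp [M3, q]
    rw [e] at hc3
    exact finish pV hVB hVY hc3
  · have e : M3 + (o / c1) • (E1 + c1 • B) + (o ^ 2 / c2) • (E2 + c2 • B) =
        V + (o / c1) • E1 + (o ^ 2 / c2) • E2 := by
      simp only [M3, smul_add, smul_smul, d1, d2, q]
      have : (1 : F) • B + o • B + o ^ 2 • B = 0 := by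
        rw [← add_smul, ← add_smul, show (1 : F) + o + o ^ 2 = 0 by linear_combination ho, zero_smul]
      linear_combination (norm := module) this
    rw [e] at pC cC
    exact finish pC (by simp [hb_add_left, hb_smul_left, hVB, e1B, e2B])
      (by simp [hb_add_left, hb_smul_left, hVY, e1Y, e2Y]) cC
  · have e : M3 + (o / c1) • (E1 + c1 • B) = V + (o / c1) • E1 := by
      simp only [M3, smul_add, smul_smul, d1, q]
      have : o • B + o • B = 0 := vec_add_self hF _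
      linear_combination (norm := module) this
    rw [e] at pA cA
    exact finish pA (by simp [hb_add_left, hb_smul_left, hVB, e1B])
      (by simp [hb_add_left, hb_smul_left, hVY, e1Y]) cA
  · have e : M3 + (o ^ 2 / c2) • (E2 + c2 • B) = V + (o ^ 2 / c2) • E2 := by
      simp only [M3, smul_add, smul_smul, d2, q]
      have : o ^ 2 • B + o ^ 2 • B = 0 := vec_add_self hF _
      linear_combination (norm := module) this
    rw [e] at pA2 cA2
    exact finish pA2 (by simp [hb_add_left, hb_smul_left, hVB, e2B])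
      (by simp [hb_add_left, hb_smul_left, hVY, e2Y]) cA2

omit hK [Field K] [Fintype K] in
/-- the centraliser of a member -/
theorem M22Data.coverData (h : M22Data D F)
    (hstab : ∀ x ∈ D, ∀ z ∈ nb D x, ∀ g ∈ nbSub D z, Commute g x → g ∈ nbSub D x) :
    CoverData D (nbSub D) where
  tt := h.core.tt
  gen := h.gen
  conn := h.conn
  conj g x _ k hk := by
    have hle : nbSub D x ≤ (nbSub D (g * x * g⁻¹)).comap (MulAut.conj g).toMonoidHom := by
      rw [Subgroup.closure_le]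
      exact fun w hw => Subgroup.subset_closure (h.core.tt.nb_conj g hw)
    exact hle hk
  cent _ _ _ hk := nbSub_commute hk
  self _ hx := h.self_mem_nbSub hx
  nb_mem _ _ _ hy := Subgroup.subset_closure hy
  stab := hstab
  edge x hx y hy := (local_of_space h.hF h.core (pair2_of_indep h.core.tt h.ind (by norm_num))
    (h.spaces x hx).some).edge y hy
  far a ha x hx hn b hb y hy := by
    obtain ⟨z, hz, hzb, hzy⟩ := h.far_step ha hx hn hb hy
    exact ⟨z, hz, hzy, Relation.ReflTransGen.single ⟨hz, hzb.symm⟩⟩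
  mid x hx y hy z hz z' hz' := by
    have hF := h.hF
    by_cases hc : Commute z z'
    · exact ⟨z, hz, Commute.refl z, hc⟩
    obtain ⟨sp⟩ := h.spaces x hx
    obtain ⟨Y, hY, eY⟩ := sp.surj y hy
    obtain ⟨Z, hZ, eZ⟩ := sp.surj z hz.1
    obtain ⟨Z', hZ', eZ'⟩ := sp.surj z' hz'.1
    have h0 : hb Z Z' ≠ 0 := fun q => hc (by rw [← eZ, ← eZ']; exact (sp.comm hZ hZ').mpr q)
    obtain ⟨hZ'', eZ''⟩ := sp.smul_pt h0 hZ'
    have ef : hb Z (hb Z Z' • Z') = 1 := by
      rw [hb_smul_right]; linear_combination pow_three hF h0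
    have pe : hb Y Z = 0 := (sp.comm hY hZ).mp (by rw [eY, eZ]; exact hz.2.2.2)
    have pf' : hb Y Z' = 0 := (sp.comm hY hZ').mp (by rw [eY, eZ']; exact hz'.2.2.2)
    have pf : hb Y (hb Z Z' • Z') = 0 := by rw [hb_smul_right, pf', mul_zero]
    obtain ⟨e₂, f₂, fr⟩ := exists_frame hF hY hZ.2 hZ''.2 ef pe pf
    have pE : IsPt e₂ := pt_of_hb_eq_one fr.e22 fr.ef2
    have ne : ¬ SamePt Y e₂ := fun ⟨t, ht⟩ => by
      have := fr.ef2
      rw [ht, hb_smul_left, fr.pf2, mul_zero] at this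
      exact zero_ne_one this
    refine ⟨sp.pt e₂, ⟨sp.mem pE, (sp.mem pE).1, fun q => ne ?_, ?_⟩, ?_, ?_⟩
    · rw [← eY] at q; exact (sp.same hY pE).mp q.symm
    · rw [← eY]; exact (sp.comm hY pE).mpr fr.pe2
    · rw [← eZ]; exact ((sp.comm hZ pE).mpr fr.ee).symm
    · rw [← eZ', ← (sp.smul_pt h0 hZ').2]
      exact ((sp.comm hZ'' pE).mpr fr.fe).symm
  sep2 x hx y hy z hz z' hz' hc := by
    have hF := h.hF
    obtain ⟨sp⟩ := h.spaces z hz.1.1
    obtain ⟨X, hX, eX⟩ := sp.surj x (nb_symm hx hz.1)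
    obtain ⟨Y, hY, eY⟩ := sp.surj y (nb_symm hy.1 hz.2)
    have hXY : hb X Y = 0 := (sp.comm hX hY).mp (by rw [eX, eY]; exact hy.2.2)
    have hs : ¬ SamePt X Y := fun q => hy.2.1 (by
      rw [← eX, ← eY]; exact ((sp.same hX hY).mpr q).symm)
    by_cases e : z' = z
    · obtain ⟨w, hw, w1, w2⟩ := iso_two hF hX.1 hs 1 1
      have hwp := pt_of_hb_eq_one hw w1
      refine ⟨sp.pt w, sp.mem hwp, Or.inl e, fun q => ?_, fun q => ?_⟩
      · rw [← eX, sp.comm hwp hX, w1] at q; exact one_ne_zero q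
      · rw [← eY, sp.comm hwp hY, w2] at q; exact one_ne_zero q
    obtain ⟨Z, hZ, eZ⟩ := sp.surj z' ⟨hz'.1.1, e, hc⟩
    have hXZ : hb X Z = 0 := (sp.comm hX hZ).mp (by rw [eX, eZ]; exact hz'.1.2.2)
    have hYZ : hb Y Z = 0 := (sp.comm hY hZ).mp (by rw [eY, eZ]; exact hz'.2.2.2)
    have zc := fun {u v : Vec F} (q : hb u v = 0) => (hb_eq_zero_comm hF).mp q
    obtain ⟨w, hw, s, hs0, t, ht0, w1, w2, w3⟩ : ∃ w, hb w w = 0 ∧ ∃ s, s ≠ 0 ∧ ∃ t, t ≠ 0 ∧
        hb w X = s ∧ hb w Y = t ∧ hb w Z = 0 := by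
      by_cases hin : Z ∈ Submodule.span F (Set.range ![X, Y])
      · obtain ⟨g, hg⟩ := (Submodule.mem_span_range_iff_exists_fun F).mp hin
        simp only [Fin.sum_univ_two, Matrix.cons_val_zero, Matrix.cons_val_one] at hg
        have g0 : g 0 ≠ 0 := fun q => hz'.2.2.1 (by
          rw [q, zero_smul, zero_add] at hg
          rw [← eY, ← eZ]; exact ((sp.same hY hZ).mpr ⟨g 1, hg.symm⟩).symm)
        have g1 : g 1 ≠ 0 := fun q => hz'.1.2.1 (by
          rw [q, zero_smul, add_zero] at hg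
          rw [← eX, ← eZ]; exact ((sp.same hX hZ).mpr ⟨g 0, hg.symm⟩).symm)
        obtain ⟨w, hw, w1, w2⟩ := iso_two hF hX.1 hs (g 1 ^ 2) (g 0 ^ 2)
        refine ⟨w, hw, _, pow_ne_zero 2 g1, _, pow_ne_zero 2 g0, w1, w2, ?_⟩
        rw [← hg, hb_add_right hF, hb_smul_right, hb_smul_right, w1, w2]
        linear_combination (g 0 ^ 2 * g 1 ^ 2) * two_zero hF
      · have hli : LinearIndependent F (Fin.snoc ![X, Y] Z) :=
          linearIndependent_finSnoc.mpr ⟨indep_pair hX.1 hs, hin⟩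
        obtain ⟨w, hw, hwl⟩ := iso_solve_of_mem hF hli (Fin.snoc ![1, 1] 0) (0 : Fin 2).castSucc
          (fun i => by
            refine Fin.lastCases ?_ (fun i => ?_) i
            · rw [Fin.snoc_castSucc, Fin.snoc_last]; exact hXZ
            · rw [Fin.snoc_castSucc, Fin.snoc_castSucc]
              fin_cases i <;> simp [hX.2, hXY])
          (by rw [Fin.snoc_castSucc]; exact one_ne_zero)
        refine ⟨w, hw, 1, one_ne_zero, 1, one_ne_zero, ?_, ?_, ?_⟩
        · have := hwl (0 : Fin 2).castSucc; rwa [Fin.snoc_castSucc, Fin.snoc_castSucc] at this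
        · have := hwl (1 : Fin 2).castSucc; rwa [Fin.snoc_castSucc, Fin.snoc_castSucc] at this
        · have := hwl (Fin.last 2); rwa [Fin.snoc_last, Fin.snoc_last] at this
    have hwp : IsPt w := ⟨fun q => hs0 (by rw [← w1, q, hb_zero_left]), hw⟩
    have nX : ¬ Commute (sp.pt w) x := fun q => by
      rw [← eX, sp.comm hwp hX, w1] at q; exact hs0 q
    refine ⟨sp.pt w, sp.mem hwp, Or.inr ⟨(sp.mem hwp).1, fun q => nX (q ▸ hz'.1.2.2.symm), ?_⟩,
      nX, fun q => ?_⟩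
    · rw [← eZ]; exact ((sp.comm hwp hZ).mpr w3).symm
    · rw [← eY, sp.comm hwp hY, w2] at q; exact ht0 q
  tri x hx y hy w hw := by
    have hF := h.hF
    obtain ⟨sp⟩ := h.spaces x hx
    obtain ⟨Y, hY, eY⟩ := sp.surj y hy
    obtain ⟨W, hW, eW⟩ := sp.surj w hw.1
    have hYW : hb Y W = 0 := (sp.comm hY hW).mp (by rw [eY, eW]; exact hw.2.2.2)
    have hs : ¬ SamePt Y W := fun q => hw.2.2.1 (by
      rw [← eY, ← eW]; exact ((sp.same hY hW).mpr q).symm)
    have hp : IsPt (Y + W) := by simpa using isPt_line hF hY hW hYW hs 1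
    refine ⟨sp.pt (Y + W), sp.mem hp, ⟨(sp.mem hp).1, fun q => ?_, ?_⟩,
      ⟨(sp.mem hp).1, fun q => ?_, ?_⟩⟩
    · rw [← eY] at q
      obtain ⟨t, ht⟩ := (sp.same hY hp).mp q.symm
      refine hs ⟨t + 1, ?_⟩
      rw [add_smul, one_smul, ← ht, add_right_comm, vec_add_self hF, zero_add]
    · rw [← eY]
      exact (sp.comm hY hp).mpr (by rw [hb_add_right hF, hY.2, hYW, add_zero])
    · rw [← eW] at q
      obtain ⟨t, ht⟩ := (sp.same hW hp).mp q.symm
      refine hs (SamePt.symm ⟨t + 1, ?_⟩ hY.1)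
      rw [add_smul, one_smul, ← ht, add_assoc, vec_add_self hF, add_zero]
    · rw [← eW]
      exact (sp.comm hW hp).mpr (by
        rw [hb_add_right hF, hW.2, (hb_eq_zero_comm hF).mp hYW, add_zero])

omit hK [Field K] [Fintype K] [Field F] [Fintype F] in
/-- groups of type M(22): centralisers of members -/
theorem cent22 [Finite G] (hD : Cfsg.IsThreeTranspositionClass D) (h22 : Cfsg.IsOfTypeM22 G D) :
    ∃ (F : Type) (_ : Field F) (_ : Fintype F) (_ : M22Data D F)
      (K : Type) (_ : Field K) (_ : Fintype K), Fintype.card K = 4 ∧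
      (∀ a ∈ D, Subgroup.centralizer ({a} : Set G) = nbSub D a) ∧
      ∀ a ∈ D, ∃ π : ↥(Subgroup.centralizer ({a} : Set G)) →* Cfsg.PSU 6 K 2,
        TwoExt π ⟨a, mem_cent (Commute.refl a)⟩ := by
  obtain ⟨F, iF, iFF, h⟩ := m22data hD h22
  obtain ⟨-, d, hd, c, -, -, ⟨F0, iF0, iFF0, hF0, ⟨e⟩⟩, -⟩ := h22
  have htt := h.core.tt
  let π : ↥(nbSub D d) →* Cfsg.PSU 6 F0 2 := e.toMonoidHom.comp (QuotientGroup.mk' _)
  have hext : TwoExt π ⟨d, h.self_mem_nbSub hd⟩ := by
    refine ⟨e.surjective.comp (QuotientGroup.mk'_surjective _), fun y hy => ?_,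
      Subtype.ext (htt.sq d hd), fun y => Subtype.ext (nbSub_commute y.2).eq⟩
    have hy' : y ∈ Subgroup.center ↥(nbSub D d) := by
      rw [← QuotientGroup.eq_one_iff]
      exact e.injective (hy.trans (map_one e).symm)
    rcases h.kernel_nb hd (nbSub_commute y.2).symm
      (fun v hv => (mem_center_nbSub.mp hy' v hv).symm) with q | q
    · exact Or.inl (Subtype.ext q)
    · exact Or.inr (Subtype.ext q)
  have hall : ∀ a (ha : a ∈ D), ∃ π' : ↥(nbSub D a) →* Cfsg.PSU 6 F0 2,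
      TwoExt π' ⟨a, h.self_mem_nbSub ha⟩ := by
    intro a ha
    obtain ⟨g, rfl⟩ := isConj_iff.mp (h.core.cls d hd a ha)
    exact sub_ext_of_conj htt hext g _
  have hcov := h.coverData fun x hx z hz g hg hgx => by
    obtain ⟨π', he⟩ := hall z hz.1
    exact stab_of_ext hF0 h.core hz.1 (nb_symm hx hz) (h.self_mem_nbSub hx) he hg hgx
  have heq : ∀ a ∈ D, Subgroup.centralizer ({a} : Set G) = nbSub D a := fun a ha =>
    le_antisymm (fun g hg => hcov.centralizer_le ha (Subgroup.mem_centralizer_singleton_iff.mp hg))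
      fun g hg => mem_cent (nbSub_commute hg)
  refine ⟨F, iF, iFF, h, F0, iF0, iFF0, hF0, heq, fun a ha => ?_⟩
  obtain ⟨π', he⟩ := hall a ha
  let ι : ↥(Subgroup.centralizer ({a} : Set G)) ≃* ↥(nbSub D a) :=
    MulEquiv.subgroupCongr (heq a ha)
  exact ⟨π'.comp ι.toMonoidHom, he.surj.comp ι.surjective,
    fun y hy => (he.ker _ hy).imp (fun q => ι.injective (q.trans (map_one ι).symm))
      (fun q => ι.injective q), ι.injective (by rw [map_mul, map_one]; exact he.sq),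
    fun y => ι.injective (by rw [map_mul, map_mul]; exact (he.cen (ι y)).eq)⟩

end Cfsg.Agent.H93
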