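import Cfsg.Agent.H93.Local23
import Cfsg.Agent.H93.U6Frame

/-!
Seven pairwise commuting common neighbours with enough further ones between them: in the space of the
pair formed with one of them the other six are a hyperoval of a plane.
-/

set_option autoImplicit false

namespace Cfsg.Agent.H93

variable {G : Type*} [Group G] {D : Set G}

/-- seven pairwise commuting common neighbours, and separating members for their triples -/
structure Frm (D : Set G) (x j : G) (t : Fin 7 → G) : Prop where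
  mem : ∀ i, t i ∈ common D x j
  inj : Function.Injective t
  com : ∀ i k, Commute (t i) (t k)
  root : ∀ i k l n : Fin 7, n ≠ i → n ≠ k → n ≠ l → ∃ R ∈ common D x j, Commute R (t i) ∧
    Commute R (t k) ∧ Commute R (t l) ∧ ¬ Commute R (t n)

/-- the member lies on the line of two others in the space of a pair -/
def HSec (D : Set G) (x y u v g : G) : Prop :=
  ∀ R ∈ nb D x ∩ nb D y, Commute R u → Commute R v → Commute R g

/-- a member commuting with the seven and different from them -/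
structure Extra (D : Set G) (x : G) (t : Fin 7 → G) (g : G) : Prop where
  mem : g ∈ nb D x
  ne : ∀ m, g ≠ t m
  com : ∀ m, Commute g (t m)

theorem third_index : ∀ i e : Fin 7, i ≠ e → ∃ k l : Fin 7,
    k ≠ i ∧ l ≠ i ∧ k ≠ e ∧ l ≠ e ∧ l ≠ k := by decide

theorem five_left : ∀ i e : Fin 7, e ≠ i → Fintype.card {m : Fin 7 // m ≠ i ∧ m ≠ e} = 4 + 1 := by decide

namespace Frm

variable {x j : G} {t : Fin 7 → G} (fr : Frm D x j t)

include fr

theorem root_pair {i k l n : Fin 7} (h1 : n ≠ i) (h2 : n ≠ k) (h3 : n ≠ l) :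
    ∃ R ∈ nb D x ∩ nb D (t i), R ∈ common D x j ∧ Commute R (t k) ∧ Commute R (t l) ∧
      ¬ Commute R (t n) := by
  obtain ⟨R, hR, a, b, c, d⟩ := fr.root i k l n h1 h2 h3
  refine ⟨R, ⟨hR.1, hR.1.1, fun e => d ?_, a.symm⟩, hR, b, c, d⟩
  rw [e]
  exact fr.com i n

section Coord

variable {F : Type*} [Field F] [Fintype F] (hF : Fintype.card F = 4) {i : Fin 7}
  (sp : U6Space F (nb D x ∩ nb D (t i))) {V : Fin 7 → Vec F}
  (hV : ∀ m, m ≠ i → IsPt (V m) ∧ sp.pt (V m) = t m)

include hV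

omit [Fintype F] in
theorem orth_pts {m n : Fin 7} (hm : m ≠ i) (hn : n ≠ i) : hb (V m) (V n) = 0 :=
  (sp.comm (hV m hm).1 (hV n hn).1).mp (by rw [(hV m hm).2, (hV n hn).2]; exact fr.com m n)

omit [Fintype F] in
theorem not_same {m n : Fin 7} (hm : m ≠ i) (hn : n ≠ i) (hmn : m ≠ n) : ¬ SamePt (V m) (V n) :=
  fun q => hmn (fr.inj (by rw [← (hV m hm).2, ← (hV n hn).2]; exact (sp.same (hV m hm).1 (hV n hn).1).mpr q))

include hF

/-- the third point of a triple is off the line of the other two -/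
theorem off_line {k l n : Fin 7} (hk : k ≠ i) (hl : l ≠ i) (hn : n ≠ i) (h2 : n ≠ k) (h3 : n ≠ l)
    (α β : F) : V n ≠ α • V k + β • V l := by
  intro e
  obtain ⟨R, hR, -, ck, cl, cn⟩ := fr.root_pair (i := i) hn h2 h3
  obtain ⟨w, hw, ew⟩ := sp.surj R hR
  have ek := (sp.comm (hV k hk).1 hw).mp (by rw [(hV k hk).2, ew]; exact ck.symm)
  have el := (sp.comm (hV l hl).1 hw).mp (by rw [(hV l hl).2, ew]; exact cl.symm)
  refine cn ?_
  rw [← ew, ← (hV n hn).2]
  refine ((sp.comm (hV n hn).1 hw).mpr ?_).symm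
  rw [e, hb_add_left, hb_smul_left, hb_smul_left, ek, el, mul_zero, mul_zero, add_zero]

theorem indep_triple {k l n : Fin 7} (hk : k ≠ i) (hl : l ≠ i) (hn : n ≠ i) (h1 : k ≠ l) (h2 : n ≠ k)
    (h3 : n ≠ l) : LinearIndependent F ![V k, V l, V n] := by
  rw [Fintype.linearIndependent_iff]
  intro c hc
  rw [Fin.sum_univ_three] at hc
  simp only [Matrix.cons_val_zero, Matrix.cons_val_one, Matrix.cons_val] at hc
  have hc2 : c 2 = 0 := by
    by_contra q
    refine fr.off_line hF sp hV hk hl hn h2 h3 ((c 2)⁻¹ * c 0) ((c 2)⁻¹ * c 1) ?_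
    have e : c 2 • V n = c 0 • V k + c 1 • V l := (vec_eq_of_add hF hc).symm
    rw [← inv_smul_smul₀ q (V n), e, smul_add, smul_smul, smul_smul]
  rw [hc2, zero_smul, add_zero] at hc
  obtain ⟨e0, e1⟩ := LinearIndependent.pair_iff.mp
    (indep_pair (hV k hk).1.1 (fr.not_same sp hV hk hl h1)) _ _ hc
  intro m
  fin_cases m
  exacts [e0, e1, hc2]

theorem exists_coord {k l n : Fin 7} (hk : k ≠ i) (hl : l ≠ i) (hn : n ≠ i) (h1 : k ≠ l) (h2 : n ≠ k)
    (h3 : n ≠ l) : ∃ Q : Fin 3 → Vec F, Plane ![V k, V l, V n] Q ∧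
      ∀ v, hb v (V k) = 0 → hb v (V l) = 0 → hb v (V n) = 0 →
        v = hb v (Q 0) • V k + hb v (Q 1) • V l + hb v (Q 2) • V n := by
  obtain ⟨Q, p⟩ := exists_plane_of_li hF (fr.indep_triple hF sp hV hk hl hn h1 h2 h3) (fun a b => by
    fin_cases a <;> fin_cases b <;>
      exact fr.orth_pts sp hV (by assumption) (by assumption))
  refine ⟨Q, p, fun v a b c => vec_eq_of_add hF (p.eq_of_coord hF (fun m => ?_) fun m => ?_)⟩
  · have := p.orth 0 m
    have := p.orth 1 m
    have := p.orth 2 m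
    fin_cases m <;> simp_all [hb_add_left, hb_smul_left]
  · have e0 := p.dual' hF 0 m
    have e1 := p.dual' hF 1 m
    have e2 := p.dual' hF 2 m
    simp only [Matrix.cons_val_zero, Matrix.cons_val_one, Matrix.cons_val] at e0 e1 e2
    simp only [hb_add_left, hb_smul_left, e0, e1, e2]
    fin_cases m <;> simp [add_self_zero hF]

/-- a separating member puts a point on the line -/
theorem span_of_root {k l n : Fin 7} (hk : k ≠ i) (hl : l ≠ i) (hn : n ≠ i) (h1 : k ≠ l) (h2 : n ≠ k)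
    (h3 : n ≠ l) {g : G} {z : Vec F} (hz : IsPt z) (ez : sp.pt z = g) (hg : Extra D x t g) {R : G}
    (hR : R ∈ nb D x ∩ nb D (t i)) (ck : Commute R (t k)) (cl : Commute R (t l))
    (cn : ¬ Commute R (t n)) (cg : Commute R g) : ∃ α β : F, z = α • V k + β • V l := by
  obtain ⟨w, hw, ew⟩ := sp.surj R hR
  have o : ∀ {m}, m ≠ i → hb z (V m) = 0 := fun hm =>
    (sp.comm hz (hV _ hm).1).mp (by rw [ez, (hV _ hm).2]; exact hg.com _)
  obtain ⟨Q, -, hQ⟩ := fr.exists_coord hF sp hV hk hl hn h1 h2 h3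
  have e := hQ z (o hk) (o hl) (o hn)
  have ek := (sp.comm (hV k hk).1 hw).mp (by rw [(hV k hk).2, ew]; exact ck.symm)
  have el := (sp.comm (hV l hl).1 hw).mp (by rw [(hV l hl).2, ew]; exact cl.symm)
  have en : hb (V n) w ≠ 0 := fun q => cn (by
    rw [← ew, ← (hV n hn).2]; exact ((sp.comm (hV n hn).1 hw).mpr q).symm)
  have ezw := (sp.comm hz hw).mp (by rw [ez, ew]; exact cg.symm)
  rw [e, hb_add_left, hb_add_left, hb_smul_left, hb_smul_left, hb_smul_left, ek, el, mul_zero,
    mul_zero, zero_add, zero_add] at ezw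
  rw [(mul_eq_zero.mp ezw).resolve_right en, zero_smul, add_zero] at e
  exact ⟨_, _, e⟩

omit [Fintype F] hF fr in
/-- a point on a line is on it in the sense of the group -/
theorem sec_of_span {k l : Fin 7} (hk : k ≠ i) (hl : l ≠ i) {g : G} {z : Vec F} (hz : IsPt z)
    (ez : sp.pt z = g) {α β : F} (e : z = α • V k + β • V l) : HSec D x (t i) (t k) (t l) g := by
  intro R hR ck cl
  obtain ⟨w, hw, ew⟩ := sp.surj R hR
  have ek := (sp.comm (hV k hk).1 hw).mp (by rw [(hV k hk).2, ew]; exact ck.symm)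
  have el := (sp.comm (hV l hl).1 hw).mp (by rw [(hV l hl).2, ew]; exact cl.symm)
  rw [← ew, ← ez]
  refine ((sp.comm hz hw).mpr ?_).symm
  rw [e, hb_add_left, hb_smul_left, hb_smul_left, ek, el, mul_zero, mul_zero, add_zero]

end Coord

variable (h : M23Data D) (hx : x ∈ D)

include h hx

theorem exists_pts (i : Fin 7) :
    ∃ (F : Type) (_ : Field F) (_ : Fintype F) (_ : Fintype.card F = 4)
      (sp : U6Space F (nb D x ∩ nb D (t i))) (V : Fin 7 → Vec F),
      ∀ m, m ≠ i → IsPt (V m) ∧ sp.pt (V m) = t m := by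
  classical
  obtain ⟨F, iF, iFF, hF, sp, -⟩ := h.pair_space hx (fr.mem i).1
  have : ∀ m, m ≠ i → ∃ v, IsPt v ∧ sp.pt v = t m := fun m hm =>
    sp.surj _ ⟨(fr.mem m).1, (fr.mem m).1.1, fun e => hm (fr.inj e), fr.com i m⟩
  exact ⟨F, iF, iFF, hF, sp, fun m => if hm : m = i then 0 else (this m hm).choose,
    fun m hm => by simp only [dif_neg hm]; exact (this m hm).choose_spec⟩

/-- a member on two of the secants -/
theorem exists_extra {s e q a c : Fin 7} (hes : e ≠ s) (hqs : q ≠ s) (has : a ≠ s) (hcs : c ≠ s)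
    (heq : e ≠ q) (hea : e ≠ a) (hec : e ≠ c) (hqa : q ≠ a) (hqc : q ≠ c) (hac : a ≠ c) :
    ∃ g, Extra D x t g ∧ HSec D x (t s) (t e) (t q) g ∧ HSec D x (t s) (t a) (t c) g := by
  obtain ⟨F, iF, iFF, hF, sp, V, hV⟩ := fr.exists_pts h hx s
  obtain ⟨Q, p, hQ⟩ := fr.exists_coord hF sp hV hes hqs has heq hea.symm hqa.symm
  have o := fun {m n : Fin 7} (hm : m ≠ s) (hn : n ≠ s) => fr.orth_pts sp hV hm hn
  have ec := hQ (V c) (o hcs hes) (o hcs hqs) (o hcs has)
  set α := hb (V c) (Q 0)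
  set β := hb (V c) (Q 1)
  set γ := hb (V c) (Q 2)
  set z := α • V e + β • V q with hzdef
  have ez : z = (1 : F) • V c + γ • V a :=
    vec_eq_of_add hF (by rw [one_smul, ec]; calc
      z + (z + γ • V a + γ • V a) = (z + z) + (γ • V a + γ • V a) := by abel
      _ = 0 := by rw [vec_add_self hF, vec_add_self hF, add_zero])
  have hbz : ∀ {m}, m ≠ s → hb z (V m) = 0 := fun hm => by
    simp [z, hb_add_left, hb_smul_left, o hes hm, o hqs hm]
  have hz : IsPt z := by
    refine ⟨fun q0 => ?_, ?_⟩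
    · refine fr.off_line hF sp hV has has hcs hac.symm hac.symm γ 0 ?_
      rw [zero_smul, add_zero]
      rw [ez, one_smul] at q0
      exact vec_eq_of_add hF q0
    · simp [z, hb_add_left, hb_add_right hF, hb_smul_left, hb_smul_right, o hes hes, o hes hqs,
        o hqs hes, o hqs hqs]
  have hgm := sp.mem hz
  refine ⟨sp.pt z, ⟨hgm.1, fun m => ?_, fun m => ?_⟩,
    sec_of_span sp hV hes hqs hz rfl hzdef, sec_of_span sp hV hcs has hz rfl ez |> fun k R hR a b =>
      k R hR b a⟩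
  · intro q0
    by_cases hm : m = s
    · subst hm; exact hgm.2.2.1 q0
    obtain ⟨lam, hl⟩ := (sp.same (hV m hm).1 hz).mp (by rw [(hV m hm).2]; exact q0.symm)
    have hl0 : lam ≠ 0 := fun e0 => hz.1 (by rw [hl, e0, zero_smul])
    by_cases hme : m = e
    · subst hme
      by_cases hb0 : β = 0
      · refine fr.off_line hF sp hV hm has hcs hec.symm hac.symm α γ ?_
        rw [ec, hzdef, hb0, zero_smul, add_zero]
      · refine fr.off_line hF sp hV hm hm hqs heq.symm heq.symm (β⁻¹ * (lam + α)) 0 ?_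
        have e1 : β • V q = (lam + α) • V m := vec_eq_of_add hF (by
          rw [add_smul, ← hl, hzdef]
          calc β • V q + (α • V m + β • V q + α • V m) = (β • V q + β • V q) + (α • V m + α • V m) := by abel
            _ = 0 := by rw [vec_add_self hF, vec_add_self hF, add_zero])
        rw [zero_smul, add_zero, ← inv_smul_smul₀ hb0 (V q), e1, smul_smul]
    by_cases hmq : m = q
    · subst hmq
      by_cases ha0 : α = 0
      · refine fr.off_line hF sp hV hm has hcs hqc.symm hac.symm β γ ?_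
        rw [ec, hzdef, ha0, zero_smul, zero_add]
      · refine fr.off_line hF sp hV hm hm hes heq heq (α⁻¹ * (lam + β)) 0 ?_
        have e1 : α • V e = (lam + β) • V m := vec_eq_of_add hF (by
          rw [add_smul, ← hl, hzdef]
          calc α • V e + (α • V e + β • V m + β • V m) = (α • V e + α • V e) + (β • V m + β • V m) := by abel
            _ = 0 := by rw [vec_add_self hF, vec_add_self hF, add_zero])
        rw [zero_smul, add_zero, ← inv_smul_smul₀ ha0 (V e), e1, smul_smul]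
    refine fr.off_line hF sp hV hes hqs hm hme hmq (lam⁻¹ * α) (lam⁻¹ * β) ?_
    rw [← inv_smul_smul₀ hl0 (V m), ← hl, hzdef, smul_add, smul_smul, smul_smul]
  · by_cases hm : m = s
    · subst hm; exact hgm.2.2.2.symm
    · rw [← (hV m hm).2]; exact (sp.comm hz (hV m hm).1).mpr (hbz hm)

variable {g : G} (hg : Extra D x t g)

include hg

omit fr h hx in
theorem exists_z {i : Fin 7} {F : Type*} [Field F] (sp : U6Space F (nb D x ∩ nb D (t i))) :
    ∃ z, IsPt z ∧ sp.pt z = g :=
  sp.surj g ⟨hg.mem, hg.mem.1, hg.ne i, (hg.com i).symm⟩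

/-- a member with a separating root lies on the line -/
theorem sec_of_root {i k l n : Fin 7} (hk : k ≠ i) (hl : l ≠ i) (hn : n ≠ i) (h1 : k ≠ l) (h2 : n ≠ k)
    (h3 : n ≠ l) {R : G} (hR : R ∈ common D x j) (ci : Commute R (t i)) (ck : Commute R (t k))
    (cl : Commute R (t l)) (cn : ¬ Commute R (t n)) (cg : Commute R g) :
    HSec D x (t i) (t k) (t l) g := by
  obtain ⟨F, iF, iFF, hF, sp, V, hV⟩ := fr.exists_pts h hx i
  obtain ⟨z, hz, ez⟩ := exists_z hg sp
  obtain ⟨α, β, e⟩ := fr.span_of_root hF sp hV hk hl hn h1 h2 h3 hz ez hg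
    ⟨hR.1, hR.1.1, fun q => cn (by rw [q]; exact fr.com i n), ci.symm⟩ ck cl cn cg
  exact sec_of_span sp hV hk hl hz ez e

/-- every line through a point of the hyperoval is a secant -/
theorem exists_partner {i e : Fin 7} (he : e ≠ i) :
    ∃ m, m ≠ i ∧ m ≠ e ∧ HSec D x (t i) (t e) (t m) g := by
  classical
  obtain ⟨F, iF, iFF, hF, sp, V, hV⟩ := fr.exists_pts h hx i
  obtain ⟨z, hz, ez⟩ := exists_z hg sp
  obtain ⟨k, l, hk, hl, hke, hle, hlk⟩ := third_index i e he.symm
  obtain ⟨Q, -, hQ⟩ := fr.exists_coord hF sp hV he hk hl hke.symm hle hlk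
  have co : ∀ {m}, m ≠ i →
      V m = hb (V m) (Q 0) • V e + hb (V m) (Q 1) • V k + hb (V m) (Q 2) • V l := fun hm =>
    hQ _ (fr.orth_pts sp hV hm he) (fr.orth_pts sp hV hm hk) (fr.orth_pts sp hV hm hl)
  have oz : ∀ {m}, m ≠ i → hb z (V m) = 0 := fun hm =>
    (sp.comm hz (hV _ hm).1).mp (by rw [ez, (hV _ hm).2]; exact hg.com _)
  have cz := hQ z (oz he) (oz hk) (oz hl)
  let cl : Vec F → Option F := fun v =>
    if hb v (Q 2) = 0 then none else some (hb v (Q 1) / hb v (Q 2))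
  -- coordinates with the same class are proportional
  have hcl : ∀ v v' : Vec F, cl v = cl v' → (hb v' (Q 1) ≠ 0 ∨ hb v' (Q 2) ≠ 0) →
      ∃ μ : F, hb v (Q 1) = μ * hb v' (Q 1) ∧ hb v (Q 2) = μ * hb v' (Q 2) := by
    intro v v' q hne
    by_cases a : hb v' (Q 2) = 0
    · have b : hb v (Q 2) = 0 := by
        by_contra b
        simp [cl, a, b] at q
      have c : hb v' (Q 1) ≠ 0 := hne.resolve_right (by simp [a])
      exact ⟨hb v (Q 1) / hb v' (Q 1), (div_mul_cancel₀ _ c).symm, by rw [a, b, mul_zero]⟩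
    · have b : hb v (Q 2) ≠ 0 := fun b => by simp [cl, a, b] at q
      have q' : hb v (Q 1) / hb v (Q 2) = hb v' (Q 1) / hb v' (Q 2) := by
        simpa [cl, a, b] using q
      refine ⟨hb v (Q 2) / hb v' (Q 2), ?_, (div_mul_cancel₀ _ a).symm⟩
      rw [div_eq_div_iff b a] at q'
      field_simp
      linear_combination q'
  have hpos : ∀ {m}, m ≠ i → m ≠ e → hb (V m) (Q 1) ≠ 0 ∨ hb (V m) (Q 2) ≠ 0 := by
    intro m hm hme
    by_contra q
    simp only [not_or, not_not] at q
    refine fr.off_line hF sp hV he he hm hme hme (hb (V m) (Q 0)) 0 ?_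
    rw [zero_smul, add_zero]
    refine (co hm).trans ?_
    rw [q.1, q.2, zero_smul, zero_smul, add_zero, add_zero]
  have hinj : Function.Injective (fun m : {m : Fin 7 // m ≠ i ∧ m ≠ e} => cl (V m.1)) := by
    rintro ⟨m, hm, hme⟩ ⟨n, hn, hne⟩ q
    by_contra hmn
    have hmn' : m ≠ n := fun e => hmn (Subtype.ext e)
    obtain ⟨μ, e1, e2⟩ := hcl (V m) (V n) q (hpos hn hne)
    refine fr.off_line hF sp hV he hn hm hme hmn' (hb (V m) (Q 0) + μ * hb (V n) (Q 0)) μ ?_
    refine (co hm).trans ?_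
    rw [e1, e2]
    have key := congrArg (fun v => μ • v) (co hn)
    simp only [smul_add, smul_smul] at key
    rw [key, add_smul]
    have := vec_add_self hF ((μ * hb (V n) (Q 0)) • V e)
    calc hb (V m) (Q 0) • V e + (μ * hb (V n) (Q 1)) • V k + (μ * hb (V n) (Q 2)) • V l
        = hb (V m) (Q 0) • V e + ((μ * hb (V n) (Q 0)) • V e + (μ * hb (V n) (Q 0)) • V e) +
          ((μ * hb (V n) (Q 1)) • V k + (μ * hb (V n) (Q 2)) • V l) := by
            rw [this, add_zero, add_assoc]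
      _ = _ := by abel
  have hcard : Fintype.card {m : Fin 7 // m ≠ i ∧ m ≠ e} = Fintype.card (Option F) := by
    rw [Fintype.card_option, hF]
    exact five_left i e he
  obtain ⟨⟨m, hm, hme⟩, q⟩ := ((Fintype.bijective_iff_injective_and_card _).mpr ⟨hinj, hcard⟩).2 (cl z)
  obtain ⟨μ, e1, e2⟩ := hcl z (V m) q.symm (hpos hm hme)
  refine ⟨m, hm, hme, sec_of_span sp hV he hm hz ez (α := hb z (Q 0) + μ * hb (V m) (Q 0)) (β := μ) ?_⟩
  refine cz.trans ?_
  rw [e1, e2]
  have key := congrArg (fun v => μ • v) (co hm)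
  simp only [smul_add, smul_smul] at key
  rw [key, add_smul]
  have := vec_add_self hF ((μ * hb (V m) (Q 0)) • V e)
  calc hb z (Q 0) • V e + (μ * hb (V m) (Q 1)) • V k + (μ * hb (V m) (Q 2)) • V l
      = hb z (Q 0) • V e + ((μ * hb (V m) (Q 0)) • V e + (μ * hb (V m) (Q 0)) • V e) +
        ((μ * hb (V m) (Q 1)) • V k + (μ * hb (V m) (Q 2)) • V l) := by
          rw [this, add_zero, add_assoc]
    _ = _ := by abel

/-- two secants through a point outside meet the hyperoval in different points -/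
theorem sec_unique {i k l n : Fin 7} (hk : k ≠ i) (hl : l ≠ i) (hn : n ≠ i) (hkl : k ≠ l) (hkn : k ≠ n)
    (hln : l ≠ n) (s1 : HSec D x (t i) (t k) (t l) g) (s2 : HSec D x (t i) (t k) (t n) g) : False := by
  obtain ⟨F, iF, iFF, hF, sp, V, hV⟩ := fr.exists_pts h hx i
  obtain ⟨z, hz, ez⟩ := exists_z hg sp
  obtain ⟨R, hR, -, rk, rl, rn⟩ := fr.root_pair (i := i) hn hkn.symm hln.symm
  obtain ⟨α, β, e1⟩ := fr.span_of_root hF sp hV hk hl hn hkl hkn.symm hln.symm hz ez hg hR rk rl rn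
    (s1 R hR rk rl)
  obtain ⟨R', hR', -, rk', rn', rl'⟩ := fr.root_pair (i := i) hl hkl.symm hln
  obtain ⟨α', β', e2⟩ := fr.span_of_root hF sp hV hk hn hl hkn hkl.symm hln hz ez hg hR' rk' rn' rl'
    (s2 R' hR' rk' rn')
  have hb0 : β = 0 := by
    by_contra q
    refine fr.off_line hF sp hV hk hn hl hkl.symm hln (β⁻¹ * (α + α')) (β⁻¹ * β') ?_
    have e : β • V l = (α + α') • V k + β' • V n := vec_eq_of_add hF (by
      rw [add_smul, show β • V l + (α • V k + α' • V k + β' • V n) =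
        (α • V k + β • V l) + (α' • V k + β' • V n) by abel, ← e1, ← e2, vec_add_self hF])
    rw [← inv_smul_smul₀ q (V l), e, smul_add, smul_smul, smul_smul]
  rw [hb0, zero_smul, add_zero] at e1
  refine hg.ne k ?_
  rw [← ez, ← (hV k hk).2]
  exact ((sp.same (hV k hk).1 hz).mpr ⟨α, e1⟩).symm

end Frm

end Cfsg.Agent.H93
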