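import Cfsg.Agent.H93.Omega23
import Cfsg.Agent.H93.Hyperoval
import Cfsg.Prelude.Def_Spor_Fi23

/-!
Groups of type M(23): ten members satisfying the relations of the presented Fischer group Fi23.
-/

set_option autoImplicit false

namespace Cfsg.Agent.H93

open RefModel (V7 dt rf E)
open Cfsg.Spor.Fi23 (Gen)

namespace Config23

/-- the vectors of the letters among the common neighbours (`g` and `j` get a dummy) -/
def vec (c p : Fin 7) : Gen → V7
  | .a => E 0
  | .b => fun m => E 0 m + E c m + 2 * E p m + E 5 m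
  | .c => E c
  | .d => fun m => E c m + E 2 m + E 3 m + E p m
  | .e => E 2
  | .f => fun m => E 2 m + 2 * E p m + 2 * E 5 m + E 6 m
  | .g => E 0
  | .j => E 0
  | .h => E 3
  | .i => fun m => E 3 m + 2 * E p m + 2 * E 5 m + E 6 m

/-- a letter naming a common neighbour -/
def inC (x : Gen) : Bool :=
  match x with
  | .g => false
  | .j => false
  | _ => true

/-- the letters -/
def gens : List Gen := [.a, .b, .c, .d, .e, .f, .g, .j, .h, .i]

theorem mem_gens (x : Gen) : x ∈ gens := by cases x <;> decide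

theorem vec_norm : ∀ c p : Fin 7, (c = 1 ∧ p = 4) ∨ (c = 4 ∧ p = 1) →
    ∀ x ∈ gens, dt (vec c p x) (vec c p x) = 1 := by decide +kernel

theorem vec_table : ∀ c p : Fin 7, (c = 1 ∧ p = 4) ∨ (c = 4 ∧ p = 1) →
    ∀ x ∈ gens, ∀ y ∈ gens, inC x = true → inC y = true → x ≠ y →
      ((Cfsg.Spor.coxLabel Cfsg.Spor.Fi23.edges x y = 2 ∧ dt (vec c p x) (vec c p y) = 0) ∨
        (Cfsg.Spor.coxLabel Cfsg.Spor.Fi23.edges x y = 3 ∧ dt (vec c p x) (vec c p y) ≠ 0 ∧
          vec c p y ≠ vec c p x ∧ vec c p y ≠ -vec c p x)) := by decide +kernel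

/-- the first further relator -/
def wordA : List Gen := [.d, .c, .b, .d, .e, .f, .d, .h, .i]

/-- the second further relator -/
def wordB : List Gen := [.a, .b, .c, .d, .e, .f, .h]

theorem wordA_rel : ∀ c p : Fin 7, (c = 1 ∧ p = 4) ∨ (c = 4 ∧ p = 1) → ∀ k,
    (-1 : ZMod 3) ^ 90 • ((List.replicate 10 wordA).flatten.map (vec c p)).foldr rf (E k) = E k := by
  decide +kernel

theorem wordB_rel : ∀ c p : Fin 7, (c = 1 ∧ p = 4) ∨ (c = 4 ∧ p = 1) → ∀ k,
    (-1 : ZMod 3) ^ 63 • ((List.replicate 9 wordB).flatten.map (vec c p)).foldr rf (E k) = E k := by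
  decide +kernel

/-- a separating vector for three unit vectors -/
def sepVec (i k l n : Fin 7) : V7 := fun m =>
  if m = n ∨ m ∈ ((List.finRange 7).filter fun q => decide (q ≠ i ∧ q ≠ k ∧ q ≠ l ∧ q ≠ n)).take 3
  then 1 else 0

theorem sepVec_spec : ∀ i k l n : Fin 7, n ≠ i → n ≠ k → n ≠ l →
    dt (sepVec i k l n) (sepVec i k l n) = 1 ∧ dt (sepVec i k l n) (E i) = 0 ∧
      dt (sepVec i k l n) (E k) = 0 ∧ dt (sepVec i k l n) (E l) = 0 ∧
      dt (sepVec i k l n) (E n) ≠ 0 ∧ E n ≠ sepVec i k l n ∧ E n ≠ -sepVec i k l n := by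
  decide +kernel

theorem E_facts : ∀ m n : Fin 7, dt (E m) (E m) = 1 ∧ (m ≠ n → dt (E m) (E n) = 0) ∧
    (E n = E m ∨ E n = -E m → m = n) := by decide +kernel

theorem pick : ∀ m : Fin 7, m ≠ 0 → m ≠ 2 → m ≠ 3 → m ≠ 5 → m ≠ 6 →
    ∃ p : Fin 7, (m = 1 ∧ p = 4) ∨ (m = 4 ∧ p = 1) := by decide

theorem b_facts : ∀ c p : Fin 7, (c = 1 ∧ p = 4) ∨ (c = 4 ∧ p = 1) →
    dt (vec c p .b) (E 2) = 0 ∧ dt (vec c p .b) (E 3) = 0 ∧ dt (vec c p .b) (E 6) = 0 ∧
    dt (vec c p .b) (E 0) ≠ 0 ∧ E 0 ≠ vec c p .b ∧ E 0 ≠ -vec c p .b ∧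
    dt (vec c p .d) (E 0) = 0 ∧ dt (vec c p .d) (E 5) = 0 ∧ dt (vec c p .d) (E 6) = 0 ∧
    dt (vec c p .d) (E 2) ≠ 0 ∧ E 2 ≠ vec c p .d ∧ E 2 ≠ -vec c p .d ∧
    dt (vec c p .i) (E 0) = 0 ∧ dt (vec c p .i) (E c) = 0 ∧ dt (vec c p .i) (E 2) = 0 ∧
    dt (vec c p .f) (E 0) = 0 ∧ dt (vec c p .f) (E c) = 0 ∧ dt (vec c p .f) (E 3) = 0 ∧
    dt (vec c p .f) (E 2) ≠ 0 ∧ E 2 ≠ vec c p .f ∧ E 2 ≠ -vec c p .f := by decide +kernel

end Config23

open Config23

variable {G : Type*} [Group G]

theorem HSec.symm {D : Set G} {x y u v g : G} (s : HSec D x y u v g) : HSec D x y v u g :=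
  fun R hR a b => s R hR b a

/-- ten members in the positions of the diagram -/
theorem exists_config [Finite G] {D : Set G} (hD : Cfsg.IsThreeTranspositionClass D)
    (h23 : Cfsg.IsOfTypeM23 G D) {x j : G} (hx : x ∈ D) (hj : j ∈ D) (hn : ¬ Commute x j) :
    ∃ ψ : Gen → G, (∀ y, ψ y ∈ D) ∧ (∀ y, y ≠ Gen.j → Commute x (ψ y)) ∧ ψ Gen.j = j ∧
      (∀ y z, (ψ y * ψ z) ^ Cfsg.Spor.coxLabel Cfsg.Spor.Fi23.edges y z = 1) ∧
      ((List.replicate 10 wordA).flatten.map ψ).prod = 1 ∧
      ((List.replicate 9 wordB).flatten.map ψ).prod = 1 := by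
  classical
  have h := geo23 hD h23
  have hd := m23data hD h23
  have htt := h.core.tt
  obtain ⟨rm⟩ := ref_map hD h23 hx hj hn
  set t : Fin 7 → G := fun m => rm.mem (E m) with htdef
  have nE : ∀ m, dt (E m) (E m) = 1 := fun m => (E_facts m m).1
  have ncomm : ∀ {v : V7}, dt v v = 1 → ∀ {n}, dt v (E n) ≠ 0 → E n ≠ v → E n ≠ -v →
      ¬ Commute (rm.mem v) (t n) := by
    intro v hv n h0 h1 h2 q
    rcases (rm.comm hv (nE n)).mp q with e | e | e
    exacts [h0 e, h1 e, h2 e]
  have ycomm : ∀ {v : V7}, dt v v = 1 → ∀ {n}, dt v (E n) = 0 → Commute (rm.mem v) (t n) :=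
    fun hv => fun h0 => (rm.comm hv (nE _)).mpr (Or.inl h0)
  have fr : Frm D x j t := by
    refine ⟨fun m => rm.mem_common (nE m), fun m n e => ?_, fun m n => ?_, fun i k l n h1 h2 h3 => ?_⟩
    · exact (E_facts m n).2.2 ((rm.same (nE m) (nE n)).mp e)
    · by_cases e : m = n
      · subst e; exact Commute.refl _
      · exact (rm.comm (nE m) (nE n)).mpr (Or.inl ((E_facts m n).2.1 e))
    · obtain ⟨a0, a1, a2, a3, a4, a5, a6⟩ := sepVec_spec i k l n h1 h2 h3
      exact ⟨_, rm.mem_common a0, ycomm a0 a1, ycomm a0 a2, ycomm a0 a3, ncomm a0 a4 a5 a6⟩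
  obtain ⟨g, hg, sb, sd⟩ := fr.exists_extra hd hx (s := 6) (e := 2) (q := 3) (a := 0) (c := 5)
    (by decide) (by decide) (by decide) (by decide) (by decide) (by decide) (by decide) (by decide)
    (by decide) (by decide)
  obtain ⟨c, hc0, hc2, sc⟩ := fr.exists_partner hd hx hg (i := 0) (e := 2) (by decide)
  have v14 : ((1 : Fin 7) = 1 ∧ (4 : Fin 7) = 4) ∨ ((1 : Fin 7) = 4 ∧ (4 : Fin 7) = 1) :=
    Or.inl ⟨rfl, rfl⟩
  have inR : ∀ {v : V7} {m : Fin 7}, dt v v = 1 → dt v (E m) = 0 → rm.mem v ≠ t m →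
      rm.mem v ∈ nb D x ∩ nb D (t m) := fun hv h0 hne =>
    ⟨(rm.mem_common hv).1, (rm.mem_common hv).1.1, hne, (ycomm hv h0).symm⟩
  have neR : ∀ {v : V7} {m n : Fin 7}, dt v v = 1 → dt v (E n) ≠ 0 → E n ≠ v → E n ≠ -v →
      rm.mem v ≠ t m := fun hv h0 h1 h2 e => ncomm hv h0 h1 h2 (by rw [e]; exact fr.com _ _)
  have nv : ∀ (c p : Fin 7), (c = 1 ∧ p = 4) ∨ (c = 4 ∧ p = 1) → ∀ y, dt (vec c p y) (vec c p y) = 1 :=
    fun c p hcp y => vec_norm c p hcp y (mem_gens y)
  -- the secants fixed at the outset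
  have sqs : HSec D x (t 0) (t 5) (t 6) g := by
    obtain ⟨b1, b2, b3, b4, b5, b6, d1, d2, d3, d4, d5, d6, -⟩ := b_facts 1 4 v14
    have hn1 := nv 1 4 v14 Gen.d
    refine fr.sec_of_root hd hx hg (n := 2) (by decide) (by decide) (by decide) (by decide) (by decide)
      (by decide) (rm.mem_common hn1) (ycomm hn1 d1) (ycomm hn1 d2) (ycomm hn1 d3)
      (ncomm hn1 d4 d5 d6) (sd _ (inR hn1 d3 (neR hn1 d4 d5 d6)) (ycomm hn1 d1) (ycomm hn1 d2))
  have c5 : c ≠ 5 := by
    rintro rfl
    exact fr.sec_unique hd hx hg (k := 5) (l := 6) (n := 2) (by decide) (by decide) (by decide)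
      (by decide) (by decide) (by decide) sqs sc.symm
  have c6 : c ≠ 6 := by
    rintro rfl
    exact fr.sec_unique hd hx hg (k := 6) (l := 5) (n := 2) (by decide) (by decide) (by decide)
      (by decide) (by decide) (by decide) sqs.symm sc.symm
  have c3 : c ≠ 3 := by
    rintro rfl
    obtain ⟨b1, b2, b3, b4, b5, b6, -⟩ := b_facts 1 4 v14
    have hn1 := nv 1 4 v14 Gen.b
    have sh : HSec D x (t 2) (t 3) (t 6) g :=
      fr.sec_of_root hd hx hg (n := 0) (by decide) (by decide) (by decide) (by decide) (by decide)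
        (by decide) (rm.mem_common hn1) (ycomm hn1 b1) (ycomm hn1 b2) (ycomm hn1 b3)
        (ncomm hn1 b4 b5 b6) (sb _ (inR hn1 b3 (neR hn1 b4 b5 b6)) (ycomm hn1 b1) (ycomm hn1 b2))
    obtain ⟨R, hR, hRc, re, rh, rs⟩ := fr.root_pair (i := 0) (k := 2) (l := 3) (n := 6)
      (by decide) (by decide) (by decide)
    have sa : HSec D x (t 2) (t 3) (t 0) g :=
      fr.sec_of_root hd hx hg (n := 6) (by decide) (by decide) (by decide) (by decide) (by decide)
        (by decide) hRc re rh hR.2.2.2.symm rs (sc R hR re rh)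
    exact fr.sec_unique hd hx hg (k := 3) (l := 0) (n := 6) (by decide) (by decide) (by decide)
      (by decide) (by decide) (by decide) sa sh
  obtain ⟨p, hcp⟩ := pick c hc0 hc2 c3 c5 c6
  obtain ⟨b1, b2, b3, b4, b5, b6, d1, d2, d3, d4, d5, d6, i1, i2, i3, f1, f2, f3, f4, f5, f6⟩ :=
    b_facts c p hcp
  have nrm := nv c p hcp
  let ψ : Gen → G := fun y =>
    match y with
    | .g => g
    | .j => j
    | y => rm.mem (vec c p y)
  have ψC : ∀ y, inC y = true → ψ y = rm.mem (vec c p y) := fun y hy => by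
    cases y <;> first | rfl | exact absurd hy (by decide)
  have jC : ∀ y, inC y = true → Commute (ψ y) j ∧ ψ y ∈ D ∧ Commute x (ψ y) := fun y hy => by
    rw [ψC y hy]
    have := rm.mem_common (nrm y)
    exact ⟨this.2.2.2.symm, this.1.1, this.1.2.2⟩
  have gb : Commute (rm.mem (vec c p .b)) g :=
    sb _ (inR (nrm _) b3 (neR (nrm _) b4 b5 b6)) (ycomm (nrm _) b1) (ycomm (nrm _) b2)
  have gd : Commute (rm.mem (vec c p .d)) g :=
    sd _ (inR (nrm _) d3 (neR (nrm _) d4 d5 d6)) (ycomm (nrm _) d1) (ycomm (nrm _) d2)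
  have iT : rm.mem (vec c p .i) ≠ t 0 := fun e => by
    rcases (rm.same (nrm _) (nE 0)).mp e with q | q <;>
      (rcases hcp with ⟨rfl, rfl⟩ | ⟨rfl, rfl⟩ <;> revert q <;> decide +kernel)
  have gi : Commute (rm.mem (vec c p .i)) g :=
    sc _ (inR (nrm _) i1 iT) (ycomm (nrm _) i3) (ycomm (nrm _) i2)
  have gf : ¬ Commute (rm.mem (vec c p .f)) g := by
    intro q
    have sf : HSec D x (t 0) (t c) (t 3) g :=
      fr.sec_of_root hd hx hg (n := 2) hc0 (by decide) (by decide) c3 hc2.symm (by decide)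
        (rm.mem_common (nrm _)) (ycomm (nrm _) f1) (ycomm (nrm _) f2) (ycomm (nrm _) f3)
        (ncomm (nrm _) f4 f5 f6) q
    exact fr.sec_unique hd hx hg hc0 (by decide) (by decide) c3 hc2 (by decide) sf sc.symm
  have gD : g ∈ D := hg.mem.1
  have gj : ¬ Commute g j := by
    intro q
    have hgC : g ∈ common D x j := by
      refine ⟨hg.mem, hg.mem.1, fun e => ?_, q.symm⟩
      rw [e] at hg
      exact hn hg.mem.2.2
    obtain ⟨v, hv, ev⟩ := rm.surj hgC
    have hz : ∀ m, dt v (E m) = 0 := fun m => by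
      have hc := hg.com m
      rw [← ev] at hc
      rcases (rm.comm hv (nE m)).mp hc with e | e
      · exact e
      · exact absurd (ev.symm.trans ((rm.same hv (nE m)).mpr e)) (hg.ne m)
    have : v = 0 := funext fun m => by
      have := hz m
      simp only [dt, E, Pi.single_apply, mul_ite, mul_one, mul_zero, Finset.sum_ite_eq',
        Finset.mem_univ, if_true] at this
      exact this
    rw [this] at hv
    simp [dt] at hv
  have gC : ∀ y, inC y = true → y ≠ Gen.f → Commute (ψ y) g := fun y hy hyf => by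
    rw [ψC y hy]
    cases y
    · exact (hg.com 0).symm
    · exact gb
    · exact (hg.com c).symm
    · exact gd
    · exact (hg.com 2).symm
    · exact absurd rfl hyf
    · exact absurd hy (by decide)
    · exact absurd hy (by decide)
    · exact (hg.com 3).symm
    · exact gi
  have memD : ∀ y, ψ y ∈ D := fun y => by
    by_cases hy : inC y = true
    · exact (jC y hy).2.1
    · cases y <;> first | exact gD | exact hj | exact absurd rfl hy
  have two : ∀ {u v}, u ∈ D → v ∈ D → Commute u v → (u * v) ^ 2 = 1 :=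
    fun hu hv q => (pow_two _).trans (htt.sq_of_commute hu hv q)
  have thr : ∀ {u v}, u ∈ D → v ∈ D → ¬ Commute u v → (u * v) ^ 3 = 1 :=
    fun hu hv q => htt.cube hu hv q
  refine ⟨ψ, memD, fun y hy => ?_, rfl, fun y z => ?_, ?_, ?_⟩
  · by_cases hc' : inC y = true
    · exact (jC y hc').2.2
    · cases y <;> first | exact hg.mem.2.2 | exact absurd rfl hy | exact absurd rfl hc'
  · by_cases hyz : y = z
    · subst hyz
      rw [show Cfsg.Spor.coxLabel Cfsg.Spor.Fi23.edges y y = 1 from if_pos rfl, pow_one,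
        htt.sq _ (memD y)]
    by_cases hy : inC y = true <;> by_cases hz : inC z = true
    · rcases vec_table c p hcp y (mem_gens y) z (mem_gens z) hy hz hyz with ⟨e, q⟩ | ⟨e, q, q1, q2⟩
      · rw [e]
        refine two (memD y) (memD z) ?_
        rw [ψC y hy, ψC z hz]
        exact (rm.comm (nrm y) (nrm z)).mpr (Or.inl q)
      · rw [e]
        refine thr (memD y) (memD z) fun k => ?_
        rw [ψC y hy, ψC z hz] at k
        rcases (rm.comm (nrm y) (nrm z)).mp k with r | r | r
        exacts [q r, q1 r, q2 r]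
    · rcases (show z = Gen.g ∨ z = Gen.j by cases z <;> first | exact Or.inl rfl | exact Or.inr rfl |
        exact absurd rfl hz) with rfl | rfl
      · by_cases hf : y = Gen.f
        · subst hf
          exact thr (memD Gen.f) gD gf
        · rw [show Cfsg.Spor.coxLabel Cfsg.Spor.Fi23.edges y Gen.g = 2 by
            cases y <;> first | exact absurd rfl hf | exact absurd hy (by decide) | decide]
          exact two (memD _) gD (gC y hy hf)
      · rw [show Cfsg.Spor.coxLabel Cfsg.Spor.Fi23.edges y Gen.j = 2 by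
          cases y <;> first | exact absurd hy (by decide) | decide]
        exact two (memD _) hj (jC y hy).1
    · rcases (show y = Gen.g ∨ y = Gen.j by cases y <;> first | exact Or.inl rfl | exact Or.inr rfl |
        exact absurd rfl hy) with rfl | rfl
      · by_cases hf : z = Gen.f
        · subst hf
          exact thr gD (memD Gen.f) fun q => gf q.symm
        · rw [show Cfsg.Spor.coxLabel Cfsg.Spor.Fi23.edges Gen.g z = 2 by
            cases z <;> first | exact absurd rfl hf | exact absurd hz (by decide) | decide]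
          exact two gD (memD _) (gC z hz hf).symm
      · rw [show Cfsg.Spor.coxLabel Cfsg.Spor.Fi23.edges Gen.j z = 2 by
          cases z <;> first | exact absurd hz (by decide) | decide]
        exact two hj (memD _) (jC z hz).1.symm
    · cases y <;> cases z <;> first
        | exact absurd rfl hy
        | exact absurd rfl hz
        | exact absurd rfl hyz
        | exact thr gD hj gj
        | exact thr hj gD fun q => gj q.symm
  · have e : ((List.replicate 10 wordA).flatten.map ψ) =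
        ((List.replicate 10 wordA).flatten.map (vec c p)).map rm.mem := by
      rw [List.map_map]; rfl
    rw [e]
    refine rm.rel _ (fun v hv => ?_) fun k => ?_
    · obtain ⟨y, -, rfl⟩ := List.mem_map.mp hv; exact nrm y
    · rw [show ((List.replicate 10 wordA).flatten.map (vec c p)).length = 90 from rfl]
      exact wordA_rel c p hcp k
  · have e : ((List.replicate 9 wordB).flatten.map ψ) =
        ((List.replicate 9 wordB).flatten.map (vec c p)).map rm.mem := by
      rw [List.map_map]; rfl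
    rw [e]
    refine rm.rel _ (fun v hv => ?_) fun k => ?_
    · obtain ⟨y, -, rfl⟩ := List.mem_map.mp hv; exact nrm y
    · rw [show ((List.replicate 9 wordB).flatten.map (vec c p)).length = 63 from rfl]
      exact wordB_rel c p hcp k

end Cfsg.Agent.H93
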