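import Cfsg.Agent.H93.Parity

/-!
The commuting graph of a class of type M(22) or M(23) is connected.
-/

set_option autoImplicit false

namespace Cfsg.Agent.H93

variable {G : Type*} [Group G] {D : Set G} {F : Type*} [Field F] [Fintype F]
  (hF : Fintype.card F = 4)

omit [Fintype F] in
theorem mem_nb_nb {a b x : G} : x ∈ nb (nb D a) b ↔ x ∈ nb D a ∩ nb D b :=
  ⟨fun h => ⟨h.1, h.1.1, h.2⟩, fun h => ⟨h.1, h.2.2⟩⟩

/-- an involution of the common neighbourhood permutes the rest of a line -/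
theorem line_step {S : Set G} {b p q r : G} {L : List G} (ι : G → G) (hpX : p ∈ nb S b)
    (hL : ∀ z ∈ S, Commute z b → Commute z p → ∀ x ∈ L, Commute z x)
    (hup : ∀ y ∈ S, (∀ z ∈ S, Commute z b → Commute z p → Commute z y) → y ∈ L)
    (hι : ∀ v ∈ nb S b, ι v ∈ nb S b ∧ ι (ι v) = v ∧ Commute v (ι v) ∧ ι v ≠ v)
    (hc : ∀ v ∈ nb S b, ∀ v' ∈ nb S b, Commute v v' ↔ Commute (ι v) (ι v'))
    (hq : ι p = q) (hqL : q ∈ L) (hrX : r ∈ nb S b) (hrL : r ∈ L) (hrp : r ≠ p) (hrq : r ≠ q) :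
    ι r ∈ L ∧ ι r ≠ b ∧ ι r ≠ p ∧ ι r ≠ q ∧ ι r ≠ r := by
  obtain ⟨hr', hrr, -, hrne⟩ := hι r hrX
  obtain ⟨hq', hqp, -, -⟩ := hι p hpX
  refine ⟨hup _ hr'.1 fun z hz hzb hzp => ?_, hr'.2.1, ?_, ?_, hrne⟩
  · by_cases e : z = b
    · subst e; exact hr'.2.2
    have hzX : z ∈ nb S b := ⟨hz, e, hzb.symm⟩
    obtain ⟨hz', hzz, -, -⟩ := hι z hzX
    have a1 : Commute (ι z) p := by
      have := (hc z hzX (ι p) hq').mp (hq ▸ hL z hz hzb hzp q hqL)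
      rwa [hqp] at this
    have a2 := hL _ hz'.1 hz'.2.2.symm a1 r hrL
    exact hzz ▸ (hc _ hz' r hrX).mp a2
  · intro e
    rw [← hrr, e, hq] at hrq
    exact hrq rfl
  · intro e
    rw [← hrr, e, ← hq, hqp] at hrp
    exact hrp rfl

variable [Finite G]

include hF

theorem conn_of_spaces (hD : Core D) (hsp : ∀ a ∈ D, Nonempty (U6Space F (nb D a))) : Conn D := by
  intro a ha y hy
  by_contra hr
  obtain ⟨B, haB, hA⟩ := exists_apart ha hy hr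
  obtain ⟨sp⟩ := hsp a ha
  obtain ⟨b, hb⟩ := hD.edge a ha
  have tr : ∀ (b : G) (ι : G → G), (∀ p ∈ nb D a ∩ nb D b, ι p ∈ nb D a ∩ nb D b ∧ ι (ι p) = p ∧
      ι p ∈ nb D p ∧ psi y a (ι p) = psi y b p) →
      ∀ v ∈ nb (nb D a) b, ι v ∈ nb (nb D a) b ∧ ι (ι v) = v ∧ Commute v (ι v) ∧ ι v ≠ v := by
    intro b ι h v hv
    obtain ⟨h1, h2, h3, -⟩ := h v (mem_nb_nb.mp hv)
    exact ⟨mem_nb_nb.mpr h1, h2, h3.2.2, h3.2.1⟩
  obtain ⟨ι, hι, hc⟩ := hA.exists_iota hD haB hb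
  have hι' := tr b ι hι
  have hc' : ∀ v ∈ nb (nb D a) b, ∀ v' ∈ nb (nb D a) b, Commute v v' ↔ Commute (ι v) (ι v') :=
    fun v hv v' hv' => hc v (mem_nb_nb.mp hv) v' (mem_nb_nb.mp hv')
  obtain ⟨p, hp, hperp⟩ := sp.exists_line_image hF hb ι
    (fun v hv => ⟨(hι' v hv).1, (hι' v hv).2.1, (hι' v hv).2.2.1⟩) hc'
  have hpD := mem_nb_nb.mp hp
  obtain ⟨hqX, -, hqp, hqe⟩ := hι p hpD
  obtain ⟨t₁, t₂, t₃, h1, h2, h3, hnd, hcom, hdown, hup, -⟩ :=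
    sp.exists_line hF (fun v hv => hD.tt.sq v hv.1) hb hp.1 hp.2.1.symm hp.2.2
  set L := [b, p, t₁, t₂, t₃] with hLdef
  have hL : ∀ z ∈ nb D a, Commute z b → Commute z p → ∀ x ∈ L, Commute z x := by
    intro z hz hzb hzp x hx
    obtain ⟨c1, c2, c3⟩ := hdown z hz hzb hzp
    simp only [hLdef, List.mem_cons, List.not_mem_nil, or_false] at hx
    rcases hx with rfl | rfl | rfl | rfl | rfl <;> assumption
  have hLS : ∀ x ∈ L, x ∈ nb D a := by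
    intro x hx
    simp only [hLdef, List.mem_cons, List.not_mem_nil, or_false] at hx
    rcases hx with rfl | rfl | rfl | rfl | rfl
    exacts [hb, hp.1, h1, h2, h3]
  have hLX : ∀ x ∈ L, ∀ c ∈ L, x ≠ c → x ∈ nb (nb D a) c := fun x hx c hc hne =>
    ⟨hLS x hx, hne, hcom c hc x hx⟩
  have hqL : ι p ∈ L := by
    refine hup _ hqX.1 fun z hz hzb hzp => ?_
    by_cases e : z = b
    · subst e; exact hqX.2.2.2
    · exact hperp z ⟨hz, e, hzb.symm⟩ hzp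
  have hq4 : ι p ≠ b ∧ ι p ≠ p := ⟨hqX.2.2.1, hqp.2.1⟩
  obtain ⟨r, s, hrL, hr1, hr2, hr3, hrs⟩ : ∃ r s, r ∈ L ∧ r ≠ b ∧ r ≠ p ∧ r ≠ ι p ∧
      ∀ x ∈ L, x ≠ b → x ≠ p → x ≠ ι p → x ≠ r → x = s := by
    simp only [hLdef, List.nodup_cons, List.mem_cons, List.not_mem_nil, or_false, not_or, List.nodup_nil,
      and_true, not_false_eq_true] at hnd
    obtain ⟨⟨-, b1, b2, b3⟩, ⟨p1, p2, p3⟩, ⟨t12, t13⟩, t23⟩ := hnd
    simp only [hLdef, List.mem_cons, List.not_mem_nil, or_false] at hqL ⊢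
    rcases hqL with e | e | e | e | e
    · exact absurd e hq4.1
    · exact absurd e hq4.2
    · refine ⟨t₂, t₃, by simp, Ne.symm b2, Ne.symm p2, e ▸ Ne.symm t12, ?_⟩
      rintro x (rfl | rfl | rfl | rfl | rfl) x1 x2 x3 x4 <;> first | rfl | exact absurd rfl x1 | exact absurd rfl x2 | exact absurd e.symm x3 | exact absurd rfl x4
    · refine ⟨t₁, t₃, by simp, Ne.symm b1, Ne.symm p1, e ▸ t12, ?_⟩
      rintro x (rfl | rfl | rfl | rfl | rfl) x1 x2 x3 x4 <;> first | rfl | exact absurd rfl x1 | exact absurd rfl x2 | exact absurd e.symm x3 | exact absurd rfl x4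
    · refine ⟨t₁, t₂, by simp, Ne.symm b1, Ne.symm p1, e ▸ t13, ?_⟩
      rintro x (rfl | rfl | rfl | rfl | rfl) x1 x2 x3 x4 <;> first | rfl | exact absurd rfl x1 | exact absurd rfl x2 | exact absurd e.symm x3 | exact absurd rfl x4
  have hrb : r ∈ nb (nb D a) b := hLX r hrL b (by simp [hLdef]) hr1
  obtain ⟨e1, e2, e3, e4, e5⟩ := line_step ι hp hL hup hι' hc' rfl hqL hrb hrL hr2 hr3
  have ers : ι r = s := hrs _ e1 e2 e3 e4 e5
  -- the same with the roles of `b` and `p` exchanged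
  have hbp : b ∈ nb D a ∩ nb D p := ⟨hb, hb.1, hp.2.1.symm, hp.2.2.symm⟩
  obtain ⟨κ, hκ, hcκ⟩ := hA.exists_iota hD haB hpD.1
  have hκb : κ b = ι p := hA.inj hD haB (hκ b hbp).1.1 hqX.1 (by
    rw [(hκ b hbp).2.2.2, hqe, ← hA.psi_symm hD hpD.2])
  have hrp : r ∈ nb (nb D a) p := hLX r hrL p (by simp [hLdef]) hr2
  obtain ⟨k1, k2, k3, k4, k5⟩ := line_step κ (mem_nb_nb.mpr hbp)
    (fun z hz h h' => hL z hz h' h) (fun v hv h => hup v hv fun z hz h' h'' => h z hz h'' h')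
    (tr p κ hκ) (fun v hv v' hv' => hcκ v (mem_nb_nb.mp hv) v' (mem_nb_nb.mp hv'))
    hκb hqL hrp hrL hr1 hr3
  have eks : κ r = s := hrs _ k1 k3 k2 k4 k5
  have f1 := (hι r (mem_nb_nb.mp hrb)).2.2.2
  have f2 := (hκ r (mem_nb_nb.mp hrp)).2.2.2
  rw [ers] at f1
  rw [eks, f1] at f2
  have hrB := hA.closed a haB r (hLS r hrL)
  have hbr : r ∈ nb D b := (mem_nb_nb.mp hrb).2
  have hpr : r ∈ nb D p := (mem_nb_nb.mp hrp).2
  rw [hA.psi_symm hD hbr, hA.psi_symm hD hpr] at f2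
  exact hp.2.1 (hA.inj hD hrB (nb_symm hb.1 hbr) (nb_symm hpD.1.1 hpr) f2).symm

theorem conn_of_residue_spaces (hD : Core D) {d : G} (hd : d ∈ D)
    (hsp : ∀ x ∈ resSet D d, Nonempty (U6Space F (nb (resSet D d) x))) : Conn D := by
  have hrd : ∀ y ∈ D, Relation.ReflTransGen (Adj D) d y := by
    intro y hy
    by_contra hr
    obtain ⟨B, hdB, hA⟩ := exists_apart hd hy hr
    obtain ⟨b, hb⟩ := hD.edge d hd
    have hbres : (QuotientGroup.mk (nbElem hb) : Residue D d) ∈ resSet D d :=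
      mem_resSet.mpr ⟨b, hb, rfl⟩
    obtain ⟨sp0⟩ := hsp _ hbres
    let sp := liftSpace hF hD hd (fun x hx => hx.1) sp0
    have heq : {v : G | ∃ hv : v ∈ nb D d,
        (QuotientGroup.mk (nbElem hv) : Residue D d) ∈
          nb (resSet D d) (QuotientGroup.mk (nbElem hb))} = nb D d ∩ nb D b := by
      ext v
      constructor
      · rintro ⟨hv, -, hne, hc⟩
        exact ⟨hv, hv.1, fun e => hne (by subst e; rfl), (residue_commute hD.tt hb hv).mp hc⟩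
      · rintro ⟨hv, hv'⟩
        exact ⟨hv, mem_resSet.mpr ⟨v, hv, rfl⟩, fun e => hv'.2.1 ((hD.mk_inj hd hv hb).mp e),
          (residue_commute hD.tt hb hv).mpr hv'.2.2⟩
    obtain ⟨ι, hι, hc⟩ := hA.exists_iota hD hdB hb
    refine sp.no_fpf hF (fun v hv => hD.tt.sq v hv.1.1) ι ?_ ?_
    · rw [heq]
      intro p hp
      obtain ⟨h1, h2, h3, -⟩ := hι p hp
      exact ⟨h1, h2, h3.2.2, h3.2.1⟩
    · rw [heq]; exact hc
  intro a ha y hy
  obtain ⟨g, hg⟩ := isConj_iff.mp (hD.cls d hd a ha)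
  have hy' : g⁻¹ * y * g ∈ D := by simpa using hD.tt.conj_mem g⁻¹ y hy
  have := (hrd _ hy').lift (fun x => g * x * g⁻¹)
    (p := Adj D) fun x x' h => ⟨hD.tt.conj_mem g x h.1, hD.tt.nb_conj g h.2⟩
  simp only [Function.onFun] at this
  rwa [hg, show g * (g⁻¹ * y * g) * g⁻¹ = y by group] at this

end Cfsg.Agent.H93
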