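import Cfsg.Prelude.Def_FischerSpaces

/-!
An isometry of a non-degenerate form in dimension less than ten over the field with three elements
has no element of order eleven.
-/

set_option autoImplicit false

namespace Cfsg.Agent.H93

open scoped Matrix
open Polynomial

variable {ι : Type} [Fintype ι] [DecidableEq ι]

theorem matrix_eleven (hι : Fintype.card ι < 10) (B g : Matrix ι ι (ZMod 3)) (hB : IsUnit B.det)
    (hg : gᵀ * B * g = B) (h11 : g ^ 11 = 1) : g = 1 := by
  classical
  haveI : Fact (Nat.Prime 3) := ⟨Nat.prime_three⟩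
  let K := AlgebraicClosure (ZMod 3)
  haveI : CharP K 3 := charP_of_injective_algebraMap (algebraMap (ZMod 3) K).injective 3
  let φ := algebraMap (ZMod 3) K
  let M : Matrix ι ι K := g.map φ
  -- the eigenvalues
  let P : Set K := {z | (Matrix.scalar ι z - M).det = 0}
  have hpoly : ∀ z, z ∈ P ↔ (g.charpoly.map φ).IsRoot z := by
    intro z
    rw [← Matrix.charpoly_map, Polynomial.IsRoot, Matrix.eval_charpoly]
    rfl
  have hM11 : M ^ 11 = 1 := by
    show (φ.mapMatrix g) ^ 11 = 1
    rw [← map_pow, h11, map_one]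
  by_cases hall : ∀ z ∈ P, z = 1
  · -- unipotent case
    have hs : (g.charpoly.map φ) = (X - C 1) ^ Fintype.card ι := by
      have hsp : (g.charpoly.map φ).Splits := IsAlgClosed.splits _
      have hmon := (Matrix.charpoly_monic g).map φ
      rw [hsp.eq_prod_roots_of_monic hmon]
      have hcard : (g.charpoly.map φ).roots.card = Fintype.card ι := by
        rw [← hsp.natDegree_eq_card_roots, Polynomial.natDegree_map, Matrix.charpoly_natDegree_eq_dim]
      have hrep : (g.charpoly.map φ).roots = Multiset.replicate (Fintype.card ι) 1 := by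
        rw [Multiset.eq_replicate]
        exact ⟨hcard, fun z hz => hall z ((hpoly z).mpr (Polynomial.isRoot_of_mem_roots hz))⟩
      rw [hrep, Multiset.map_replicate, Multiset.prod_replicate]
    have hnil : (M - 1) ^ Fintype.card ι = 0 := by
      have := Matrix.aeval_self_charpoly M
      rw [Matrix.charpoly_map, hs] at this
      simpa using this
    have h27 : (M - 1) ^ 27 = 0 := pow_eq_zero_of_le (by omega) hnil
    haveI : Fact (Nat.Prime 3) := ⟨Nat.prime_three⟩
    rcases isEmpty_or_nonempty ι with he | he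
    · exact Subsingleton.elim _ _
    haveI : CharP (Matrix ι ι K) 3 := Matrix.charP 3
    rw [show (27 : ℕ) = 3 ^ 3 by norm_num, sub_pow_char_pow_of_commute 3 3 (Commute.one_right M),
      one_pow, sub_eq_zero] at h27
    have hM : M = 1 := by
      calc M = M ^ (11 * 5) := by
            norm_num at h27
            rw [show (11 * 5 : ℕ) = 27 * 2 + 1 by norm_num, pow_succ, pow_mul, h27, one_pow, one_mul]
        _ = 1 := by rw [pow_mul, hM11, one_pow]
    exact Matrix.map_injective φ.injective (hM.trans (φ.mapMatrix.map_one).symm)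
  · exfalso
    simp only [not_forall] at hall
    obtain ⟨z, hz, hz1⟩ := hall
    -- eigenvalues are eleventh roots of unity
    have hpow : ∀ z ∈ P, z ^ 11 = 1 := by
      intro z hz
      obtain ⟨v, hv, hvz⟩ := Matrix.exists_mulVec_eq_zero_iff.mpr hz
      have hv' : M *ᵥ v = z • v := by
        rw [Matrix.sub_mulVec, sub_eq_zero] at hvz
        rw [← hvz]
        ext i; simp [Matrix.scalar_apply, Matrix.mulVec_diagonal]
      have hn : ∀ n : ℕ, (M ^ n) *ᵥ v = z ^ n • v := by
        intro n
        induction n with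
        | zero => simp
        | succ n ih =>
          rw [pow_succ, ← Matrix.mulVec_mulVec, hv', Matrix.mulVec_smul, ih, smul_smul, pow_succ']
      have h := hn 11
      rw [hM11, Matrix.one_mulVec] at h
      obtain ⟨i, hi⟩ := Function.ne_iff.mp hv
      have := congrFun h i
      simp only [Pi.smul_apply, smul_eq_mul] at this
      exact mul_right_cancel₀ hi (by rw [one_mul]; exact this.symm)
    -- closed under cubing
    have hcube : ∀ z ∈ P, z ^ 3 ∈ P := by
      intro z hz
      rw [hpoly] at hz ⊢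
      rw [Polynomial.IsRoot, Polynomial.eval_map] at hz ⊢
      have : g.charpoly.eval₂ φ (z ^ 3) = (g.charpoly.eval₂ φ z) ^ 3 := by
        rw [← Polynomial.eval₂_pow, ← ZMod.expand_card, Polynomial.expand_eq_comp_X_pow,
          Polynomial.eval₂_comp]
        simp
      rw [this, hz]; simp
    -- closed under inversion
    have hinv : ∀ z ∈ P, z⁻¹ ∈ P := by
      intro z hz
      have hz0 : z ≠ 0 := fun h => by simpa [h] using hpow z hz
      let B' : Matrix ι ι K := B.map φ
      have hB' : Mᵀ * B' * M = B' := by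
        show (φ.mapMatrix g)ᵀ * φ.mapMatrix B * φ.mapMatrix g = φ.mapMatrix B
        conv_rhs => rw [← hg, map_mul, map_mul]
        simp [Matrix.transpose_map]
      have hBdet : B'.det ≠ 0 := by
        show (φ.mapMatrix B).det ≠ 0
        rw [← RingHom.map_det]
        exact (map_ne_zero φ).mpr hB.ne_zero
      show (Matrix.scalar ι z⁻¹ - M).det = 0
      have e : Mᵀ * B' * (Matrix.scalar ι z⁻¹ - M) =
          (Matrix.scalar ι (-z⁻¹)) * ((Matrix.scalar ι z - Mᵀ) * B') := by
        have hs : ∀ (a : K) (A : Matrix ι ι K), A * Matrix.scalar ι a = a • A := fun a A => by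
          rw [Matrix.scalar_apply, ← Matrix.smul_one_eq_diagonal, Matrix.mul_smul, mul_one]
        have hs' : ∀ (a : K) (A : Matrix ι ι K), Matrix.scalar ι a * A = a • A := fun a A => by
          rw [Matrix.scalar_apply, ← Matrix.smul_one_eq_diagonal, Matrix.smul_mul, one_mul]
        rw [mul_sub, hB', hs, hs', sub_mul, hs', smul_sub, smul_smul, neg_mul, inv_mul_cancel₀ hz0,
          neg_smul, neg_smul, one_smul]
        abel
      have hdet := congrArg Matrix.det e
      simp only [Matrix.det_mul, Matrix.det_transpose] at hdet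
      have hT : (Matrix.scalar ι z - Mᵀ).det = 0 := by
        have : (Matrix.scalar ι z - Mᵀ) = (Matrix.scalar ι z - M)ᵀ := by
          simp [Matrix.transpose_sub, Matrix.scalar_apply, Matrix.diagonal_transpose]
        rw [this, Matrix.det_transpose]; exact hz
      rw [hT] at hdet
      have hMdet : M.det ≠ 0 := by
        intro h
        have := congrArg Matrix.det hM11
        rw [Matrix.det_pow, h, Matrix.det_one] at this
        simp at this
      simpa [hMdet, hBdet] using hdet
    -- ten different eigenvalues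
    have hord : orderOf z = 11 := by
      haveI : Fact (Nat.Prime 11) := ⟨by norm_num⟩
      exact orderOf_eq_prime (hpow z hz) hz1
    have hmem : ∀ k : ℕ, z ^ (3 ^ k) ∈ P := by
      intro k
      induction k with
      | zero => simpa using hz
      | succ k ih => rw [pow_succ, pow_mul]; exact hcube _ ih
    have hall' : ∀ k : ℕ, k < 11 → 0 < k → z ^ k ∈ P := by
      intro k hk hk0
      have hneg : ∀ j : ℕ, j + k = 11 → z ^ j ∈ P → z ^ k ∈ P := by
        intro j hj hjP
        have : z ^ k = (z ^ j)⁻¹ := by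
          apply eq_inv_of_mul_eq_one_left
          rw [← pow_add, Nat.add_comm, hj, hpow z hz]
        rw [this]; exact hinv _ hjP
      have hred : ∀ j : ℕ, z ^ j = z ^ (j % 11) := fun j => by rw [← hord]; exact (pow_mod_orderOf z j).symm
      have p0 := hmem 0
      have p1 := hmem 1
      have p2 := hmem 2
      have p3 := hmem 3
      have p4 := hmem 4
      rw [hred] at p0 p1 p2 p3 p4
      norm_num at p0 p1 p2 p3 p4
      interval_cases k
      · simpa using p0
      · exact hneg 9 rfl (by simpa using p2)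
      · exact p1
      · exact p4
      · exact p3
      · exact hneg 5 rfl p3
      · exact hneg 4 rfl p4
      · exact hneg 3 rfl p1
      · exact p2
      · exact hneg 1 rfl (by simpa using p0)
    let S : Finset K := (Finset.Icc 1 10).image fun k => z ^ k
    have hScard : S.card = 10 := by
      rw [Finset.card_image_of_injOn]
      · simp
      · intro i hi j hj hij
        simp only [Finset.coe_Icc, Set.mem_Icc] at hi hj
        exact pow_injOn_Iio_orderOf (by simp [hord]; omega) (by simp [hord]; omega) hij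
    have hne : g.charpoly.map φ ≠ 0 := ((Matrix.charpoly_monic g).map φ).ne_zero
    have hsub : S ⊆ (g.charpoly.map φ).roots.toFinset := by
      intro x hx
      obtain ⟨k, hk, rfl⟩ := Finset.mem_image.mp hx
      rw [Finset.mem_Icc] at hk
      rw [Multiset.mem_toFinset, Polynomial.mem_roots hne]
      exact (hpoly _).mp (hall' k (Nat.lt_succ_of_le hk.2) hk.1)
    have h1 := (Finset.card_le_card hsub).trans (Multiset.toFinset_card_le _)
    have h2 := Polynomial.card_roots' (g.charpoly.map φ)
    rw [Polynomial.natDegree_map, Matrix.charpoly_natDegree_eq_dim] at h2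
    rw [hScard] at h1
    omega

/-- isometries preserve the Gram matrix when the polar form is bilinear -/
theorem isometry_gram {Q : (ι → ZMod 3) → ZMod 3} {B : Matrix ι ι (ZMod 3)}
    (hB : ∀ x y, QuadraticMap.polar Q x y = x ⬝ᵥ B *ᵥ y) (g : Cfsg.isometryGroup (ZMod 3) Q) :
    ((g : GL ι (ZMod 3)) : Matrix ι ι (ZMod 3))ᵀ * B * ((g : GL ι (ZMod 3)) : Matrix ι ι (ZMod 3)) = B := by
  set M : Matrix ι ι (ZMod 3) := ((g : GL ι (ZMod 3)) : Matrix ι ι (ZMod 3))
  have hQ : ∀ v, Q (M *ᵥ v) = Q v := fun v => g.2 v v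
  have hpol : ∀ x y, (M *ᵥ x) ⬝ᵥ B *ᵥ (M *ᵥ y) = x ⬝ᵥ B *ᵥ y := by
    intro x y
    rw [← hB, ← hB, QuadraticMap.polar, QuadraticMap.polar, ← Matrix.mulVec_add, hQ, hQ, hQ]
  ext i j
  have h := hpol (Pi.single i 1) (Pi.single j 1)
  have e : ∀ x y, (M *ᵥ x) ⬝ᵥ B *ᵥ (M *ᵥ y) = x ⬝ᵥ (Mᵀ * B * M) *ᵥ y := fun x y => by
    rw [← Matrix.mulVec_mulVec, ← Matrix.mulVec_mulVec, Matrix.dotProduct_transpose_mulVec, dotProduct_comm]
  rw [e, single_one_dotProduct, single_one_dotProduct, Matrix.mulVec_single_one,
    Matrix.mulVec_single_one] at h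
  exact h

/-- no isometry of order eleven -/
theorem isometry_eleven (hι : Fintype.card ι < 10) {Q : (ι → ZMod 3) → ZMod 3}
    {B : Matrix ι ι (ZMod 3)} (hB : ∀ x y, QuadraticMap.polar Q x y = x ⬝ᵥ B *ᵥ y)
    (hBdet : IsUnit B.det) (g : Cfsg.isometryGroup (ZMod 3) Q) (hg : g ^ 11 = 1) : g = 1 := by
  apply Subtype.ext
  apply Units.ext
  refine matrix_eleven hι B _ hBdet (isometry_gram hB g) ?_
  have := congrArg (fun h : Cfsg.isometryGroup (ZMod 3) Q =>
    ((h : GL ι (ZMod 3)) : Matrix ι ι (ZMod 3))) hg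
  simpa using this

/-- a quotient has no element of order eleven when the group has none -/
theorem quotient_eleven {H : Type*} [Group H] [Finite H] (hH : ∀ h : H, h ^ 11 = 1 → h = 1)
    (N : Subgroup H) [N.Normal] (g : H ⧸ N) (hg : g ^ 11 = 1) : g = 1 := by
  by_contra hne
  haveI : Fact (Nat.Prime 11) := ⟨by norm_num⟩
  have hord : orderOf g = 11 := orderOf_eq_prime hg hne
  have hdvd : 11 ∣ Nat.card H := by
    rw [← hord]
    exact (orderOf_dvd_natCard g).trans N.card_quotient_dvd_card
  obtain ⟨h, hh⟩ := exists_prime_orderOf_dvd_card' 11 hdvd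
  have := hH h (by rw [← hh]; exact pow_orderOf_eq_one h)
  rw [this, orderOf_one] at hh
  norm_num at hh

/-- projective reflection groups over `ZMod 3` in dimension below ten have no element of order eleven -/
theorem projReflection_eleven {X : Type*} [Group X] {n : ℕ} (hn : n < 10) {μ c : ZMod 3}
    (h : Cfsg.IsProjReflectionGroupModThree X n μ c) (g : X) (hg : g ^ 11 = 1) : g = 1 := by
  obtain ⟨Q, hnd, -, ⟨e⟩⟩ := h
  haveI : Fact (Nat.Prime 3) := ⟨Nat.prime_three⟩
  set B : Matrix (Fin n) (Fin n) (ZMod 3) := LinearMap.toMatrix₂' (ZMod 3) (QuadraticMap.polarBilin Q)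
    with hBdef
  have hB : ∀ x y, QuadraticMap.polar (⇑Q) x y = x ⬝ᵥ B *ᵥ y := by
    intro x y
    rw [← QuadraticMap.polarBilin_apply_apply]
    conv_lhs => rw [← Matrix.toLinearMap₂'_toMatrix' (R := ZMod 3) (QuadraticMap.polarBilin Q)]
    rw [Matrix.toLinearMap₂'_apply']
  have hdet : IsUnit B.det := by
    rw [isUnit_iff_ne_zero, hBdef]
    exact Matrix.nondegenerate_iff_det_ne_zero.mp (LinearMap.nondegenerate_toMatrix₂'_iff.mpr hnd)
  have hrefl : ∀ w : Cfsg.reflectionSubgroup (⇑Q) c, w ^ 11 = 1 → w = 1 := by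
    intro w hw
    apply Subtype.ext
    exact isometry_eleven (by simpa using hn) hB hdet _ (by simpa using congrArg Subtype.val hw)
  have := quotient_eleven hrefl _ (e g) (by rw [← map_pow, hg, map_one])
  exact e.injective (this.trans (map_one e).symm)

theorem quadFormPlus_polar (x y : Fin 4 ⊕ Fin 4 → ZMod 3) :
    QuadraticMap.polar (Cfsg.quadFormPlus 4 (ZMod 3)) x y =
      x ⬝ᵥ (Matrix.fromBlocks 0 1 1 0 : Matrix (Fin 4 ⊕ Fin 4) (Fin 4 ⊕ Fin 4) (ZMod 3)) *ᵥ y := by
  rw [Matrix.fromBlocks_mulVec]
  simp [QuadraticMap.polar, Cfsg.quadFormPlus, dotProduct, Fin.sum_univ_four,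
    Fintype.sum_sum_type]
  ring

theorem plus_gram_det :
    IsUnit (Matrix.fromBlocks 0 1 1 0 : Matrix (Fin 4 ⊕ Fin 4) (Fin 4 ⊕ Fin 4) (ZMod 3)).det := by
  rw [← Matrix.isUnit_iff_isUnit_det]
  exact IsUnit.of_mul_eq_one (b := Matrix.fromBlocks 0 1 1 0) (by
    simp [Matrix.fromBlocks_multiply, Matrix.fromBlocks_one])

/-- a group with normal `PΩ⁺₈(3)` and quotient `S₃` has no element of order eleven -/
theorem omegaPlus_eleven {X : Type*} [Group X] (N : Subgroup X) [N.Normal]
    (e : N ≃* Cfsg.POmega (ZMod 3) (Cfsg.quadFormPlus 4 (ZMod 3))) (q : X ⧸ N ≃* Equiv.Perm (Fin 3))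
    (g : X) (hg : g ^ 11 = 1) : g = 1 := by
  haveI : Fact (Nat.Prime 3) := ⟨Nat.prime_three⟩
  have hmem : g ∈ N := by
    rw [← QuotientGroup.eq_one_iff]
    apply q.injective
    rw [map_one]
    have h11 : q (g : X ⧸ N) ^ 11 = 1 := by
      rw [← map_pow, ← QuotientGroup.mk_pow, hg, QuotientGroup.mk_one, map_one]
    have hcard : q (g : X ⧸ N) ^ 6 = 1 := by
      have := pow_card_eq_one (x := q (g : X ⧸ N))
      rwa [Fintype.card_perm, Fintype.card_fin] at this
    have hcop : Nat.Coprime 11 6 := by norm_num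
    have := pow_gcd_eq_one.mpr ⟨h11, hcard⟩
    rwa [hcop.gcd_eq_one, pow_one] at this
  have hΩ : ∀ w : Cfsg.Omega (ZMod 3) (Cfsg.quadFormPlus 4 (ZMod 3)), w ^ 11 = 1 → w = 1 := by
    intro w hw
    apply Subtype.ext
    exact isometry_eleven (by simp) quadFormPlus_polar plus_gram_det _
      (by simpa using congrArg Subtype.val hw)
  have := quotient_eleven hΩ _ (e ⟨g, hmem⟩) (by
    rw [← map_pow, show (⟨g, hmem⟩ : N) ^ 11 = 1 from Subtype.ext hg, map_one])
  exact congrArg Subtype.val (e.injective (this.trans (map_one e).symm))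

end Cfsg.Agent.H93
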