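import Cfsg.Agent.H93.U6Grp

/-!
An element of order eleven in `PSU 6 F 2`, and the transvection model of a group isomorphic to it.
-/

set_option autoImplicit false

namespace Cfsg.Agent.H93

/-- pairs `(a, b)` standing for `a + b ω` -/
abbrev B4 := Bool × Bool

/-- sum in the field with four elements -/
def badd (x y : B4) : B4 := (xor x.1 y.1, xor x.2 y.2)

/-- product in the field with four elements -/
def bmul (x y : B4) : B4 :=
  (xor (x.1 && y.1) (x.2 && y.2), xor (xor (x.1 && y.2) (x.2 && y.1)) (x.2 && y.2))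

/-- six coordinates -/
abbrev B6 := B4 × B4 × B4 × B4 × B4 × B4

/-- Hermitian form on coordinates -/
def bform : B6 → B6 → B4
  | (x0, x1, x2, x3, x4, x5), (v0, v1, v2, v3, v4, v5) =>
    badd (badd (badd (badd (badd (bmul x0 (bmul v0 v0)) (bmul x1 (bmul v1 v1)))
      (bmul x2 (bmul v2 v2))) (bmul x3 (bmul v3 v3))) (bmul x4 (bmul v4 v4)))
      (bmul x5 (bmul v5 v5))

/-- a transvection on coordinates -/
def bstep : B6 → B6 → B6
  | v@(v0, v1, v2, v3, v4, v5), x@(x0, x1, x2, x3, x4, x5) =>
    let c := bform x v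
    (badd x0 (bmul c v0), badd x1 (bmul c v1), badd x2 (bmul c v2), badd x3 (bmul c v3),
      badd x4 (bmul c v4), badd x5 (bmul c v5))

/-- five transvection centres whose product has order eleven -/
def elevenList : List B6 :=
  [((true,false),(false,true),(false,false),(false,false),(false,false),(false,false)),
   ((false,false),(false,false),(true,false),(false,false),(false,false),(false,true)),
   ((false,false),(true,false),(false,true),(false,false),(false,false),(false,false)),
   ((true,false),(false,false),(true,true),(true,false),(false,false),(true,true)),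
   ((false,false),(true,false),(true,true),(false,false),(false,false),(false,false))]

/-- the product acting on coordinates -/
def bApply (l : List B6) (x : B6) : B6 := l.foldr bstep x

/-- its iterates -/
def bIter : ℕ → B6 → B6
  | 0, x => x
  | n + 1, x => bApply elevenList (bIter n x)

/-- unit coordinate vectors -/
def bUnit (i : Fin 6) : B6 :=
  let f := fun j : Fin 6 => ((decide (i = j), false) : B4)
  (f 0, f 1, f 2, f 3, f 4, f 5)

/-- a vector from twelve bits -/
def bDec (k : ℕ) : B6 :=
  ((k.testBit 0, k.testBit 1), (k.testBit 2, k.testBit 3), (k.testBit 4, k.testBit 5),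
    (k.testBit 6, k.testBit 7), (k.testBit 8, k.testBit 9), (k.testBit 10, k.testBit 11))

/-- the orbits of the unit vectors under the product -/
def elevenOrbit (i : Fin 6) (n : ℕ) : ℕ :=
  ((([[1, 97, 2120, 82, 1179, 1247, 1182, 1238, 1091, 116, 3137, 1],
   [4, 104, 2197, 1264, 3225, 1194, 2238, 3231, 1136, 3239, 2252, 4],
   [16, 1024, 142, 88, 1173, 1209, 3181, 2261, 1241, 1092, 207, 16],
   [64, 41, 2269, 1125, 2222, 2207, 1278, 3327, 3161, 1213, 3077, 64],
   [256, 256, 256, 256, 256, 256, 256, 256, 256, 256, 256, 256],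
   [1024, 142, 88, 1173, 1209, 3181, 2261, 1241, 1092, 207, 16, 1024]] : List (List ℕ)).getD i.1 []).getD n 0)

set_option synthInstance.maxSize 2000 in
theorem elevenOrbit_step : ∀ i : Fin 6, ∀ n : Fin 11,
    bApply elevenList (bDec (elevenOrbit i n.1)) = bDec (elevenOrbit i (n.1 + 1)) := by
  decide +kernel

set_option synthInstance.maxSize 2000 in
theorem elevenOrbit_ends : ∀ i : Fin 6,
    bDec (elevenOrbit i 0) = bUnit i ∧ bDec (elevenOrbit i 11) = bUnit i := by
  decide +kernel

theorem bIter_eleven (i : Fin 6) : bIter 11 (bUnit i) = bUnit i := by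
  have h : ∀ n, n ≤ 11 → bIter n (bUnit i) = bDec (elevenOrbit i n) := by
    intro n
    induction n with
    | zero => intro _; exact (elevenOrbit_ends i).1.symm
    | succ n ih =>
      intro hn
      rw [bIter, ih (by omega)]
      exact elevenOrbit_step i ⟨n, by omega⟩
  rw [h 11 le_rfl]; exact (elevenOrbit_ends i).2

theorem elevenList_form : elevenList.map (fun v => bform v v) = List.replicate 5 (false, false) := by
  decide +kernel

theorem elevenList_iso : ∀ v ∈ elevenList, bform v v = (false, false) := fun _ hv =>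
  List.eq_of_mem_replicate (elevenList_form ▸ List.mem_map_of_mem hv)

set_option synthInstance.maxSize 2000 in
theorem bIter_one : bIter 1 (bUnit 0) ≠ bUnit 0 := by decide +kernel

variable {F : Type*} [Field F] [Fintype F] (hF : Fintype.card F = 4)

/-- interpretation of a scalar -/
def bval (w : F) (x : B4) : F := (if x.1 then 1 else 0) + (if x.2 then w else 0)

/-- interpretation of a vector -/
def bvec (w : F) : B6 → Vec F
  | (x0, x1, x2, x3, x4, x5) =>
    ![bval w x0, bval w x1, bval w x2, bval w x3, bval w x4, bval w x5]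

include hF

theorem bval_add (w : F) (x y : B4) : bval w (badd x y) = bval w x + bval w y := by
  have h := add_self_zero hF (1 : F)
  have h' := add_self_zero hF w
  obtain ⟨a, b⟩ := x
  obtain ⟨c, d⟩ := y
  cases a <;> cases b <;> cases c <;> cases d <;> simp [bval, badd] <;> grind

theorem bval_mul {w : F} (hw : w ^ 2 + w + 1 = 0) (x y : B4) :
    bval w (bmul x y) = bval w x * bval w y := by
  have h2 := two_zero hF
  obtain ⟨a, b⟩ := x
  obtain ⟨c, d⟩ := y
  cases a <;> cases b <;> cases c <;> cases d <;> simp [bval, bmul] <;> grind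

theorem bform_spec {w : F} (hw : w ^ 2 + w + 1 = 0) (x v : B6) :
    bval w (bform x v) = hb (bvec w x) (bvec w v) := by
  obtain ⟨x0, x1, x2, x3, x4, x5⟩ := x
  obtain ⟨v0, v1, v2, v3, v4, v5⟩ := v
  simp [bform, bval_add hF, bval_mul hF hw, hb_eq, Fin.sum_univ_six, bvec, pow_two]

theorem bstep_spec {w : F} (hw : w ^ 2 + w + 1 = 0) (v x : B6) :
    bvec w (bstep v x) = bvec w x + hb (bvec w x) (bvec w v) • bvec w v := by
  rw [← bform_spec hF hw]
  obtain ⟨x0, x1, x2, x3, x4, x5⟩ := x
  obtain ⟨v0, v1, v2, v3, v4, v5⟩ := v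
  funext i
  fin_cases i <;> simp [bstep, bval_add hF, bval_mul hF hw, bvec]

theorem bApply_spec {w : F} (hw : w ^ 2 + w + 1 = 0) (l : List B6)
    (hl : ∀ v ∈ l, bform v v = (false, false)) (x : B6) :
    act ((l.map fun v => tv hF (bvec w v)).prod) (bvec w x) = bvec w (bApply l x) := by
  induction l with
  | nil => simp [act_one, bApply]
  | cons v l ih =>
    have hv : hb (bvec w v) (bvec w v) = 0 := by
      rw [← bform_spec hF hw, hl v List.mem_cons_self]; simp [bval]
    rw [List.map_cons, List.prod_cons, act_mul, ih fun u hu => hl u (List.mem_cons_of_mem _ hu),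
      tv_act hF hv]
    exact (bstep_spec hF hw v (bApply l x)).symm

/-- an element of order eleven -/
theorem psu_eleven : ∃ g : Cfsg.PSU 6 F 2, g ≠ 1 ∧ g ^ 11 = 1 := by
  obtain ⟨w, hw0, hw1, hw⟩ := exists_omega hF
  set g := (elevenList.map fun v => tv hF (bvec w v)).prod with hg
  have hiter : ∀ n x, act (g ^ n) (bvec w x) = bvec w (bIter n x) := by
    intro n
    induction n with
    | zero => intro x; simp [act_one, bIter]
    | succ n ih =>
      intro x
      rw [pow_succ', act_mul, ih, hg, bApply_spec hF hw _ elevenList_iso]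
      rfl
  have hu : ∀ i : Fin 6, bvec w (bUnit i) = Pi.single i 1 := by
    intro i; funext j
    fin_cases i <;> fin_cases j <;> simp [bvec, bUnit, bval]
  have h11 : g ^ 11 = 1 := by
    apply Subtype.ext; apply Subtype.ext
    apply Matrix.ext_of_mulVec_single
    intro i
    show act (g ^ 11) (Pi.single i 1) = act (1 : ↥(Cfsg.SU 6 F 2)) (Pi.single i 1)
    rw [← hu, hiter, bIter_eleven, act_one]
  refine ⟨QuotientGroup.mk g, ?_, by rw [← QuotientGroup.mk_pow, h11]; rfl⟩
  intro h
  have h3 := central_pow_three hF ((QuotientGroup.eq_one_iff _).mp h)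
  have h1 : g = 1 := by
    calc g = (g ^ 3) ^ 4 * (g ^ 11)⁻¹ := by rw [← pow_mul]; group
      _ = 1 := by rw [h3, h11, one_pow, inv_one, mul_one]
  have key := hiter 1 (bUnit 0)
  rw [pow_one, h1, act_one] at key
  have hinj : Function.Injective (bvec w) := by
    have hb : Function.Injective (bval w) := by
      rintro ⟨a, b⟩ ⟨c, d⟩ hab
      have hs : w + 1 ≠ 0 := fun h0 => hw1 ((add_eq_zero_iff_eq' hF).mp h0)
      have hs' : 1 + w ≠ 0 := fun h0 => hs (by rw [add_comm]; exact h0)
      cases a <;> cases b <;> cases c <;> cases d <;> simp [bval] at hab ⊢ <;> grind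
    rintro ⟨x0, x1, x2, x3, x4, x5⟩ ⟨y0, y1, y2, y3, y4, y5⟩ hxy
    have e := fun i => congrFun hxy i
    have e0 := e 0; have e1 := e 1; have e2 := e 2; have e3 := e 3; have e4 := e 4; have e5 := e 5
    simp [bvec] at e0 e1 e2 e3 e4 e5
    simp [hb e0, hb e1, hb e2, hb e3, hb e4, hb e5]
  exact bIter_one (hinj key).symm

omit hF in
/-- the transvection model of `PSU 6 F 2` transported to a group -/
structure U6Model (F : Type*) [Field F] (R : Type*) [Group R] where
  /-- the transvection attached to a vector -/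
  τ : Vec F → R
  mul_self : ∀ v, τ v * τ v = 1
  ne_one : ∀ {v}, IsPt v → τ v ≠ 1
  smul : ∀ {a : F}, a ≠ 0 → ∀ v, τ (a • v) = τ v
  inj : ∀ {u v}, IsPt u → IsPt v → τ u = τ v → SamePt v u
  conj : ∀ {u}, IsPt u → ∀ v, τ u * τ v * τ u = τ (v + hb v u • u)
  line : ∀ {u v}, IsPt u → IsPt v → hb u v = 0 → ∀ {w : F}, w ^ 2 + w + 1 = 0 →
    τ u * τ v * τ (u + v) * τ (u + w • v) * τ (u + w ^ 2 • v) = 1
  transitive : ∀ {u v}, IsPt u → IsPt v → ∃ g : R, g * τ u * g⁻¹ = τ v
  eleven : ∃ g : R, g ≠ 1 ∧ g ^ 11 = 1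
  classify : ∀ E : Set R, (∀ a ∈ E, a * a = 1 ∧ a ≠ 1) → (∀ g : R, ∀ a ∈ E, g * a * g⁻¹ ∈ E) →
    (∀ a ∈ E, ∀ b ∈ E, (a * b) ^ 2 = 1 ∨ (a * b) ^ 3 = 1) → ∀ a ∈ E, ∃ v, IsPt v ∧ a = τ v

/-- the model on a group isomorphic to `PSU 6 F 2` -/
noncomputable def U6Model.ofEquiv {R : Type*} [Group R] (e : R ≃* Cfsg.PSU 6 F 2) : U6Model F R where
  τ v := e.symm (ptv hF v)
  mul_self v := by rw [← map_mul, ptv_mul_self, map_one]
  ne_one hv h := ptv_ne_one hF hv (e.symm.injective (h.trans (map_one _).symm))
  smul ha v := by rw [ptv_smul hF ha]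
  inj hu hv h := ptv_eq hF hu hv.2 (e.symm.injective h)
  conj hu v := by rw [← map_mul, ← map_mul, ptv_conj' hF hu.2]
  line hu hv huv _ hw := by
    rw [← map_mul, ← map_mul, ← map_mul, ← map_mul, ptv_line hF hu.2 hv.2 huv hw, map_one]
  transitive {u v} hu hv := by
    obtain ⟨g, hg⟩ := ptv_transitive hF hu hv
    exact ⟨e.symm g, by rw [← hg, map_mul, map_mul, map_inv]⟩
  eleven := by
    obtain ⟨g, h1, h11⟩ := psu_eleven hF
    exact ⟨e.symm g, fun h => h1 (e.symm.injective (h.trans (map_one _).symm)),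
      by rw [← map_pow, h11, map_one]⟩
  classify E hord hinv h3 a ha := by
    obtain ⟨v, hv, hav⟩ := three_transposition_is_ptv hF (e '' E)
      (by
        rintro _ ⟨b, hb, rfl⟩
        exact ⟨by rw [← map_mul, (hord b hb).1, map_one],
          fun h => (hord b hb).2 (e.injective (h.trans (map_one _).symm))⟩)
      (by
        rintro g _ ⟨b, hb, rfl⟩
        exact ⟨e.symm g * b * (e.symm g)⁻¹, hinv _ _ hb, by simp⟩)
      (by
        rintro _ ⟨b, hb, rfl⟩ _ ⟨c, hc, rfl⟩
        rcases h3 b hb c hc with h | h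
        · exact Or.inl (by rw [← map_mul, ← map_pow, h, map_one])
        · exact Or.inr (by rw [← map_mul, ← map_pow, h, map_one]))
      (e a) ⟨a, ha, rfl⟩
    exact ⟨v, hv, by rw [← hav, MulEquiv.symm_apply_apply]⟩

end Cfsg.Agent.H93
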