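import Cfsg.Agent.H93.TT
import Cfsg.Agent.H93.Iso11
import Cfsg.Agent.H93.U6Model

/-!
The residue recursion: a 3-transposition group all of whose residues are well behaved is well
behaved.  Applied to the groups of type M(22), M(23), M(24), and to the commuting graph of the
transvections of `PSU 6 F 2`.
-/

set_option autoImplicit false

namespace Cfsg.Agent.H93

variable {G : Type*} [Group G]

/-- a well behaved class of 3-transpositions -/
structure Core (D : Set G) : Prop where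
  tt : TT D
  ne_one : ∀ a ∈ D, a ≠ 1
  cls : ∀ a ∈ D, ∀ b ∈ D, IsConj a b
  nodom : ∀ a ∈ D, ∀ b ∈ nb D a, ∃ v ∈ nb D a, ¬ Commute v b
  edge : ∀ a ∈ D, ∃ b, b ∈ nb D a
  eleven : ∃ g : G, g ≠ 1 ∧ g ^ 11 = 1

/-- the neighbourhood images in the residue -/
def resSet (D : Set G) (a : G) : Set (Residue D a) :=
  (QuotientGroup.mk : ↥(nbSub D a) → _) '' {x : ↥(nbSub D a) | (x : G) ∈ nb D a}

theorem mem_resSet {D : Set G} {a : G} {x : Residue D a} :
    x ∈ resSet D a ↔ ∃ y, ∃ hy : y ∈ nb D a, x = QuotientGroup.mk (nbElem hy) := by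
  constructor
  · rintro ⟨⟨y, hy'⟩, hy, rfl⟩
    exact ⟨y, hy, rfl⟩
  · rintro ⟨y, hy, rfl⟩
    exact ⟨nbElem hy, hy, rfl⟩

theorem TT.nbSub_conj_nb {D : Set G} (hD : TT D) {a : G} (ha : a ∈ D) {h y : G} (hh : h ∈ nbSub D a)
    (hy : y ∈ nb D a) : h * y * h⁻¹ ∈ nb D a := by
  have hle : nbSub D a ≤ Subgroup.centralizer ({a} : Set G) := by
    rw [Subgroup.closure_le]
    intro v hv
    exact Subgroup.mem_centralizer_singleton_iff.mpr hv.2.2.symm.eq
  have := hD.nb_conj h hy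
  have e : h * a * h⁻¹ = a := by
    rw [Subgroup.mem_centralizer_singleton_iff.mp (hle hh), mul_inv_cancel_right]
  rwa [e] at this

theorem tt_resSet {D : Set G} (hD : TT D) {a : G} (ha : a ∈ D) : TT (resSet D a) where
  sq x hx := by
    obtain ⟨y, hy, rfl⟩ := mem_resSet.mp hx
    rw [← QuotientGroup.mk_mul, show nbElem hy * nbElem hy = 1 from Subtype.ext (hD.sq y hy.1)]
    rfl
  pair x hx x' hx' := by
    obtain ⟨y, hy, rfl⟩ := mem_resSet.mp hx
    obtain ⟨z, hz, rfl⟩ := mem_resSet.mp hx'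
    rcases hD.pair y hy.1 z hz.1 with h | h
    · left
      rw [← QuotientGroup.mk_mul, ← QuotientGroup.mk_pow,
        show (nbElem hy * nbElem hz) ^ 2 = 1 from Subtype.ext h]
      rfl
    · right
      rw [← QuotientGroup.mk_mul, ← QuotientGroup.mk_pow,
        show (nbElem hy * nbElem hz) ^ 3 = 1 from Subtype.ext h]
      rfl
  conj_mem g x hx := by
    obtain ⟨y, hy, rfl⟩ := mem_resSet.mp hx
    obtain ⟨h, rfl⟩ := QuotientGroup.mk_surjective g
    exact mem_resSet.mpr ⟨_, hD.nbSub_conj_nb ha h.2 hy, by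
      rw [← QuotientGroup.mk_inv, ← QuotientGroup.mk_mul, ← QuotientGroup.mk_mul]; rfl⟩

theorem closure_resSet {D : Set G} (a : G) : Subgroup.closure (resSet D a) = ⊤ := by
  rw [eq_top_iff]
  intro g _
  obtain ⟨h, rfl⟩ := QuotientGroup.mk_surjective g
  have e : Subgroup.closure {x : ↥(nbSub D a) | (x : G) ∈ nb D a} = ⊤ :=
    Subgroup.closure_closure_coe_preimage
  have : (QuotientGroup.mk h : Residue D a) ∈
      (Subgroup.closure {x : ↥(nbSub D a) | (x : G) ∈ nb D a}).map (QuotientGroup.mk' _) := by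
    rw [e]; exact ⟨h, trivial, rfl⟩
  rwa [MonoidHom.map_closure] at this

theorem nb_diff_one {D : Set G} {a y : G} : y ∈ nb (D \ {1}) a ↔ y ∈ nb D a ∧ y ≠ 1 := by
  constructor
  · rintro ⟨⟨h1, h2⟩, h3, h4⟩; exact ⟨⟨h1, h3, h4⟩, h2⟩
  · rintro ⟨⟨h1, h3, h4⟩, h2⟩; exact ⟨⟨h1, h2⟩, h3, h4⟩

theorem isCentralIn_diff_one {D : Set G} {a y : G} :
    IsCentralIn (D \ {1}) a y ↔ IsCentralIn D a y := by
  constructor
  · intro h v hv
    by_cases e : v = 1
    · exact e ▸ Commute.one_left y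
    · exact h v (nb_diff_one.mpr ⟨hv, e⟩)
  · intro h v hv; exact h v (nb_diff_one.mp hv).1

theorem TT.diff_one {D : Set G} (hD : TT D) : TT (D \ {1}) where
  sq a ha := hD.sq a ha.1
  pair a ha b hb := hD.pair a ha.1 b hb.1
  conj_mem g a ha := ⟨hD.conj_mem g a ha.1, fun e => ha.2 (by
    have h : g * a * g⁻¹ = 1 := e
    calc a = g⁻¹ * (g * a * g⁻¹) * g := by group
      _ = 1 := by rw [h]; group)⟩

/-- the recursion step -/
theorem core_step [Finite G] {D : Set G} (hD : TT D) (hgen : Subgroup.closure D = ⊤)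
    (hcen : Subgroup.center G = ⊥) {d c : G} (hd : d ∈ D) (hc : c ∈ D) (hdc : ¬ Commute d c)
    (hres : Core (resSet D d \ {1}))
    (hL : ∀ g : ↥(Subgroup.closure ({y : G | y ∈ D ∧ y ≠ d ∧ Commute d y} ∩
        {y : G | y ∈ D ∧ y ≠ c ∧ Commute c y})) ⧸
      Subgroup.center ↥(Subgroup.closure ({y : G | y ∈ D ∧ y ≠ d ∧ Commute d y} ∩
        {y : G | y ∈ D ∧ y ≠ c ∧ Commute c y})), g ^ 11 = 1 → g = 1) :
    Core (D \ {1}) := by
  have himg : ∀ y, ∀ hy : y ∈ nb D d, ¬ IsCentralIn D d y →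
      (QuotientGroup.mk (nbElem hy) : Residue D d) ∈ resSet D d \ {1} := fun y hy h =>
    ⟨mem_resSet.mpr ⟨y, hy, rfl⟩, fun e => h ((residue_mk_eq_one hy).mp e)⟩
  have hd1 : d ≠ 1 := fun e => hdc (e ▸ Commute.one_left c)
  have hconj := all_conj hD hgen hcen hd hc hdc
    (fun p hp q hq hpc hqc => isConj_iff.mp (hres.cls _ (himg p hp hpc) _ (himg q hq hqc)))
    hres.eleven hL
  have hcl : ∀ a ∈ D \ {1}, ∀ b ∈ D \ {1}, IsConj a b := fun a ha b hb =>
    (hconj a ha.1 ha.2).symm.trans (hconj b hb.1 hb.2)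
  have hD' := hD.diff_one
  have hdD : d ∈ D \ {1} := ⟨hd, hd1⟩
  have hnd0 : NoDomImage (D \ {1}) d := by
    intro p hp q hq hpc hqc hpq hs
    have hp' := (nb_diff_one.mp hp).1
    have hq' := (nb_diff_one.mp hq).1
    rw [isCentralIn_diff_one] at hpc hqc
    have hP := himg p hp' hpc
    have hQ := himg q hq' hqc
    have hne : (QuotientGroup.mk (nbElem hp') : Residue D d) ≠ QuotientGroup.mk (nbElem hq') :=
      fun e => hs (isCentralIn_diff_one.mpr ((residue_mk_eq hD hp' hq').mp e))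
    obtain ⟨x, hx, hxq⟩ := hres.nodom _ hP _ ⟨hQ, hne.symm, (residue_commute hD hp' hq').mpr hpq⟩
    obtain ⟨v, hv, rfl⟩ := mem_resSet.mp hx.1.1
    refine ⟨v, nb_diff_one.mpr ⟨hv, ?_⟩, ?_, ?_⟩
    · rintro rfl
      exact hx.1.2 rfl
    · exact ((residue_commute hD hp' hv).mp hx.2.2).symm
    · exact fun e => hxq ((residue_commute hD hv hq').mpr e)
  have hnd : ∀ a ∈ D \ {1}, NoDomImage (D \ {1}) a := fun a ha => by
    obtain ⟨g, rfl⟩ := isConj_iff.mp (hcl d hdD a ha)
    exact hD'.noDomImage_conj g hnd0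
  obtain ⟨g11, hg1, hg11⟩ := hres.eleven
  obtain ⟨s, hs, hsc⟩ := nb_noncentral_exists hg1
  have hs1 : s ≠ 1 := fun e => hsc (e ▸ fun v _ => Commute.one_right v)
  have hex : ∀ a ∈ D \ {1}, ∃ t ∈ nb (D \ {1}) a, ¬ IsCentralIn (D \ {1}) a t := fun a ha => by
    obtain ⟨g, rfl⟩ := isConj_iff.mp (hcl d hdD a ha)
    exact ⟨_, hD'.nb_conj g (nb_diff_one.mpr ⟨hs, hs1⟩),
      fun h => hsc (isCentralIn_diff_one.mp ((hD'.isCentralIn_conj g d s).mp h))⟩
  refine ⟨hD', fun a ha => ha.2, hcl, ?_, ?_, ?_⟩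
  · intro a ha b hb
    have h := noCentral_of_noDom hD' hcl hnd hex a ha b hb
    simpa [IsCentralIn] using h
  · intro a ha
    obtain ⟨t, ht, -⟩ := hex a ha
    exact ⟨t, ht⟩
  · by_contra hno
    have hG : ∀ g : G, g ^ 11 = 1 → g = 1 := fun g hg =>
      Classical.byContradiction fun hne => hno ⟨g, hne, hg⟩
    have hH : ∀ h : ↥(nbSub D d), h ^ 11 = 1 → h = 1 := fun h hh =>
      Subtype.ext (hG _ (by simpa using congrArg Subtype.val hh))
    exact hg1 (quotient_eleven hH _ _ hg11)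

/-- no four pairwise commuting members have product one -/
theorem Core.indep4 {D : Set G} (h : Core D) {a b c d : G} (ha : a ∈ D) (hb : b ∈ D) (hc : c ∈ D)
    (hd : d ∈ D) (hab : a ≠ b) (hcd : c ≠ d) (hbc : b ≠ c) (hbd : b ≠ d)
    (cab : Commute a b) (cbc : Commute b c) (cbd : Commute b d) (ccd : Commute c d) :
    a * b * c * d ≠ 1 := by
  intro he
  obtain ⟨v, hv, hvb⟩ := h.nodom a ha b ⟨hb, hab.symm, cab⟩
  apply hvb
  have ha' : a = d * c * b := by
    have := eq_inv_of_mul_eq_one_left (show a * (b * c * d) = 1 by rw [← he]; group)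
    rwa [mul_inv_rev, mul_inv_rev, h.tt.inv_eq hd, h.tt.inv_eq hc, h.tt.inv_eq hb, ← mul_assoc] at this
  have := hv.2.2.symm
  rw [ha'] at this
  exact (h.tt.commute_of_commute_mul₃ hv.1 hd hc hb hcd.symm hbd.symm hbc.symm ccd.symm cbd.symm
    cbc.symm this).2.2

/-- no three pairwise commuting members have product one -/
theorem Core.indep3 {D : Set G} (h : Core D) {a b c : G} (ha : a ∈ D) (hb : b ∈ D) (hc : c ∈ D)
    (hbc : b ≠ c) (hab : a ≠ b) (cab : Commute a b) : a * b * c ≠ 1 := by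
  intro he
  obtain ⟨v, hv, hvb⟩ := h.nodom a ha b ⟨hb, hab.symm, cab⟩
  apply hvb
  have ha' : a = c * b := by
    have := eq_inv_of_mul_eq_one_left (show a * (b * c) = 1 by rw [← he]; group)
    rwa [mul_inv_rev, h.tt.inv_eq hc, h.tt.inv_eq hb] at this
  have := hv.2.2.symm
  rw [ha'] at this
  exact (h.tt.commute_of_commute_mul hv.1 hc hb hbc.symm this).2

/-- in a well behaved class no member is central in a residue, and residue images determine members -/
theorem Core.sameImage {D : Set G} (h : Core D) {a p q : G} (ha : a ∈ D) (hp : p ∈ nb D a)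
    (hq : q ∈ nb D a) (hs : SameImage D a p q) : p = q := by
  by_contra hne
  obtain ⟨v, hv, hvp⟩ := h.nodom a ha p hp
  exact hvp (h.tt.commute_of_commute_mul hv.1 hp.1 hq.1 hne (hs v hv)).1

theorem Core.mk_inj {D : Set G} (h : Core D) {a p q : G} (ha : a ∈ D) (hp : p ∈ nb D a)
    (hq : q ∈ nb D a) :
    (QuotientGroup.mk (nbElem hp) : Residue D a) = QuotientGroup.mk (nbElem hq) ↔ p = q :=
  ⟨fun e => h.sameImage ha hp hq ((residue_mk_eq h.tt hp hq).mp e), fun e => by subst e; rfl⟩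

theorem Core.mk_ne_one {D : Set G} (h : Core D) {a p : G} (ha : a ∈ D) (hp : p ∈ nb D a) :
    (QuotientGroup.mk (nbElem hp) : Residue D a) ≠ 1 := by
  intro e
  obtain ⟨v, hv, hvp⟩ := h.nodom a ha p hp
  exact hvp ((residue_mk_eq_one hp).mp e v hv)

/-! ### the commuting graph of the transvections -/

section U6

variable {F : Type*} [Field F] [Fintype F] (hF : Fintype.card F = 4)
variable {R : Type*} [Group R]

omit [Fintype F] in
/-- the transvections of a model -/
def U6Model.points (m : U6Model F R) : Set R := {x | ∃ v, IsPt v ∧ x = m.τ v}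

include hF

theorem U6Model.comm_iff (m : U6Model F R) {u v : Vec F} (hu : IsPt u) (hv : IsPt v) :
    Commute (m.τ u) (m.τ v) ↔ hb u v = 0 := by
  constructor
  · intro h
    by_contra hne
    have hne' : hb v u ≠ 0 := fun e => hne ((hb_eq_zero_comm hF).mp e)
    have e := m.conj hu v
    rw [h.eq, mul_assoc, m.mul_self, mul_one] at e
    have hpt : IsPt (v + hb v u • u) := by
      refine ⟨fun e0 => ?_, ?_⟩
      · have : v = hb v u • u := vec_eq_of_add hF e0
        rw [this, hb_smul_right, hu.2, mul_zero] at hne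
        exact hne rfl
      · simp only [hb_add_left, hb_add_right hF, hb_smul_left, hb_smul_right, hu.2, hv.2]
        linear_combination (hb v u) ^ 2 * hb v u * two_zero hF +
          (hb v u) * (hb_conj hF u v) * 0 + (hb v u) * hb_conj hF v u
    obtain ⟨a, ha⟩ := m.inj hpt hv e.symm
    have h1 := congrArg (fun z => hb z v) ha
    simp only [hb_add_left, hb_smul_left, hv.2, zero_add, mul_zero] at h1
    exact mul_ne_zero hne' hne h1
  · intro h
    have h' : hb v u = 0 := (hb_eq_zero_comm hF).mp h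
    have e := m.conj hu v
    rw [h', zero_smul, add_zero] at e
    show m.τ u * m.τ v = m.τ v * m.τ u
    calc m.τ u * m.τ v = m.τ u * m.τ v * (m.τ u * m.τ u) := by rw [m.mul_self, mul_one]
      _ = m.τ u * m.τ v * m.τ u * m.τ u := by group
      _ = m.τ v * m.τ u := by rw [e]

omit hF in
theorem pt_of_hb_eq_one {w v : Vec F} (hw : hb w w = 0) (h : hb w v = 1) : IsPt w :=
  ⟨fun e => by rw [e, hb_zero_left] at h; exact zero_ne_one h, hw⟩

theorem exists_pt : ∃ v : Vec F, IsPt v := by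
  obtain ⟨w, hw, h⟩ := iso_one hF (vec_one_ne (F := F)) 1
  exact ⟨w, pt_of_hb_eq_one hw h⟩

/-- the transvections form a well behaved class -/
theorem U6Model.core (m : U6Model F R) (htt : TT m.points) : Core m.points := by
  obtain ⟨v0, hv0⟩ := exists_pt hF
  refine ⟨htt, ?_, ?_, ?_, ?_, m.eleven⟩
  · rintro _ ⟨v, hv, rfl⟩; exact m.ne_one hv
  · rintro _ ⟨u, hu, rfl⟩ _ ⟨v, hv, rfl⟩
    exact isConj_iff.mpr (m.transitive hu hv)
  · rintro _ ⟨u, hu, rfl⟩ _ ⟨⟨v, hv, rfl⟩, hne, hc⟩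
    have hs : ¬ SamePt u v := by
      rintro ⟨a, ha⟩
      apply hne
      rw [ha, m.smul]
      rintro rfl
      rw [zero_smul] at ha; exact hv.1 ha
    obtain ⟨w, hw, h0, h1⟩ := iso_two hF hu.1 hs 0 1
    have hwp := pt_of_hb_eq_one hw h1
    refine ⟨m.τ w, ⟨⟨w, hwp, rfl⟩, ?_, ((m.comm_iff hF hwp hu).mpr h0).symm⟩, fun e => ?_⟩
    · intro e
      have := (m.comm_iff hF hwp hv).mp (e ▸ hc)
      rw [h1] at this
      exact one_ne_zero this
    · have := (m.comm_iff hF hwp hv).mp e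
      rw [h1] at this
      exact one_ne_zero this
  · rintro _ ⟨u, hu, rfl⟩
    obtain ⟨q, hq, hq1⟩ := iso_one hF hu.1 1
    have hs : ¬ SamePt u q := by
      rintro ⟨a, ha⟩
      rw [ha, hb_smul_left, hu.2, mul_zero] at hq1
      exact zero_ne_one hq1
    have hli := indep_pair hu.1 hs
    obtain ⟨z, hz, hzs⟩ := exists_extra hF hli (Or.inl le_rfl)
    have hli' : LinearIndependent F (Fin.snoc ![u, q] z) := linearIndependent_finSnoc.mpr ⟨hli, hzs⟩
    have huq : hb u q = 1 := by rw [hb_conj hF q u, hq1, one_pow]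
    obtain ⟨w, hw, hl⟩ := iso_solve hF hli' (Fin.snoc ![0, 0] 1) (Or.inr ⟨rfl, (0 : Fin 2).castSucc,
      (1 : Fin 2).castSucc, by rw [Fin.snoc_castSucc, Fin.snoc_castSucc]; simp [huq]⟩)
    have h0 : hb w u = 0 := by have := hl (0 : Fin 2).castSucc; simpa only [Fin.snoc_castSucc, Matrix.cons_val_zero] using this
    have h0' : hb w q = 0 := by have := hl (1 : Fin 2).castSucc; simpa only [Fin.snoc_castSucc, Matrix.cons_val_one, Matrix.cons_val_fin_one] using this
    have h1 : hb w z = 1 := by simpa using hl (Fin.last 2)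
    have hwp := pt_of_hb_eq_one hw h1
    refine ⟨m.τ w, ⟨w, hwp, rfl⟩, ?_, ((m.comm_iff hF hwp hu).mpr h0).symm⟩
    intro e
    obtain ⟨a, ha⟩ := m.inj hwp hu e
    rw [ha, hb_smul_left, huq, mul_one] at h0'
    rw [h0', zero_smul] at ha
    exact hwp.1 ha

/-- a class of 3-transpositions generating a group isomorphic to `PSU 6 F 2` is the set of transvections -/
theorem U6Model.points_eq (m : U6Model F R) [Nontrivial R] {E : Set R} (hE : TT E)
    (hgen : Subgroup.closure E = ⊤) : E \ {1} = m.points := by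
  have hsub : E \ {1} ⊆ m.points := by
    intro x hx
    exact m.classify (E \ {1}) (fun a ha => ⟨hE.sq a ha.1, ha.2⟩) hE.diff_one.conj_mem
      (fun a ha b hb => hE.pair a ha.1 b hb.1) x hx
  refine Set.Subset.antisymm hsub ?_
  obtain ⟨x, hx, hx1⟩ : ∃ x ∈ E, x ≠ 1 := by
    by_contra hall
    simp only [not_exists, not_and, not_not] at hall
    have : Subgroup.closure E = ⊥ := by
      rw [Subgroup.closure_eq_bot_iff]
      exact fun y hy => hall y hy
    rw [this] at hgen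
    exact bot_ne_top hgen
  obtain ⟨u, hu, rfl⟩ := hsub ⟨hx, hx1⟩
  rintro _ ⟨v, hv, rfl⟩
  obtain ⟨g, hg⟩ := m.transitive hu hv
  rw [← hg]
  exact hE.diff_one.conj_mem g _ ⟨hx, hx1⟩

end U6

/-! ### the three types -/

/-- the distinguished residue of a group of type M(22): a transvection model -/
theorem residue_of_M22 {D : Set G} (hD : TT D) (h : Cfsg.IsOfTypeM22 G D) :
    ∃ (d c : G), d ∈ D ∧ c ∈ D ∧ ¬ Commute d c ∧
      (∃ (F : Type) (_ : Field F) (_ : Fintype F), Fintype.card F = 4 ∧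
        ∃ m : U6Model F (Residue D d), resSet D d \ {1} = m.points ∧ Core m.points) ∧
      ∀ g : ↥(Subgroup.closure ({y : G | y ∈ D ∧ y ≠ d ∧ Commute d y} ∩
          {y : G | y ∈ D ∧ y ≠ c ∧ Commute c y})) ⧸
        Subgroup.center ↥(Subgroup.closure ({y : G | y ∈ D ∧ y ≠ d ∧ Commute d y} ∩
          {y : G | y ∈ D ∧ y ≠ c ∧ Commute c y})), g ^ 11 = 1 → g = 1 := by
  obtain ⟨-, d, hd, c, hc, hdc, ⟨F, iF, iFF, hF, ⟨e⟩⟩, c₃, -, hL⟩ := h
  let m : U6Model F (Residue D d) := U6Model.ofEquiv hF e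
  have : Nontrivial (Residue D d) := by
    obtain ⟨g, hg, -⟩ := m.eleven
    exact ⟨g, 1, hg⟩
  have htt := tt_resSet hD hd
  have heq := m.points_eq hF htt (closure_resSet d)
  exact ⟨d, c, hd, hc, hdc, ⟨F, iF, iFF, hF, m, heq, m.core hF (heq ▸ htt.diff_one)⟩,
    fun g hg => projReflection_eleven (by norm_num) hL g hg⟩

/-- what is derived from type M(22) -/
theorem core_of_M22 [Finite G] {D : Set G} (hD : TT D) (hgen : Subgroup.closure D = ⊤)
    (h : Cfsg.IsOfTypeM22 G D) : Core (D \ {1}) := by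
  obtain ⟨d, c, hd, hc, hdc, ⟨F, iF, iFF, hF, m, heq, hm⟩, hL⟩ := residue_of_M22 hD h
  exact core_step hD hgen h.1 hd hc hdc (heq ▸ hm) hL

/-- what is derived from type M(23) -/
theorem core_of_M23 [Finite G] {D : Set G} (hD : TT D) (hgen : Subgroup.closure D = ⊤)
    (h : Cfsg.IsOfTypeM23 G D) : Core (D \ {1}) := by
  obtain ⟨hcen, d, hd, c, hc, hdc, h22, c₃, -, hL⟩ := h
  exact core_step hD hgen hcen hd hc hdc
    (core_of_M22 (tt_resSet hD hd) (closure_resSet d) h22)
    fun g hg => projReflection_eleven (by norm_num) hL g hg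

/-- what is derived from type M(24) -/
theorem core_of_M24 [Finite G] {D : Set G} (hD : TT D) (hgen : Subgroup.closure D = ⊤)
    (h : Cfsg.IsOfTypeM24 G D) : Core (D \ {1}) := by
  obtain ⟨hcen, d, hd, c, hc, hdc, h23, N, hN, ⟨eN⟩, ⟨eq⟩⟩ := h
  exact core_step hD hgen hcen hd hc hdc
    (core_of_M23 (tt_resSet hD hd) (closure_resSet d) h23)
    fun g hg => omegaPlus_eleven N eN eq g hg

/-- top level: nothing is removed -/
theorem diff_one_eq {D : Set G} (h : ∀ a ∈ D, a ≠ 1) : D \ {1} = D := by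
  ext x; exact ⟨fun hx => hx.1, fun hx => ⟨hx, h x hx⟩⟩

end Cfsg.Agent.H93
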