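import Cfsg.Agent.H93.Orbit

/-!
An orbit in an elementary abelian group of order `2^11` described by 22 points, 231 pairs and the central
element has 23 elements.
-/

set_option autoImplicit false

namespace Cfsg.Agent.H93

/-- the translate in a commutative group -/
def tr {A : Type*} [Mul A] (d : A) (X : Set A) : Set A := (fun x => x * d) '' X

theorem twenty_three {A : Type*} [CommGroup A] [Finite A] (h2 : ∀ x : A, x * x = 1)
    (hA : Nat.card A = 2 ^ 11) (R : Subgroup (MulAut A)) {d : A} {Ω K P Z : Set A}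
    (horb : Ω = MulAction.orbit R d) (h1 : (1 : A) ∉ Ω) (hother : ∃ x ∈ Ω, x ≠ d)
    (cK : K.ncard = 22) (cP : P.ncard = 231)
    (hcov : ∀ x, x ∈ ({1, d} : Set A) ∪ K ∪ tr d K ∪ P ∪ tr d P ∪ Z)
    (dK : Disjoint ({1, d} : Set A) (K ∪ tr d K ∪ P ∪ tr d P ∪ Z))
    (dKK : Disjoint K (tr d K)) (dKP : Disjoint (K ∪ tr d K) (P ∪ tr d P ∪ Z))
    (dPP : Disjoint P (tr d P)) (dPZ : Disjoint (P ∪ tr d P) Z) (hd1 : d ≠ 1)
    (aK : ∀ x ∈ K, x ∈ Ω → ∀ y ∈ K, y ∈ Ω)
    (aK' : ∀ x ∈ tr d K, x ∈ Ω → ∀ y ∈ tr d K, y ∈ Ω)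
    (aP : ∀ x ∈ tr d P, x ∈ Ω → ∀ y ∈ tr d P, y ∈ Ω)
    (aZ : ∀ x ∈ Z, x ∈ Ω → ∀ y ∈ Z, y ∈ Ω)
    (hP : ∀ x ∈ P, x ∉ Ω)
    (hKP : ∀ x ∈ K, ∀ y ∈ K, x ≠ y → x * y ∈ P)
    (hKZ : ∀ x ∈ K, ∀ y ∈ K, ∀ z ∈ K, x ≠ y → x ≠ z → y ≠ z → x * y * z ∈ Z ∧ x * y * z * d ∈ Z)
    (hsix : ∃ a b₁ b₂ b₃ b₄ b₅, [a, b₁, b₂, b₃, b₄, b₅].Nodup ∧
      (∀ x ∈ [a, b₁, b₂, b₃, b₄, b₅], x ∈ K) ∧ a * b₁ * b₂ * b₃ * b₄ * b₅ = d) :
    Ω.ncard = 23 := by
  classical
  have hdΩ : d ∈ Ω := horb ▸ MulAction.mem_orbit_self d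
  have hback : ∀ x ∈ Ω, ∃ φ : A ≃* A, φ x = d ∧ ∀ u, u ∈ Ω ↔ φ u ∈ Ω := by
    intro x hx
    rw [horb] at hx
    obtain ⟨ψ, rfl⟩ := hx
    refine ⟨(ψ : MulAut A)⁻¹, ?_, fun u => ?_⟩
    · show ((ψ : MulAut A)⁻¹) ((ψ : MulAut A) d) = d
      exact MulAut.inv_apply_self _ _ _
    · rw [horb, show ((ψ : MulAut A)⁻¹) u = (ψ⁻¹ : R) • u from rfl]
      constructor
      · rintro ⟨h, rfl⟩; exact ⟨ψ⁻¹ * h, mul_smul _ _ _⟩
      · rintro ⟨h, e⟩
        exact ⟨ψ * h, by
          show (ψ * h) • d = u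
          rw [mul_smul, show h • d = ψ⁻¹ • u from e, smul_inv_smul]⟩
  have trd : ∀ {x : A} {X : Set A}, x ∈ tr d X ↔ x * d ∈ X := fun {x X} => by
    constructor
    · rintro ⟨y, hy, rfl⟩; show y * d * d ∈ X; rwa [mul_assoc, h2, mul_one]
    · exact fun hx => ⟨x * d, hx, by show x * d * d = x; rw [mul_assoc, h2, mul_one]⟩
  have ctr : ∀ X : Set A, (tr d X).ncard = X.ncard := fun X =>
    Set.ncard_image_of_injective _ (mul_left_injective d)
  simp only [Set.disjoint_union_left, Set.disjoint_union_right] at dK dKP dPZ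
  have cZ : Z.ncard = 1540 := by
    have hall : ({1, d} ∪ K ∪ tr d K ∪ P ∪ tr d P ∪ Z : Set A).ncard = 2048 := by
      rw [show ({1, d} ∪ K ∪ tr d K ∪ P ∪ tr d P ∪ Z : Set A) = Set.univ from Set.eq_univ_of_forall hcov,
        Set.ncard_univ, hA]
      norm_num
    rw [Set.ncard_union_eq (by simp only [Set.disjoint_union_left]; tauto),
      Set.ncard_union_eq (by simp only [Set.disjoint_union_left]; tauto),
      Set.ncard_union_eq (by simp only [Set.disjoint_union_left]; tauto),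
      Set.ncard_union_eq (by simp only [Set.disjoint_union_left]; tauto),
      Set.ncard_union_eq (by tauto), ctr, ctr, cK, cP, Set.ncard_pair (Ne.symm hd1)] at hall
    omega
  have part : ∀ X : Set A, (∀ x ∈ X, x ∈ Ω → ∀ y ∈ X, y ∈ Ω) →
      ((Ω ∩ X).ncard = 0 ∧ ∀ x ∈ X, x ∉ Ω) ∨ ((Ω ∩ X).ncard = X.ncard ∧ ∀ x ∈ X, x ∈ Ω) := by
    intro X hX
    by_cases h : ∃ x ∈ X, x ∈ Ω
    · obtain ⟨x, hx, hxΩ⟩ := h
      exact Or.inr ⟨by rw [Set.inter_eq_right.mpr fun y hy => hX x hx hxΩ y hy], hX x hx hxΩ⟩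
    · simp only [not_exists, not_and] at h
      refine Or.inl ⟨?_, h⟩
      rw [show Ω ∩ X = ∅ from Set.eq_empty_iff_forall_notMem.mpr fun y hy => h y hy.2 hy.1]
      exact Set.ncard_empty A
  have hsub : ∀ x ∈ Ω, x = d ∨ x ∈ K ∨ x ∈ tr d K ∨ x ∈ tr d P ∨ x ∈ Z := by
    intro x hx
    rcases hcov x with ((((h | h) | h) | h) | h) | h
    · rcases h with rfl | rfl
      exacts [absurd hx h1, Or.inl rfl]
    · exact Or.inr (Or.inl h)
    · exact Or.inr (Or.inr (Or.inl h))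
    · exact absurd hx (hP x h)
    · exact Or.inr (Or.inr (Or.inr (Or.inl h)))
    · exact Or.inr (Or.inr (Or.inr (Or.inr h)))
  have hcount : Ω.ncard =
      1 + ((Ω ∩ K).ncard + (Ω ∩ tr d K).ncard + (Ω ∩ tr d P).ncard + (Ω ∩ Z).ncard) := by
    have he : Ω = insert d (Ω ∩ K ∪ Ω ∩ tr d K ∪ Ω ∩ tr d P ∪ Ω ∩ Z) := by
      ext x
      constructor
      · intro hx
        rcases hsub x hx with h | h | h | h | h
        exacts [Or.inl h, Or.inr (Or.inl (Or.inl (Or.inl ⟨hx, h⟩))),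
          Or.inr (Or.inl (Or.inl (Or.inr ⟨hx, h⟩))), Or.inr (Or.inl (Or.inr ⟨hx, h⟩)),
          Or.inr (Or.inr ⟨hx, h⟩)]
      · rintro (rfl | ((h | h) | h) | h)
        exacts [hdΩ, h.1, h.1, h.1, h.1]
    have w : ∀ {X Y : Set A}, Disjoint X Y → Disjoint (Ω ∩ X) (Ω ∩ Y) := fun h =>
      h.mono Set.inter_subset_right Set.inter_subset_right
    conv_lhs => rw [he]
    rw [Set.ncard_insert_of_notMem, Set.ncard_union_eq, Set.ncard_union_eq, Set.ncard_union_eq]
    · omega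
    · exact w dKK
    · simp only [Set.disjoint_union_left]; exact ⟨w (by tauto), w (by tauto)⟩
    · simp only [Set.disjoint_union_left]; exact ⟨⟨w (by tauto), w (by tauto)⟩, w (by tauto)⟩
    · have hdd : d ∈ ({1, d} : Set A) := Or.inr rfl
      rintro (((h | h) | h) | h)
      · exact dK.1.1.1.1.le_bot ⟨hdd, h.2⟩
      · exact dK.1.1.1.2.le_bot ⟨hdd, h.2⟩
      · exact dK.1.2.le_bot ⟨hdd, h.2⟩
      · exact dK.2.le_bot ⟨hdd, h.2⟩
  have noprime : ∀ p : ℕ, p.Prime → (∀ k < 11, ¬ p ∣ 2 ^ 11 - 2 ^ k) → ¬ p ∣ Ω.ncard := by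
    intro p hp hno hdvd
    haveI := Fact.mk hp
    obtain ⟨k, hk, h⟩ := orbit_prime hA R d (horb ▸ hdvd)
    exact hno k hk h
  obtain ⟨a, b1, b2, b3, b4, b5, hnd, hmem, hprod⟩ := hsix
  simp only [List.nodup_cons, List.mem_cons, List.not_mem_nil, or_false, not_or,
    List.nodup_nil, and_true, not_false_eq_true] at hnd
  obtain ⟨⟨a1, a2, a3, a4, a5⟩, ⟨n12, n13, n14, n15⟩, ⟨n23, n24, n25⟩, ⟨n34, n35⟩, n45⟩ := hnd
  simp only [List.mem_cons, List.not_mem_nil, or_false, forall_eq_or_imp, forall_eq] at hmem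
  obtain ⟨aM, m1, m2, m3, m4, m5⟩ := hmem
  have xd : ∀ x : A, x * d * d = x := fun x => by rw [mul_assoc, h2, mul_one]
  have inKd : ∀ {x}, x ∈ K → x * d ∈ tr d K := fun hx => ⟨_, hx, rfl⟩
  have inPd : ∀ {x}, x ∈ P → x * d ∈ tr d P := fun hx => ⟨_, hx, rfl⟩
  rcases part Z aZ with ⟨z0, zN⟩ | ⟨z1, -⟩
  swap
  · exfalso
    rcases part K aK with ⟨k0, -⟩ | ⟨k0, -⟩ <;> rcases part _ aK' with ⟨k1, -⟩ | ⟨k1, -⟩ <;>
      rcases part _ aP with ⟨p1, -⟩ | ⟨p1, -⟩ <;>
      simp only [ctr, cK, cP, cZ] at k0 k1 p1 z1 <;> rw [k0, k1, p1, z1] at hcount <;>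
      first
      | (refine noprime 67 (by norm_num) (by decide) ?_; rw [hcount]; norm_num; done)
      | (refine noprime 521 (by norm_num) (by decide) ?_; rw [hcount]; norm_num; done)
      | (refine noprime 317 (by norm_num) (by decide) ?_; rw [hcount]; norm_num; done)
      | (refine noprime 443 (by norm_num) (by decide) ?_; rw [hcount]; norm_num; done)
      | (refine noprime 13 (by norm_num) (by decide) ?_; rw [hcount]; norm_num; done)
      | (refine noprime 227 (by norm_num) (by decide) ?_; rw [hcount]; norm_num; done)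
  rw [z0] at hcount
  rcases part _ aP with ⟨p0, pN⟩ | ⟨p1, pY⟩
  · rw [p0] at hcount
    rcases part K aK with ⟨k0, kN⟩ | ⟨k0, kY⟩ <;> rcases part _ aK' with ⟨k1, kN'⟩ | ⟨k1, kY'⟩ <;>
      (try simp only [ctr, cK] at k0) <;> (try simp only [ctr, cK] at k1) <;> rw [k0, k1] at hcount
    · exfalso
      obtain ⟨x, hx, hne⟩ := hother
      rcases hsub x hx with h | h | h | h | h
      exacts [hne h, kN x h hx, kN' x h hx, pN x h hx, zN x h hx]
    · omega
    · omega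
    · exfalso
      obtain ⟨φ, hφ, hΩ⟩ := hback a (kY a aM)
      have key : ∀ u ∈ K, φ.symm u = d ∨ φ.symm u = a * d := by
        intro u hu
        have h1' : φ.symm u ∈ Ω := (hΩ _).mpr (by rw [MulEquiv.apply_symm_apply]; exact kY u hu)
        have h2' : a * φ.symm u ∈ Ω := (hΩ _).mpr (by
          rw [map_mul, MulEquiv.apply_symm_apply, hφ, mul_comm]; exact kY' _ (inKd hu))
        rcases hsub _ h1' with h | h | h | h | h
        · exact Or.inl h
        · exfalso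
          by_cases e : a = φ.symm u
          · rw [← e, h2 a] at h2'; exact h1 h2'
          · exact hP _ (hKP a aM _ h e) h2'
        · obtain ⟨y, hy, e⟩ := h
          right
          rw [← e] at h2' ⊢
          by_cases q : a = y
          · rw [q]
          · exfalso
            rw [← mul_assoc] at h2'
            exact pN _ (inPd (hKP a aM y hy q)) h2'
        · exact absurd h1' (pN _ h)
        · exact absurd h1' (zN _ h)
      rcases key a aM with e1 | e1 <;> rcases key b1 m1 with e2 | e2 <;> rcases key b2 m2 with e3 | e3 <;>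
        first
        | exact a1 (φ.symm.injective (e1.trans e2.symm))
        | exact a2 (φ.symm.injective (e1.trans e3.symm))
        | exact n12 (φ.symm.injective (e2.trans e3.symm))
  · exfalso
    have hx : a * b1 * d ∈ Ω := pY _ (inPd (hKP a aM b1 m1 a1))
    obtain ⟨φ, hφ, hΩ⟩ := hback _ hx
    have h4 : a * b1 * b2 * b3 = b4 * b5 * d := by
      calc a * b1 * b2 * b3 = a * b1 * b2 * b3 * ((b4 * b5) * (b4 * b5)) := by rw [h2, mul_one]
        _ = (a * b1 * b2 * b3 * b4 * b5) * (b4 * b5) := by simp only [mul_assoc]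
        _ = b4 * b5 * d := by rw [hprod, mul_comm]
    have hu : b2 * b3 * d ∈ Ω := pY _ (inPd (hKP b2 m2 b3 m3 n23))
    have hxu : a * b1 * d * (b2 * b3 * d) = b4 * b5 * d := by
      calc a * b1 * d * (b2 * b3 * d) = a * b1 * b2 * b3 * (d * d) := by
            simp only [mul_assoc, mul_comm, mul_left_comm]
        _ = b4 * b5 * d := by rw [h2, mul_one, h4]
    have tog : ∀ u, u ∈ Ω → a * b1 * d * u ∈ Ω → φ u ∈ Ω ∧ φ u * d ∈ Ω := fun u h h' => by
      refine ⟨(hΩ u).mp h, ?_⟩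
      have := (hΩ _).mp h'
      rwa [map_mul, hφ, mul_comm d] at this
    have Mu : φ (b2 * b3 * d) ∈ Ω ∧ φ (b2 * b3 * d) * d ∈ Ω :=
      tog _ hu (by rw [hxu]; exact pY _ (inPd (hKP b4 m4 b5 m5 n45)))
    have inKK : ∀ w, w ∈ Ω → w * d ∈ Ω → w ∈ K ∨ w ∈ tr d K := by
      intro w hw hwd
      rcases hsub w hw with h | h | h | h | h
      · rw [h, h2] at hwd; exact absurd hwd h1
      · exact Or.inl h
      · exact Or.inr h
      · exact absurd hwd (hP _ (trd.mp h))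
      · exact absurd hw (zN _ h)
    by_cases hboth : (∀ x ∈ K, x ∈ Ω) ∧ ∀ x ∈ tr d K, x ∈ Ω
    · obtain ⟨kY, kY'⟩ := hboth
      have side : ∀ u v, (u ∈ K ∨ u ∈ tr d K) → (v ∈ K ∨ v ∈ tr d K) →
          (u * v ∈ Ω ↔ ¬ (u ∈ K ↔ v ∈ K)) := by
        intro u v hu hv
        have nK : ∀ {w}, w ∈ tr d K → w ∉ K := fun h h' => dKK.le_bot ⟨h', h⟩
        have same : ∀ {y z}, y ∈ K → z ∈ K → y * z ∉ Ω := fun {y z} hy hz h => by
          by_cases e : y = z
          · rw [e, h2] at h; exact h1 h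
          · exact hP _ (hKP y hy z hz e) h
        have diff : ∀ {y z}, y ∈ K → z ∈ K → y * (z * d) ∈ Ω := fun {y z} hy hz => by
          rw [← mul_assoc]
          by_cases e : y = z
          · rw [e, h2, one_mul]; exact hdΩ
          · exact pY _ (inPd (hKP y hy z hz e))
        rcases hu with hu | hu <;> rcases hv with hv | hv
        · simp [hu, hv, same hu hv]
        · obtain ⟨z, hz, rfl⟩ := hv
          simp [hu, nK ⟨z, hz, rfl⟩, diff hu hz]
        · obtain ⟨z, hz, rfl⟩ := hu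
          simp [hv, nK ⟨z, hz, rfl⟩, mul_comm (z * d) v, diff hv hz]
        · obtain ⟨y, hy, rfl⟩ := hu
          obtain ⟨z, hz, rfl⟩ := hv
          have e : y * d * (z * d) = y * z := by
            calc y * d * (z * d) = y * z * (d * d) := by simp only [mul_assoc, mul_left_comm]
              _ = _ := by rw [h2, mul_one]
          simp [nK ⟨y, hy, rfl⟩, nK ⟨z, hz, rfl⟩, e, same hy hz]
      have va : φ a ∈ Ω ∧ φ a * d ∈ Ω := by
        refine tog _ (kY a aM) ?_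
        rw [show a * b1 * d * a = a * (a * b1 * d) from mul_comm _ _,
          show a * (a * b1 * d) = b1 * d by rw [← mul_assoc, ← mul_assoc, h2, one_mul]]
        exact kY' _ (inKd m1)
      have wa : φ (a * d) ∈ Ω ∧ φ (a * d) * d ∈ Ω := by
        refine tog _ (kY' _ (inKd aM)) ?_
        rw [show a * b1 * d * (a * d) = (a * a) * (d * d) * b1 by
          simp only [mul_assoc, mul_comm, mul_left_comm], h2, h2, one_mul, one_mul]
        exact kY _ m1
      have hu' := inKK _ Mu.1 Mu.2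
      have hv' := inKK _ va.1 va.2
      have hw' := inKK _ wa.1 wa.2
      obtain ⟨z1, z2⟩ := hKZ a aM b2 m2 b3 m3 a2 a3 n23
      have uv : φ (b2 * b3 * d) * φ a ∉ Ω := by
        rw [← map_mul, ← hΩ, show b2 * b3 * d * a = a * b2 * b3 * d by
          simp only [mul_assoc, mul_comm, mul_left_comm]]
        exact zN _ z2
      have uw : φ (b2 * b3 * d) * φ (a * d) ∉ Ω := by
        rw [← map_mul, ← hΩ, show b2 * b3 * d * (a * d) = a * b2 * b3 * (d * d) by
          simp only [mul_assoc, mul_comm, mul_left_comm], h2, mul_one]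
        exact zN _ z1
      have vw : φ a * φ (a * d) ∈ Ω := by
        rw [← map_mul, ← hΩ, ← mul_assoc, h2, one_mul]
        exact hdΩ
      rw [side _ _ hu' hv', not_not] at uv
      rw [side _ _ hu' hw', not_not] at uw
      rw [side _ _ hv' hw'] at vw
      exact vw (uv.symm.trans uw)
    · rcases inKK _ Mu.1 Mu.2 with h | h
      · exact hboth ⟨aK _ h Mu.1, aK' _ (inKd h) Mu.2⟩
      · exact hboth ⟨aK _ (trd.mp h) Mu.2, aK' _ h Mu.1⟩

end Cfsg.Agent.H93
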