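import Cfsg.Agent.H93.Quad

/-!
The covering argument: when the groups `H x` attached to the members have the local properties below, the
centraliser of a member `a` is `H a`.
-/

set_option autoImplicit false

namespace Cfsg.Agent.H93

variable {G : Type*} [Group G] {D : Set G} {H : G → Subgroup G}

/-- local properties of the subgroups attached to the members -/
structure CoverData (D : Set G) (H : G → Subgroup G) : Prop where
  tt : TT D
  gen : Subgroup.closure D = ⊤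
  conn : Conn D
  conj : ∀ g : G, ∀ x ∈ D, ∀ h ∈ H x, g * h * g⁻¹ ∈ H (g * x * g⁻¹)
  cent : ∀ x ∈ D, ∀ h ∈ H x, Commute x h
  self : ∀ x ∈ D, x ∈ H x
  nb_mem : ∀ x ∈ D, ∀ y ∈ nb D x, y ∈ H x
  stab : ∀ x ∈ D, ∀ z ∈ nb D x, ∀ g ∈ H z, Commute g x → g ∈ H x
  mid : ∀ x ∈ D, ∀ y ∈ nb D x, ∀ z ∈ nb D x ∩ nb D y, ∀ z' ∈ nb D x ∩ nb D y,
    ∃ w ∈ nb D x ∩ nb D y, Commute w z ∧ Commute w z'
  sep2 : ∀ x ∈ D, ∀ y ∈ nb D x, ∀ z ∈ nb D x ∩ nb D y, ∀ z' ∈ nb D x ∩ nb D y, Commute z z' →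
    ∃ w ∈ nb D z, (z' = z ∨ w ∈ nb D z') ∧ ¬ Commute w x ∧ ¬ Commute w y
  tri : ∀ x ∈ D, ∀ y ∈ nb D x, ∀ w ∈ nb D x ∩ nb D y, ∃ z, z ∈ nb D x ∧ z ∈ nb D y ∧ z ∈ nb D w
  edge : ∀ x ∈ D, ∀ y ∈ nb D x, ∃ z, z ∈ nb D x ∩ nb D y
  far : ∀ a ∈ D, ∀ x ∈ D, ¬ Commute a x → ∀ b ∈ nb D a ∩ nb D x, ∀ y ∈ nb D x,
    ∃ z ∈ nb D a ∩ nb D x, Commute z y ∧
      Relation.ReflTransGen (fun p q => q ∈ nb D a ∩ nb D x ∧ Commute p q) b z

/-- a step between commuting members -/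
def CStep (D : Set G) (H : G → Subgroup G) (x y g : G) : Prop :=
  ∃ z ∈ nb D x ∩ nb D y, g ∈ H z ∧ g * x * g⁻¹ = y

/-- the chosen coset over a member -/
def Good (D : Set G) (H : G → Subgroup G) (a y g : G) : Prop :=
  (y = a ∧ g ∈ H a) ∨ (y ∈ nb D a ∧ ∃ s, CStep D H a y s ∧ s⁻¹ * g ∈ H a) ∨
    (¬ Commute a y ∧ ∃ b ∈ nb D a ∩ nb D y, ∃ s t, CStep D H a b s ∧ CStep D H b y t ∧
      (t * s)⁻¹ * g ∈ H a)

namespace CoverData

variable (c : CoverData D H)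

include c

theorem pull {x g : G} (hx : x ∈ D) {h : G} (hh : h ∈ H (g * x * g⁻¹)) : g⁻¹ * h * g ∈ H x := by
  have := c.conj g⁻¹ _ (c.tt.conj_mem g x hx) h hh
  rwa [show g⁻¹ * (g * x * g⁻¹) * g⁻¹⁻¹ = x by group, inv_inv] at this

theorem step_of_pair {x y z z' : G} (hx : x ∈ D) (hy : y ∈ nb D x) (hz : z ∈ nb D x ∩ nb D y)
    (hz' : z' ∈ nb D x ∩ nb D y) (hc : Commute z z') :
    ∃ k, k ∈ H z ∧ k ∈ H z' ∧ k * x * k⁻¹ = y := by
  obtain ⟨w, hw, hw', nx, ny⟩ := c.sep2 x hx y hy z hz z' hz' hc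
  have zD := hz.1.1
  have hxz : x ∈ nb D z := nb_symm hx hz.1
  have hyz : y ∈ nb D z := nb_symm hy.1 hz.2
  refine ⟨w * y * (x * w), mul_mem (mul_mem (c.nb_mem z zD w hw) (c.nb_mem z zD y hyz))
    (mul_mem (c.nb_mem z zD x hxz) (c.nb_mem z zD w hw)), ?_, ?_⟩
  · rcases hw' with rfl | hw'
    · exact mul_mem (mul_mem (c.nb_mem _ zD w hw) (c.nb_mem _ zD y hyz))
        (mul_mem (c.nb_mem _ zD x hxz) (c.nb_mem _ zD w hw))
    · have zD' := hz'.1.1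
      exact mul_mem (mul_mem (c.nb_mem _ zD' w hw') (c.nb_mem _ zD' y (nb_symm hy.1 hz'.2)))
        (mul_mem (c.nb_mem _ zD' x (nb_symm hx hz'.1)) (c.nb_mem _ zD' w hw'))
  · have bx := c.tt.braid hw.1 hx nx
    have by' := c.tt.braid hw.1 hy.1 ny
    have xx := c.tt.sq x hx
    have ww := c.tt.sq w hw.1
    have yy := c.tt.sq y hy.1
    rw [mul_inv_rev, mul_inv_rev, mul_inv_rev, c.tt.inv_eq hx, c.tt.inv_eq hw.1, c.tt.inv_eq hy.1]
    have e1 : x * w * x * (w * x) = w := by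
      rw [← bx]
      calc w * x * w * (w * x) = w * x * (w * w) * x := by group
        _ = w := by rw [ww, mul_one, mul_assoc, xx, mul_one]
    calc w * y * (x * w) * x * (w * x * (y * w)) = w * y * (x * w * x * (w * x)) * (y * w) := by group
      _ = w * (y * w * y) * w := by rw [e1]; group
      _ = w * (w * y * w) * w := by rw [by']
      _ = (w * w) * y * (w * w) := by group
      _ = y := by rw [ww, one_mul, mul_one]

theorem step_mem {x y g g' : G} (hx : x ∈ D) (hy : y ∈ nb D x) (hg : CStep D H x y g)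
    (hg' : CStep D H x y g') : g⁻¹ * g' ∈ H x := by
  obtain ⟨z, hz, hgz, eg⟩ := hg
  obtain ⟨z', hz', hgz', eg'⟩ := hg'
  have close : ∀ {u g k : G}, u ∈ nb D x → g ∈ H u → k ∈ H u → g * x * g⁻¹ = y → k * x * k⁻¹ = y →
      g⁻¹ * k ∈ H x := by
    intro u g k hu hgu hku e e'
    refine c.stab x hx u hu _ (mul_mem (inv_mem hgu) hku) ?_
    show g⁻¹ * k * x = x * (g⁻¹ * k)
    calc g⁻¹ * k * x = g⁻¹ * (k * x * k⁻¹) * k := by group
      _ = g⁻¹ * (g * x * g⁻¹) * k := by rw [e, e']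
      _ = _ := by group
  obtain ⟨w, hw, hwz, hwz'⟩ := c.mid x hx y hy z hz z' hz'
  obtain ⟨k1, k1z, k1w, e1⟩ := c.step_of_pair hx hy hz hw hwz.symm
  obtain ⟨k2, k2w, k2z, e2⟩ := c.step_of_pair hx hy hw hz' hwz'
  have h1 := close hz.1 hgz k1z eg e1
  have h2 := close hw.1 k1w k2w e1 e2
  have h3 := close hz'.1 k2z hgz' e2 eg'
  have := mul_mem (mul_mem h1 h2) h3
  rwa [show g⁻¹ * k1 * (k1⁻¹ * k2) * (k2⁻¹ * g') = g⁻¹ * g' by group] at this

theorem step_exists {x y : G} (hx : x ∈ D) (hy : y ∈ nb D x) : ∃ g, CStep D H x y g := by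
  obtain ⟨z, hz⟩ := c.edge x hx y hy
  obtain ⟨k, kz, -, e⟩ := c.step_of_pair hx hy hz hz (Commute.refl z)
  exact ⟨k, z, hz, kz, e⟩

omit c in
theorem step_symm {x y g : G} (h : CStep D H x y g) : CStep D H y x g⁻¹ := by
  obtain ⟨z, hz, hg, e⟩ := h
  exact ⟨z, ⟨hz.2, hz.1⟩, inv_mem hg, by rw [← e]; group⟩

omit c in
theorem step_end {x y g : G} (h : CStep D H x y g) : g * x * g⁻¹ = y := h.choose_spec.2.2

theorem step_comp {x y w g g' g'' : G} (hx : x ∈ D) (hy : y ∈ nb D x)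
    (hw : w ∈ nb D x ∩ nb D y) (h1 : CStep D H x y g) (h2 : CStep D H y w g')
    (h3 : CStep D H x w g'') : g''⁻¹ * (g' * g) ∈ H x := by
  obtain ⟨z, zx, zy, zw⟩ := c.tri x hx y hy w hw
  obtain ⟨k1, k1z, -, e1⟩ := c.step_of_pair hx hy ⟨zx, zy⟩ ⟨zx, zy⟩ (Commute.refl z)
  obtain ⟨k2, k2z, -, e2⟩ := c.step_of_pair hy.1 hw.2 ⟨zy, zw⟩ ⟨zy, zw⟩ (Commute.refl z)
  have m1 : k1⁻¹ * g ∈ H x := c.step_mem hx hy ⟨z, ⟨zx, zy⟩, k1z, e1⟩ h1
  have m2 : k2⁻¹ * g' ∈ H y := c.step_mem hy.1 hw.2 ⟨z, ⟨zy, zw⟩, k2z, e2⟩ h2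
  have e3 : k2 * k1 * x * (k2 * k1)⁻¹ = w := by
    rw [← e2, ← e1]; group
  have m3 : g''⁻¹ * (k2 * k1) ∈ H x :=
    c.step_mem hx hw.1 h3 ⟨z, ⟨zx, zw⟩, mul_mem k2z k1z, e3⟩
  have m2' : k1⁻¹ * (k2⁻¹ * g') * k1 ∈ H x := c.pull hx (e1.symm ▸ m2)
  have := mul_mem (mul_mem m3 m2') m1
  rwa [show g''⁻¹ * (k2 * k1) * (k1⁻¹ * (k2⁻¹ * g') * k1) * (k1⁻¹ * g) = g''⁻¹ * (g' * g) by group]
    at this

theorem step_comp' {x y w g g' : G} (hx : x ∈ D) (hy : y ∈ nb D x)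
    (hw : w ∈ nb D x ∩ nb D y) (h1 : CStep D H x y g) (h2 : CStep D H y w g') :
    ∃ g'', CStep D H x w g'' ∧ g''⁻¹ * (g' * g) ∈ H x := by
  obtain ⟨g'', h3⟩ := c.step_exists hx hw.1
  exact ⟨g'', h3, c.step_comp hx hy hw h1 h2 h3⟩

theorem far_nonempty {a y : G} (ha : a ∈ D) (hy : y ∈ D) (hn : ¬ Commute a y) :
    ∃ b, b ∈ nb D a ∩ nb D y := by
  have key : ∀ t, Relation.ReflTransGen (Adj D) a t → Commute a t ∨ ∃ b, b ∈ nb D a ∩ nb D t := by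
    intro t ht
    induction ht with
    | refl => exact Or.inl (Commute.refl a)
    | @tail u v _ huv ih =>
      by_cases hav : Commute a v
      · exact Or.inl hav
      right
      by_cases hau : Commute a u
      · refine ⟨u, ⟨huv.1, fun e => hav (e ▸ huv.2.2.2), hau⟩, ?_⟩
        exact nb_symm huv.1 huv.2
      obtain ⟨b, hb'⟩ := ih.resolve_left hau
      obtain ⟨z, hz, hzv, -⟩ := c.far a ha u huv.1 hau b hb' v huv.2
      exact ⟨z, hz.1, hz.1.1, fun e => hav (e ▸ hz.1.2.2), hzv.symm⟩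
  exact (key y (c.conn a ha y hy)).resolve_left hn

/-- the two-step cosets through different middle members agree -/
theorem two_step_mem {a y b b' s t s' t' : G} (ha : a ∈ D) (hy : y ∈ D) (hn : ¬ Commute a y)
    (hb : b ∈ nb D a ∩ nb D y) (hb' : b' ∈ nb D a ∩ nb D y) (hs : CStep D H a b s)
    (ht : CStep D H b y t) (hs' : CStep D H a b' s') (ht' : CStep D H b' y t') :
    (t * s)⁻¹ * (t' * s') ∈ H a := by
  have near : ∀ {b b' s t s' t' : G}, b ∈ nb D a ∩ nb D y → b' ∈ nb D a ∩ nb D y → Commute b b' →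
      CStep D H a b s → CStep D H b y t → CStep D H a b' s' → CStep D H b' y t' →
      (t * s)⁻¹ * (t' * s') ∈ H a := by
    intro b b' s t s' t' hb hb' hc hs ht hs' ht'
    by_cases e : b' = b
    · subst e
      have m1 := c.step_mem hb'.1.1 (nb_symm hy hb'.2) ht ht'
      have m1' := c.pull ha (g := s) ((step_end hs).symm ▸ m1)
      have m2 := c.step_mem ha hb.1 hs hs'
      have := mul_mem m1' m2
      rwa [show s⁻¹ * (t⁻¹ * t') * s * (s⁻¹ * s') = (t * s)⁻¹ * (t' * s') by group] at this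
    · have hbb : b' ∈ nb D b := ⟨hb'.1.1, e, hc⟩
      obtain ⟨u, hu⟩ := c.step_exists hb.1.1 hbb
      have m1 : s'⁻¹ * (u * s) ∈ H a := c.step_comp ha hb.1 ⟨hb'.1, hbb⟩ hs hu hs'
      have m2 : t⁻¹ * (t' * u) ∈ H b := c.step_comp hb.1.1 hbb
        ⟨nb_symm hy hb.2, nb_symm hy hb'.2⟩ hu ht' ht
      have m2' := c.pull ha (g := s) ((step_end hs).symm ▸ m2)
      have := mul_mem m2' (inv_mem m1)
      rwa [show s⁻¹ * (t⁻¹ * (t' * u)) * s * (s'⁻¹ * (u * s))⁻¹ = (t * s)⁻¹ * (t' * s') by group]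
        at this
  obtain ⟨z, hz, hzb', hreach⟩ := c.far a ha y hy hn b hb b' (hb'.2)
  obtain ⟨sz, hsz⟩ := c.step_exists ha hz.1
  obtain ⟨tz, htz⟩ := c.step_exists hz.1.1 (nb_symm hy hz.2)
  have chain : ∀ p, Relation.ReflTransGen (fun p q => q ∈ nb D a ∩ nb D y ∧ Commute p q) b p →
      p ∈ nb D a ∩ nb D y ∧ ∀ sp tp, CStep D H a p sp → CStep D H p y tp →
        (t * s)⁻¹ * (tp * sp) ∈ H a := by
    intro p hp
    induction hp with
    | refl => exact ⟨hb, fun sp tp h1 h2 => near hb hb (Commute.refl b) hs ht h1 h2⟩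
    | @tail p q _ hpq ih =>
      refine ⟨hpq.1, fun sq tq h1 h2 => ?_⟩
      obtain ⟨sp, hsp⟩ := c.step_exists ha ih.1.1
      obtain ⟨tp, htp⟩ := c.step_exists ih.1.1.1 (nb_symm hy ih.1.2)
      have := mul_mem (ih.2 sp tp hsp htp) (near ih.1 hpq.1 hpq.2 hsp htp h1 h2)
      rwa [show (t * s)⁻¹ * (tp * sp) * ((tp * sp)⁻¹ * (tq * sq)) = (t * s)⁻¹ * (tq * sq) by group]
        at this
  have := mul_mem ((chain z hreach).2 sz tz hsz htz) (near hz hb' hzb' hsz htz hs' ht')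
  rwa [show (t * s)⁻¹ * (tz * sz) * ((tz * sz)⁻¹ * (t' * s')) = (t * s)⁻¹ * (t' * s') by group]
    at this

theorem good_exists {a y : G} (ha : a ∈ D) (hy : y ∈ D) : ∃ g, Good D H a y g := by
  by_cases e : y = a
  · exact ⟨1, Or.inl ⟨e, one_mem _⟩⟩
  by_cases hc : Commute a y
  · obtain ⟨s, hs⟩ := c.step_exists ha ⟨hy, e, hc⟩
    exact ⟨s, Or.inr (Or.inl ⟨⟨hy, e, hc⟩, s, hs, by rw [inv_mul_cancel]; exact one_mem _⟩)⟩
  obtain ⟨b, hb⟩ := c.far_nonempty ha hy hc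
  obtain ⟨s, hs⟩ := c.step_exists ha hb.1
  obtain ⟨t, ht⟩ := c.step_exists hb.1.1 (nb_symm hy hb.2)
  exact ⟨t * s, Or.inr (Or.inr ⟨hc, b, hb, s, t, hs, ht, by rw [inv_mul_cancel]; exact one_mem _⟩)⟩

theorem good_mul {a y g h : G} (hg : Good D H a y g) (hh : h ∈ H a) :
    Good D H a y (g * h) := by
  rcases hg with ⟨e, hg⟩ | ⟨hy, s, hs, hg⟩ | ⟨hn, b, hb, s, t, hs, ht, hg⟩
  · exact Or.inl ⟨e, mul_mem hg hh⟩
  · exact Or.inr (Or.inl ⟨hy, s, hs, by rw [← mul_assoc]; exact mul_mem hg hh⟩)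
  · exact Or.inr (Or.inr ⟨hn, b, hb, s, t, hs, ht, by rw [← mul_assoc]; exact mul_mem hg hh⟩)

theorem good_conj {a y g : G} (ha : a ∈ D) (hg : Good D H a y g) : g * a * g⁻¹ = y := by
  have fix : ∀ {h : G}, h ∈ H a → h * a * h⁻¹ = a := fun hh =>
    mul_inv_eq_iff_eq_mul.mpr (c.cent a ha _ hh).symm.eq
  have via : ∀ {p g : G}, p⁻¹ * g ∈ H a → g * a * g⁻¹ = p * a * p⁻¹ := fun {p g} hh => by
    calc g * a * g⁻¹ = p * ((p⁻¹ * g) * a * (p⁻¹ * g)⁻¹) * p⁻¹ := by group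
      _ = _ := by rw [fix hh]
  rcases hg with ⟨rfl, hg⟩ | ⟨hy, s, hs, hg⟩ | ⟨hn, b, hb, s, t, hs, ht, hg⟩
  · exact fix hg
  · rw [via hg, step_end hs]
  · rw [via hg, ← step_end ht, ← step_end hs]; group

theorem good_unique {a y g g' : G} (ha : a ∈ D) (hy : y ∈ D) (h1 : Good D H a y g)
    (h2 : Good D H a y g') : g⁻¹ * g' ∈ H a := by
  rcases h1 with ⟨rfl, hg⟩ | ⟨hya, s, hs, hg⟩ | ⟨hn, b, hb, s, t, hs, ht, hg⟩
  · rcases h2 with ⟨-, hg'⟩ | ⟨hya', -⟩ | ⟨hn', -⟩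
    · exact mul_mem (inv_mem hg) hg'
    · exact absurd rfl hya'.2.1
    · exact absurd (Commute.refl _) hn'
  · rcases h2 with ⟨e, -⟩ | ⟨-, s', hs', hg'⟩ | ⟨hn', -⟩
    · exact absurd e hya.2.1
    · have := mul_mem (mul_mem (inv_mem hg) (c.step_mem ha hya hs hs')) hg'
      rwa [show (s⁻¹ * g)⁻¹ * (s⁻¹ * s') * (s'⁻¹ * g') = g⁻¹ * g' by group] at this
    · exact absurd hya.2.2 hn'
  · rcases h2 with ⟨e, -⟩ | ⟨hya', -⟩ | ⟨-, b', hb', s', t', hs', ht', hg'⟩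
    · exact absurd (e ▸ Commute.refl a) hn
    · exact absurd hya'.2.2 hn
    · have := mul_mem (mul_mem (inv_mem hg) (c.two_step_mem ha hy hn hb hb' hs ht hs' ht')) hg'
      rwa [show ((t * s)⁻¹ * g)⁻¹ * ((t * s)⁻¹ * (t' * s')) * ((t' * s')⁻¹ * g') = g⁻¹ * g' by group]
        at this

theorem good_of {a y p g : G} (hp : Good D H a y p) (hg : p⁻¹ * g ∈ H a) : Good D H a y g := by
  have := c.good_mul hp hg
  rwa [mul_inv_cancel_left] at this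

theorem good_step {a y y' g u : G} (ha : a ∈ D) (hy : y ∈ D) (hy' : y' ∈ nb D y)
    (hg : Good D H a y g) (hu : CStep D H y y' u) : Good D H a y' (u * g) := by
  have hyy : y ∈ nb D y' := nb_symm hy hy'
  rcases hg with ⟨rfl, hg⟩ | ⟨hya, s, hs, hg⟩ | ⟨hn, b, hb, s, t, hs, ht, hg⟩
  · exact Or.inr (Or.inl ⟨hy', u, hu, by rw [inv_mul_cancel_left]; exact hg⟩)
  · by_cases e : y' = a
    · subst e
      refine Or.inl ⟨rfl, ?_⟩
      have m := c.step_mem hy hy' (step_symm hs) hu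
      have m' := c.pull ha (g := s) ((step_end hs).symm ▸ m)
      have := mul_mem m' hg
      rwa [show s⁻¹ * (s⁻¹⁻¹ * u) * s * (s⁻¹ * g) = u * g by group] at this
    by_cases hc : Commute a y'
    · obtain ⟨s', hs', m⟩ := c.step_comp' ha hya ⟨⟨hy'.1, e, hc⟩, hy'⟩ hs hu
      refine Or.inr (Or.inl ⟨⟨hy'.1, e, hc⟩, s', hs', ?_⟩)
      have := mul_mem m hg
      rwa [show s'⁻¹ * (u * s) * (s⁻¹ * g) = s'⁻¹ * (u * g) by group] at this
    · exact Or.inr (Or.inr ⟨hc, y, ⟨hya, hyy⟩, s, u, hs, hu, by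
        rwa [show (u * s)⁻¹ * (u * g) = s⁻¹ * g by group]⟩)
  · by_cases hc : Commute a y'
    · have hne : y' ≠ a := fun e => hn (e ▸ hy'.2.2.symm)
      have hy'S : y' ∈ nb D a ∩ nb D y := ⟨⟨hy'.1, hne, hc⟩, hy'⟩
      obtain ⟨s', hs'⟩ := c.step_exists ha hy'S.1
      have m1 := c.two_step_mem ha hy hn hy'S hb hs' (step_symm hu) hs ht
      refine Or.inr (Or.inl ⟨hy'S.1, s', hs', ?_⟩)
      have := mul_mem m1 hg
      rwa [show (u⁻¹ * s')⁻¹ * (t * s) * ((t * s)⁻¹ * g) = s'⁻¹ * (u * g) by group] at this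
    · obtain ⟨z, hz, hzy', -⟩ := c.far a ha y hy hn b hb y' hy'
      have hzy : z ∈ nb D y' := ⟨hz.1.1, fun e => hc (e ▸ hz.1.2.2), hzy'.symm⟩
      obtain ⟨sz, hsz⟩ := c.step_exists ha hz.1
      obtain ⟨tz, htz⟩ := c.step_exists hz.1.1 (nb_symm hy hz.2)
      obtain ⟨t', ht', m⟩ := c.step_comp' hz.1.1 (nb_symm hy hz.2)
        ⟨nb_symm hy'.1 hzy, hy'⟩ htz hu
      have m' := c.pull ha (g := sz) ((step_end hsz).symm ▸ m)
      have m2 := c.two_step_mem ha hy hn hz hb hsz htz hs ht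
      refine Or.inr (Or.inr ⟨hc, z, ⟨hz.1, hzy⟩, sz, t', hsz, ht', ?_⟩)
      have := mul_mem m' (mul_mem m2 hg)
      rwa [show sz⁻¹ * (t'⁻¹ * (u * tz)) * sz * ((tz * sz)⁻¹ * (t * s) * ((t * s)⁻¹ * g)) =
        (t' * sz)⁻¹ * (u * g) by group] at this

theorem good_left {a g t : G} (ha : a ∈ D) (ht : t ∈ D)
    (hg : Good D H a (g * a * g⁻¹) g) : Good D H a (t * g * a * (t * g)⁻¹) (t * g) := by
  set y := g * a * g⁻¹ with hy
  have yD : y ∈ D := c.tt.conj_mem g a ha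
  have ey : t * g * a * (t * g)⁻¹ = t * y * t⁻¹ := by rw [hy]; group
  rw [ey]
  by_cases hc : Commute t y
  · rw [hc.eq, mul_inv_cancel_right]
    have tH : t ∈ H y := by
      by_cases e : t = y
      · exact e ▸ c.self y yD
      · exact c.nb_mem y yD t ⟨ht, e, hc.symm⟩
    have := c.good_mul hg (c.pull ha (g := g) tH)
    rwa [show g * (g⁻¹ * t * g) = t * g by group] at this
  · obtain ⟨z, hzy, hzt⟩ := c.far_nonempty yD ht (fun q => hc q.symm)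
    obtain ⟨k, hk⟩ := c.step_exists yD hzy
    have g1 := c.good_step ha yD hzy hg hk
    have tz : t * z * t⁻¹ = z := mul_inv_eq_iff_eq_mul.mpr hzt.2.2.eq
    have hv : CStep D H z (t * y * t⁻¹) (t * k⁻¹ * t⁻¹) := by
      obtain ⟨w, hw, hkw, ek⟩ := hk
      refine ⟨t * w * t⁻¹, ⟨?_, c.tt.nb_conj t hw.1⟩, c.conj t w hw.1.1 _ (inv_mem hkw), ?_⟩
      · have := c.tt.nb_conj t hw.2
        rwa [tz] at this
      · calc t * k⁻¹ * t⁻¹ * z * (t * k⁻¹ * t⁻¹)⁻¹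
            = t * k⁻¹ * t⁻¹ * (t * z * t⁻¹) * (t * k⁻¹ * t⁻¹)⁻¹ := by rw [tz]
          _ = t * (k⁻¹ * (k * y * k⁻¹) * k) * t⁻¹ := by rw [ek]; group
          _ = _ := by group
    have hz' : t * y * t⁻¹ ∈ nb D z := by
      have := c.tt.nb_conj t (nb_symm yD hzy)
      rwa [tz] at this
    refine c.good_of (c.good_step ha hzy.1 hz' g1 hv) ?_
    have hkg : (k * g) * a * (k * g)⁻¹ = z := by
      rw [← step_end hk, hy]; group
    have := c.pull ha (g := k * g) (hkg.symm ▸ c.nb_mem z hzy.1 t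
      (nb_symm ht hzt))
    rwa [show (t * k⁻¹ * t⁻¹ * (k * g))⁻¹ * (t * g) = (k * g)⁻¹ * t * (k * g) by group]

theorem centralizer_le {a g : G} (ha : a ∈ D) (hg : Commute g a) : g ∈ H a := by
  have key : ∀ g : G, Good D H a (g * a * g⁻¹) g := by
    intro g
    have hg : g ∈ Subgroup.closure D := c.gen ▸ Subgroup.mem_top g
    induction hg using Subgroup.closure_induction_left with
    | one => exact Or.inl ⟨by group, one_mem _⟩
    | mul_left t ht w _ ih => exact c.good_left ha ht ih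
    | inv_mul_cancel t ht w _ ih =>
      rw [c.tt.inv_eq ht]
      exact c.good_left ha ht ih
  have h := key g
  rw [hg.eq, mul_inv_cancel_right] at h
  have := c.good_unique ha ha (Or.inl ⟨rfl, one_mem _⟩) h
  rwa [inv_one, one_mul] at this

end CoverData

end Cfsg.Agent.H93
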