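import Cfsg.Agent.H93.DoubleClasses

/-!
The Thompson subgroup of a two-fold extension of a group of type M(22) in which the central involution is
not a square: the preimage of the one below.
-/

set_option autoImplicit false

namespace Cfsg.Agent.H93

variable {C M : Type*} [Group C] [Group M] {ρ : C →* M} {d : C} {E : Set M} {F : Type*} [Field F]
  [Fintype F] {K : Type*} [Field K] [Fintype K]

namespace Dbl

variable (D : Dbl ρ d E F K) [Finite C] [Finite M]

include D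

/-- bounds for elementary abelian subgroups of the extension -/
theorem elem_bound {B : Subgroup C} (b1 : ∀ x ∈ B, ∀ y ∈ B, Commute x y) (b2 : ∀ x ∈ B, x * x = 1) :
    (∀ x ∈ B.map ρ, ∀ y ∈ B.map ρ, Commute x y) ∧ (∀ x ∈ B.map ρ, x * x = 1) ∧
      Nat.card B ≤ 2048 ∧ (2048 ≤ Nat.card B → Nat.card (B.map ρ) = 1024) := by
  classical
  have c1 : ∀ x ∈ B.map ρ, ∀ y ∈ B.map ρ, Commute x y := by
    rintro _ ⟨x, hx, rfl⟩ _ ⟨y, hy, rfl⟩; exact (b1 x hx y hy).map ρ
  have c2 : ∀ x ∈ B.map ρ, x * x = 1 := by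
    rintro _ ⟨x, hx, rfl⟩; rw [← map_mul, b2 x hx, map_one]
  have hb := (D.data.elem_bound D.hK D.ext _ c1 c2).1
  let f : ↥B →* M := ρ.comp B.subtype
  have hk : Nat.card f.ker ≤ 2 := by
    have : Nat.card f.ker ≤ ({1, d} : Set C).ncard := by
      rw [← Nat.card_coe_set_eq]
      exact Nat.card_le_card_of_injective
        (fun x : ↥f.ker => (⟨x.1.1, D.ker _ x.2⟩ : ({1, d} : Set C)))
        fun x y e => Subtype.ext (Subtype.ext (congrArg (fun z : ({1, d} : Set C) => z.1) e))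
    exact this.trans ((Set.ncard_insert_le _ _).trans (by simp))
  have hr : f.range = B.map ρ := by rw [MonoidHom.range_comp, Subgroup.range_subtype]
  have hmul := Subgroup.card_mul_index f.ker
  rw [Subgroup.index_ker, hr] at hmul
  have := Nat.mul_le_mul_right (Nat.card (B.map ρ)) hk
  exact ⟨c1, c2, by omega, fun _ => by omega⟩

/-- the preimage of an elementary abelian subgroup of order `2^10` -/
theorem card_comap {X : Subgroup M} (hX : Nat.card X = 1024) : Nat.card (X.comap ρ) = 2048 := by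
  classical
  have hd : d ∈ X.comap ρ := by show ρ d ∈ X; rw [D.map_d]; exact one_mem X
  let f : ↥(X.comap ρ) →* ↥X := (ρ.comp (X.comap ρ).subtype).codRestrict X fun x => x.2
  have hf : Function.Surjective f := fun x => by
    obtain ⟨y, hy⟩ := D.surj x.1
    exact ⟨⟨y, by show ρ y ∈ X; rw [hy]; exact x.2⟩, Subtype.ext hy⟩
  have hk : Nat.card f.ker = 2 := by
    have : (f.ker : Set ↥(X.comap ρ)) = {1, ⟨d, hd⟩} := by
      ext x
      simp only [SetLike.mem_coe, MonoidHom.mem_ker, Set.mem_insert_iff, Set.mem_singleton_iff]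
      constructor
      · intro hx
        rcases D.ker x.1 (congrArg (fun y : ↥X => y.1) hx) with e | e
        exacts [Or.inl (Subtype.ext e), Or.inr (Subtype.ext e)]
      · rintro (rfl | rfl)
        exacts [map_one f, Subtype.ext D.map_d]
    rw [← SetLike.coe_sort_coe, Nat.card_coe_set_eq, this, Set.ncard_pair]
    exact fun e => D.ne (congrArg (fun y : ↥(X.comap ρ) => y.1) e).symm
  rw [← Subgroup.card_mul_index f.ker, Subgroup.index_ker, MonoidHom.range_eq_top.mpr hf,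
    Subgroup.card_top, hX, hk]

/-- the facts about the Thompson subgroup -/
theorem thompson (S : Sylow 2 C) : ∃ X : Subgroup M,
    Cfsg.thompsonSubgroupOf 2 (S : Subgroup C) = X.comap ρ ∧
      (∀ x ∈ X, ∀ y ∈ X, Commute x y) ∧ (∀ x ∈ X, x * x = 1) ∧ Nat.card X = 1024 ∧
      (∀ B : Subgroup C, (∀ x ∈ B, ∀ y ∈ B, Commute x y) → (∀ x ∈ B, x * x = 1) →
        Nat.card B = 2048 → ∃ k : C, B = (X.comap ρ).map (MulAut.conj k).toMonoidHom) ∧
      (∀ l : List M, (∀ a ∈ l, a ∈ E) → (∀ a ∈ l, ∀ b ∈ l, Commute a b) →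
        ∃ g : M, ∀ a ∈ l, g * a * g⁻¹ ∈ X) := by
  classical
  haveI : Fact (Nat.Prime 2) := ⟨Nat.prime_two⟩
  obtain ⟨X, hXT, hXab, hXsq, hXcard, huniq, hconjX, hinto⟩ :=
    D.data.sylow_top D.hK D.ext (S.mapSurjective D.surj)
  set AC := X.comap ρ
  have hACsq : ∀ x ∈ AC, x * x = 1 := fun x hx => D.invol (hXsq _ hx)
  have hACab : ∀ x ∈ AC, ∀ y ∈ AC, Commute x y := fun x hx y hy =>
    D.commute (hXsq _ hx) (hXsq _ hy) (hXab _ hx _ hy)
  have hACcard : Nat.card AC = 2048 := D.card_comap hXcard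
  have hS : AC ≤ (S : Subgroup C) := by
    have hdS : d ∈ (S : Subgroup C) := by
      obtain ⟨T, hT⟩ := (twoGroup_of_sq (B := Subgroup.zpowers d) fun x hx => by
        rcases zpowers_invol D.sq hx with rfl | rfl
        exacts [one_mul 1, D.sq]).exists_le_sylow
      obtain ⟨k, hk⟩ := MulAction.exists_smul_eq C T S
      rw [← hk]
      refine ⟨d, hT (Subgroup.mem_zpowers d), ?_⟩
      show k * d * k⁻¹ = d
      rw [← (D.cen k).eq, mul_inv_cancel_right]
    intro x hx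
    obtain ⟨s, hs, es⟩ := hXT hx
    rcases D.eq_or es with rfl | rfl
    exacts [hs, mul_mem hs hdS]
  refine ⟨X, ?_, hXab, hXsq, hXcard, fun B b1 b2 hBc => ?_, hinto⟩
  · have conv : ∀ B : Subgroup ↥(S : Subgroup C), Cfsg.IsElementaryAbelian 2 B →
        (∀ x ∈ B.map (S : Subgroup C).subtype, ∀ y ∈ B.map (S : Subgroup C).subtype, Commute x y) ∧
          ∀ x ∈ B.map (S : Subgroup C).subtype, x * x = 1 := by
      intro B hB
      obtain ⟨h1, h2⟩ := isElem_iff.mp hB
      refine ⟨?_, ?_⟩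
      · rintro _ ⟨x, hx, rfl⟩ _ ⟨y, hy, rfl⟩; exact (h1 x hx y hy).map _
      · rintro _ ⟨x, hx, rfl⟩; rw [← map_mul, h2 x hx, map_one]
    have hcardmap : ∀ B : Subgroup ↥(S : Subgroup C),
        Nat.card (B.map (S : Subgroup C).subtype) = Nat.card B := fun B =>
      (Nat.card_congr (B.equivMapOfInjective _ (Subgroup.subtype_injective _)).toEquiv).symm
    have helem : Cfsg.IsElementaryAbelian 2 (AC.subgroupOf (S : Subgroup C)) :=
      isElem_iff.mpr ⟨fun x hx y hy => Subtype.ext (hACab _ hx _ hy).eq,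
        fun x hx => Subtype.ext (hACsq _ hx)⟩
    have hcA : Nat.card (AC.subgroupOf (S : Subgroup C)) = 2048 := by
      rw [Nat.card_congr (Subgroup.subgroupOfEquivOfLe hS).toEquiv, hACcard]
    unfold Cfsg.thompsonSubgroupOf Cfsg.thompsonSubgroup
    refine le_antisymm ?_ ?_
    · rw [Subgroup.map_le_iff_le_comap]
      refine sSup_le fun B ⟨hB, hBmax⟩ => ?_
      rw [← Subgroup.map_le_iff_le_comap]
      have h1 := hBmax _ helem
      rw [hcA, ← hcardmap B] at h1
      obtain ⟨b1, b2⟩ := conv B hB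
      obtain ⟨c1, c2, -, c3⟩ := D.elem_bound b1 b2
      rw [← Subgroup.map_le_iff_le_comap]
      exact le_of_eq (huniq _ (Subgroup.map_mono (Subgroup.map_subtype_le B)) c1 c2 (c3 h1))
    · intro x hx
      refine ⟨⟨x, hS hx⟩, Subgroup.mem_sSup_of_mem (show AC.subgroupOf (S : Subgroup C) ∈
        Cfsg.maxElementaryAbelianSubgroups 2 ↥(S : Subgroup C) from ⟨helem, fun B hB => ?_⟩) hx, rfl⟩
      rw [hcA, ← hcardmap B]
      exact (D.elem_bound (conv B hB).1 (conv B hB).2).2.2.1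
  · obtain ⟨c1, c2, -, c3⟩ := D.elem_bound b1 b2
    obtain ⟨g, hg⟩ := hconjX _ c1 c2 (c3 hBc.ge)
    obtain ⟨k, rfl⟩ := D.surj g
    refine ⟨k, Subgroup.eq_of_le_of_card_ge (fun x hx => ?_) (le_of_eq ?_)⟩
    · obtain ⟨y, hy, ey⟩ := (hg ▸ ⟨x, hx, rfl⟩ : ρ x ∈ X.map (MulAut.conj (ρ k)).toMonoidHom)
      refine ⟨k⁻¹ * x * k, ?_, ?_⟩
      · show ρ (k⁻¹ * x * k) ∈ X
        rw [map_mul, map_mul, map_inv, ← show ρ k * y * (ρ k)⁻¹ = ρ x from ey,
          show (ρ k)⁻¹ * (ρ k * y * (ρ k)⁻¹) * ρ k = y by group]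
        exact hy
      · show k * (k⁻¹ * x * k) * k⁻¹ = x
        group
    · rw [← Nat.card_congr (AC.equivMapOfInjective _ (MulAut.conj k).injective).toEquiv, hACcard, hBc]

/-- six commuting members with product one below and the central involution above, moved into `X` -/
theorem exists_six_in {σ : M → C} (hσ : Sec ρ E σ) {X : Subgroup M}
    (hinto : ∀ l : List M, (∀ a ∈ l, a ∈ E) → (∀ a ∈ l, ∀ b ∈ l, Commute a b) →
      ∃ g : M, ∀ a ∈ l, g * a * g⁻¹ ∈ X) :
    ∃ a b₁ b₂ b₃ b₄ b₅ : M, [a, b₁, b₂, b₃, b₄, b₅].Nodup ∧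
      (∀ x ∈ [a, b₁, b₂, b₃, b₄, b₅], x ∈ E ∧ x ∈ X) ∧
      σ a * σ b₁ * σ b₂ * σ b₃ * σ b₄ * σ b₅ = d := by
  classical
  obtain ⟨c, hc, l, hl, hlnd, hlnb, hlc, hlp, hne⟩ : ∃ c ∈ E, ∃ l : List M, l.length = 5 ∧
      l.Nodup ∧ (∀ x ∈ l, x ∈ nb E c) ∧ (∀ x ∈ l, ∀ y ∈ l, Commute x y) ∧ l.prod = c ∧
      (l.map σ).prod ≠ σ c := by
    by_contra hno
    exact D.not_six hσ fun c hc l h1 h2 h3 h4 h5 =>
      by_contra fun q => hno ⟨c, hc, l, h1, h2, h3, h4, h5, q⟩
  have hall : ∀ x ∈ c :: l, x ∈ E := fun x hx => by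
    rcases List.mem_cons.mp hx with rfl | hx
    exacts [hc, (hlnb x hx).1]
  obtain ⟨g, hg⟩ := hinto (c :: l) hall (fun x hx y hy => by
    rcases List.mem_cons.mp hx with hx' | hx' <;> rcases List.mem_cons.mp hy with hy' | hy'
    · rw [hx', hy']
    · rw [hx']; exact (hlnb y hy').2.2
    · rw [hy']; exact (hlnb x hx').2.2.symm
    · exact hlc x hx' y hy')
  obtain ⟨k, rfl⟩ := D.surj g
  have hval : (l.map σ).prod = σ c * d := by
    rcases D.eq_or (show ρ (σ c) = ρ (l.map σ).prod by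
      rw [hσ.map_prod fun x hx => (hlnb x hx).1, hlp, hσ.img c hc]) with q | q
    exacts [absurd q hne, q]
  have h6 : (c :: l).Nodup := List.nodup_cons.mpr ⟨fun q => (hlnb c q).2.1 rfl, hlnd⟩
  have h7 := h6.map (f := fun x => ρ k * x * (ρ k)⁻¹)
    fun x y e => mul_left_cancel (mul_right_cancel e)
  match l, hl with
  | [u1, u2, u3, u4, u5], _ =>
    refine ⟨_, _, _, _, _, _, h7, fun y hy => ?_, ?_⟩
    · obtain ⟨x, hx, rfl⟩ := List.mem_map.mp (show y ∈ List.map (fun x => ρ k * x * (ρ k)⁻¹) [c, u1, u2, u3, u4, u5] from hy)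
      exact ⟨D.data.core.tt.conj_mem _ x (hall x hx), hg x hx⟩
    · have sv : ∀ x ∈ c :: [u1, u2, u3, u4, u5], σ (ρ k * x * (ρ k)⁻¹) = k * σ x * k⁻¹ :=
        fun x hx => (hσ.conj k x (hall x hx)).symm
      simp only [List.map_cons, List.map_nil, List.prod_cons, List.prod_nil, mul_one] at hval
      rw [sv c (by simp), sv u1 (by simp), sv u2 (by simp), sv u3 (by simp), sv u4 (by simp),
        sv u5 (by simp)]
      calc _ = k * (σ c * (σ u1 * (σ u2 * (σ u3 * (σ u4 * σ u5))))) * k⁻¹ := by group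
        _ = d := by rw [hval, ← mul_assoc (σ c), hσ.sq D hc, one_mul, ← (D.cen k).eq, mul_inv_cancel_right]

end Dbl

end Cfsg.Agent.H93
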