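import Cfsg.Agent.H93.Common23
import Cfsg.Agent.H93.RefSeven

/-!
Groups of type M(23): the common neighbours of two members that do not commute, read as the negatives
of the reflections of norm one of the seven-dimensional space over the field with three elements.
-/

set_option autoImplicit false

namespace Cfsg.Agent.H93

open QuadraticMap Module Cfsg.Agent.Orthogonal
open Cfsg.Agent.H48.OrthClass (Ortho negO negO_app reflOn reflOn_app reflOn_fix spinor_reflOn
  detSign_reflOn cls_eq exists_eigen_ortho exists_equiv_of_class prod_eq_last polar_map)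

namespace RefModel

/-- vectors -/
abbrev V7 : Type := Fin 7 → ZMod 3

/-- the standard scalar product -/
def dt (v w : V7) : ZMod 3 := ∑ i, v i * w i

/-- the sum of squares -/
noncomputable def Qd : QuadraticForm (ZMod 3) V7 :=
  QuadraticMap.weightedSumSquares (ZMod 3) (fun _ : Fin 7 => (1 : ZMod 3))

/-- a unit vector -/
def E (i : Fin 7) : V7 := Pi.single i 1

theorem Qd_apply (v : V7) : Qd v = dt v v := by
  simp [Qd, QuadraticMap.weightedSumSquares_apply, dt]

theorem polar_Qd (v w : V7) : polar (⇑Qd) v w = 2 * dt v w := by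
  simp only [polar, Qd_apply, dt, Pi.add_apply, ← Finset.sum_sub_distrib, Finset.mul_sum]
  exact Finset.sum_congr rfl fun i _ => by ring

theorem two_ne : (2 : ZMod 3) ≠ 0 := RefSeven.two_ne

theorem Qd_nondeg : Nondeg Qd := by
  intro v hv
  funext i
  have h := hv (E i)
  rw [polar_Qd] at h
  have e : dt v (E i) = v i := by simp [dt, E, Pi.single_apply]
  rw [e] at h
  exact (mul_eq_zero.mp h).resolve_left two_ne

theorem Qd_E : ∀ i, Qd (E i) = 1 := by
  intro i; rw [Qd_apply]; revert i; decide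

theorem ortho_E : Ortho Qd E := by
  intro i j hij
  rw [polar_Qd]
  have : dt (E i) (E j) = 0 := by revert hij i j; decide
  rw [this, mul_zero]

/-- the reflection in a vector of norm one -/
def rf (v w : V7) : V7 := fun i => w i + dt v w * v i

theorem rO_norm_one {v : V7} (hv : dt v v = 1) (w : V7) :
    (rO Qd v : V7 ≃ₗ[ZMod 3] V7) w = rf v w := by
  rw [rO_app, Qd_apply, hv, polar_Qd, inv_one, one_mul]
  funext i
  simp only [Pi.sub_apply, Pi.smul_apply, smul_eq_mul, rf]
  have h3 : (3 : ZMod 3) = 0 := by decide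
  linear_combination (-(dt v w * v i)) * h3

theorem prod_app : ∀ l : List V7, (∀ v ∈ l, dt v v = 1) → ∀ w : V7,
    (((l.map (rO Qd)).prod : O Qd) : V7 ≃ₗ[ZMod 3] V7) w = l.foldr rf w := by
  intro l
  induction l with
  | nil => intro _ w; simp
  | cons v t ih =>
    intro hl w
    rw [List.map_cons, List.prod_cons, Subgroup.coe_mul, mul_app,
      ih (fun z hz => hl z (List.mem_cons_of_mem _ hz)), rO_norm_one (hl v List.mem_cons_self),
      List.foldr_cons]

theorem ext_E {g g' : O Qd}
    (h : ∀ i, (g : V7 ≃ₗ[ZMod 3] V7) (E i) = (g' : V7 ≃ₗ[ZMod 3] V7) (E i)) : g = g' :=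
  ortho_E.ext_app two_ne (fun i => by rw [Qd_E]; decide) (by simp) h

/-- the negative of a reflection -/
noncomputable def nr (v : V7) : O Qd := negO Qd * rO Qd v

theorem negO_comm (g : O Qd) : Commute (negO Qd) g :=
  O.ext_app fun x => by simp [negO_app, mul_app, map_neg]

theorem negO_sq : negO Qd * negO Qd = 1 :=
  O.ext_app fun x => by simp [negO_app, mul_app]

theorem nr_app {v : V7} (hv : dt v v = 1) (w : V7) :
    (nr v : V7 ≃ₗ[ZMod 3] V7) w = -rf v w := by
  rw [nr, Subgroup.coe_mul, mul_app, rO_norm_one hv, negO_app]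

theorem nr_conj (g : O Qd) (v : V7) : g * nr v * g⁻¹ = nr ((g : V7 ≃ₗ[ZMod 3] V7) v) := by
  rw [nr, nr, show g * (negO Qd * rO Qd v) * g⁻¹ = g * negO Qd * rO Qd v * g⁻¹ by group,
    ← (negO_comm g).eq, mul_assoc (negO Qd), mul_assoc (negO Qd), conj_rO]

theorem nr_smul {c : ZMod 3} (hc : c ≠ 0) (v : V7) : nr (c • v) = nr v := by
  rw [nr, nr, rO_smul hc]

theorem nr_eq {v w : V7} (hv : dt v v = 1) (hw : dt w w = 1) (h : nr v = nr w) : w = v ∨ w = -v := by
  have e := congrArg (fun g : O Qd => (g : V7 ≃ₗ[ZMod 3] V7) v) h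
  simp only [nr_app hv, nr_app hw, neg_inj] at e
  have e' : ∀ i, v i + v i = v i + dt w v * w i := fun i => by
    have := congrFun e i
    simp only [rf, hv, one_mul] at this
    exact this
  generalize dt w v = t at e'
  have hval : t = 0 ∨ t = 1 ∨ t = -1 := RefSeven.values t
  rcases hval with rfl | rfl | rfl
  · exfalso
    have h0 : v = 0 := funext fun i => by simpa using e' i
    rw [h0] at hv
    simp [dt] at hv
  · left; funext i
    have := e' i
    rw [one_mul] at this
    exact (add_left_cancel this).symm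
  · right; funext i
    have := e' i
    rw [neg_one_mul] at this
    rw [Pi.neg_apply, add_left_cancel this, neg_neg]

theorem nr_commute {v w : V7} (hv : dt v v = 1) (hw : dt w w = 1) :
    Commute (nr v) (nr w) ↔ dt v w = 0 ∨ w = v ∨ w = -v := by
  constructor
  · intro h
    have hwv : dt w v = dt v w := by simp [dt, mul_comm]
    have e : nr v * nr w * (nr v)⁻¹ = nr w := mul_inv_eq_iff_eq_mul.mpr h.eq
    rw [nr_conj, nr_app hv] at e
    have hn : dt (-rf v w) (-rf v w) = 1 := by
      rw [← nr_app hv, ← Qd_apply, O.map_app, Qd_apply, hw]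
    rcases nr_eq hn hw e with q | q
    · -- the image is the vector itself
      have q' : ∀ i, w i = -(w i + dt v w * v i) := congrFun q
      have k0 : ∀ x : ZMod 3, x = -x → x = 0 := by decide
      have k1 : ∀ x y : ZMod 3, x = -(x + y) → x = y := by decide
      have k2 : ∀ x y : ZMod 3, x = -(x + -1 * y) → x = -y := by decide
      refine Or.inr ?_
      rcases RefSeven.values (dt v w) with t | t | t
      · exfalso
        have h0 : w = 0 := funext fun i => by
          have := q' i
          rw [t, zero_mul, add_zero] at this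
          exact k0 _ this
        rw [h0] at hw; simp [dt] at hw
      · left; funext i
        have := q' i
        rw [t, one_mul] at this
        exact k1 _ _ this
      · right; funext i
        have := q' i
        rw [t] at this
        exact k2 _ _ this
    · have q' : ∀ i, w i = -(-(w i + dt v w * v i)) := congrFun q
      refine Or.inl ?_
      by_contra t
      have h0 : v = 0 := funext fun i => by
        have := q' i
        rw [neg_neg, left_eq_add] at this
        exact (mul_eq_zero.mp this).resolve_left t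
      rw [h0] at hv; simp [dt] at hv
  · intro h
    rcases h with h | rfl | rfl
    · refine mul_inv_eq_iff_eq_mul.mp ?_
      rw [nr_conj, nr_app hv]
      have : rf v w = w := funext fun i => by simp [rf, h]
      rw [this, ← neg_one_smul (ZMod 3) w, nr_smul (by decide)]
    · exact Commute.refl _
    · rw [← neg_one_smul (ZMod 3) v, nr_smul (by decide)]

theorem prod_nr : ∀ l : List V7, (l.map nr).prod = negO Qd ^ l.length * (l.map (rO Qd)).prod := by
  intro l
  induction l with
  | nil => simp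
  | cons v t ih =>
    rw [List.map_cons, List.prod_cons, ih, List.map_cons, List.prod_cons, List.length_cons, nr]
    calc negO Qd * rO Qd v * (negO Qd ^ t.length * (t.map (rO Qd)).prod)
        = negO Qd * (rO Qd v * negO Qd ^ t.length) * (t.map (rO Qd)).prod := by group
      _ = _ := by rw [← ((negO_comm (rO Qd v)).pow_left _).eq, pow_succ']; group

/-- the list of the first unit vectors -/
def firstE (k : ℕ) : List V7 := ((List.finRange 7).filter fun i => decide (i.val < k)).map E

theorem firstE_norm {k : ℕ} : ∀ v ∈ firstE k, dt v v = 1 := by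
  intro v hv
  obtain ⟨i, -, rfl⟩ := List.mem_map.mp hv
  rw [← Qd_apply, Qd_E]

/-- minus one on the first coordinates -/
noncomputable def Dk (k : ℕ) : O Qd := ((firstE k).map (rO Qd)).prod

theorem Dk_app {k : Fin 8} (i : Fin 7) :
    (Dk k : V7 ≃ₗ[ZMod 3] V7) (E i) = if i.val < k.val then -E i else E i := by
  rw [Dk, prod_app _ firstE_norm]
  revert k i
  decide +kernel

theorem Dk_six : Dk 6 = nr (E 6) := ext_E fun i => by
  show (Dk ((6 : Fin 8) : ℕ) : V7 ≃ₗ[ZMod 3] V7) (E i) = _
  rw [Dk_app, nr_app (by rw [← Qd_apply, Qd_E])]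
  revert i
  decide +kernel

theorem spinor_two : sqSign (2 : ZMod 3) = -1 :=
  sqSign_of_not_isSquare (by rintro ⟨r, hr⟩; revert r; decide)

theorem sqSign_one : sqSign (1 : ZMod 3) = 1 := sqSign_of_isSquare IsSquare.one

/-- an involution of the group of commutators is conjugate to minus one on 2, 4 or 6 coordinates -/
theorem exists_normal {x : O Qd} (hx : x ∈ commutator (O Qd)) (h2 : x * x = 1) (h1 : x ≠ 1) :
    ∃ k : ℕ, (k = 2 ∨ k = 4 ∨ k = 6) ∧ ∃ h : O Qd, x = h * Dk k * h⁻¹ := by
  obtain ⟨l, hl⟩ : ∃ l, finrank (ZMod 3)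
      (LinearMap.ker (((x : V7 ≃ₗ[ZMod 3] V7) : V7 →ₗ[ZMod 3] V7) + 1)) = l := ⟨_, rfl⟩
  obtain ⟨l', v, hll, hv, v0, vm, vp, v5, v6⟩ := exists_eigen_ortho Qd_nondeg two_ne h2 hl
  rw [Module.finrank_fin_fun] at hll
  have hx' := (mem_commutator_iff Qd_nondeg two_ne x).1 hx
  have hcard : Fintype.card (Fin l ⊕ Fin l') = finrank (ZMod 3) V7 := by simp [hll]
  have eref : x = reflOn Qd (fun i => v (.inl i)) := hv.ext_app two_ne v0 hcard fun s => by
    rcases s with i | i
    · rw [vm, reflOn_app (fun a b hab => hv _ _ (by simpa using hab)) (fun a => v0 _)]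
    · rw [vp, reflOn_fix fun a => hv _ _ (by simp)]
  obtain ⟨hd, hs⟩ := hx'
  rw [eref, detSign_reflOn Qd_nondeg two_ne fun a => v0 _, Fintype.card_fin] at hd
  rw [eref, spinor_reflOn Qd_nondeg two_ne fun a => v0 _] at hs
  have hlne : l ≠ 0 := by
    rintro rfl
    exact h1 (hv.ext_app two_ne v0 hcard fun s => by
      rcases s with i | i
      · exact i.elim0
      · rw [vp]; rfl)
  have heven : Even l := by
    rcases Nat.even_or_odd l with h | h
    · exact h
    · rw [h.neg_one_pow] at hd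
      exact absurd hd (by decide)
  have hk : l = 2 ∨ l = 4 ∨ l = 6 := by
    obtain ⟨r, rfl⟩ := heven
    omega
  have hcls := cls_eq Qd_nondeg two_ne hv v0 hcard
  rw [cls_eq Qd_nondeg two_ne ortho_E (fun i => by rw [Qd_E]; decide) (by simp),
    Fintype.prod_sum_type, hs, one_mul, Finset.prod_eq_one (fun i _ => by rw [Qd_E, sqSign_one])]
    at hcls
  have key : ∀ (n : ℕ) (s : Fin n → ℤˣ), (∀ i : Fin n, (i : ℕ) + 1 < n → s i = 1) → ∏ i, s i = 1 →
      ∀ i, s i = 1 := by
    intro n s hs' hp i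
    cases n with
    | zero => exact i.elim0
    | succ n =>
      rw [prod_eq_last _ hs'] at hp
      cases i using Fin.lastCases with
      | last => exact hp
      | cast i => exact hs' _ (by simp)
  have hnorm : ∀ s, sqSign (Qd (v s)) = 1 := by
    rintro (i | i)
    · exact key l (fun i => sqSign (Qd (v (.inl i)))) (fun i hi => by rw [v5 i hi, sqSign_one]) hs i
    · exact key l' (fun i => sqSign (Qd (v (.inr i)))) (fun i hi => by rw [v6 i hi, sqSign_one])
        hcls.symm i
  let e0 : Fin 7 ≃ Fin l ⊕ Fin l' := (finCongr hll.symm).trans finSumFinEquiv.symm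
  obtain ⟨e, he, het⟩ := exists_equiv_of_class two_ne ortho_E (fun i => by rw [Qd_E]; decide)
    (by simp) (w := fun i => v (e0 i)) (fun i j hij => hv _ _ (e0.injective.ne hij)) (fun i => v0 _)
    (by simp) (fun i => by rw [Qd_E, sqSign_one, hnorm])
  refine ⟨l, hk, ⟨e, fun z => he z⟩, ?_⟩
  have hlt : l < 8 := by omega
  have hside : ∀ i : Fin 7, (x : V7 ≃ₗ[ZMod 3] V7) (v (e0 i)) =
      if i.val < l then -v (e0 i) else v (e0 i) := by
    intro i
    rcases hs' : e0 i with a | b
    · have hi : i.val < l := by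
        have := congrArg e0.symm hs'
        rw [Equiv.symm_apply_apply] at this
        rw [this]; simp [e0]
      rw [if_pos hi, vm]
    · have hi : ¬ i.val < l := by
        have := congrArg e0.symm hs'
        rw [Equiv.symm_apply_apply] at this
        rw [this]; simp [e0]
      rw [if_neg hi, vp]
  rw [eq_mul_inv_iff_mul_eq]
  refine ext_E fun i => ?_
  obtain ⟨t, ht⟩ := het i
  rw [Subgroup.coe_mul, Subgroup.coe_mul, mul_app, mul_app,
    show l = ((⟨l, hlt⟩ : Fin 8) : ℕ) from rfl, Dk_app]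
  show (x : V7 ≃ₗ[ZMod 3] V7) (e (E i)) = e (if i.val < l then -E i else E i)
  rw [ht, map_smul, hside]
  split
  · rw [map_neg, ht, smul_neg]
  · exact ht.symm

/-- the centraliser of minus one on some coordinates meets every class of determinant and norm -/
theorem exists_fix {k : ℕ} (hk : k = 2 ∨ k = 4 ∨ k = 6) (a b : ℤˣ) :
    ∃ c : O Qd, Commute c (Dk k) ∧ detSign Qd Qd_nondeg two_ne c = a ∧
      spinor Qd Qd_nondeg two_ne c = b := by
  have h0 : dt (E 0) (E 0) = 1 := by decide
  have hcom : ∀ v : V7, (Dk k : V7 ≃ₗ[ZMod 3] V7) v = -v → Commute (rO Qd v) (Dk k) := by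
    intro v hv
    refine (mul_inv_eq_iff_eq_mul.mp ?_ : Dk k * rO Qd v = rO Qd v * Dk k).symm
    rw [conj_rO, hv, ← neg_one_smul (ZMod 3) v, rO_smul (by decide)]
  have hDk : ∀ v : V7, (Dk k : V7 ≃ₗ[ZMod 3] V7) v = (firstE k).foldr rf v :=
    prod_app _ firstE_norm
  have c1 : Commute (rO Qd (E 0)) (Dk k) := hcom _ (by
    rw [hDk]; rcases hk with rfl | rfl | rfl <;> decide +kernel)
  have c2 : Commute (rO Qd (E 0 + E 1)) (Dk k) := hcom _ (by
    rw [hDk]; rcases hk with rfl | rfl | rfl <;> decide +kernel)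
  have hq2 : Qd (E 0 + E 1) = 2 := by rw [Qd_apply]; decide
  have n0 : Qd (E 0) ≠ 0 := by rw [Qd_E]; decide
  have n2 : Qd (E 0 + E 1) ≠ 0 := by rw [hq2]; decide
  have d1 := detSign_rO Qd_nondeg two_ne n0
  have d2 := detSign_rO Qd_nondeg two_ne n2
  have s1 : spinor Qd Qd_nondeg two_ne (rO Qd (E 0)) = 1 := by
    rw [spinor_rO Qd_nondeg two_ne n0, Qd_E, sqSign_one]
  have s2 : spinor Qd Qd_nondeg two_ne (rO Qd (E 0 + E 1)) = -1 := by
    rw [spinor_rO Qd_nondeg two_ne n2, hq2, spinor_two]
  rcases Int.units_eq_one_or a with rfl | rfl <;> rcases Int.units_eq_one_or b with rfl | rfl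
  · exact ⟨1, Commute.one_left _, map_one _, map_one _⟩
  · exact ⟨_, c1.mul_left c2, by rw [map_mul, d1, d2]; rfl, by rw [map_mul, s1, s2, one_mul]⟩
  · exact ⟨_, c1, d1, s1⟩
  · exact ⟨_, c2, d2, s2⟩

/-- minus one on some members of an orthonormal family is conjugate to the standard one -/
theorem exists_move {k : ℕ} (u : Fin 7 → V7) (hu : ∀ i, dt (u i) (u i) = 1)
    (ho : ∀ i j, i ≠ j → dt (u i) (u j) = 0) :
    ∃ g : O Qd, g * Dk k * g⁻¹ =
      ((((List.finRange 7).filter fun i => decide (i.val < k)).map u).map (rO Qd)).prod := by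
  obtain ⟨e, he, het⟩ := exists_equiv_of_class two_ne ortho_E (fun i => by rw [Qd_E]; decide) (by simp)
    (w := u) (fun i j hij => by rw [polar_Qd, ho i j hij, mul_zero])
    (fun i => by rw [Qd_apply, hu]; decide) (by simp)
    (fun i => by rw [Qd_E, Qd_apply, hu])
  refine ⟨⟨e, fun z => he z⟩, ?_⟩
  rw [show ∀ g x : O Qd, g * x * g⁻¹ = MulAut.conj g x from fun _ _ => rfl, Dk, firstE, List.map_map,
    List.map_map, map_list_prod, List.map_map]
  congr 1
  refine List.map_congr_left fun i _ => ?_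
  simp only [Function.comp_apply, MulAut.conj_apply, conj_rO]
  obtain ⟨t, ht⟩ := het i
  show rO Qd (e (E i)) = rO Qd (u i)
  rw [ht, rO_smul]
  rintro rfl
  have := he (E i)
  rw [ht, zero_smul, QuadraticMap.map_zero, Qd_E] at this
  exact zero_ne_one this

/-- a class of three-transpositions in the group of commutators consists of negatives of
reflections -/
theorem class_eq {S : Set (O Qd)} (hne : S.Nonempty) (hsub : ∀ x ∈ S, x ∈ commutator (O Qd))
    (hinv : ∀ x ∈ S, x * x = 1 ∧ x ≠ 1)
    (hconj : ∀ g ∈ commutator (O Qd), ∀ x ∈ S, g * x * g⁻¹ ∈ S)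
    (htt : ∀ x ∈ S, ∀ y ∈ S, (x * y) ^ 2 = 1 ∨ (x * y) ^ 3 = 1) :
    (∀ x ∈ S, ∃ v, dt v v = 1 ∧ x = nr v) ∧ ∀ v, dt v v = 1 → nr v ∈ S := by
  have hinvO : ∀ g : O Qd, ∀ x ∈ S, g * x * g⁻¹ ∈ S := by
    intro g x hx
    obtain ⟨k, hk, h, rfl⟩ := exists_normal (hsub x hx) (hinv x hx).1 (hinv x hx).2
    obtain ⟨c, hc, hcd, hcs⟩ := exists_fix hk (detSign Qd Qd_nondeg two_ne g)
      (spinor Qd Qd_nondeg two_ne g)
    have hm : g * h * c * h⁻¹ ∈ commutator (O Qd) := by
      rw [mem_commutator_iff Qd_nondeg two_ne]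
      simp only [map_mul, map_inv, hcd, hcs]
      constructor <;> rw [mul_right_comm, mul_inv_cancel_right, Int.units_mul_self]
    have := hconj _ hm _ hx
    rwa [show g * h * c * h⁻¹ * (h * Dk k * h⁻¹) * (g * h * c * h⁻¹)⁻¹ =
      g * h * (c * Dk k * c⁻¹) * h⁻¹ * g⁻¹ by group, mul_inv_eq_iff_eq_mul.mpr hc.eq,
      show g * h * Dk k * h⁻¹ * g⁻¹ = g * (h * Dk k * h⁻¹) * g⁻¹ by group] at this
  -- two and four coordinates give products of order four
  have hbad : ∀ (lx ly : List V7), (∀ v ∈ lx, dt v v = 1) → (∀ v ∈ ly, dt v v = 1) →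
      (lx.map (rO Qd)).prod ∈ S → (ly.map (rO Qd)).prod ∈ S →
      (∃ i, ((lx ++ ly) ++ (lx ++ ly)).foldr rf (E i) ≠ E i) →
      (∃ i, ((lx ++ ly) ++ ((lx ++ ly) ++ (lx ++ ly))).foldr rf (E i) ≠ E i) → False := by
    intro lx ly hlx hly mx my h2 h3
    have hm : ∀ v ∈ lx ++ ly, dt v v = 1 := fun v hv =>
      (List.mem_append.mp hv).elim (hlx v) (hly v)
    rcases htt _ mx _ my with e | e
    · obtain ⟨i, hi⟩ := h2
      refine hi ?_
      rw [← prod_app _ (fun v hv => (List.mem_append.mp hv).elim (hm v) (hm v))]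
      rw [pow_two] at e
      simp only [List.map_append, List.prod_append, e]
      rfl
    · obtain ⟨i, hi⟩ := h3
      refine hi ?_
      rw [← prod_app _ (fun v hv => (List.mem_append.mp hv).elim (hm v)
        (fun q => (List.mem_append.mp q).elim (hm v) (hm v)))]
      rw [pow_succ', pow_two] at e
      simp only [List.map_append, List.prod_append, e]
      rfl
  have hsix : ∀ x ∈ S, ∃ h : O Qd, x = h * Dk 6 * h⁻¹ := by
    intro x hx
    obtain ⟨k, hk, h, rfl⟩ := exists_normal (hsub x hx) (hinv x hx).1 (hinv x hx).2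
    have hD : Dk k ∈ S := by
      have := hinvO h⁻¹ _ hx
      rwa [show h⁻¹ * (h * Dk k * h⁻¹) * h⁻¹⁻¹ = Dk k by group] at this
    rcases hk with rfl | rfl | rfl
    · exfalso
      obtain ⟨g, hg⟩ := exists_move (k := 2) ![![2, 1, 0, 0, 1, 0, 2], ![0, 0, 0, 1, 0, 0, 0],
        ![0, 0, 0, 0, 0, 1, 0], ![0, 0, 1, 0, 0, 0, 0], ![1, 1, 0, 0, 1, 0, 1], ![1, 1, 0, 0, 2, 0, 2],
        ![1, 2, 0, 0, 1, 0, 2]] (by decide) (by decide)
      exact hbad (firstE 2) _ firstE_norm (by decide +kernel) hD (hg ▸ hinvO g _ hD)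
        ⟨0, by decide +kernel⟩ ⟨0, by decide +kernel⟩
    · exfalso
      obtain ⟨g, hg⟩ := exists_move (k := 4) ![![0, 0, 0, 0, 1, 0, 0], ![0, 1, 0, 0, 0, 0, 0],
        ![1, 0, 0, 1, 0, 1, 2], ![0, 0, 1, 0, 0, 0, 0], ![1, 0, 0, 1, 0, 2, 1], ![1, 0, 0, 2, 0, 1, 1],
        ![1, 0, 0, 2, 0, 2, 2]] (by decide) (by decide)
      exact hbad (firstE 4) _ firstE_norm (by decide +kernel) hD (hg ▸ hinvO g _ hD)
        ⟨0, by decide +kernel⟩ ⟨0, by decide +kernel⟩
    · exact ⟨h, rfl⟩
  refine ⟨fun x hx => ?_, fun v hv => ?_⟩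
  · obtain ⟨h, rfl⟩ := hsix x hx
    refine ⟨(h : V7 ≃ₗ[ZMod 3] V7) (E 6), by rw [← Qd_apply, O.map_app, Qd_E], ?_⟩
    rw [Dk_six, nr_conj]
  · obtain ⟨x, hx⟩ := hne
    obtain ⟨h, rfl⟩ := hsix x hx
    have h6 : nr (E 6) ∈ S := by
      have := hinvO h⁻¹ _ hx
      rwa [show h⁻¹ * (h * Dk 6 * h⁻¹) * h⁻¹⁻¹ = Dk 6 by group, Dk_six] at this
    have hQv : Qd (E 6) = Qd v := by rw [Qd_E, Qd_apply, hv]
    by_cases hm : Qd (E 6 - v) = 0
    · have hp : Qd (E 6 - -v) ≠ 0 := by
        intro hp
        rw [qmap_sub] at hm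
        rw [qmap_sub, QuadraticMap.map_neg, polar_neg_right] at hp
        rw [← hQv, Qd_E] at hm hp
        revert hm hp
        generalize polar (⇑Qd) (E 6) v = t
        revert t
        decide
      have := hinvO (rO Qd (E 6 - -v)) _ h6
      rwa [nr_conj, rO_sub_swap (by rw [QuadraticMap.map_neg, hQv]) hp, ← neg_one_smul (ZMod 3) v,
        nr_smul (by decide)] at this
    · have := hinvO (rO Qd (E 6 - v)) _ h6
      rwa [nr_conj, rO_sub_swap hQv hm] at this

end RefModel

end Cfsg.Agent.H93
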