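import Cfsg.Agent.H93.U6Vec

/-!
No four mutually placed vectors can satisfy the closure rules of the members commuting with two outside
members of a group of type M(23).
-/

set_option autoImplicit false

namespace Cfsg.Agent.H93

variable {F : Type*} [Field F] [Fintype F] (hF : Fintype.card F = 4)

include hF

/-- the closure rules exclude the configuration -/
theorem no_config (P : Vec F → Prop)
    (third : ∀ u v, P u → P v → hb u v = 0 → u ≠ v → ∀ o : F, o ≠ 0 → o ≠ 1 →
      P (o • u + o ^ 2 • v) ∨ P (o ^ 2 • u + o • v))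
    (only : ∀ u v, P u → P v → hb u v = 0 → u ≠ v → ∀ o : F, o ≠ 0 → o ≠ 1 →
      ¬ (P (o • u + o ^ 2 • v) ∧ P (o ^ 2 • u + o • v)))
    (hne : ∀ u v, P u → P v → hb u v ≠ 1) {Z B R W : Vec F} (hZ : P Z) (hB : P B) (hR : P R)
    (hW : P W) (self : ∀ u, P u → hb u u = 0) (ZB : hb Z B = 0) (ZR : hb Z R = 0) (BR : hb B R = 0)
    (WZ : hb Z W = 0) (WB : hb B W = 0) (hRW : hb R W ≠ 0) (nZB : Z ≠ B) : False := by
  set o := hb R W with hodef
  have o1 : o ≠ 1 := hne R W hR hW
  have o3 : o ^ 3 = 1 := pow_three hF hRW
  have h2 := two_zero hF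
  have osum : o ^ 2 + o + 1 = 0 := by
    refine (mul_eq_zero.mp (show (o - 1) * (o ^ 2 + o + 1) = 0 by linear_combination o3)).resolve_left ?_
    exact sub_ne_zero.mpr o1
  have o21 : o ^ 2 ≠ 1 := fun q => o1 (sq_eq_one hF q)
  have o20 : o ^ 2 ≠ 0 := pow_ne_zero _ hRW
  have oo : o ≠ o ^ 2 := fun q => o1 (mul_left_cancel₀ hRW (by linear_combination -q))
  -- combinations
  have orth : ∀ a b c a' b' c' : F,
      hb (a • Z + b • B + c • R) (a' • Z + b' • B + c' • R) = 0 := by
    intro a b c a' b' c'
    simp [hb_add_left, hb_add_right hF, hb_smul_left, hb_smul_right, self Z hZ, self B hB, self R hR,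
      ZB, ZR, BR, (hb_eq_zero_comm hF).mp ZB, (hb_eq_zero_comm hF).mp ZR, (hb_eq_zero_comm hF).mp BR]
  have val : ∀ a b c : F, hb (a • Z + b • B + c • R) W = c * o := by
    intro a b c
    simp [hb_add_left, hb_smul_left, WZ, WB, hodef]
  have comb : ∀ a b c a' b' c' s t : F,
      s • (a • Z + b • B + c • R) + t • (a' • Z + b' • B + c' • R) =
        (s * a + t * a') • Z + (s * b + t * b') • B + (s * c + t * c') • R := fun _ _ _ _ _ _ _ _ => by
    module
  let C : F → F → F → Prop := fun a b c => P (a • Z + b • B + c • R)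
  have cong : ∀ {a b c a' b' c' : F}, a = a' → b = b' → c = c' → C a b c → C a' b' c' := by
    rintro a b c _ _ _ rfl rfl rfl k; exact k
  have cZ : C 1 0 0 := by simpa [C] using hZ
  have cB : C 0 1 0 := by simpa [C] using hB
  have cR : C 0 0 1 := by simpa [C] using hR
  -- the third on the line to `Z` or `B`
  have step : ∀ {a b c a' b' : F}, C a b c → C a' b' 0 → c ≠ 0 → c * o ≠ 1 →
      C ((c * o) ^ 2 * a' + (c * o) * a) ((c * o) ^ 2 * b' + (c * o) * b) ((c * o) * c) := by
    intro a b c a' b' h1 h2' hc0 hc1
    have hv0 : c * o ≠ 0 := mul_ne_zero hc0 hRW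
    have hne' : a' • Z + b' • B + (0 : F) • R ≠ a • Z + b • B + c • R := fun e => by
      have := congrArg (fun v => hb v W) e
      simp only [val, zero_mul] at this
      exact hv0 this.symm
    rcases third _ _ h2' h1 (orth _ _ _ _ _ _) hne' (c * o) hv0 hc1 with q | q
    · exfalso
      rw [comb] at q
      refine hne _ W q hW ?_
      rw [val]
      linear_combination pow_three hF hv0
    · rw [comb] at q
      exact cong rfl rfl (by ring) q
  have c2 : C (o ^ 2) 0 o := cong (by ring) (by ring) (by ring) (step cR cZ one_ne_zero (by simpa using o1))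
  have c3 : C 0 (o ^ 2) o := cong (by ring) (by ring) (by ring) (step cR cB one_ne_zero (by simpa using o1))
  have oo1 : o * o ≠ 1 := by rw [← pow_two]; exact o21
  have n23 : o ^ 2 • Z + (0 : F) • B + o • R ≠ (0 : F) • Z + o ^ 2 • B + o • R := fun e => by
    rw [zero_smul, zero_smul, add_zero, zero_add, add_left_inj] at e
    exact nZB (smul_right_injective (Vec F) o20 e)
  -- four points on one line
  obtain ⟨p1, p2⟩ : C (o ^ 2 + o) o o ∧ C (o ^ 2 + 1) 1 o := by
    rcases third _ _ c2 c3 (orth _ _ _ _ _ _) n23 o hRW o1 with q | q <;> rw [comb] at q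
    · have L : C 1 o o := cong (by linear_combination (-1 + o) * osum)
        (by linear_combination (-o + o ^ 2) * osum) (by linear_combination o * osum - o * h2) q
      have L' : C 1 1 1 := cong (by linear_combination (1 - o + o ^ 2) * osum - h2)
        (by linear_combination (-1 + o) * osum) (by linear_combination (-1 + o) * osum)
        (step L cZ hRW oo1)
      have T : C (o ^ 2 + o) o o := cong (by ring) (by ring) (by ring)
        (step L' cZ one_ne_zero (by simpa using o1))
      have TB : C (o ^ 2 + 1) 1 o := cong (by linear_combination -osum + o * h2)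
        (by linear_combination osum - h2) (by ring) (step L' cB one_ne_zero (by simpa using o1))
      exact ⟨T, TB⟩
    · have L : C o 1 o := cong (by linear_combination (-o + o ^ 2) * osum)
        (by linear_combination (-1 + o) * osum) (by linear_combination o * osum - o * h2) q
      have L' : C (o ^ 2) (o ^ 2) 1 := cong (by linear_combination (-2 + o ^ 2) * osum + (1 + o) * h2)
        (by ring) (by linear_combination (-1 + o) * osum) (step L cZ hRW oo1)
      have T : C (o ^ 2 + 1) 1 o := cong (by linear_combination (-1 + o) * osum)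
        (by linear_combination (-1 + o) * osum) (by ring) (step L' cZ one_ne_zero (by simpa using o1))
      have TB : C (o ^ 2 + o) o o := cong (by linear_combination (-2 + o) * osum + h2)
        (by linear_combination o * osum - o * h2) (by ring) (step L' cB one_ne_zero (by simpa using o1))
      exact ⟨TB, T⟩
  have n2 : o ^ 2 • Z + (0 : F) • B + o • R ≠ (o ^ 2 + 1) • Z + (1 : F) • B + o • R := fun e => by
    rw [add_smul, one_smul, one_smul, zero_smul, add_zero, add_left_inj, add_assoc, left_eq_add] at e
    exact nZB (vec_eq_of_add hF e)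
  refine only _ _ c2 p2 (orth _ _ _ _ _ _) n2 o hRW o1 ⟨?_, ?_⟩ <;> rw [comb]
  · exact cong (by linear_combination (-o ^ 2) * osum)
      (by ring) (by linear_combination (-o) * osum + o * h2) c3
  · exact cong (by linear_combination (2 - o ^ 2) * osum + (-1 - o) * h2)
      (by ring) (by linear_combination (-o) * osum + o * h2) p1

end Cfsg.Agent.H93
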