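import Cfsg.Agent.H93.Local23
import Cfsg.Agent.H93.Flag23

/-!
Groups of type M(23): the members common to two non-commuting members form a connected set meeting every
closed neighbourhood, and the centraliser of a member is generated by the members commuting with it.
-/

set_option autoImplicit false

namespace Cfsg.Agent.H93

variable {G : Type*} [Group G] {D : Set G}

/-- three commuting members and one more, all commuting with three given members of type M(22) -/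
theorem M22Data.config {F : Type*} [Field F] [Fintype F] (h : M22Data D F)
    (hcent : ∀ x ∈ D, Subgroup.centralizer ({x} : Set G) = nbSub D x) {a x y : G} (ha : a ∈ D)
    (hx : x ∈ D) (hy : y ∈ nb D x) (hax : ¬ Commute a x) (hay : ¬ Commute a y) :
    ∃ b r w, b ∈ nb D a ∩ nb D x ∩ nb D y ∧ r ∈ nb D a ∩ nb D x ∩ nb D y ∧
      w ∈ nb D a ∩ nb D x ∩ nb D y ∧ r ∈ nb D b ∧ w ∈ nb D b ∧ ¬ Commute r w := by
  have hF := h.hF
  have hcd := h.coverData fun x hx z _ g _ hgx => by rw [← hcent x hx]; exact mem_cent hgx.symm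
  obtain ⟨b0, hb0⟩ := hcd.far_nonempty ha hx hax
  obtain ⟨b, hb', -, hby⟩ := h.far_step ha hx hax hb0 hy
  have hby' : y ∈ nb D b := ⟨hy.1, fun e => hay (e ▸ hb'.1.2.2), hby⟩
  obtain ⟨sp⟩ := h.spaces b hb'.1.1
  obtain ⟨A, hA, eA⟩ := sp.surj a (nb_symm ha hb'.1)
  obtain ⟨X, hX, eX⟩ := sp.surj x (nb_symm hx hb'.2)
  obtain ⟨Y, hY, eY⟩ := sp.surj y hby'
  have cm : ∀ {p q p' q' : G}, p = p' → q = q' → Commute p q → Commute p' q' := by
    rintro p q _ _ rfl rfl k; exact k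
  have hXA : hb X A ≠ 0 := fun q => hax (cm eA eX ((sp.comm hX hA).mpr q).symm)
  have hXY : hb X Y = 0 := (sp.comm hX hY).mp (cm eX.symm eY.symm hy.2.2)
  obtain ⟨hX', eX'⟩ := sp.smul_pt (inv_ne_zero hXA) hX
  set X' := (hb X A)⁻¹ • X with hX'def
  have e1 : hb X' A = 1 := by rw [hX'def, hb_smul_left, inv_mul_cancel₀ hXA]
  have hX'Y : hb X' Y = 0 := by rw [hX'def, hb_smul_left, hXY, mul_zero]
  have hs : ¬ SamePt Y X' := fun q => hy.2.1
    ((eY.symm.trans ((sp.same hY hX').mpr q)).trans (eX'.trans eX))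
  set t := hb Y A with htdef
  have hQ : IsPt (Y + t • X') := isPt_line hF hY hX' ((hb_eq_zero_comm hF).mp hX'Y) hs t
  obtain ⟨e2, f2, fr⟩ := exists_frame hF hQ hX'.2 hA.2 e1
    (by rw [hb_add_left, hb_smul_left, (hb_eq_zero_comm hF).mp hX'Y, hX'.2, mul_zero, add_zero])
    (by rw [hb_add_left, hb_smul_left, e1, mul_one, htdef]; exact add_self_zero hF _)
  have pe := pt_of_hb_eq_one fr.e22 fr.ef2
  have pf := pt_of_hb_eq_one fr.f22 (hb_one_comm hF fr.ef2)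
  have good : ∀ {v}, IsPt v → hb A v = 0 → hb X' v = 0 → hb (Y + t • X') v = 0 →
      sp.pt v ∈ nb D a ∩ nb D x ∩ nb D y ∧ sp.pt v ∈ nb D b := by
    intro v hv hAv hXv hQv
    have hYv : hb Y v = 0 := by
      rw [hb_add_left, hb_smul_left, hXv, mul_zero, add_zero] at hQv; exact hQv
    have ca : Commute a (sp.pt v) := cm eA rfl ((sp.comm hA hv).mpr hAv)
    have cx : Commute x (sp.pt v) := cm (eX'.trans eX) rfl ((sp.comm hX' hv).mpr hXv)
    have cy : Commute y (sp.pt v) := cm eY rfl ((sp.comm hY hv).mpr hYv)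
    exact ⟨⟨⟨⟨(sp.mem hv).1, fun q => hax (cm q rfl cx.symm), ca⟩, (sp.mem hv).1,
      fun q => hax (cm rfl q ca), cx⟩, (sp.mem hv).1, fun q => hay (cm rfl q ca), cy⟩, sp.mem hv⟩
  obtain ⟨hr, hr'⟩ := good pe fr.fe fr.ee fr.pe2
  obtain ⟨hw, hw'⟩ := good pf fr.ff fr.ef fr.pf2
  refine ⟨b, _, _, ⟨hb', nb_symm hb'.1.1 hby'⟩, hr, hw, hr', hw', fun q => ?_⟩
  exact zero_ne_one (((sp.comm pe pf).mp q).symm.trans fr.ef2)

namespace M23Data

variable (h : M23Data D)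

include h

theorem far_path {a x y z y' : G} (ha : a ∈ D) (hx : x ∈ D) (hax : ¬ Commute a x)
    (hy : y ∈ nb D x) (hy' : y' ∈ nb D x ∩ nb D y) (hz : z ∈ nb D a ∩ nb D x) (hzy : Commute z y) :
    ∃ z' ∈ nb D a ∩ nb D x, Commute z z' ∧ Commute z' y' := by
  classical
  by_contra hno
  simp only [not_exists, not_and] at hno
  by_cases hay : Commute a y
  · exact hno y ⟨⟨hy.1, fun e => hax (e ▸ hy.2.2.symm), hay⟩, hy⟩ hzy hy'.2.2.2
  have hzy' : ¬ Commute z y' := hno z hz (Commute.refl z)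
  have hz2 : z ∈ nb D x ∩ nb D y := ⟨hz.2, hz.2.1, fun e => hzy' (e ▸ hy'.2.2.2), hzy.symm⟩
  -- three members and one more
  obtain ⟨F1, iF1, iFF1, hM, hcent, -⟩ := h.res z hz.1.1
  have haz := nb_symm ha hz.1
  have hxz := nb_symm hx hz2.1
  have hyz := nb_symm hy.1 hz2.2
  obtain ⟨b', r', w', hbm, hr, hw, hrb, hwb, hrw⟩ := hM.config hcent (rimg_mem haz) (rimg_mem hxz)
    (h.core.rimg_nb hz.1.1 hxz ⟨hyz, hy⟩) (fun q => hax ((h.core.rimg_comm haz hxz).mp q))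
    (fun q => hay ((h.core.rimg_comm haz hyz).mp q))
  have lift : ∀ {e}, e ∈ nb (resSet D z) (rimg D z a) ∩ nb (resSet D z) (rimg D z x) ∩
      nb (resSet D z) (rimg D z y) → ∃ p, p ∈ nb D x ∩ nb D y ∧ Commute a p ∧ p ∈ nb D z ∧
        rimg D z p = e := by
    intro e he
    obtain ⟨p, hp, rfl⟩ := h.core.rimg_nb_surj hz.1.1 haz he.1.1
    have cx := (h.core.rimg_comm hxz hp.1).mp he.1.2.2.2
    have cy := (h.core.rimg_comm hyz hp.1).mp he.2.2.2
    exact ⟨p, ⟨⟨hp.2.1, fun q => hax (q ▸ hp.2.2.2), cx⟩, hp.2.1, fun q => hay (q ▸ hp.2.2.2), cy⟩,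
      hp.2.2.2, hp.1, rfl⟩
  obtain ⟨b, hbS, cab, hbz, rfl⟩ := lift hbm
  obtain ⟨r, hrS, car, hrz, rfl⟩ := lift hr
  obtain ⟨w, hwS, caw, hwz, rfl⟩ := lift hw
  obtain ⟨F, iF, iFF, hF, sp, hline⟩ := h.pair_space hx hy
  obtain ⟨Y1, hY1, eY1⟩ := sp.surj y' hy'
  have h2 := two_zero hF
  -- the admissible vectors
  let P : Vec F → Prop := fun u => IsPt u ∧ hb u Y1 = 1 ∧ Commute a (sp.pt u) ∧ Commute z (sp.pt u)
  have noz : ∀ {u}, IsPt u → Commute a (sp.pt u) → Commute z (sp.pt u) → hb u Y1 ≠ 0 := by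
    intro u hu ca cz q
    have hm := sp.mem hu
    exact hno _ ⟨⟨hm.1.1, fun e => hax (e ▸ hm.1.2.2.symm), ca⟩, hm.1⟩ cz
      (eY1 ▸ (sp.comm hu hY1).mpr q)
  have mk : ∀ {p}, p ∈ nb D x ∩ nb D y → Commute a p → Commute z p → ∃ u, P u ∧ sp.pt u = p := by
    intro p hp ca cz
    obtain ⟨u, hu, rfl⟩ := sp.surj p hp
    have h0 := noz hu ca cz
    obtain ⟨hu', e⟩ := sp.smul_pt (inv_ne_zero h0) hu
    exact ⟨_, ⟨hu', by rw [hb_smul_left, inv_mul_cancel₀ h0], e.symm ▸ ca, e.symm ▸ cz⟩, e⟩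
  obtain ⟨Zv, hZ, eZ⟩ := mk hz2 hz.1.2.2 (Commute.refl z)
  obtain ⟨B, hB, eB⟩ := mk hbS cab hbz.2.2
  obtain ⟨R, hR, eR⟩ := mk hrS car hrz.2.2
  obtain ⟨W, hW, eW⟩ := mk hwS caw hwz.2.2
  have same : ∀ {u v}, P u → P v → SamePt u v → u = v := by
    rintro u v hu hv ⟨c, rfl⟩
    have := hv.2.1
    rw [hb_smul_left, hu.2.1, mul_one] at this
    rw [this, one_smul]
  have smul_P : ∀ {u} {c : F}, IsPt u → Commute a (sp.pt u) → Commute z (sp.pt u) →
      c * hb u Y1 = 1 → P (c • u) := by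
    intro u c hu ca cz e
    obtain ⟨hu', e'⟩ := sp.smul_pt (show c ≠ 0 from fun q => by simp [q] at e) hu
    exact ⟨hu', by rw [hb_smul_left, e], e'.symm ▸ ca, e'.symm ▸ cz⟩
  -- lines
  have lines : ∀ u v, P u → P v → hb u v = 0 → u ≠ v → ∀ o : F, o ≠ 0 → o ≠ 1 →
      (P (o • u + o ^ 2 • v) ∨ P (o ^ 2 • u + o • v)) ∧
        ¬ (P (o • u + o ^ 2 • v) ∧ P (o ^ 2 • u + o • v)) := by
    intro u v hu hv huv hne o o0 o1
    have o3 := pow_three hF o0
    have ho : o ^ 2 + o + 1 = 0 := (mul_eq_zero.mp (show (o - 1) * (o ^ 2 + o + 1) = 0 by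
      linear_combination o3)).resolve_left (sub_ne_zero.mpr o1)
    have hs : ¬ SamePt u v := fun q => hne (same hu hv q)
    obtain ⟨hnd, -⟩ := hline hu.1 hv.1 huv hs o0 o1 ho
    obtain ⟨some', only'⟩ := h.line_third hx hy ha hax hay hF sp hu.1 hv.1 huv hs hu.2.2.1 hv.2.2.1
      o0 o1 hnd
    have cz : ∀ t : F, IsPt (u + t • v) ∧ Commute z (sp.pt (u + t • v)) := fun t => by
      refine ⟨isPt_line hF hu.1 hv.1 huv hs t, ?_⟩
      have zu : hb Zv u = 0 := (sp.comm hZ.1 hu.1).mp (eZ.symm ▸ hu.2.2.2)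
      have zv : hb Zv v = 0 := (sp.comm hZ.1 hv.1).mp (eZ.symm ▸ hv.2.2.2)
      exact eZ ▸ (sp.comm hZ.1 (isPt_line hF hu.1 hv.1 huv hs t)).mpr (by
        rw [hb_add_right hF, hb_smul_right, zu, zv, mul_zero, add_zero])
    have value : ∀ t : F, hb (u + t • v) Y1 = 1 + t := fun t => by
      rw [hb_add_left, hb_smul_left, hu.2.1, hv.2.1, mul_one]
    have e1 : o • u + o ^ 2 • v = o • (u + o • v) := by rw [smul_add, smul_smul, ← pow_two]
    have e2 : o ^ 2 • u + o • v = o ^ 2 • (u + o ^ 2 • v) := by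
      rw [smul_add, smul_smul, show o ^ 2 * o ^ 2 = o by linear_combination o * o3]
    have p1 : Commute a (sp.pt (u + o • v)) → P (o • u + o ^ 2 • v) := fun ca => by
      rw [e1]
      exact smul_P (cz o).1 ca (cz o).2 (by rw [value]; linear_combination ho - h2)
    have p2 : Commute a (sp.pt (u + o ^ 2 • v)) → P (o ^ 2 • u + o • v) := fun ca => by
      rw [e2]
      exact smul_P (cz (o ^ 2)).1 ca (cz (o ^ 2)).2 (by
        rw [value]; linear_combination ho + o * o3 - h2)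
    constructor
    · rcases some' with q | q | q
      · exfalso
        obtain ⟨k1, k2⟩ := cz 1
        rw [one_smul] at k1 k2
        refine noz k1 q k2 ?_
        have := value 1
        rw [one_smul] at this
        rw [this]; exact add_self_zero hF 1
      · exact Or.inl (p1 q)
      · exact Or.inr (p2 q)
    · rintro ⟨q1, q2⟩
      refine only' ⟨?_, ?_⟩
      · obtain ⟨-, e⟩ := sp.smul_pt o0 (cz o).1
        rw [← e, ← e1]; exact q1.2.2.1
      · obtain ⟨-, e⟩ := sp.smul_pt (pow_ne_zero 2 o0) (cz (o ^ 2)).1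
        rw [← e, ← e2]; exact q2.2.2.1
  have hne : ∀ u v, P u → P v → hb u v ≠ 1 := by
    intro u v hu hv e
    have e' : hb v u = 1 := hb_one_comm hF e
    refine noz (isPt_third hF hu.1 hv.1) ?_ ?_ ?_
    · rw [← sp.third hu.1 hv.1]; exact (hu.2.2.1.mul_right hv.2.2.1).mul_right hu.2.2.1
    · rw [← sp.third hu.1 hv.1]; exact (hu.2.2.2.mul_right hv.2.2.2).mul_right hu.2.2.2
    · rw [hb_add_left, hb_smul_left, e', one_mul, hv.2.1, hu.2.1]; exact add_self_zero hF 1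
  have orth : ∀ {u v}, P u → P v → Commute (sp.pt u) (sp.pt v) → hb u v = 0 :=
    fun hu hv q => (sp.comm hu.1 hv.1).mp q
  refine no_config hF P (fun u v hu hv e n o o0 o1 => (lines u v hu hv e n o o0 o1).1)
    (fun u v hu hv e n o o0 o1 => (lines u v hu hv e n o o0 o1).2) hne hZ hB hR hW
    (fun u hu => hu.1.2) (orth hZ hB ?_) (orth hZ hR ?_) (orth hB hR ?_) (orth hZ hW ?_)
    (orth hB hW ?_) (fun q => ?_) ?_
  · rw [eZ, eB]; exact hbz.2.2
  · rw [eZ, eR]; exact hrz.2.2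
  · rw [eB, eR]; exact (h.core.rimg_comm hbz hrz).mp hrb.2.2
  · rw [eZ, eW]; exact hwz.2.2
  · rw [eB, eW]; exact (h.core.rimg_comm hbz hwz).mp hwb.2.2
  · have := (sp.comm hR.1 hW.1).mpr q
    rw [eR, eW] at this
    exact hrw ((h.core.rimg_comm hrz hwz).mpr this)
  · intro q
    exact hbz.2.1 (by rw [← eB, ← eZ, q])

theorem coverData : CoverData D (nbSub D) where
  tt := h.core.tt
  gen := h.gen
  conn := h.conn
  conj g x _ k hk := by
    have hle : nbSub D x ≤ (nbSub D (g * x * g⁻¹)).comap (MulAut.conj g).toMonoidHom := by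
      rw [Subgroup.closure_le]
      exact fun w hw => Subgroup.subset_closure (h.core.tt.nb_conj g hw)
    exact hle hk
  cent _ _ _ hk := nbSub_commute hk
  self _ hx := h.self_mem hx
  nb_mem _ _ _ hy := Subgroup.subset_closure hy
  stab x hx z hz g hg hgx := h.stab hx hz hg hgx
  edge x hx y hy := by
    obtain ⟨F, iF, iFF, hM, -⟩ := h.res x hx
    obtain ⟨e, he⟩ := hM.core.edge _ (rimg_mem hy)
    obtain ⟨z, hz, -⟩ := h.core.rimg_nb_surj hx hy he
    exact ⟨z, hz⟩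
  mid x hx y hy z hz z' hz' := by
    by_cases hc : Commute z z'
    · exact ⟨z, hz, Commute.refl z, hc⟩
    obtain ⟨F, iF, iFF, hF, sp, -⟩ := h.pair_space hx hy
    obtain ⟨Z, hZ, eZ⟩ := sp.surj z hz
    obtain ⟨Z', hZ', eZ'⟩ := sp.surj z' hz'
    have hn : hb Z Z' ≠ 0 := fun q => hc (eZ ▸ eZ' ▸ (sp.comm hZ hZ').mpr q)
    obtain ⟨hZ1, eZ1⟩ := sp.smul_pt (inv_ne_zero hn) hZ
    set Z1 := (hb Z Z')⁻¹ • Z
    have e1 : hb Z1 Z' = 1 := by rw [hb_smul_left, inv_mul_cancel₀ hn]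
    have hs : ¬ SamePt Z1 Z' := fun ⟨c, q⟩ => by
      rw [q, hb_smul_right, hZ1.2, mul_zero] at e1; exact zero_ne_one e1
    obtain ⟨u, hu, hus⟩ := exists_extra hF (indep_pair hZ1.1 hs) (Or.inl le_rfl)
    obtain ⟨p, hp, hpZ, hpZ'⟩ : ∃ p, IsPt p ∧ hb p Z1 = 0 ∧ hb p Z' = 0 := by
      have u0 : u ≠ 0 := fun q => hus (q ▸ Submodule.zero_mem _)
      rcases hb_self_cases hF u with q | q
      · exact ⟨u, ⟨u0, q⟩, hu 0, hu 1⟩
      have hli : LinearIndependent F (Fin.snoc ![Z1, Z'] u) :=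
        linearIndependent_finSnoc.mpr ⟨indep_pair hZ1.1 hs, hus⟩
      obtain ⟨v, hv, hvs⟩ := exists_extra hF hli (Or.inr ⟨rfl, (0 : Fin 2).castSucc, (1 : Fin 2).castSucc, by
        rw [Fin.snoc_castSucc, Fin.snoc_castSucc]; simpa [e1] using one_ne_zero⟩)
      have v0 : hb v Z1 = 0 := by have := hv (0 : Fin 2).castSucc; rwa [Fin.snoc_castSucc] at this
      have v1 : hb v Z' = 0 := by have := hv (1 : Fin 2).castSucc; rwa [Fin.snoc_castSucc] at this
      have v2 : hb v u = 0 := by simpa using hv (Fin.last 2)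
      have v00 : v ≠ 0 := fun q => hvs (q ▸ Submodule.zero_mem _)
      rcases hb_self_cases hF v with q' | q'
      · exact ⟨v, ⟨v00, q'⟩, v0, v1⟩
      refine ⟨u + v, ⟨fun e => hvs (vec_eq_of_add hF e ▸ Submodule.subset_span ⟨Fin.last 2, by simp⟩), ?_⟩,
        by rw [hb_add_left, show hb u Z1 = 0 from hu 0, v0, add_zero],
        by rw [hb_add_left, show hb u Z' = 0 from hu 1, v1, add_zero]⟩
      rw [hb_add_left, hb_add_right hF, hb_add_right hF, q, q', v2, (hb_eq_zero_comm hF).mp v2,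
        add_zero, zero_add]
      exact add_self_zero hF 1
    exact ⟨sp.pt p, sp.mem hp, eZ ▸ eZ1 ▸ (sp.comm hp hZ1).mpr hpZ,
      eZ' ▸ (sp.comm hp hZ').mpr hpZ'⟩
  sep2 x hx y hy z hz z' hz' hc := by
    obtain ⟨F, iF, iFF, hM, -⟩ := h.res z hz.1.1
    have hxz := nb_symm hx hz.1
    have hyz := nb_symm hy.1 hz.2
    have hne : rimg D z x ≠ rimg D z y := fun q => hy.2.1 ((h.core.rimg_inj hz.1.1 hxz hyz).mp q).symm
    have hxy := (h.core.rimg_comm hxz hyz).mpr hy.2.2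
    by_cases e : z' = z
    · obtain ⟨w, hw, n1, n2⟩ := h.sep z hz.1.1 x hxz y hyz hy.2.1.symm hy.2.2
      exact ⟨w, hw, Or.inl e, n1, n2⟩
    have hz'z : z' ∈ nb D z := ⟨hz'.1.1, e, hc⟩
    obtain ⟨w', hw', n1, n2⟩ := hM.sep _ (rimg_mem hz'z) _
      (h.core.rimg_nb hz.1.1 hz'z ⟨hxz, nb_symm hx hz'.1⟩) _
      (h.core.rimg_nb hz.1.1 hz'z ⟨hyz, nb_symm hy.1 hz'.2⟩) hne hxy
    obtain ⟨w, hw, rfl⟩ := h.core.rimg_nb_surj hz.1.1 hz'z hw'
    exact ⟨w, hw.1, Or.inr hw.2, fun q => n1 ((h.core.rimg_comm hw.1 hxz).mpr q),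
      fun q => n2 ((h.core.rimg_comm hw.1 hyz).mpr q)⟩
  tri x hx y hy w hw := by
    obtain ⟨F, iF, iFF, hM, -⟩ := h.res x hx
    obtain ⟨e, he⟩ := (local_of_space hM.hF hM.core
      (pair2_of_indep hM.core.tt hM.ind (by norm_num)) (hM.spaces _ (rimg_mem hy)).some).edge _
      (h.core.rimg_nb hx hy hw)
    obtain ⟨z, hz, rfl⟩ := h.core.rimg_nb_surj hx hy he.1
    exact ⟨z, hz.1, hz.2, hz.2.1, fun q => he.2.2.1 (by rw [q]),
      (h.core.rimg_comm hw.1 hz.1).mp he.2.2.2⟩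
  far a ha x hx hax b hb' y hy := by
    obtain ⟨F, iF, iFF, hM, -⟩ := h.res x hx
    have key : ∀ e, Relation.ReflTransGen (Adj (resSet D x)) (rimg D x b) e →
        ∃ p ∈ nb D x, rimg D x p = e ∧ ∃ z ∈ nb D a ∩ nb D x, Commute z p ∧
          Relation.ReflTransGen (fun p q => q ∈ nb D a ∩ nb D x ∧ Commute p q) b z := by
      intro e he
      induction he with
      | refl => exact ⟨b, hb'.2, rfl, b, hb', Commute.refl b, Relation.ReflTransGen.refl⟩
      | @tail u v _ huv ih =>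
        obtain ⟨p, hp, rfl, z, hz, hzp, hreach⟩ := ih
        obtain ⟨q, hq, rfl⟩ := h.core.rimg_nb_surj hx hp huv.2
        obtain ⟨z', hz', hzz', hzq⟩ := h.far_path ha hx hax hp hq hz hzp
        exact ⟨q, hq.1, rfl, z', hz', hzq, hreach.tail ⟨hz', hzz'⟩⟩
    obtain ⟨p, hp, e, z, hz, hzp, hreach⟩ :=
      key _ (hM.conn _ (rimg_mem hb'.2) _ (rimg_mem hy))
    exact ⟨z, hz, (h.core.rimg_inj hx hp hy).mp e ▸ hzp, hreach⟩

/-- the centraliser of a member -/
theorem cent {a : G} (ha : a ∈ D) : Subgroup.centralizer ({a} : Set G) = nbSub D a :=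
  le_antisymm (fun _ hg => h.coverData.centralizer_le ha (Subgroup.mem_centralizer_singleton_iff.mp hg))
    fun _ hg => mem_cent (nbSub_commute hg)

end M23Data

end Cfsg.Agent.H93
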