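import Cfsg.Agent.H93.Unique
import Cfsg.Agent.H93.Fixed
import Cfsg.Agent.H93.U6Ext

/-!
Centralisers of members in a group of type M(22): only the member itself centralises its closed
neighbourhood, and an involution whose centraliser looks like that of a member is a member.
-/

set_option autoImplicit false

namespace Cfsg.Agent.H93

variable {G : Type*} [Group G] {D : Set G} {F : Type*} [Field F] [Fintype F]

/-- the facts used about a group of type M(22) -/
structure M22Data (D : Set G) (F : Type*) [Field F] [Fintype F] : Prop where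
  core : Core D
  ind : Indep D 5
  hF : Fintype.card F = 4
  spaces : ∀ a ∈ D, Nonempty (U6Space F (nb D a))
  conn : Conn D
  sep : ∀ a ∈ D, Sep (nb D a)
  cen : Subgroup.center G = ⊥
  gen : Subgroup.closure D = ⊤
  nonempty : D.Nonempty

theorem m22data [Finite G] (hD : Cfsg.IsThreeTranspositionClass D) (h : Cfsg.IsOfTypeM22 G D) :
    ∃ (F : Type) (_ : Field F) (_ : Fintype F), M22Data D F := by
  have htt := TT.of_class hD
  have hne : ∀ a ∈ D, a ≠ 1 := fun a ha e => by simpa [e] using hD.1.1 a ha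
  obtain ⟨hcore, hind, -, F, iF, iFF, hF, hsp⟩ := good22 htt hD.2.2 hne h
  obtain ⟨d, hd, -⟩ := h.2
  exact ⟨F, iF, iFF, hcore, hind, hF, hsp, conn_of_spaces hF hcore hsp,
    fun a ha => (hsp a ha).some.sep hF, h.1, hD.2.2, d, hd⟩

theorem M22Data.eq_one (h : M22Data D F) {k : G} (hk : ∀ t ∈ D, Commute k t) : k = 1 := by
  have hle : Subgroup.closure D ≤ Subgroup.centralizer ({k} : Set G) := by
    rw [Subgroup.closure_le]
    exact fun x hx => Subgroup.mem_centralizer_singleton_iff.mpr (hk x hx).symm.eq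
  rw [h.gen] at hle
  have : k ∈ Subgroup.center G := Subgroup.mem_center_iff.mpr fun g =>
    Subgroup.mem_centralizer_singleton_iff.mp (hle (Subgroup.mem_top g))
  rwa [h.cen, Subgroup.mem_bot] at this

/-- an involutive automorphism preserving the class fixes a member -/
theorem M22Data.fixed_member (h : M22Data D F) (φ : MulAut G) (hinv : ∀ x, φ (φ x) = x)
    (hmem : ∀ x ∈ D, φ x ∈ D) : ∃ c ∈ D, φ c = c := by
  have htt := h.core.tt
  obtain ⟨d, hd⟩ := h.nonempty
  by_contra hno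
  simp only [not_exists, not_and] at hno
  have horth : ∀ x ∈ D, Commute x (φ x) := by
    intro x hx
    by_contra hn
    refine hno _ (htt.conj_self_mem hx (hmem x hx)) ?_
    rw [map_mul, map_mul, hinv]
    exact (htt.braid hx (hmem x hx) hn).symm
  have hcom : ∀ {x y : G}, Commute x y → Commute (φ x) (φ y) := fun h => h.map φ.toMonoidHom
  obtain ⟨sp⟩ := h.spaces d hd
  have hd' : φ d ∈ nb D d := ⟨hmem d hd, hno d hd, horth d hd⟩
  obtain ⟨P, hP, hPd⟩ := sp.surj _ hd'
  refine Fpf.false (P := P) (sp := sp) (ι := φ)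
    ⟨hP, fun y hy => htt.sq y hy.1, fun v hv => ?_, fun v _ v' _ => ⟨hcom, fun h => ?_⟩,
      fun v _ v' _ => by rw [map_mul, map_mul]⟩ h.hF
  · rw [hPd] at hv ⊢
    obtain ⟨⟨hvD, hvd, hcv⟩, hvd', hcv'⟩ := hv
    refine ⟨⟨⟨hmem v hvD, fun e => hvd' (by rw [← e, hinv]), ?_⟩, fun e => hvd (φ.injective e),
      hcom hcv⟩, hinv v, horth v hvD, hno v hvD⟩
    have := hcom hcv'
    rwa [hinv] at this
  · have := hcom h
    rwa [hinv, hinv] at this

/-- conjugation by an involution fixes a member -/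
theorem M22Data.exists_commute (h : M22Data D F) {x : G} (hx : x * x = 1) :
    ∃ c ∈ D, Commute x c := by
  have hi : x⁻¹ = x := inv_eq_of_mul_eq_one_left hx
  obtain ⟨c, hc, e⟩ := h.fixed_member (MulAut.conj x)
    (fun y => by
      simp only [MulAut.conj_apply, hi]
      rw [show x * (x * y * x) * x = x * x * y * (x * x) by group, hx, one_mul, mul_one])
    (fun y hy => by simpa using h.core.tt.conj_mem x y hy)
  rw [MulAut.conj_apply] at e
  exact ⟨c, hc, mul_inv_eq_iff_eq_mul.mp e⟩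

section F4

variable (hF : Fintype.card F = 4) {S : Set G}

omit [Fintype F] in
theorem U6Space.smul_pt (sp : U6Space F S) {t : F} (ht : t ≠ 0) {x : Vec F} (hx : IsPt x) :
    IsPt (t • x) ∧ sp.pt (t • x) = sp.pt x := by
  have hp : IsPt (t • x) := ⟨smul_ne_zero ht hx.1, by rw [hb_smul_left, hb_smul_right, hx.2]; ring⟩
  exact ⟨hp, ((sp.same hx hp).mpr ⟨t, rfl⟩).symm⟩

include hF

/-- conjugation by one member, for an isotropic vector that may vanish -/
theorem U6Space.exists_op (sp : U6Space F S) {r : Vec F} (hr : hb r r = 0) :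
    ∃ k : G, ((r = 0 ∧ k = 1) ∨ (IsPt r ∧ k = sp.pt r)) ∧
      ∀ X, IsPt X → IsPt (X + hb X r • r) ∧ k * sp.pt X * k = sp.pt (X + hb X r • r) := by
  by_cases h0 : r = 0
  · exact ⟨1, Or.inl ⟨h0, rfl⟩, fun X hX => by simpa [h0, hb_zero_right] using hX⟩
  · exact ⟨_, Or.inr ⟨⟨h0, hr⟩, rfl⟩, fun X hX =>
      ⟨isPt_third hF ⟨h0, hr⟩ hX, sp.third ⟨h0, hr⟩ hX⟩⟩

omit [Fintype F] hF in
theorem hb_step {X r q : Vec F} (hrq : hb r q = 0) : hb (X + hb X r • r) q = hb X q := by
  rw [hb_add_left, hb_smul_left, hrq, mul_zero, add_zero]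

/-- conjugation by a product of three pairwise commuting members -/
theorem U6Space.conj_three (sp : U6Space F S) {p q r X : Vec F} (hp : IsPt p) (hq : IsPt q)
    (hr : IsPt r) (hX : IsPt X) (rq : hb r q = 0) (rp : hb r p = 0) (qp : hb q p = 0) :
    IsPt (X + hb X r • r + hb X q • q + hb X p • p) ∧
    sp.pt p * sp.pt q * sp.pt r * sp.pt X * (sp.pt r * sp.pt q * sp.pt p) =
      sp.pt (X + hb X r • r + hb X q • q + hb X p • p) := by
  have h1 := isPt_third hF hr hX
  have h2 := isPt_third hF hq h1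
  have h3 := isPt_third hF hp h2
  have e1 := sp.third hr hX
  have e2 := sp.third hq h1
  have e3 := sp.third hp h2
  have v2 : hb (X + hb X r • r) q = hb X q := hb_step rq
  have v3 : hb (X + hb X r • r + hb X q • q) p = hb X p := by
    rw [hb_add_left, hb_smul_left, qp, mul_zero, add_zero, hb_step rp]
  rw [v2] at e2 h3 e3
  rw [v3] at e3 h3
  refine ⟨h3, ?_⟩
  rw [← e3, ← e2, ← e1]
  group

theorem hb_comb3 {u v w : Vec F} (huu : hb u u = 0) (hvv : hb v v = 0) (hww : hb w w = 0)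
    (huv : hb u v = 0) (huw : hb u w = 0) (hvw : hb v w = 0) (a b c a' b' c' : F) :
    hb (a • u + b • v + c • w) (a' • u + b' • v + c' • w) = 0 := by
  simp [hb_add_left, hb_add_right hF, hb_smul_left, hb_smul_right, huu, hvv, hww, huv, huw, hvw,
    (hb_eq_zero_comm hF).mp huv, (hb_eq_zero_comm hF).mp huw, (hb_eq_zero_comm hF).mp hvw]

theorem exists_hyperbolic {P : Vec F} (hP : IsPt P) :
    ∃ e f, IsPt e ∧ IsPt f ∧ hb P e = 0 ∧ hb P f = 0 ∧ hb e f = 1 ∧ ¬ SamePt P e := by
  obtain ⟨e, he, pe, hs⟩ := exists_orth_pt hF hP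
  obtain ⟨f, hf, fP, fe⟩ := iso_two hF hP.1 hs 0 1
  exact ⟨e, f, he, pt_of_hb_eq_one hf fe, pe, (hb_eq_zero_comm hF).mp fP, hb_one_comm hF fe, hs⟩

theorem ptv_hb_zero {u v : Vec F} (hu : IsPt u) (hv : IsPt v)
    (h : Commute (ptv hF u) (ptv hF v)) : hb v u = 0 := by
  by_contra hne
  have e := ptv_conj' hF hu.2 v
  rw [h.eq, mul_assoc, ptv_mul_self, mul_one] at e
  obtain ⟨a, ha⟩ := ptv_eq hF hv (isPt_third hF hu hv).2 e
  have h1 := congrArg (fun x => hb x v) ha
  simp only [hb_smul_left, hb_add_left, hv.2, zero_add] at h1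
  have huv : hb u v ≠ 0 := fun q => hne ((hb_eq_zero_comm hF).mp q)
  rcases mul_eq_zero.mp h1.symm with ha0 | ha0
  · exact hv.1 (by rw [ha, ha0, zero_smul])
  · exact (mul_ne_zero hne huv) ha0

end F4

/-- only `1` and the member centralise the closed neighbourhood of a member -/
theorem M22Data.kernel_nb (h : M22Data D F) {a g : G} (ha : a ∈ D) (hga : Commute g a)
    (hg : ∀ v ∈ nb D a, Commute g v) : g = 1 ∨ g = a := by
  have hF := h.hF
  have htt := h.core.tt
  obtain ⟨b, hb'⟩ := h.core.edge a ha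
  have fix_one : ∀ k : G, Commute k a → (∀ v ∈ nb D a, Commute k v) → (∀ v ∈ nb D b, Commute k v) →
      k = 1 := fun k k1 k2 k3 => h.eq_one fun t ht => by
    have := fix_of_two h.core h.conn h.sep (φ := MulAut.conj k) ha hb'
      (mul_inv_eq_iff_eq_mul.mpr k1.eq) (fun v hv => mul_inv_eq_iff_eq_mul.mpr (k2 v hv).eq)
      (fun v hv => mul_inv_eq_iff_eq_mul.mpr (k3 v hv).eq) t ht
    exact mul_inv_eq_iff_eq_mul.mp this
  have near : ∀ {v}, v ∈ nb D b → Commute v a → Commute g v := fun {v} hv hc => by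
    by_cases e : v = a
    · exact e ▸ hga
    · exact hg v ⟨hv.1, e, hc.symm⟩
  have hgb : g * b * g⁻¹ = b := mul_inv_eq_iff_eq_mul.mpr (hg b hb').eq
  have hga' : g * a * g⁻¹ = a := mul_inv_eq_iff_eq_mul.mpr hga.eq
  obtain ⟨sp⟩ := h.spaces b hb'.1
  obtain ⟨P, hP, hPa⟩ := sp.surj a (nb_symm ha hb')
  -- the two possible images
  have dich : ∀ Y, IsPt Y → hb Y P = 1 →
      g * sp.pt Y * g⁻¹ = sp.pt Y ∨ g * sp.pt Y * g⁻¹ = a * sp.pt Y * a := by
    intro Y hY hYP
    have hvn : ¬ Commute (sp.pt Y) a := fun q => by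
      rw [← hPa, sp.comm hY hP, hYP] at q; exact one_ne_zero q
    have hv' : g * sp.pt Y * g⁻¹ ∈ nb D b := by
      have := htt.nb_conj g (sp.mem hY)
      rwa [hgb] at this
    have hv'n : ¬ Commute (g * sp.pt Y * g⁻¹) a := fun q => by
      rw [← hga', commute_conj] at q; exact hvn q
    obtain ⟨Y0, hY0, e0⟩ := sp.surj _ hv'
    have hY0P : hb Y0 P ≠ 0 := fun q => hv'n (by rw [← e0, ← hPa]; exact (sp.comm hY0 hP).mpr q)
    obtain ⟨hY', eY'⟩ := sp.smul_pt (inv_ne_zero hY0P) hY0
    set Y' := (hb Y0 P)⁻¹ • Y0 with hY'def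
    have hY'P : hb Y' P = 1 := by rw [hY'def, hb_smul_left, inv_mul_cancel₀ hY0P]
    have key : ∀ w, IsPt w → hb w P = 0 → hb Y w = 0 → hb Y' w = 0 := by
      intro w hw hwP hz
      have hfix : g * sp.pt w * g⁻¹ = sp.pt w := mul_inv_eq_iff_eq_mul.mpr
        (near (sp.mem hw) (hPa ▸ (sp.comm hw hP).mpr hwP)).eq
      have := (commute_conj (g := g)).mpr ((sp.comm hY hw).mpr hz)
      rw [hfix, ← e0, ← eY'] at this
      exact (sp.comm hY' hw).mp this
    have van : ∀ e, hb e e = 0 → hb P e = 0 → hb (Y + Y') e = 0 := by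
      intro e he hPe
      have heP := (hb_eq_zero_comm hF).mp hPe
      set t := hb Y e ^ 2 with htdef
      have ht : t ^ 2 = hb Y e := sq_sq hF _
      set w := e + t • P with hwdef
      have hwv : ∀ X, hb X P = 1 → hb X w = hb X e + t ^ 2 := fun X hX => by
        rw [hwdef, hb_add_right hF, hb_smul_right, hX, mul_one]
      rw [hb_add_left]
      by_cases hw0 : w = 0
      · have e' : e = t • P := vec_eq_of_add hF hw0
        rw [e', hb_smul_right, hb_smul_right, hYP, hY'P]
        exact add_self_zero hF _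
      · have hwp : IsPt w := ⟨hw0, by
          simp [hwdef, hb_add_left, hb_add_right hF, hb_smul_left, hb_smul_right, he, hPe, heP,
            hP.2]⟩
        have hwP : hb w P = 0 := by rw [hwdef, hb_add_left, hb_smul_left, heP, hP.2]; ring
        have h2 := key w hwp hwP (by rw [hwv Y hYP, ht]; exact add_self_zero hF _)
        rw [hwv Y' hY'P, ht] at h2
        rw [add_comm]; exact h2
    obtain ⟨e₁, f₁, he₁, hf₁, pe, pf, ef, -⟩ := exists_hyperbolic hF hP
    obtain ⟨e₂, f₂, fr⟩ := exists_frame hF hP he₁.2 hf₁.2 ef pe pf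
    obtain ⟨n, hn⟩ := fr.coord hF (x := Y + Y') (by
      rw [hb_add_left, hYP, hY'P]; exact add_self_zero hF 1)
    rw [van _ fr.f11 fr.pf1, van _ fr.e11 fr.pe1, van _ fr.f22 fr.pf2, van _ fr.e22 fr.pe2,
      zero_smul, zero_smul, zero_smul, zero_smul, add_zero, add_zero, add_zero, add_zero] at hn
    have hY'eq : Y' = Y + n • P := by
      rw [← hn, ← add_assoc, vec_add_self hF, zero_add]
    have hn01 : n = 0 ∨ n = 1 := by
      have h2 := hY'.2
      rw [hY'eq] at h2
      simp only [hb_add_left, hb_add_right hF, hb_smul_left, hb_smul_right, hY.2, hP.2, hYP,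
        hb_one_comm hF hYP, mul_zero, mul_one, add_zero, zero_add] at h2
      rcases mul_eq_zero.mp (show n * (n + 1) = 0 by linear_combination h2) with q | q
      · exact Or.inl q
      · exact Or.inr ((add_eq_zero_iff_eq' hF).mp q)
    rcases hn01 with q | q
    · left
      rw [← e0, ← eY', hY'eq, q, zero_smul, add_zero]
    · right
      rw [← e0, ← eY', hY'eq, q, ← hPa, sp.third hP hY, hYP]
  -- the choice is uniform
  have step : ∀ Y1 Y2, IsPt Y1 → IsPt Y2 → hb Y1 P = 1 → hb Y2 P = 1 → hb Y1 Y2 = 0 →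
      g * sp.pt Y1 * g⁻¹ = sp.pt Y1 → g * sp.pt Y2 * g⁻¹ = sp.pt Y2 := by
    intro Y1 Y2 h1 h2 h1P h2P h12 f1
    refine (dich Y2 h2 h2P).resolve_right fun f2 => ?_
    have := (commute_conj (g := g)).mpr ((sp.comm h1 h2).mpr h12)
    rw [f1, f2, ← hPa, sp.third hP h2, h2P, sp.comm h1 (by
      have := isPt_third hF hP h2; rwa [h2P] at this), one_smul, hb_add_right hF, h12, h1P,
      zero_add] at this
    exact one_ne_zero this
  have uniform : ∀ Y1 Y2, IsPt Y1 → IsPt Y2 → hb Y1 P = 1 → hb Y2 P = 1 →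
      g * sp.pt Y1 * g⁻¹ = sp.pt Y1 → g * sp.pt Y2 * g⁻¹ = sp.pt Y2 := by
    intro Y1 Y2 h1 h2 h1P h2P f1
    have hs : ¬ SamePt P Y1 := fun ⟨c, hc⟩ => by
      rw [hc, hb_smul_left, hP.2, mul_zero] at h1P; exact zero_ne_one h1P
    by_cases hin : Y2 ∈ Submodule.span F (Set.range ![P, Y1])
    · obtain ⟨c, hc⟩ := (Submodule.mem_span_range_iff_exists_fun F).mp hin
      simp only [Fin.sum_univ_two, Matrix.cons_val_zero, Matrix.cons_val_one] at hc
      have c1 : c 1 = 1 := by
        rw [← hc] at h2P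
        simpa [hb_add_left, hb_smul_left, hP.2, h1P] using h2P
      rw [c1, one_smul] at hc
      have hz := h2.2
      rw [← hc] at hz
      simp only [hb_add_left, hb_add_right hF, hb_smul_left, hb_smul_right, h1.2, hP.2, h1P,
        hb_one_comm hF h1P, mul_zero, mul_one, add_zero, zero_add] at hz
      rcases mul_eq_zero.mp (show c 0 * (c 0 + 1) = 0 by linear_combination hz) with q | q
      · rwa [← hc, q, zero_smul, zero_add]
      · have e : sp.pt Y2 = a * sp.pt Y1 * a := by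
          rw [← hPa, sp.third hP h1, h1P, ← hc, (add_eq_zero_iff_eq' hF).mp q, add_comm]
        rw [e]
        calc g * (a * sp.pt Y1 * a) * g⁻¹ = (g * a * g⁻¹) * (g * sp.pt Y1 * g⁻¹) * (g * a * g⁻¹) := by
              group
          _ = _ := by rw [f1, hga']
    · have hli : LinearIndependent F (Fin.snoc ![P, Y1] Y2) :=
        linearIndependent_finSnoc.mpr ⟨indep_pair hP.1 hs, hin⟩
      obtain ⟨w, hw, hwl⟩ := iso_solve hF hli (Fin.snoc ![1, 0] 0)
        (Or.inr ⟨rfl, (0 : Fin 2).castSucc, (1 : Fin 2).castSucc, by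
          rw [Fin.snoc_castSucc, Fin.snoc_castSucc]
          simp [hb_one_comm hF h1P]⟩)
      have w0 : hb w P = 1 := by
        have := hwl (0 : Fin 2).castSucc; rwa [Fin.snoc_castSucc, Fin.snoc_castSucc] at this
      have w1 : hb w Y1 = 0 := by
        have := hwl (1 : Fin 2).castSucc; rwa [Fin.snoc_castSucc, Fin.snoc_castSucc] at this
      have w2 : hb w Y2 = 0 := by
        have := hwl (Fin.last 2); rwa [Fin.snoc_last, Fin.snoc_last] at this
      have hwp := pt_of_hb_eq_one hw w0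
      exact step w Y2 hwp h2 w0 h2P w2 (step Y1 w h1 hwp h1P w0 ((hb_eq_zero_comm hF).mp w1) f1)
  have vec : ∀ v ∈ nb D b, ¬ Commute v a → ∃ Y, IsPt Y ∧ hb Y P = 1 ∧ sp.pt Y = v := by
    intro v hv hn
    obtain ⟨Y0, hY0, rfl⟩ := sp.surj v hv
    have h0 : hb Y0 P ≠ 0 := fun q => hn (hPa ▸ (sp.comm hY0 hP).mpr q)
    obtain ⟨hY, eY⟩ := sp.smul_pt (inv_ne_zero h0) hY0
    exact ⟨_, hY, by rw [hb_smul_left, inv_mul_cancel₀ h0], eY⟩
  by_cases hex : ∃ Y, IsPt Y ∧ hb Y P = 1 ∧ g * sp.pt Y * g⁻¹ = sp.pt Y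
  · obtain ⟨Y1, h1, h1P, f1⟩ := hex
    left
    refine fix_one g hga hg fun v hv => ?_
    by_cases hc : Commute v a
    · exact near hv hc
    · obtain ⟨Y, hY, hYP, rfl⟩ := vec v hv hc
      exact mul_inv_eq_iff_eq_mul.mp (uniform Y1 Y h1 hY h1P hYP f1)
  · right
    have h1 : a * g = 1 := by
      refine fix_one (a * g) ((Commute.refl a).mul_left hga) (fun v hv => hv.2.2.mul_left (hg v hv))
        fun v hv => ?_
      by_cases hc : Commute v a
      · exact hc.symm.mul_left (near hv hc)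
      · obtain ⟨Y, hY, hYP, rfl⟩ := vec v hv hc
        have f := (dich Y hY hYP).resolve_left fun f => hex ⟨Y, hY, hYP, f⟩
        show a * g * sp.pt Y = sp.pt Y * (a * g)
        calc a * g * sp.pt Y = a * (g * sp.pt Y * g⁻¹) * g := by group
          _ = (a * a) * sp.pt Y * (a * g) := by rw [f]; group
          _ = _ := by rw [htt.sq a ha, one_mul]
    rw [eq_inv_of_mul_eq_one_right h1, htt.inv_eq ha]

end Cfsg.Agent.H93
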