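import Cfsg.Agent.H93.Res23
import Cfsg.Agent.H93.AutKernel
import Cfsg.Agent.H93.Elem22
import Cfsg.Agent.H93.Members22

/-!
Groups of type M(23): kernels, the space of a pair of commuting members, and lines in it.
-/

set_option autoImplicit false

namespace Cfsg.Agent.H93

variable {G : Type*} [Group G] {D : Set G}

/-- five members on a line through a member -/
theorem M22Data.five_nodup {F : Type*} [Field F] [Fintype F] (h : M22Data D F) {a : G} (ha : a ∈ D) :
    ∃ l : List G, l.length = 5 ∧ l.Nodup ∧ (∀ x ∈ l, x ∈ nb D a) ∧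
      (∀ x ∈ l, ∀ y ∈ l, Commute x y) ∧ l.prod = a := by
  have hF := h.hF
  have htt := h.core.tt
  obtain ⟨sp⟩ := h.spaces a ha
  obtain ⟨b, hb'⟩ := h.core.edge a ha
  obtain ⟨c, hc, hcb⟩ := (local_of_space hF h.core
    (pair2_of_indep htt h.ind (by norm_num)) sp).edge b hb'
  obtain ⟨p, q, r, hp, hq, hr, hnd, hcom, -, -, hline⟩ := sp.exists_line hF
    (fun y hy => htt.sq y hy.1) hb' hc hcb.2.1.symm hcb.2.2
  have hmem : ∀ x ∈ [b, c, p, q, r], x ∈ nb D a := by
    intro x hx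
    simp only [List.mem_cons, List.not_mem_nil, or_false] at hx
    rcases hx with rfl | rfl | rfl | rfl | rfl <;> assumption
  refine ⟨_, rfl, hnd, hmem, hcom, ?_⟩
  have hprod : [b, c, p, q, r].prod = b * c * p * q * r := by simp [mul_assoc]
  rcases h.kernel_nb (g := b * c * p * q * r) ha
      (((((hb'.2.2.symm.mul_left hc.2.2.symm).mul_left hp.2.2.symm).mul_left hq.2.2.symm).mul_left
        hr.2.2.symm)) (fun v hv => (hline v hv).symm) with e | e
  · exact absurd (hprod.trans e) (h.ind _ hnd (by simp) (by simp) (fun x hx => (hmem x hx).1) hcom)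
  · exact hprod.trans e

theorem two_mem_center {x : G} {h : G} (hc : h = 1 ∨ h = x) {H : Subgroup G} (hx : x ∈ H) : h ∈ H := by
  rcases hc with rfl | rfl
  exacts [one_mem _, hx]

namespace M23Data

variable (h : M23Data D)

include h

theorem eq_one {k : G} (hk : ∀ t ∈ D, Commute k t) : k = 1 := by
  have hle : Subgroup.closure D ≤ Subgroup.centralizer ({k} : Set G) := by
    rw [Subgroup.closure_le]
    exact fun x hx => Subgroup.mem_centralizer_singleton_iff.mpr (hk x hx).symm.eq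
  rw [h.gen] at hle
  have : k ∈ Subgroup.center G := Subgroup.mem_center_iff.mpr fun g =>
    Subgroup.mem_centralizer_singleton_iff.mp (hle (Subgroup.mem_top g))
  rwa [h.cen, Subgroup.mem_bot] at this

/-- only `1` and the member centralise the closed neighbourhood of a member -/
theorem kernel {a g : G} (ha : a ∈ D) (hga : Commute g a) (hg : ∀ v ∈ nb D a, Commute g v) :
    g = 1 ∨ g = a := by
  have htt := h.core.tt
  obtain ⟨b, hb'⟩ := h.core.edge a ha
  obtain ⟨F, iF, iFF, hM, -⟩ := h.res b hb'.1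
  have hgb : g * b * g⁻¹ = b := mul_inv_eq_iff_eq_mul.mpr (hg b hb').eq
  have hmap : (nbSub D b).map (MulAut.conj g).toMonoidHom = nbSub D b := by
    rw [MonoidHom.map_closure]
    congr 1
    ext y
    constructor
    · rintro ⟨z, hz, rfl⟩
      have := htt.nb_conj g hz
      rwa [hgb] at this
    · intro hy
      refine ⟨g⁻¹ * y * g, ?_, by simp [mul_assoc]⟩
      have := htt.nb_conj g⁻¹ hy
      rwa [show g⁻¹ * b * g⁻¹⁻¹ = g⁻¹ * (g * b * g⁻¹) * g⁻¹⁻¹ by rw [hgb],
        show g⁻¹ * (g * b * g⁻¹) * g⁻¹⁻¹ = b by group, inv_inv] at this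
  let e0 : ↥(nbSub D b) ≃* ↥(nbSub D b) :=
    ((MulAut.conj g).subgroupMap (nbSub D b)).trans (MulEquiv.subgroupCongr hmap)
  have hcen : (Subgroup.center ↥(nbSub D b)).map e0.toMonoidHom = Subgroup.center ↥(nbSub D b) := by
    ext z
    rw [Subgroup.mem_map_equiv]
    constructor
    · intro hz
      rw [Subgroup.mem_center_iff] at hz ⊢
      intro w
      apply e0.symm.injective
      rw [map_mul, map_mul]
      exact hz _
    · intro hz
      rw [Subgroup.mem_center_iff] at hz ⊢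
      intro w
      apply e0.injective
      simp only [map_mul, MulEquiv.apply_symm_apply]
      exact hz _
  let φ : MulAut (Residue D b) := QuotientGroup.congr _ _ e0 hcen
  have hφ : ∀ {y}, ∀ hy : y ∈ nb D b, g * y * g⁻¹ ∈ nb D b ∧
      φ (rimg D b y) = rimg D b (g * y * g⁻¹) := fun {y} hy => by
    have hy' := htt.nb_conj g hy
    rw [hgb] at hy'
    refine ⟨hy', ?_⟩
    rw [rimg_eq hy, rimg_eq hy']
    exact congrArg QuotientGroup.mk (Subtype.ext rfl)
  have hab : a ∈ nb D b := nb_symm ha hb'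
  have near : ∀ {y}, y ∈ nb D b → Commute a y → g * y * g⁻¹ = y := fun {y} hy hc => by
    refine mul_inv_eq_iff_eq_mul.mpr ?_
    by_cases e : y = a
    · exact (e ▸ hga).eq
    · exact (hg y ⟨hy.1, e, hc⟩).eq
  have hfix := hM.kernel_aut φ (fun x hx => by
      obtain ⟨y, hy, rfl⟩ := rimg_surj hx
      obtain ⟨hy', e⟩ := hφ hy
      exact e ▸ rimg_mem hy') (rimg_mem hab)
    (by rw [(hφ hab).2, near hab (Commute.refl a)])
    (fun v hv => by
      obtain ⟨y, hy, rfl⟩ := h.core.rimg_nb_surj hb'.1 hab hv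
      rw [(hφ hy.1).2, near hy.1 hy.2.2.2])
  have fin : ∀ k : G, Commute k a → (∀ v ∈ nb D a, Commute k v) → (∀ v ∈ nb D b, Commute k v) →
      k = 1 := fun k k1 k2 k3 => h.eq_one fun t ht => by
    have := fix_of_two h.core h.conn h.sep (φ := MulAut.conj k) ha hb'
      (mul_inv_eq_iff_eq_mul.mpr k1.eq) (fun v hv => mul_inv_eq_iff_eq_mul.mpr (k2 v hv).eq)
      (fun v hv => mul_inv_eq_iff_eq_mul.mpr (k3 v hv).eq) t ht
    exact mul_inv_eq_iff_eq_mul.mp this
  rcases hfix with q | q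
  · left
    refine fin g hga hg fun v hv => ?_
    have := q _ (rimg_mem hv)
    rw [(hφ hv).2, h.core.rimg_inj hb'.1 (hφ hv).1 hv] at this
    exact mul_inv_eq_iff_eq_mul.mp this
  · right
    have h1 : a * g = 1 := by
      refine fin (a * g) ((Commute.refl a).mul_left hga) (fun v hv => hv.2.2.mul_left (hg v hv))
        fun v hv => ?_
      have := q _ (rimg_mem hv)
      have hm : a * v * a ∈ nb D b := by
        have := htt.nbSub_conj_nb hb'.1 (Subgroup.subset_closure hab) hv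
        rwa [htt.inv_eq ha] at this
      rw [(hφ hv).2, show rimg D b a * rimg D b v * rimg D b a = rimg D b (a * v * a) by
        rw [rimg_eq hab, rimg_eq hv, rimg_eq hm, ← QuotientGroup.mk_mul, ← QuotientGroup.mk_mul]
        exact congrArg QuotientGroup.mk (Subtype.ext rfl),
        h.core.rimg_inj hb'.1 (hφ hv).1 hm] at this
      show a * g * v = v * (a * g)
      calc a * g * v = a * (g * v * g⁻¹) * g := by group
        _ = (a * a) * v * (a * g) := by rw [this]; group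
        _ = _ := by rw [htt.sq a ha, one_mul]
    rw [eq_inv_of_mul_eq_one_right h1, htt.inv_eq ha]

/-- a neighbour-generated element centralised in the residue -/
theorem center_two {a g : G} (ha : a ∈ D) (hg : g ∈ nbSub D a)
    (e : (QuotientGroup.mk (⟨g, hg⟩ : ↥(nbSub D a)) : Residue D a) = 1) : g = 1 ∨ g = a :=
  h.kernel ha (nbSub_commute hg).symm fun v hv =>
    (mem_center_nbSub.mp ((QuotientGroup.eq_one_iff _).mp e) v hv).symm

theorem self_mem {a : G} (ha : a ∈ D) : a ∈ nbSub D a := by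
  classical
  obtain ⟨b, hb'⟩ := h.core.edge a ha
  obtain ⟨F, iF, iFF, hM, -⟩ := h.res a ha
  obtain ⟨l, hl, hnd, hmem, hcom, hprod⟩ := hM.five_nodup (rimg_mem hb')
  choose f hf ef using fun x : Residue D a => fun hx : x ∈ l =>
    h.core.rimg_nb_surj ha hb' (hmem x hx)
  let L : List G := b :: l.attach.map (fun x => f x.1 x.2)
  have hL : L = b :: l.attach.map (fun x => f x.1 x.2) := rfl
  have hLnb : ∀ y ∈ L, y ∈ nb D a := by
    intro y hy
    rcases List.mem_cons.mp hy with rfl | hy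
    · exact hb'
    · obtain ⟨⟨x, hx⟩, -, rfl⟩ := List.mem_map.mp hy
      exact (hf x hx).1
  obtain ⟨hm, e⟩ := rimg_prod hLnb
  have e1 : (L.map (rimg D a)).prod = 1 := by
    rw [hL, List.map_cons, List.map_map, List.prod_cons,
      show (rimg D a ∘ fun x : {x // x ∈ l} => f x.1 x.2) = Subtype.val from
        funext fun x => ef x.1 x.2,
      List.attach_map_subtype_val, hprod, hM.core.tt.sq _ (rimg_mem hb')]
  rcases h.center_two ha hm (e.trans e1) with q | q
  · exfalso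
    have hndL : L.Nodup := by
      refine List.nodup_cons.mpr ⟨fun q => ?_, ?_⟩
      · obtain ⟨⟨x, hx⟩, -, exb⟩ := List.mem_map.mp q
        exact (hf x hx).2.2.1 exb
      · refine List.Nodup.map (fun x x' e => Subtype.ext ?_) (List.nodup_attach.mpr hnd)
        rw [← ef x.1 x.2, ← ef x'.1 x'.2]
        exact congrArg (rimg D a) e
    refine h.ind L hndL (by simp [hL]) (by simp [hL, hl]) (fun y hy => (hLnb y hy).1) ?_ q
    have key : ∀ {y}, y ∈ L → y = b ∨ ∃ x, ∃ hx : x ∈ l, y = f x hx := fun {y} hy => by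
      rw [hL] at hy
      rcases List.mem_cons.mp hy with q | hy
      · exact Or.inl q
      · obtain ⟨⟨x, hx⟩, -, q⟩ := List.mem_map.mp hy
        exact Or.inr ⟨x, hx, q.symm⟩
    intro y hy z hz
    rcases key hy with rfl | ⟨x, hx, rfl⟩
    · rcases key hz with rfl | ⟨x', hx', rfl⟩
      exacts [Commute.refl _, (hf x' hx').2.2.2]
    · rcases key hz with rfl | ⟨x', hx', rfl⟩
      · exact (hf x hx).2.2.2.symm
      · refine (h.core.rimg_comm (hf x hx).1 (hf x' hx').1).mp ?_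
        rw [ef, ef]
        exact hcom x hx x' hx'
  · exact q ▸ hm

theorem kernel_mem {x z c : G} (hz : z ∈ D) (hx : x ∈ D) (hzx : z ∈ nb D x)
    (hc : Commute c z) (hcn : ∀ v ∈ nb D z, Commute c v) : c ∈ nbSub D x :=
  two_mem_center (h.kernel hz hc hcn) (Subgroup.subset_closure hzx)

/-- a neighbour-generated element fixing a neighbour -/
theorem split {a b g : G} (ha : a ∈ D) (hb' : b ∈ nb D a) (hg : g ∈ nbSub D a) (hc : Commute g b) :
    ∃ k ∈ Subgroup.closure (nb D a ∩ nb D b), ∃ c, (c = 1 ∨ c = a) ∧ g = k * c := by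
  obtain ⟨F, iF, iFF, hM, hcent, -⟩ := h.res a ha
  set H : Subgroup ↥(nbSub D a) := (Subgroup.closure (nb D a ∩ nb D b)).comap (nbSub D a).subtype
  have hle : nbSub (resSet D a) (rimg D a b) ≤ H.map (QuotientGroup.mk' _) := by
    rw [Subgroup.closure_le]
    intro e he
    obtain ⟨z, hz, rfl⟩ := h.core.rimg_nb_surj ha hb' he
    exact ⟨nbElem hz.1, Subgroup.subset_closure hz, (rimg_eq hz.1).symm⟩
  have hm : (QuotientGroup.mk (⟨g, hg⟩ : ↥(nbSub D a)) : Residue D a) ∈
      Subgroup.centralizer ({rimg D a b} : Set (Residue D a)) := by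
    rw [rimg_eq hb']
    refine Subgroup.mem_centralizer_singleton_iff.mpr ?_
    rw [← QuotientGroup.mk_mul, ← QuotientGroup.mk_mul]
    exact congrArg QuotientGroup.mk (Subtype.ext hc.eq)
  rw [hcent _ (rimg_mem hb')] at hm
  obtain ⟨k, hk, ek⟩ := hle hm
  have ek' : (QuotientGroup.mk (k⁻¹ * ⟨g, hg⟩) : Residue D a) = 1 := by
    rw [QuotientGroup.mk_mul, QuotientGroup.mk_inv, inv_mul_eq_one]
    exact ek
  refine ⟨k, hk, (k : G)⁻¹ * g, h.center_two ha (k⁻¹ * ⟨g, hg⟩ : ↥(nbSub D a)).2 ek', ?_⟩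
  group

theorem stab {x z g : G} (hx : x ∈ D) (hz : z ∈ nb D x) (hg : g ∈ nbSub D z) (hc : Commute g x) :
    g ∈ nbSub D x := by
  obtain ⟨k, hk, c, hc', rfl⟩ := h.split hz.1 (nb_symm hx hz) hg hc
  have hle : Subgroup.closure (nb D z ∩ nb D x) ≤ nbSub D x :=
    Subgroup.closure_mono Set.inter_subset_right
  exact mul_mem (hle hk) (two_mem_center hc' (Subgroup.subset_closure hz))

/-- five members common to a pair with central product give the product of the pair -/
theorem pair_five {x y : G} (hx : x ∈ D) (hy : y ∈ nb D x) {l : List G} (hl : l.length = 5)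
    (hnd : l.Nodup) (hmem : ∀ z ∈ l, z ∈ nb D x ∩ nb D y) (hcom : ∀ s ∈ l, ∀ t ∈ l, Commute s t)
    (hprod : ∀ z ∈ nb D x ∩ nb D y, Commute l.prod z) : l.prod = x * y := by
  have htt := h.core.tt
  obtain ⟨F, iF, iFF, hM, -⟩ := h.res x hx
  obtain ⟨hm, e⟩ := rimg_prod fun z hz => (hmem z hz).1
  have hcy : Commute l.prod y :=
    (Commute.list_prod_right _ _ fun z hz => (hmem z hz).2.2.2).symm
  have hcent : ∀ {z}, z ∈ nb D x → Commute l.prod z →
      Commute (l.map (rimg D x)).prod (rimg D x z) := by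
    intro z hz hc
    rw [← e, rimg_eq hz]
    show _ * _ = _ * _
    rw [← QuotientGroup.mk_mul, ← QuotientGroup.mk_mul]
    exact congrArg QuotientGroup.mk (Subtype.ext hc.eq)
  rcases hM.kernel_nb (rimg_mem hy) (hcent hy hcy) (fun v hv => by
      obtain ⟨z, hz, rfl⟩ := h.core.rimg_nb_surj hx hy hv
      exact hcent hz.1 (hprod z hz)) with q | q
  · exfalso
    refine hM.ind _ (List.Nodup.map_on (fun s hs t ht e => (h.core.rimg_inj hx (hmem s hs).1
      (hmem t ht).1).mp e) hnd) (fun e' => ?_) (by rw [List.length_map, hl]) ?_ ?_ q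
    · rw [List.map_eq_nil_iff] at e'
      rw [e'] at hl; simp at hl
    · rintro _ hs
      obtain ⟨s, hs', rfl⟩ := List.mem_map.mp hs
      exact rimg_mem (hmem s hs').1
    · rintro _ hs _ ht
      obtain ⟨s, hs', rfl⟩ := List.mem_map.mp hs
      obtain ⟨t, ht', rfl⟩ := List.mem_map.mp ht
      exact (h.core.rimg_comm (hmem s hs').1 (hmem t ht').1).mpr (hcom s hs' t ht')
  · have hk : l.prod * y ∈ nbSub D x := mul_mem hm (Subgroup.subset_closure hy)
    rcases h.center_two hx hk (by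
        rw [show (⟨l.prod * y, hk⟩ : ↥(nbSub D x)) = ⟨l.prod, hm⟩ * nbElem hy from rfl,
          QuotientGroup.mk_mul, e, q, ← rimg_eq hy, hM.core.tt.sq _ (rimg_mem hy)]) with r | r
    · exfalso
      refine h.ind (l ++ [y]) ?_ (by simp) (by simp [hl]) ?_ ?_ (by simpa using r)
      · refine List.nodup_append.mpr ⟨hnd, by simp, fun s hs t ht => ?_⟩
        rw [List.mem_singleton] at ht
        exact ht ▸ (hmem s hs).2.2.1
      · intro s hs
        rcases List.mem_append.mp hs with hs | hs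
        exacts [(hmem s hs).1.1, List.mem_singleton.mp hs ▸ hy.1]
      · intro s hs t ht
        rcases List.mem_append.mp hs with hs | hs <;> rcases List.mem_append.mp ht with ht | ht
        · exact hcom s hs t ht
        · exact List.mem_singleton.mp ht ▸ (hmem s hs).2.2.2.symm
        · exact List.mem_singleton.mp hs ▸ (hmem t ht).2.2.2
        · rw [List.mem_singleton] at hs ht
          rw [hs, ht]
    · rw [eq_comm, ← mul_inv_eq_iff_eq_mul, htt.inv_eq hy.1] at r
      exact r.symm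

/-- the space of a pair of commuting members, with the product of a line -/
theorem pair_space {x y : G} (hx : x ∈ D) (hy : y ∈ nb D x) :
    ∃ (F : Type) (_ : Field F) (_ : Fintype F) (_ : Fintype.card F = 4)
      (sp : U6Space F (nb D x ∩ nb D y)), ∀ {u v : Vec F}, IsPt u → IsPt v → hb u v = 0 →
      ¬ SamePt u v → ∀ {w : F}, w ≠ 0 → w ≠ 1 → w ^ 2 + w + 1 = 0 →
      [sp.pt u, sp.pt v, sp.pt (u + v), sp.pt (u + w • v), sp.pt (u + w ^ 2 • v)].Nodup ∧
      [sp.pt u, sp.pt v, sp.pt (u + v), sp.pt (u + w • v), sp.pt (u + w ^ 2 • v)].prod = x * y := by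
  obtain ⟨F, iF, iFF, hM, -⟩ := h.res x hx
  have hF := hM.hF
  obtain ⟨sp0⟩ := hM.spaces _ (rimg_mem hy)
  let sp1 := liftSpace hF h.core hx (fun z hz => hz.1) sp0
  have heq : {v : G | ∃ hv : v ∈ nb D x,
      (QuotientGroup.mk (nbElem hv) : Residue D x) ∈ nb (resSet D x) (rimg D x y)} =
      nb D x ∩ nb D y := by
    ext v
    constructor
    · rintro ⟨hv, hv'⟩
      rw [← rimg_eq hv] at hv'
      obtain ⟨z, hz, e⟩ := h.core.rimg_nb_surj hx hy hv'
      rwa [(h.core.rimg_inj hx hz.1 hv).mp e] at hz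
    · exact fun hv => ⟨hv.1, rimg_eq hv.1 ▸ h.core.rimg_nb hx hy hv⟩
  let sp : U6Space F (nb D x ∩ nb D y) := heq ▸ sp1
  refine ⟨F, iF, iFF, hF, sp, fun {u v} hu hv huv hs {w} hw0 hw1 hw => ?_⟩
  have hp : ∀ t : F, IsPt (u + t • v) := fun t => isPt_line hF hu hv huv hs t
  have h3 : IsPt (u + v) := by simpa using hp 1
  have vu := (hb_eq_zero_comm hF).mp huv
  let c : Fin 5 → F × F := ![(1, 0), (0, 1), (1, 1), (1, w), (1, w ^ 2)]
  let T : Fin 5 → Vec F := fun i => (c i).1 • u + (c i).2 • v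
  have hpt : ∀ i, IsPt (T i) := fun i => by
    fin_cases i
    · simpa [T, c] using hu
    · simpa [T, c] using hv
    · simpa [T, c] using h3
    · simpa [T, c] using hp w
    · simpa [T, c] using hp (w ^ 2)
  have orth : ∀ i j, hb (T i) (T j) = 0 := fun i j => by
    simp [T, hb_add_left, hb_add_right hF, hb_smul_left, hb_smul_right, hu.2, hv.2, huv, vu]
  have hne : ∀ i j, (c i).1 * (c j).2 ≠ (c j).1 * (c i).2 → sp.pt (T i) ≠ sp.pt (T j) :=
    fun i j hij e => comb_not_same hu.1 hs hij ((sp.same (hpt i) (hpt j)).mp e)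
  have hlist : [sp.pt u, sp.pt v, sp.pt (u + v), sp.pt (u + w • v), sp.pt (u + w ^ 2 • v)] =
      [sp.pt (T 0), sp.pt (T 1), sp.pt (T 2), sp.pt (T 3), sp.pt (T 4)] := by simp [T, c]
  have hnd : [sp.pt (T 0), sp.pt (T 1), sp.pt (T 2), sp.pt (T 3), sp.pt (T 4)].Nodup := by
    have w20 : w ^ 2 ≠ 0 := pow_ne_zero _ hw0
    have w21 : w ^ 2 ≠ 1 := fun q => hw1 (sq_eq_one hF q)
    have ww : w ≠ w ^ 2 := fun q => hw1 (mul_left_cancel₀ hw0 (by linear_combination -q))
    simp only [List.nodup_cons, List.mem_cons, List.not_mem_nil, or_false, not_or,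
      List.nodup_nil, and_true, not_false_eq_true]
    refine ⟨⟨?_, ?_, ?_, ?_⟩, ⟨?_, ?_, ?_⟩, ⟨?_, ?_⟩, ?_⟩ <;> refine hne _ _ ?_ <;>
      simp [c, hw0, w20, hw1, Ne.symm hw1, w21, Ne.symm w21, ww, Ne.symm ww]
  refine ⟨hlist ▸ hnd, ?_⟩
  have hmem : ∀ z ∈ [sp.pt (T 0), sp.pt (T 1), sp.pt (T 2), sp.pt (T 3), sp.pt (T 4)],
      z ∈ nb D x ∩ nb D y := by
    intro z hz
    simp only [List.mem_cons, List.not_mem_nil, or_false] at hz
    rcases hz with rfl | rfl | rfl | rfl | rfl <;> exact sp.mem (hpt _)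
  rw [hlist]
  refine h.pair_five hx hy rfl hnd hmem (fun s hs t ht => ?_) fun z hz => ?_
  · simp only [List.mem_cons, List.not_mem_nil, or_false] at hs ht
    rcases hs with rfl | rfl | rfl | rfl | rfl <;> rcases ht with rfl | rfl | rfl | rfl | rfl <;>
      exact (sp.comm (hpt _) (hpt _)).mpr (orth _ _)
  · rw [← hlist]
    simpa [mul_assoc] using (sp.line hu hv huv hs hw z hz).symm

/-- of the three further members on a line one and only one commutes with an outside member -/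
theorem line_third {x y a : G} (hx : x ∈ D) (hy : y ∈ nb D x) (ha : a ∈ D) (hax : ¬ Commute a x)
    (hay : ¬ Commute a y) {F : Type} [Field F] [Fintype F] (hF : Fintype.card F = 4)
    (sp : U6Space F (nb D x ∩ nb D y)) {u v : Vec F} (hu : IsPt u) (hv : IsPt v)
    (huv : hb u v = 0) (hs : ¬ SamePt u v) (cu : Commute a (sp.pt u)) (cv : Commute a (sp.pt v))
    {w : F} (hw0 : w ≠ 0) (hw1 : w ≠ 1)
    (hnd : [sp.pt u, sp.pt v, sp.pt (u + v), sp.pt (u + w • v), sp.pt (u + w ^ 2 • v)].Nodup) :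
    (Commute a (sp.pt (u + v)) ∨ Commute a (sp.pt (u + w • v)) ∨
        Commute a (sp.pt (u + w ^ 2 • v))) ∧
      ¬ (Commute a (sp.pt (u + w • v)) ∧ Commute a (sp.pt (u + w ^ 2 • v))) := by
  classical
  set r := sp.pt u
  set r' := sp.pt v
  have hr := sp.mem hu
  have hr'x := sp.mem hv
  have hrr : r' ∈ nb D r := ⟨hr'x.1.1, fun e => hs ((sp.same hu hv).mp e.symm), (sp.comm hu hv).mpr huv⟩
  obtain ⟨K, iK, iKF, hK, sq, -⟩ := h.pair_space hr.1.1 hrr
  have inS : ∀ {z}, z ∈ D → Commute r z → Commute r' z → z ≠ r → z ≠ r' → z ∈ nb D r ∩ nb D r' :=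
    fun hz c1 c2 n1 n2 => ⟨⟨hz, n1, c1⟩, hz, n2, c2⟩
  obtain ⟨A, hA, eA⟩ := sq.surj a (inS ha cu.symm cv.symm
    (fun e => hax (e ▸ hr.1.2.2.symm)) (fun e => hax (e ▸ hr'x.1.2.2.symm)))
  obtain ⟨X, hX, eX⟩ := sq.surj x (inS hx hr.1.2.2.symm hr'x.1.2.2.symm hr.1.2.1.symm hr'x.1.2.1.symm)
  obtain ⟨Y, hY, eY⟩ := sq.surj y (inS hy.1 hr.2.2.2.symm hr'x.2.2.2.symm hr.2.2.1.symm hr'x.2.2.1.symm)
  have cm : ∀ {p q p' q' : G}, p = p' → q = q' → Commute p q → Commute p' q' := by
    rintro p q _ _ rfl rfl k; exact k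
  have hXY : hb X Y = 0 := (sq.comm hX hY).mp (cm eX.symm eY.symm hy.2.2)
  have hXYs : ¬ SamePt X Y := fun q =>
    hy.2.1 ((eY.symm.trans ((sq.same hX hY).mpr q).symm).trans eX)
  have hXA : hb X A ≠ 0 := fun q => hax (cm eA eX ((sq.comm hX hA).mpr q).symm)
  have hYA : hb Y A ≠ 0 := fun q => hay (cm eA eY ((sq.comm hY hA).mpr q).symm)
  have vu := (hb_eq_zero_comm hF).mp huv
  -- the coordinate of a further member
  have coord : ∀ t : F, sp.pt (u + t • v) ≠ r → sp.pt (u + t • v) ≠ r' →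
      ∃ γ : K, γ ≠ 0 ∧ ∃ hg : IsPt (X + γ • Y), sq.pt (X + γ • Y) = sp.pt (u + t • v) := by
    intro t n1 n2
    have hp := isPt_line hF hu hv huv hs t
    have pm := sp.mem hp
    have pc1 : Commute r (sp.pt (u + t • v)) := (sp.comm hu hp).mpr (by
      rw [hb_add_right hF, hb_smul_right, hu.2, huv]; ring)
    have pc2 : Commute r' (sp.pt (u + t • v)) := (sp.comm hv hp).mpr (by
      rw [hb_add_right hF, hb_smul_right, hv.2, vu]; ring)
    obtain ⟨P, hP, eP⟩ := sq.surj _ (inS pm.1.1 pc1 pc2 n1 n2)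
    have hspan := mem_of_orth hK (indep_pair hX.1 hXYs) (x := P) (fun i j => by
        fin_cases i <;> fin_cases j <;> simp [hX.2, hY.2, hXY, (hb_eq_zero_comm hK).mp hXY]) hP.2
      (fun i => by
        fin_cases i
        · exact (sq.comm hP hX).mp (cm eP.symm eX.symm pm.1.2.2.symm)
        · exact (sq.comm hP hY).mp (cm eP.symm eY.symm pm.2.2.2.symm))
      (fun Z hZ hZl => (sq.comm hZ hP).mp (by
        rw [eP]
        have zx : Commute (sq.pt Z) x := cm rfl eX ((sq.comm hZ hX).mpr (hZl 0))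
        have zy : Commute (sq.pt Z) y := cm rfl eY ((sq.comm hZ hY).mpr (hZl 1))
        by_cases q : sq.pt Z = x
        · exact cm q.symm rfl pm.1.2.2
        by_cases q' : sq.pt Z = y
        · exact cm q'.symm rfl pm.2.2.2
        obtain ⟨V, hV, eV⟩ := sp.surj (sq.pt Z)
          ⟨⟨(sq.mem hZ).1.1, q, zx.symm⟩, (sq.mem hZ).1.1, q', zy.symm⟩
        rw [← eV]
        refine (sp.comm hV hp).mpr ?_
        rw [hb_add_right hF, hb_smul_right, (sp.comm hV hu).mp (by rw [eV]; exact (sq.mem hZ).1.2.2.symm),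
          (sp.comm hV hv).mp (by rw [eV]; exact (sq.mem hZ).2.2.2.symm)]
        ring))
    obtain ⟨c, hc⟩ := (Submodule.mem_span_range_iff_exists_fun K).mp hspan
    simp only [Fin.sum_univ_two, Matrix.cons_val_zero, Matrix.cons_val_one] at hc
    have c0 : c 0 ≠ 0 := fun q => pm.2.2.1 (by
      rw [q, zero_smul, zero_add] at hc
      exact (eP.symm.trans ((sq.same hY hP).mpr ⟨c 1, hc.symm⟩).symm).trans eY)
    have c1 : c 1 ≠ 0 := fun q => pm.1.2.1 (by
      rw [q, zero_smul, add_zero] at hc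
      exact (eP.symm.trans ((sq.same hX hP).mpr ⟨c 0, hc.symm⟩).symm).trans eX)
    obtain ⟨hq, eq⟩ := sq.smul_pt (inv_ne_zero c0) hP
    have e' : (c 0)⁻¹ • P = X + ((c 0)⁻¹ * c 1) • Y := by
      rw [← hc, smul_add, smul_smul, smul_smul, inv_mul_cancel₀ c0, one_smul]
    rw [e'] at hq eq
    exact ⟨_, mul_ne_zero (inv_ne_zero c0) c1, hq, eq.trans eP⟩
  simp only [List.nodup_cons, List.mem_cons, List.not_mem_nil, or_false, not_or,
    List.nodup_nil, and_true, not_false_eq_true] at hnd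
  obtain ⟨⟨-, r1, r2, r3⟩, ⟨s1, s2, s3⟩, ⟨p12, p13⟩, p23⟩ := hnd
  obtain ⟨g1, g10, hg1, e1⟩ := coord 1 (by rw [one_smul]; exact Ne.symm r1) (by rw [one_smul]; exact Ne.symm s1)
  obtain ⟨g2, g20, hg2, e2⟩ := coord w (Ne.symm r2) (Ne.symm s2)
  obtain ⟨g3, g30, hg3, e3⟩ := coord (w ^ 2) (Ne.symm r3) (Ne.symm s3)
  rw [one_smul] at e1
  set γ0 := hb X A / hb Y A with hγ0
  have crit : ∀ {γ : K}, ∀ hg : IsPt (X + γ • Y), Commute a (sq.pt (X + γ • Y)) ↔ γ = γ0 := by
    intro γ hg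
    rw [← eA, sq.comm hA hg, hb_eq_zero_comm hK, hb_add_left, hb_smul_left, add_eq_zero_iff_eq' hK,
      hγ0, eq_div_iff hYA, eq_comm]
  refine ⟨?_, fun ⟨q2, q3⟩ => p23 ?_⟩
  · rw [← e1, ← e2, ← e3, crit hg1, crit hg2, crit hg3]
    by_contra hno
    simp only [not_or] at hno
    obtain ⟨n1, n2, n3⟩ := hno
    have d12 : g1 ≠ g2 := fun q => p12 (by rw [← e1, ← e2, q])
    have d13 : g1 ≠ g3 := fun q => p13 (by rw [← e1, ← e3, q])
    have d23 : g2 ≠ g3 := fun q => p23 (by rw [← e2, ← e3, q])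
    have z0 : γ0 ≠ 0 := div_ne_zero hXA hYA
    have hle := Finset.card_le_univ ({0, g1, g2, g3, γ0} : Finset K)
    rw [hK] at hle
    simp [Ne.symm g10, Ne.symm g20, Ne.symm g30, Ne.symm z0, d12, d13, d23, n1, n2, n3] at hle
  · rw [← e2] at q2
    rw [← e3] at q3
    rw [← e2, ← e3, (crit hg2).mp q2, (crit hg3).mp q3]

end M23Data

end Cfsg.Agent.H93
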