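import Cfsg.Agent.H93.Small

/-!
Automorphisms of order two of a space of transpositions that behave like a transposition are
transpositions.
-/

set_option autoImplicit false

namespace Cfsg.Agent.H93

variable {G : Type*} [Group G] {D : Set G}

/-- an involutive automorphism preserving `D` that behaves like a member of a class of
3-transpositions -/
structure SmallAut (D : Set G) (φ : MulAut G) : Prop where
  inv : ∀ x, φ (φ x) = x
  mem : ∀ x ∈ D, φ x ∈ D
  small : ∀ g : G, (φ g * g⁻¹) ^ 2 = 1 ∨ (φ g * g⁻¹) ^ 3 = 1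

namespace SmallAut

variable {φ : MulAut G} (hφ : SmallAut D φ) (hD : TT D)

include hφ hD

/-- the bound for two members -/
theorem two {a b : G} (ha : a ∈ D) (hb : b ∈ D) :
    (a * b * (φ b * φ a)) ^ 2 = 1 ∨ (a * b * (φ b * φ a)) ^ 3 = 1 := by
  have e : a * b * (φ b * φ a) = (φ (a * b) * (a * b)⁻¹)⁻¹ := by
    rw [map_mul, mul_inv_rev (φ a * φ b), inv_inv, mul_inv_rev, hD.inv_eq (hφ.mem a ha),
      hD.inv_eq (hφ.mem b hb)]
  rw [e, inv_pow, inv_pow, inv_eq_one, inv_eq_one]
  exact hφ.small (a * b)

/-- the bound for a pair of members and their images -/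
theorem pair {a x : G} (ha : a ∈ D) (hx : x ∈ D) (hc : Commute x (φ x)) :
    (a * φ a * (x * φ x)) ^ 2 = 1 ∨ (a * φ a * (x * φ x)) ^ 3 = 1 := by
  have e : a * φ a * (x * φ x) = a * (φ (a * x) * (a * x)⁻¹) * a⁻¹ := by
    rw [hc.eq, map_mul, mul_inv_rev, hD.inv_eq ha, hD.inv_eq hx]
    have h1 : a * a = 1 := hD.sq a ha
    calc a * φ a * (φ x * x) = a * φ a * (φ x * x) * (a * a) := by rw [h1, mul_one]
      _ = _ := by group
  rw [e, conj_pow, conj_pow]
  rcases hφ.small (a * x) with h | h
  · exact Or.inl (by rw [h]; group)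
  · exact Or.inr (by rw [h]; group)

theorem commute_iff {a b : G} : Commute (φ a) (φ b) ↔ Commute a b :=
  ⟨fun h => by simpa [hφ.inv] using h.map φ.toMonoidHom, fun h => h.map φ.toMonoidHom⟩

/-- the fixed third member of a moved member and its image -/
theorem third_spec {x : G} (hx : x ∈ D) (hn : ¬ Commute x (φ x)) :
    φ (x * φ x * x) = x * φ x * x ∧ φ x = x * φ x * x * x * (x * φ x * x) ∧
      ¬ Commute x (x * φ x * x) := by
  have hb := hD.braid hx (hφ.mem x hx) hn
  refine ⟨by rw [map_mul, map_mul, hφ.inv, hb], ?_, fun h => hn ?_⟩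
  · have h1 := hD.sq x hx
    have h2 := hD.sq _ (hφ.mem x hx)
    calc φ x = x * (x * φ x * x) * x := by
          rw [show x * (x * φ x * x) * x = x * x * φ x * (x * x) by group, h1, one_mul, mul_one]
      _ = x * (φ x * x * φ x) * x := by rw [hb]
      _ = x * φ x * (x * x * x) * φ x * x := by rw [h1, one_mul]; group
      _ = _ := by group
  · refine invol_conj_commute (hD.sq x hx) ?_
    rwa [hD.sq x hx, one_mul]

variable {F : Type*} [Field F] [Fintype F] (hF : Fintype.card F = 4) (hP : Pair2 D)
  {S : Set G} (sp : U6Space F S) (hS : S ⊆ D) (hmS : ∀ x ∈ S, φ x ∈ S)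

include hP hS hmS

omit [Fintype F] in
/-- first rule for a member moved to a commuting one -/
theorem rule_one {x a : G} (hx : x ∈ S) (ha : a ∈ S) (hne : φ x ≠ x) (cx : Commute x (φ x))
    (c : Commute a x) (n : ¬ Commute a (φ x)) : Commute a (φ a) := by
  by_contra hn
  have hxD := hS hx
  have haD := hS ha
  have hxD' := hφ.mem x hxD
  have haD' := hφ.mem a haD
  have c' : Commute (φ a) (φ x) := (hφ.commute_iff hD).mpr c
  have n' : ¬ Commute (φ a) x := fun h => n (by
    have := (hφ.commute_iff hD).mpr h; rwa [hφ.inv] at this)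
  set w := φ a * φ x with hwdef
  set z := x * a with hzdef
  have hw : w * w = 1 := hD.sq_of_commute haD' hxD' c'
  have hz : z * z = 1 := hD.sq_of_commute hxD haD c.symm
  have hax : a ≠ x := fun e => n (e ▸ cx)
  have ha'x' : φ a ≠ φ x := fun e => hax (φ.injective e)
  have hsm : (w * z) ^ 2 = 1 ∨ (w * z) ^ 3 = 1 := by
    have := hφ.small (a * x)
    rwa [map_mul, mul_inv_rev, hD.inv_eq haD, hD.inv_eq hxD] at this
  have conjprod : ∀ {u p q : G}, u * u = 1 → u * p * u * (u * q * u) = u * (p * q) * u := by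
    intro u p q hu
    calc u * p * u * (u * q * u) = u * p * (u * u) * (q * u) := by group
      _ = _ := by rw [hu, mul_one]; group
  have conjne : ∀ {u p q : G}, p ≠ q → u * p * u ≠ u * q * u := fun hpq e =>
    hpq (mul_left_cancel (mul_right_cancel e))
  have conjcomm : ∀ {u p q : G}, u * u = 1 → Commute p q → Commute (u * p * u) (u * q * u) := by
    intro u p q hu hpq
    show _ = _
    rw [conjprod hu, conjprod hu, hpq.eq]
  have zmem : ∀ y ∈ D, z * y * z ∈ D := fun y hy => hD.pair_conj_mem hxD haD hy c.symm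
  have wmem : ∀ y ∈ D, w * y * w ∈ D := fun y hy => hD.pair_conj_mem haD' hxD' hy c'
  have cA : Commute x (a * φ x * a) := (c.symm.mul_right cx).mul_right c.symm
  have eA : z * φ x * z = a * φ x * a := by
    calc x * a * φ x * (x * a) = x * a * φ x * (a * x) := by rw [c.eq]
      _ = x * (a * φ x * a) * x := by group
      _ = a * φ x * a * (x * x) := by rw [cA.eq]; group
      _ = _ := by rw [hD.sq x hxD, mul_one]
  have ba := hD.braid haD haD' hn
  rcases hsm with h | h
  · have hwz : z * w * z = w := by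
      rw [pow_two] at h
      have := eq_inv_of_mul_eq_one_left h
      rw [mul_inv_rev, inv_eq_of_mul_eq_one_left hw, inv_eq_of_mul_eq_one_left hz] at this
      rw [← this, mul_assoc, hz, mul_one]
    rcases hP _ (zmem _ hxD') _ (zmem _ haD') (φ x) hxD' (φ a) haD' (conjne ha'x'.symm) ha'x'.symm
      (conjcomm hz c'.symm) c'.symm (by rw [conjprod hz, ← c'.eq, ← hwdef]; exact hwz) with e | e
    · rw [eA] at e
      refine n ?_
      show _ = _
      conv_rhs => rw [← e]
      rw [mul_assoc (a * φ x), hD.sq a haD, mul_one]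
    · rw [eA] at e
      apply hn
      refine invol_conj_commute (hD.sq _ haD') ?_
      have e' : a * φ a * a = φ x := by
        conv_lhs => rw [← e]
        rw [show a * (a * φ x * a) * a = a * a * φ x * (a * a) by group, hD.sq a haD, one_mul, mul_one]
      rw [hD.sq _ haD', one_mul, ← ba, e']
      exact c'.symm
  · have e3 : z * w * z = w * z * w := by
      have h3 : w * z * w * (z * w * z) = 1 := by rw [← h, pow_succ, pow_two]; group
      have := eq_inv_of_mul_eq_one_left h3
      calc z * w * z = z * w⁻¹ * z := by rw [inv_eq_of_mul_eq_one_left hw]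
        _ = z⁻¹ * w⁻¹ * z⁻¹ := by rw [inv_eq_of_mul_eq_one_left hz]
        _ = (z * w * z)⁻¹ := by group
        _ = _ := this.symm
    rcases hP _ (zmem _ hxD') _ (zmem _ haD') (w * x * w) (wmem _ hxD) (w * a * w) (wmem _ haD)
      (conjne ha'x'.symm) (conjne hax.symm) (conjcomm hz c'.symm) (conjcomm hw c.symm)
      (by rw [conjprod hz, conjprod hw, ← c'.eq, ← hwdef]; exact e3) with e | e
    · -- the image would commute with `x`
      rw [eA] at e
      have eB : w * x * w = φ a * x * φ a := by
        calc φ a * φ x * x * (φ a * φ x) = φ a * (φ x * x) * (φ x * φ a) := by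
              rw [← c'.eq]; group
          _ = φ a * x * (φ x * φ x) * φ a := by rw [← cx.eq]; group
          _ = _ := by rw [hD.sq _ hxD', mul_one]
      rw [eB] at e
      apply n'
      have hb := hD.braid haD' hxD n'
      refine invol_conj_commute (hD.sq x hxD) ?_
      rw [hD.sq x hxD, one_mul, ← hb, ← e]
      exact cA.symm
    · rw [eA] at e
      apply n
      have eC : a * (w * a * w) * a = w * a * w := by
        have h1 : φ a * φ x * φ a = φ x := by
          rw [c'.eq, mul_assoc, hD.sq _ haD', mul_one]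
        have h2 : w * a * w = φ a * (φ x * a * φ x) * φ a := by
          calc φ a * φ x * a * (φ a * φ x) = φ a * φ x * a * (φ x * φ a) := by rw [c'.eq]
            _ = _ := by group
        have h4 : φ x * a * φ x = a * φ x * a := (hD.braid haD hxD' n).symm
        rw [h2, h4]
        calc a * (φ a * (a * φ x * a) * φ a) * a = (a * φ a * a) * φ x * (a * φ a * a) := by group
          _ = (φ a * a * φ a) * φ x * (φ a * a * φ a) := by rw [ba]
          _ = φ a * a * (φ a * φ x * φ a) * a * φ a := by group
          _ = _ := by rw [h1]; group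
      rw [← e] at eC
      refine (invol_conj_commute (hD.sq a haD) ?_).symm
      rw [hD.sq a haD, one_mul]
      show _ = _
      conv_rhs => rw [← eC]
      rw [show a * (a * (a * φ x * a) * a) = (a * a) * (a * φ x * a) * a by group, hD.sq a haD, one_mul]

include hF sp

/-- no member is moved to a commuting one -/
theorem no_orth {x : G} (hx : x ∈ S) (hne : φ x ≠ x) : ¬ Commute x (φ x) := by
  intro cx
  obtain ⟨u, hu, hux⟩ := sp.surj x hx
  obtain ⟨v, hv, hvx⟩ := sp.surj (φ x) (hmS x hx)
  have uv : hb u v = 0 := (sp.comm hu hv).mp (by rwa [hux, hvx])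
  have hs : ¬ SamePt u v := fun e => hne (hvx.symm.trans (((sp.same hu hv).mpr e).symm.trans hux))
  obtain ⟨p, hp, hp0, hp1⟩ := iso_two hF hu.1 hs 0 1
  have hpp := pt_of_hb_eq_one hp hp1
  set a := sp.pt p with hadef
  have haS : a ∈ S := sp.mem hpp
  have cax : Commute a x := hux ▸ (sp.comm hpp hu).mpr hp0
  have nax : ¬ Commute a (φ x) := fun h => by
    have := (sp.comm hpp hv).mp (hvx.symm ▸ h)
    rw [hp1] at this; exact one_ne_zero this
  have ca := hφ.rule_one hD hP hS hmS hx haS hne cx cax nax
  obtain ⟨q, hq, hqa⟩ := sp.surj (φ a) (hmS a haS)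
  have qv : hb q v = 0 := (sp.comm hq hv).mp (by rw [hqa, hvx]; exact (hφ.commute_iff hD).mpr cax)
  have qu : hb u q ≠ 0 := fun h => nax (by
    have h' : Commute x (φ a) := by rw [← hux, ← hqa]; exact (sp.comm hu hq).mpr h
    have := (hφ.commute_iff hD).mpr h'
    rw [hφ.inv] at this
    exact this.symm)
  have vp : hb v p ≠ 0 := fun h => by
    rw [(hb_eq_zero_comm hF).mp h] at hp1; exact zero_ne_one hp1
  obtain ⟨w, hw0, hw1, hw⟩ := exists_omega hF
  obtain ⟨y, hy, y1, y2, y3, y4⟩ := four_iso_solve hF qu vp hu.2 hq.2 hv.2 hp uv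
    ((hb_eq_zero_comm hF).mp hp0) qv
    ((sp.comm hq hpp).mp (hqa.symm ▸ ca.symm)) ![1, hb u q * w, 1, 0]
  simp only [Matrix.cons_val_zero, Matrix.cons_val_one, Matrix.cons_val_two, Matrix.cons_val_three,
    Matrix.tail_cons, Matrix.head_cons] at y1 y2 y3 y4
  have hyp := pt_of_hb_eq_one hy y1
  set c := sp.pt y with hcdef
  have hcS : c ∈ S := sp.mem hyp
  have cca : Commute c a := (sp.comm hyp hpp).mpr y4
  have nca : ¬ Commute c (φ a) := fun h => by
    have := (sp.comm hyp hq).mp (hqa.symm ▸ h)
    rw [y2] at this; exact mul_ne_zero qu hw0 this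
  have hane : φ a ≠ a := fun e => by
    apply nax
    have := (hφ.commute_iff hD).mpr cax
    rwa [e] at this
  have cc := hφ.rule_one hD hP hS hmS haS hcS hane ca cca nca
  have hcne : c ≠ φ c := fun e => nca (by
    have := (hφ.commute_iff hD).mpr cca
    rwa [← e] at this)
  have n1 : ¬ Commute c x := fun h => by
    have := (sp.comm hyp hu).mp (hux.symm ▸ h); rw [y1] at this; exact one_ne_zero this
  have n2 : ¬ Commute c (φ x) := fun h => by
    have := (sp.comm hyp hv).mp (hvx.symm ▸ h); rw [y3] at this; exact one_ne_zero this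
  obtain ⟨-, e⟩ := hD.square hP (hS hcS) (hφ.mem _ (hS hcS)) (hS hx) (hφ.mem _ (hS hx)) cc cx hcne
    hne.symm n1 n2 (hφ.pair hD (hS hcS) (hS hx) cx)
  have h1 : IsPt (y + v) := by
    have := isPt_third hF hv hyp; rwa [y3, one_smul] at this
  have e1 : φ x * c * φ x = sp.pt (y + v) := by
    have := sp.third hv hyp; rwa [y3, one_smul, hvx] at this
  have hk : hb (y + v) u = 1 := by rw [hb_add_left, y1, (hb_eq_zero_comm hF).mp uv, add_zero]
  have h2 : IsPt (y + v + u) := by
    have := isPt_third hF hu h1; rwa [hk, one_smul] at this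
  have e2 : φ c = sp.pt (y + v + u) := by
    have h := sp.third hu h1
    rw [hk, one_smul, hux, ← e1] at h
    rw [← e, ← h]
    calc x * φ x * c * (x * φ x) = x * φ x * c * (φ x * x) := by rw [cx.eq]
      _ = _ := by group
  have := (sp.comm h2 hq).mp (by rw [← e2, hqa]; exact (hφ.commute_iff hD).mpr cca)
  rw [hb_add_left, hb_add_left, y2, (hb_eq_zero_comm hF).mp qv, add_zero] at this
  have : hb u q * (w + 1) = 0 := by linear_combination this
  exact mul_ne_zero qu (fun h => hw1 ((add_eq_zero_iff_eq' hF).mp h)) this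

omit hS in
theorem third_mem {a b : G} (ha : a ∈ S) (hb' : b ∈ S) : a * b * a ∈ S := by
  obtain ⟨u, hu, rfl⟩ := sp.surj a ha
  obtain ⟨v, hv, rfl⟩ := sp.surj b hb'
  rw [sp.third hu hv]
  exact sp.mem (isPt_third hF hu hv)

/-- two moved members with disjoint supports give a member moved to a commuting one -/
theorem no_bridge {x y w f g : G} (hx : x ∈ S) (hy : y ∈ S) (hw : w ∈ S) (hf : f ∈ S) (hg : g ∈ S)
    (ex : φ x = f * x * f) (ey : φ y = g * y * g) (nxf : ¬ Commute x f)
    (nyg : ¬ Commute y g) (cfg : Commute f g) (cfy : Commute f y) (cgx : Commute g x)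
    (cfw : Commute f w) (cgw : Commute g w) (nwx : ¬ Commute w x) (nwy : ¬ Commute w y)
    (hfix : φ w = w) (hfg : f ≠ g) (cxy : Commute x (φ y)) : False := by
  set k := y * (w * x * w) * y with hkdef
  have hkS : k ∈ S := hφ.third_mem hD hF hP sp hmS hy (hφ.third_mem hD hF hP sp hmS hw hx)
  have nkf : ¬ Commute k f := by
    intro h
    apply nxf
    have e1 : y * f * y = f := by rw [← cfy.eq, mul_assoc, hD.sq y (hS hy), mul_one]
    have e2 : w * f * w = f := by rw [← cfw.eq, mul_assoc, hD.sq w (hS hw), mul_one]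
    have h1 : Commute (w * x * w) f :=
      invol_conj_commute (hD.sq y (hS hy)) (by rwa [e1])
    exact invol_conj_commute (hD.sq w (hS hw)) (by rwa [e2])
  have ey' : y * g * y = φ y := by
    rw [ey, hD.braid (hS hy) (hS hg) nyg]
  have nwy' : ¬ Commute w (φ y) := fun h => nwy (by
    have := (hφ.commute_iff hD).mpr h
    rwa [hfix, hφ.inv] at this)
  have nkg : ¬ Commute k g := by
    intro h
    have h1 : Commute (w * x * w) (φ y) := by
      refine invol_conj_commute (hD.sq y (hS hy)) ?_
      rw [← hkdef, ← ey', show y * (y * g * y) * y = y * y * g * (y * y) by group,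
        hD.sq y (hS hy), one_mul, mul_one]
      exact h
    have hb := hD.braid (hS hw) (hφ.mem _ (hS hy)) nwy'
    have h2 : Commute x (w * φ y * w) := by
      refine invol_conj_commute (hD.sq w (hS hw)) ?_
      rw [show w * (w * φ y * w) * w = w * w * φ y * (w * w) by group,
        hD.sq w (hS hw), one_mul, mul_one]
      exact h1
    rw [hb] at h2
    have e3 : φ y * x * φ y = x := by
      rw [← cxy.eq, mul_assoc, hD.sq _ (hφ.mem _ (hS hy)), mul_one]
    exact nwx (invol_conj_commute (hD.sq _ (hφ.mem _ (hS hy))) (by rwa [e3])).symm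
  have ek : φ k = f * g * k * (f * g) := by
    rw [hkdef, map_mul, map_mul, map_mul, map_mul, hfix, ex, ey]
    calc g * y * g * (w * (f * x * f) * w) * (g * y * g)
        = g * y * ((g * w) * f) * x * (f * (w * g)) * y * g := by group
      _ = g * y * (w * g * f) * x * (f * (g * w)) * y * g := by rw [cgw.eq]
      _ = g * y * (w * (f * g)) * x * ((g * f) * w) * y * g := by rw [mul_assoc w g f, ← cfg.eq, ← mul_assoc f g w, cfg.eq]
      _ = g * y * (w * f) * (g * x) * g * (f * w) * y * g := by group
      _ = g * y * (f * w) * x * (g * g) * (w * f) * y * g := by rw [cgx.eq, cfw.eq]; group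
      _ = g * (y * f) * w * x * w * (f * y) * g := by rw [hD.sq g (hS hg)]; group
      _ = g * (f * y) * w * x * w * (y * f) * g := by rw [cfy.eq]
      _ = (g * f) * (y * (w * x * w) * y) * (f * g) := by group
      _ = _ := by rw [cfg.eq]
  have ck : Commute k (φ k) := by
    rw [ek]
    have := hD.pair_conj_commute (hS hf) (hS hg) (hS hkS) cfg nkf nkg
    rwa [← cfg.eq] at this
  refine hφ.no_orth hD hF hP sp hS hmS hkS (fun e => ?_) ck
  have : Commute k (f * g) := by
    show _ = _
    conv_lhs => rw [← e, ek, mul_assoc (f * g * k), hD.sq_of_commute (hS hf) (hS hg) cfg, mul_one]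
  exact nkf (hD.commute_of_commute_mul (hS hkS) (hS hf) (hS hg) hfg this).1

/-- a moved member next to a commuting fixed third gives a member moved to a commuting one -/
theorem no_tail {x w f h : G} (hx : x ∈ S) (hw : w ∈ S) (hf : f ∈ S) (hh : h ∈ S)
    (ex : φ x = f * x * f) (ew : φ w = h * w * h) (nxf : ¬ Commute x f) (nwh : ¬ Commute w h)
    (cfh : Commute f h) (cfw : Commute f w) (chx : Commute h x) (nwx : ¬ Commute w x) : False := by
  set k := x * w * x with hkdef
  have hkS : k ∈ S := hφ.third_mem hD hF hP sp hmS hx hw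
  have hxx := hD.sq x (hS hx)
  have nkh : ¬ Commute k h := fun e => nwh (invol_conj_commute hxx (by
    have e1 : x * h * x = h := by rw [← chx.eq, mul_assoc, hxx, mul_one]
    rwa [e1]))
  have nkf : ¬ Commute k f := by
    intro e
    have e1 : Commute w (f * x * f) := by
      refine invol_conj_commute hxx ?_
      rw [← hD.braid (hS hx) (hS hf) nxf, show x * (x * f * x) * x = x * x * f * (x * x) by group,
        hxx, one_mul, mul_one]
      exact e
    have e2 : f * w * f = w := by rw [cfw.eq, mul_assoc, hD.sq f (hS hf), mul_one]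
    exact nwx (invol_conj_commute (hD.sq f (hS hf)) (by rwa [e2]))
  have hfh : f ≠ h := fun e => nwh (e ▸ cfw.symm)
  have ek : φ k = f * h * k * (f * h) := by
    rw [hkdef, map_mul, map_mul, ex, ew]
    calc f * x * f * (h * w * h) * (f * x * f) = f * x * ((f * h) * w) * (h * f) * x * f := by group
      _ = f * x * ((h * f) * w) * (f * h) * x * f := by rw [cfh.eq]
      _ = f * x * h * (f * w) * f * h * x * f := by group
      _ = f * x * h * (w * f) * f * h * x * f := by rw [cfw.eq]
      _ = f * (x * h) * w * (f * f) * (h * x) * f := by group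
      _ = f * (h * x) * w * (x * h) * f := by rw [hD.sq f (hS hf), mul_one, chx.eq]
      _ = (f * h) * (x * w * x) * (h * f) := by group
      _ = _ := by rw [cfh.eq]
  have ck : Commute k (φ k) := by
    rw [ek]
    have := hD.pair_conj_commute (hS hf) (hS hh) (hS hkS) cfh nkf nkh
    rwa [← cfh.eq] at this
  refine hφ.no_orth hD hF hP sp hS hmS hkS (fun e => ?_) ck
  have : Commute k (f * h) := by
    show _ = _
    conv_lhs => rw [← e, ek, mul_assoc (f * h * k), hD.sq_of_commute (hS hf) (hS hh) cfh, mul_one]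
  exact nkf (hD.commute_of_commute_mul (hS hkS) (hS hf) (hS hh) hfh this).1

/-- commuting moved members have the same third member -/
theorem same_of_commute {x y : G} (hx : x ∈ S) (hy : y ∈ S) (mx : φ x ≠ x) (my : φ y ≠ y)
    (cxy : Commute x y) : x * φ x * x = y * φ y * y := by
  by_cases exy : x = y
  · rw [exy]
  have nx := hφ.no_orth hD hF hP sp hS hmS hx mx
  have ny := hφ.no_orth hD hF hP sp hS hmS hy my
  have cxy' : Commute (φ x) (φ y) := (hφ.commute_iff hD).mpr cxy
  by_cases nxy : Commute x (φ y)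
  · -- disjoint supports
    by_contra hne
    obtain ⟨hfixf, ex, nxf⟩ := hφ.third_spec hD (hS hx) nx
    obtain ⟨hfixg, ey, nyg⟩ := hφ.third_spec hD (hS hy) ny
    set f := x * φ x * x with hfdef
    set g := y * φ y * y with hgdef
    have hfS : f ∈ S := hφ.third_mem hD hF hP sp hmS hx (hmS x hx)
    have hgS : g ∈ S := hφ.third_mem hD hF hP sp hmS hy (hmS y hy)
    have cx'y : Commute (φ x) y := by
      have := (hφ.commute_iff hD).mpr nxy; rwa [hφ.inv] at this
    have cfy : Commute f y := (cxy.mul_left cx'y).mul_left cxy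
    have cfy' : Commute f (φ y) := (nxy.mul_left cxy').mul_left nxy
    have cgx : Commute g x := (cxy.symm.mul_left nxy.symm).mul_left cxy.symm
    have cfg : Commute f g := (cfy.mul_right cfy').mul_right cfy
    obtain ⟨u, hu, hux⟩ := sp.surj x hx
    obtain ⟨p, hp, hpf⟩ := sp.surj f hfS
    obtain ⟨v, hv, hvy⟩ := sp.surj y hy
    obtain ⟨q, hq, hqg⟩ := sp.surj g hgS
    obtain ⟨z, hz, z1, z2, z3, z4⟩ := four_iso_solve hF
      (fun h => nxf (by rw [← hux, ← hpf]; exact (sp.comm hu hp).mpr h))
      (fun h => nyg (by rw [← hvy, ← hqg]; exact (sp.comm hv hq).mpr h))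
      hu.2 hp.2 hv.2 hq.2
      ((sp.comm hu hv).mp (by rwa [hux, hvy]))
      ((sp.comm hu hq).mp (by rw [hux, hqg]; exact cgx.symm))
      ((sp.comm hp hv).mp (by rwa [hpf, hvy]))
      ((sp.comm hp hq).mp (by rwa [hpf, hqg])) ![1, 0, 1, 0]
    simp only [Matrix.cons_val_zero, Matrix.cons_val_one, Matrix.cons_val_two, Matrix.cons_val_three,
      Matrix.tail_cons, Matrix.head_cons] at z1 z2 z3 z4
    have hzp := pt_of_hb_eq_one hz z1
    set w := sp.pt z
    have hwS : w ∈ S := sp.mem hzp
    have nwx : ¬ Commute w x := fun h => by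
      rw [← hux, sp.comm hzp hu, z1] at h; exact one_ne_zero h
    have nwy : ¬ Commute w y := fun h => by
      rw [← hvy, sp.comm hzp hv, z3] at h; exact one_ne_zero h
    have cfw : Commute f w := (hpf ▸ (sp.comm hzp hp).mpr z2).symm
    have cgw : Commute g w := (hqg ▸ (sp.comm hzp hq).mpr z4).symm
    by_cases mw : φ w = w
    · exact hφ.no_bridge hD hF hP sp hS hmS hx hy hwS hfS hgS ex ey nxf nyg cfg cfy cgx cfw cgw
        nwx nwy mw hne nxy
    have nw := hφ.no_orth hD hF hP sp hS hmS hwS mw
    obtain ⟨hfixh, ew, nwh⟩ := hφ.third_spec hD (hS hwS) nw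
    set h := w * φ w * w with hhdef
    have hhS : h ∈ S := hφ.third_mem hD hF hP sp hmS hwS (hmS w hwS)
    have cfw' : Commute f (φ w) := hfixf ▸ (hφ.commute_iff hD).mpr cfw
    have cgw' : Commute g (φ w) := hfixg ▸ (hφ.commute_iff hD).mpr cgw
    have cfh : Commute f h := (cfw.mul_right cfw').mul_right cfw
    have cgh : Commute g h := (cgw.mul_right cgw').mul_right cgw
    by_cases chx : Commute h x
    · exact hφ.no_tail hD hF hP sp hS hmS hx hwS hfS hhS ex ew nxf nwh cfh cfw chx nwx
    by_cases chy : Commute h y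
    · exact hφ.no_tail hD hF hP sp hS hmS hy hwS hgS hhS ey ew nyg nwh cgh cgw chy nwy
    exact hφ.no_bridge hD hF hP sp hS hmS hx hy hhS hfS hgS ex ey nxf nyg cfg cfy cgx cfh cgh
      chx chy hfixh hne nxy
  · obtain ⟨e, -⟩ := hD.square hP (hS hx) (hS hy) (hφ.mem _ (hS hx)) (hφ.mem _ (hS hy)) cxy cxy'
      exy (fun e => exy (φ.injective e)) nx nxy (by
        have := hφ.two hD (hS hx) (hS hy); rwa [← cxy'.eq] at this)
    rw [← e]
    calc x * φ x * x = (y * y) * x * φ x * x * (y * y) := by
          rw [hD.sq y (hS hy), one_mul, mul_one]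
      _ = y * (y * x) * φ x * (x * y) * y := by group
      _ = _ := by rw [← cxy.eq]; group

/-- all moved members have the same third member -/
theorem same_third {x y : G} (hx : x ∈ S) (hy : y ∈ S) (mx : φ x ≠ x) (my : φ y ≠ y) :
    x * φ x * x = y * φ y * y := by
  by_cases cxy : Commute x y
  · exact hφ.same_of_commute hD hF hP sp hS hmS hx hy mx my cxy
  have nx := hφ.no_orth hD hF hP sp hS hmS hx mx
  obtain ⟨hfix, ex, nxf⟩ := hφ.third_spec hD (hS hx) nx
  set f := x * φ x * x with hfdef
  have hfS : f ∈ S := hφ.third_mem hD hF hP sp hmS hx (hmS x hx)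
  obtain ⟨u, hu, hux⟩ := sp.surj x hx
  obtain ⟨p, hp, hpf⟩ := sp.surj f hfS
  obtain ⟨v, hv, hvy⟩ := sp.surj y hy
  have hup : hb u p ≠ 0 := fun h => nxf (by rw [← hux, ← hpf]; exact (sp.comm hu hp).mpr h)
  have hs : ¬ SamePt u p := by
    rintro ⟨a, rfl⟩
    rw [hb_smul_right, hu.2, mul_zero] at hup
    exact hup rfl
  have hli2 := indep_pair hu.1 hs
  by_cases hin : v ∈ Submodule.span F (Set.range ![u, p])
  · obtain ⟨c, hc⟩ := (Submodule.mem_span_range_iff_exists_fun F).mp hin
    simp only [Fin.sum_univ_two, Matrix.cons_val_zero, Matrix.cons_val_one] at hc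
    set a := c 0
    set b := c 1
    by_cases ha : a = 0
    · exfalso
      apply my
      rw [ha, zero_smul, zero_add] at hc
      have e : y = f := by rw [← hvy, ← hpf]; exact ((sp.same hp hv).mpr ⟨b, hc.symm⟩).symm
      rw [e]; exact hfix
    by_cases hb0 : b = 0
    · exfalso
      apply cxy
      rw [hb0, zero_smul, add_zero] at hc
      have e : x = y := by rw [← hvy, ← hux]; exact (sp.same hu hv).mpr ⟨a, hc.symm⟩
      rw [e]
    have hiso : a ^ 2 * b * (hb p u) + a * b ^ 2 * (hb u p) = 0 := by
      have h := hv.2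
      rw [← hc] at h
      simp only [hb_add_left, hb_add_right hF, hb_smul_left, hb_smul_right, hu.2, hp.2] at h
      linear_combination h
    have key : b = a * hb u p := by
      rw [hb_conj hF u p] at hiso
      have h1 : a * b * hb u p * (a * hb u p + b) = 0 := by linear_combination hiso
      exact ((add_eq_zero_iff_eq' hF).mp
        ((mul_eq_zero.mp h1).resolve_left (mul_ne_zero (mul_ne_zero ha hb0) hup))).symm
    have hy' : y = φ x := by
      have h3 := sp.third hp hu
      rw [hpf, hux, ← ex] at h3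
      rw [h3, ← hvy]
      refine ((sp.same (isPt_third hF hp hu) hv).mpr ⟨a, ?_⟩).symm
      rw [← hc, key, smul_add, smul_smul]
    rw [hy', hφ.inv]
    exact hD.braid (hS hx) (hφ.mem _ (hS hx)) nx
  · have hli3 : LinearIndependent F (Fin.snoc ![u, p] v) := linearIndependent_finSnoc.mpr ⟨hli2, hin⟩
    obtain ⟨z, hz, hzl⟩ := iso_solve hF hli3 (Fin.snoc ![0, 1] 0)
      (Or.inr ⟨rfl, (0 : Fin 2).castSucc, (1 : Fin 2).castSucc, by
        rw [Fin.snoc_castSucc, Fin.snoc_castSucc]; simpa using hup⟩)
    have zu : hb z u = 0 := by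
      have := hzl (0 : Fin 2).castSucc; rwa [Fin.snoc_castSucc, Fin.snoc_castSucc] at this
    have zp : hb z p = 1 := by
      have := hzl (1 : Fin 2).castSucc; rwa [Fin.snoc_castSucc, Fin.snoc_castSucc] at this
    have zv : hb z v = 0 := by
      have := hzl (Fin.last 2); rwa [Fin.snoc_last, Fin.snoc_last] at this
    have hzp := pt_of_hb_eq_one hz zp
    have hwS : sp.pt z ∈ S := sp.mem hzp
    have cwx : Commute (sp.pt z) x := hux ▸ (sp.comm hzp hu).mpr zu
    have cwy : Commute (sp.pt z) y := hvy ▸ (sp.comm hzp hv).mpr zv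
    have nwf : ¬ Commute (sp.pt z) f := fun h => by
      rw [← hpf, sp.comm hzp hp, zp] at h; exact one_ne_zero h
    have mw : φ (sp.pt z) ≠ sp.pt z := fun e => by
      have := (hφ.commute_iff hD).mpr cwx
      rw [e] at this
      exact nwf ((cwx.mul_right this).mul_right cwx)
    rw [hfdef, ← hφ.same_of_commute hD hF hP sp hS hmS hwS hx mw mx cwx]
    exact hφ.same_of_commute hD hF hP sp hS hmS hwS hy mw my cwy

/-- the automorphism is trivial on the space or agrees with one of its members -/
theorem local_space :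
    (∀ x ∈ S, φ x = x) ∨ ∃ u ∈ S, ∀ x ∈ S, φ x = u * x * u := by
  by_cases hall : ∀ x ∈ S, φ x = x
  · exact Or.inl hall
  right
  simp only [not_forall] at hall
  obtain ⟨x, hx, mx⟩ := hall
  have nx := hφ.no_orth hD hF hP sp hS hmS hx mx
  obtain ⟨hfix, ex, nxf⟩ := hφ.third_spec hD (hS hx) nx
  set f := x * φ x * x with hfdef
  have hfS : f ∈ S := hφ.third_mem hD hF hP sp hmS hx (hmS x hx)
  refine ⟨f, hfS, fun y hy => ?_⟩
  by_cases my : φ y = y
  · have cyf : Commute y f := by
      by_contra nyf
      have nyx : ¬ Commute y x := fun h => nyf ((h.mul_right (by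
        have := (hφ.commute_iff hD).mpr h; rwa [my] at this)).mul_right h)
      have hk : y * x * y ∈ S := hφ.third_mem hD hF hP sp hmS hy hx
      have ek : φ (y * x * y) = y * φ x * y := by rw [map_mul, map_mul, my]
      have mk : φ (y * x * y) ≠ y * x * y := fun e => mx (by
        rw [ek] at e; exact mul_left_cancel (mul_right_cancel e))
      have hs := hφ.same_third hD hF hP sp hS hmS hk hx mk mx
      rw [ek, ← hfdef, show y * x * y * (y * φ x * y) * (y * x * y) =
        y * x * (y * y) * φ x * (y * y) * x * y by group, hD.sq y (hS hy), mul_one, mul_one,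
        show y * x * φ x * x * y = y * f * y by rw [hfdef]; group] at hs
      apply nyf
      show _ = _
      conv_rhs => rw [← hs]
      rw [mul_assoc (y * f), hD.sq y (hS hy), mul_one]
    rw [my, ← cyf.eq, mul_assoc, hD.sq f (hS hfS), mul_one]
  · have ny := hφ.no_orth hD hF hP sp hS hmS hy my
    obtain ⟨-, ey, -⟩ := hφ.third_spec hD (hS hy) ny
    rw [hfdef, hφ.same_third hD hF hP sp hS hmS hx hy mx my]
    exact ey

end SmallAut

end Cfsg.Agent.H93
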