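import Cfsg.Agent.H93.RefModel

/-!
Groups of type M(23): the model of the common neighbours of two members that do not commute.
-/

set_option autoImplicit false

namespace Cfsg.Agent.H93

open Cfsg.Agent.Orthogonal
open RefModel (V7 dt rf Qd Qd_nondeg nr)
open Cfsg.Agent.H48.OrthClass (negO)

variable {G : Type*} [Group G] [Finite G] {D : Set G}

/-- the common neighbours of two members that do not commute generate the simple orthogonal group -/
theorem omega_common (hD : Cfsg.IsThreeTranspositionClass D) (h23 : Cfsg.IsOfTypeM23 G D) {a d : G}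
    (ha : a ∈ D) (hd : d ∈ D) (hn : ¬ Commute a d) :
    Nonempty (↥(Subgroup.closure (common D a d)) ≃* ↥(commutator (O Qd))) := by
  have h := geo23 hD h23
  obtain ⟨-, d0, hd0, c0, hc0, hn0, -, cc, hcc, hR⟩ := h23
  obtain ⟨g, e1, e2⟩ := h.conj_pair ha hd hn hd0 hc0 hn0
  let f : ↥(Subgroup.closure ({y : G | y ∈ D ∧ y ≠ d0 ∧ Commute d0 y} ∩
      {y : G | y ∈ D ∧ y ≠ c0 ∧ Commute c0 y})) ≃* ↥(Subgroup.closure (common D a d)) :=
    (Subgroup.equivMapOfInjective _ (MulAut.conj g).toMonoidHom (MulAut.conj g).injective).trans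
      (MulEquiv.subgroupCongr (by
        rw [MonoidHom.map_closure]
        congr 1
        ext y
        constructor
        · rintro ⟨t, ht, rfl⟩
          have := h.core.tt.common_conj g (show t ∈ common D d0 c0 from ht)
          rwa [e1, e2] at this
        · intro hy
          refine ⟨g⁻¹ * y * g, ?_, show g * (g⁻¹ * y * g) * g⁻¹ = y by group⟩
          have := h.core.tt.common_conj g⁻¹ hy
          rwa [← e1, ← e2, show g⁻¹ * (g * d0 * g⁻¹) * g⁻¹⁻¹ = d0 by group,
            show g⁻¹ * (g * c0 * g⁻¹) * g⁻¹⁻¹ = c0 by group, inv_inv] at this))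
  have hbot : Subgroup.center ↥(Subgroup.closure ({y : G | y ∈ D ∧ y ≠ d0 ∧ Commute d0 y} ∩
      {y : G | y ∈ D ∧ y ≠ c0 ∧ Commute c0 y})) = ⊥ := h.center_common hd0 hc0 hn0
  obtain ⟨eR⟩ := RefSeven.proj_equiv hcc hR
  let eP : ↥(Cfsg.Omega (ZMod 3) ⇑(formOdd (ZMod 3) 3)) ≃*
      Cfsg.POmega (ZMod 3) ⇑(formOdd (ZMod 3) 3) :=
    QuotientGroup.quotientBot.symm.trans (QuotientGroup.quotientMulEquivOfEq
      (RefSeven.center_omega (Q := formOdd (ZMod 3) 3)
        (formOdd_nondeg (F := ZMod 3) (m := 3) RefSeven.two_ne) (by simp)).symm)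
  obtain ⟨eQ⟩ := RefSeven.omega_congr Qd_nondeg
  exact ⟨(f.symm.trans QuotientGroup.quotientBot.symm).trans
    (((QuotientGroup.quotientMulEquivOfEq hbot.symm).trans eR).trans
      (eP.symm.trans ((omegaEquiv (formOdd (ZMod 3) 3)).trans eQ.symm)))⟩

/-- the common neighbours read as the lines of norm one, with their relations -/
structure RefMap (D : Set G) (a d : G) where
  /-- the member of a vector -/
  mem : V7 → G
  mem_common : ∀ {v}, dt v v = 1 → mem v ∈ common D a d
  surj : ∀ {y}, y ∈ common D a d → ∃ v, dt v v = 1 ∧ mem v = y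
  same : ∀ {v w}, dt v v = 1 → dt w w = 1 → (mem v = mem w ↔ w = v ∨ w = -v)
  comm : ∀ {v w}, dt v v = 1 → dt w w = 1 →
    (Commute (mem v) (mem w) ↔ dt v w = 0 ∨ w = v ∨ w = -v)
  rel : ∀ l : List V7, (∀ v ∈ l, dt v v = 1) →
    (∀ i, (-1 : ZMod 3) ^ l.length • l.foldr rf (RefModel.E i) = RefModel.E i) → (l.map mem).prod = 1

/-- the model -/
theorem ref_map (hD : Cfsg.IsThreeTranspositionClass D) (h23 : Cfsg.IsOfTypeM23 G D) {a d : G}
    (ha : a ∈ D) (hd : d ∈ D) (hn : ¬ Commute a d) : Nonempty (RefMap D a d) := by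
  classical
  have h := geo23 hD h23
  have htt := h.core.tt
  obtain ⟨θ⟩ := omega_common hD h23 ha hd hn
  set C := common D a d with hC
  have mC : ∀ {y}, y ∈ C → y ∈ Subgroup.closure C := fun hy => Subgroup.subset_closure hy
  let im : ∀ y, y ∈ C → O Qd := fun y hy => ((θ ⟨y, mC hy⟩ : ↥(commutator (O Qd))) : O Qd)
  let S : Set (O Qd) := {x | ∃ y, ∃ hy : y ∈ C, im y hy = x}
  have hne : S.Nonempty := by
    obtain ⟨z, hz⟩ := h.exists_common ha hd hn
    exact ⟨_, z, hz, rfl⟩
  have hinj : ∀ {y z} (hy : y ∈ C) (hz : z ∈ C), im y hy = im z hz → y = z := fun hy hz e =>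
    congrArg Subtype.val (θ.injective (Subtype.ext e))
  obtain ⟨hall, hsur⟩ := RefModel.class_eq (S := S) hne
    (by rintro _ ⟨y, hy, rfl⟩; exact (θ ⟨y, mC hy⟩).2)
    (by
      rintro _ ⟨y, hy, rfl⟩
      have e : (⟨y, mC hy⟩ : ↥(Subgroup.closure C)) * ⟨y, mC hy⟩ = 1 :=
        Subtype.ext (htt.sq y hy.1.1)
      refine ⟨?_, fun q => ?_⟩
      · show ((θ _ : ↥(commutator (O Qd))) : O Qd) * (θ _ : ↥(commutator (O Qd))) = 1
        rw [← Subgroup.coe_mul, ← map_mul, e, map_one, OneMemClass.coe_one]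
      · refine h.core.ne_one y hy.1.1 (congrArg Subtype.val (θ.injective
          ((Subtype.ext (q.trans ?_) : θ ⟨y, mC hy⟩ = θ 1))))
        rw [map_one, OneMemClass.coe_one])
    (by
      rintro g hg _ ⟨y, hy, rfl⟩
      obtain ⟨k, hk⟩ := θ.surjective ⟨g, hg⟩
      have hk' : (k : G) ∈ Subgroup.centralizer ({a, d} : Set G) := by
        rw [h.cent_eq ha hd hn]; exact k.2
      have hfix : ∀ t ∈ ({a, d} : Set G), (k : G) * t * (k : G)⁻¹ = t := fun t ht =>
        mul_inv_eq_iff_eq_mul.mpr (Subgroup.mem_centralizer_iff.mp hk' t ht).symm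
      have hy' := htt.common_conj (k : G) hy
      rw [hfix a (by simp), hfix d (by simp)] at hy'
      refine ⟨_, hy', ?_⟩
      show ((θ _ : ↥(commutator (O Qd))) : O Qd) =
        g * ((θ ⟨y, mC hy⟩ : ↥(commutator (O Qd))) : O Qd) * g⁻¹
      rw [show (⟨(k : G) * y * (k : G)⁻¹, mC hy'⟩ : ↥(Subgroup.closure C)) =
        k * ⟨y, mC hy⟩ * k⁻¹ from Subtype.ext (by simp), map_mul, map_mul, map_inv, hk]
      rfl)
    (by
      rintro _ ⟨y, hy, rfl⟩ _ ⟨z, hz, rfl⟩
      have key : ∀ n : ℕ, (y * z) ^ n = 1 → (im y hy * im z hz) ^ n = 1 := fun n e => by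
        have e' : ((⟨y, mC hy⟩ : ↥(Subgroup.closure C)) * ⟨z, mC hz⟩) ^ n = 1 := Subtype.ext (by simpa)
        show (((θ _ : ↥(commutator (O Qd))) : O Qd) * (θ _ : ↥(commutator (O Qd)))) ^ n = 1
        rw [← Subgroup.coe_mul, ← map_mul, ← SubmonoidClass.coe_pow, ← map_pow, e', map_one,
          OneMemClass.coe_one]
      exact (htt.pair y hy.1.1 z hz.1.1).imp (key 2) (key 3))
  have hex : ∀ v, dt v v = 1 → ∃ y, ∃ hy : y ∈ C, im y hy = nr v := hsur
  let mem : V7 → G := fun v => if hv : dt v v = 1 then (hex v hv).choose else 1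
  have spec : ∀ {v}, dt v v = 1 → ∃ hy : mem v ∈ C, im (mem v) hy = nr v := fun {v} hv => by
    have e : mem v = (hex v hv).choose := dif_pos hv
    obtain ⟨hy, q⟩ := (hex v hv).choose_spec
    have gen : ∀ {y y'} (hy : y ∈ C) (hy' : y' ∈ C), y = y' → im y hy = im y' hy' := by
      rintro y _ hy hy' rfl; rfl
    have hy2 : mem v ∈ C := e ▸ hy
    exact ⟨hy2, (gen hy2 hy e).trans q⟩
  refine ⟨⟨mem, fun hv => (spec hv).1, fun {y} hy => ?_, fun {v w} hv hw => ?_, fun {v w} hv hw => ?_,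
    fun l hl hlE => ?_⟩⟩
  · obtain ⟨v, hv, e⟩ := hall _ ⟨y, hy, rfl⟩
    obtain ⟨hm, em⟩ := spec hv
    exact ⟨v, hv, hinj hm hy (em.trans e.symm)⟩
  · obtain ⟨m1, q1⟩ := spec hv
    obtain ⟨m2, q2⟩ := spec hw
    constructor
    · intro e
      refine RefModel.nr_eq hv hw ?_
      rw [← q1, ← q2]
      congr 1
    · intro e
      refine hinj m1 m2 ?_
      rw [q1, q2]
      rcases e with rfl | rfl
      · rfl
      · rw [← neg_one_smul (ZMod 3) v, RefModel.nr_smul (by decide)]
  · obtain ⟨m1, q1⟩ := spec hv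
    obtain ⟨m2, q2⟩ := spec hw
    rw [← RefModel.nr_commute hv hw, ← q1, ← q2]
    show mem v * mem w = mem w * mem v ↔
      ((θ _ : ↥(commutator (O Qd))) : O Qd) * (θ _ : ↥(commutator (O Qd))) =
        ((θ _ : ↥(commutator (O Qd))) : O Qd) * (θ _ : ↥(commutator (O Qd)))
    rw [← Subgroup.coe_mul, ← Subgroup.coe_mul, ← map_mul, ← map_mul, Subtype.coe_inj,
      θ.injective.eq_iff, ← Subtype.coe_inj, Subgroup.coe_mul, Subgroup.coe_mul]
  · have hmem : ∀ t : List V7, (∀ v ∈ t, dt v v = 1) → ∃ hp : (t.map mem).prod ∈ Subgroup.closure C,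
        ((θ ⟨_, hp⟩ : ↥(commutator (O Qd))) : O Qd) = (t.map nr).prod := by
      intro t
      induction t with
      | nil =>
        intro _
        refine ⟨one_mem _, ?_⟩
        rw [show (⟨([].map mem).prod, one_mem _⟩ : ↥(Subgroup.closure C)) = 1 from rfl, map_one]
        rfl
      | cons v s ih =>
        intro ht
        obtain ⟨hp, q⟩ := ih fun w hw => ht w (List.mem_cons_of_mem _ hw)
        obtain ⟨m1, q1⟩ := spec (ht v List.mem_cons_self)
        refine ⟨by rw [List.map_cons, List.prod_cons]; exact mul_mem (mC m1) hp, ?_⟩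
        rw [show (⟨((v :: s).map mem).prod, _⟩ : ↥(Subgroup.closure C)) =
          ⟨mem v, mC m1⟩ * ⟨_, hp⟩ from Subtype.ext (by simp), map_mul, Subgroup.coe_mul, q]
        show im (mem v) m1 * _ = _
        rw [q1, List.map_cons, List.prod_cons]
    obtain ⟨hp, q⟩ := hmem l hl
    have hone : (l.map nr).prod = 1 := by
      refine RefModel.ext_E fun i => ?_
      rw [RefModel.prod_nr, Subgroup.coe_mul, Cfsg.Agent.Orthogonal.mul_app, RefModel.prod_app l hl]
      refine Eq.trans ?_ (hlE i)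
      have hpow : ∀ (n : ℕ) (w : V7), ((negO Qd ^ n : O Qd) : V7 ≃ₗ[ZMod 3] V7) w =
          (-1 : ZMod 3) ^ n • w := by
        intro n
        induction n with
        | zero => intro w; simp
        | succ n ih =>
          intro w
          rw [pow_succ', Subgroup.coe_mul, Cfsg.Agent.Orthogonal.mul_app, ih,
            Cfsg.Agent.H48.OrthClass.negO_app, pow_succ', mul_smul, neg_one_smul]
      exact hpow _ _
    rw [hone] at q
    have e1 : θ ⟨_, hp⟩ = θ 1 := by rw [map_one]; exact Subtype.ext q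
    exact congrArg Subtype.val (θ.injective e1)

end Cfsg.Agent.H93
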