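import Mathlib

/-!
The sizes of orbits of automorphism groups of an elementary abelian group: a prime dividing the size of
an orbit divides `|A| - 2^k` for some proper divisor `2^k` of `|A|`.
-/

set_option autoImplicit false

namespace Cfsg.Agent.H93

/-- a prime dividing the size of an orbit of a group of automorphisms of a group of order `2^n` -/
theorem orbit_prime {A : Type*} [Group A] [Finite A] {n : ℕ} (hA : Nat.card A = 2 ^ n)
    (R : Subgroup (MulAut A)) (a : A) {p : ℕ} [Fact p.Prime]
    (hdvd : p ∣ (MulAction.orbit R a).ncard) : ∃ k < n, p ∣ 2 ^ n - 2 ^ k := by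
  classical
  have hR : p ∣ Nat.card R := by
    rw [← MulAction.index_stabilizer] at hdvd
    exact hdvd.trans (Subgroup.index_dvd_card _)
  obtain ⟨φ, hφ⟩ := exists_prime_orderOf_dvd_card' (G := R) p hR
  set P := Subgroup.zpowers (φ : MulAut A) with hPdef
  have hP : IsPGroup p P := by
    refine IsPGroup.of_card (n := 1) ?_
    rw [Nat.card_zpowers, Subgroup.orderOf_coe, hφ, pow_one]
  have hmod := hP.card_modEq_card_fixedPoints (α := A)
  let S : Subgroup A :=
    { carrier := {x | (φ : MulAut A) x = x}
      one_mem' := map_one _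
      mul_mem' := fun {x y} hx hy => by
        show (φ : MulAut A) (x * y) = x * y
        rw [map_mul, hx, hy]
      inv_mem' := fun {x} hx => by
        show (φ : MulAut A) x⁻¹ = x⁻¹
        rw [map_inv, hx] }
  have hfix : MulAction.fixedPoints P A = (S : Set A) := by
    ext x
    constructor
    · intro hx
      exact hx ⟨(φ : MulAut A), Subgroup.mem_zpowers _⟩
    · rintro hx ⟨q, hq⟩
      have hle : P ≤ MulAction.stabilizer (MulAut A) x := by
        rw [hPdef, Subgroup.zpowers_le, MulAction.mem_stabilizer_iff]
        exact hx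
      exact MulAction.mem_stabilizer_iff.mp (hle hq)
  rw [hfix, SetLike.coe_sort_coe, hA] at hmod
  obtain ⟨k, hk, hcard⟩ := (Nat.dvd_prime_pow Nat.prime_two).mp (hA ▸ Subgroup.card_subgroup_dvd_card S)
  have hlt : k < n := by
    refine lt_of_le_of_ne hk fun e => ?_
    have htop : S = ⊤ := Subgroup.eq_top_of_card_eq S (by rw [hcard, e, hA])
    have h1 : φ = 1 := Subtype.ext (MulEquiv.ext fun x => by
      have : x ∈ S := htop ▸ Subgroup.mem_top x
      exact this)
    rw [h1, orderOf_one] at hφ
    exact (Fact.out : p.Prime).one_lt.ne hφ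
  rw [hcard] at hmod
  exact ⟨k, hlt, (Nat.modEq_iff_dvd' (Nat.pow_le_pow_right (by norm_num) hlt.le)).mp hmod.symm⟩

end Cfsg.Agent.H93
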