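import Cfsg.Agent.H93.PairSwap
import Cfsg.Agent.H92.QuotLarge
import Cfsg.Agent.Unitary.AutCor
import Cfsg.Agent.Components.Layer
import Cfsg.Agent.Cores.Fitting

/-!
The centraliser of the product of two commuting members in a group of type M(22): index two over
the joint centraliser, quotient by the kernel `E` the automorphism group of `SU 4 K 2`, and the
structure of `E`.
-/

set_option autoImplicit false

namespace Cfsg.Agent.H93

/-- a group generated by a central involution and `n` elements with commutators and squares in it -/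
theorem card_closure_le {G : Type*} [Group G] [Finite G] {j : G} (hj : j * j = 1) :
    ∀ l : List G, (∀ x ∈ l, Commute x j) → (∀ x ∈ l, x * x = 1 ∨ x * x = j) →
      (∀ x ∈ l, ∀ y ∈ l, x * y * x⁻¹ * y⁻¹ = 1 ∨ x * y * x⁻¹ * y⁻¹ = j) →
      Nat.card ↥(Subgroup.closure (insert j {x | x ∈ l})) ≤ 2 ^ (l.length + 1) := by
  intro l
  induction l with
  | nil =>
    intro _ _ _
    have hle : ((Subgroup.closure (insert j {x : G | x ∈ ([] : List G)})) : Set G) ⊆ {1, j} := by
      intro g hg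
      induction hg using Subgroup.closure_induction with
      | mem x hx => simp at hx; exact Or.inr hx
      | one => exact Or.inl rfl
      | mul x y _ _ hx hy =>
        rcases hx with rfl | rfl <;> rcases hy with rfl | rfl <;> simp [hj]
      | inv x _ hx => rcases hx with rfl | rfl <;> simp [inv_eq_of_mul_eq_one_left hj]
    calc _ = ((Subgroup.closure (insert j {x : G | x ∈ ([] : List G)})) : Set G).ncard :=
          (Nat.card_coe_set_eq _)
      _ ≤ ({1, j} : Set G).ncard := Set.ncard_le_ncard hle (Set.toFinite _)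
      _ ≤ 2 := (Set.ncard_insert_le _ _).trans (by simp)
  | cons x l ih =>
    intro hc hs hm
    have ih' := ih (fun y hy => hc y (List.mem_cons_of_mem _ hy))
      (fun y hy => hs y (List.mem_cons_of_mem _ hy))
      (fun y hy z hz => hm y (List.mem_cons_of_mem _ hy) z (List.mem_cons_of_mem _ hz))
    set H := Subgroup.closure (insert j {y | y ∈ l}) with hH
    have jH : j ∈ H := Subgroup.subset_closure (Or.inl rfl)
    have xj : Commute x j := hc x List.mem_cons_self
    have norm : ∀ h ∈ H, x * h * x⁻¹ ∈ H := by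
      intro h hh
      induction hh using Subgroup.closure_induction with
      | mem y hy =>
        rcases hy with rfl | hy
        · rw [xj.eq, mul_inv_cancel_right]; exact jH
        · have hyH : y ∈ H := Subgroup.subset_closure (Or.inr hy)
          rcases hm x List.mem_cons_self y (List.mem_cons_of_mem _ hy) with q | q
          · rw [mul_inv_eq_one.mp q]; exact hyH
          · rw [mul_inv_eq_iff_eq_mul.mp q]; exact mul_mem jH hyH
      | one => simp
      | mul y z _ _ hy hz =>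
        rw [show x * (y * z) * x⁻¹ = (x * y * x⁻¹) * (x * z * x⁻¹) by group]; exact mul_mem hy hz
      | inv y _ hy =>
        rw [show x * y⁻¹ * x⁻¹ = (x * y * x⁻¹)⁻¹ by group]; exact inv_mem hy
    have xx : x * x ∈ H := by
      rcases hs x List.mem_cons_self with q | q <;> rw [q]
      exacts [one_mem _, jH]
    have cover : ∀ g ∈ Subgroup.closure (insert j {y | y ∈ x :: l}),
        g ∈ H ∨ ∃ h ∈ H, g = x * h := by
      intro g hg
      induction hg using Subgroup.closure_induction with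
      | mem y hy =>
        rcases hy with rfl | hy
        · exact Or.inl jH
        · rcases List.mem_cons.mp hy with rfl | hy
          · exact Or.inr ⟨1, one_mem _, (mul_one _).symm⟩
          · exact Or.inl (Subgroup.subset_closure (Or.inr hy))
      | one => exact Or.inl (one_mem _)
      | mul y z _ _ hy hz =>
        rcases hy with hy | ⟨h1, hh1, rfl⟩ <;> rcases hz with hz | ⟨h2, hh2, rfl⟩
        · exact Or.inl (mul_mem hy hz)
        · refine Or.inr ⟨(x * x)⁻¹ * (x * y * x⁻¹) * (x * x) * h2,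
            mul_mem (mul_mem (mul_mem (inv_mem xx) (norm y hy)) xx) hh2, ?_⟩
          group
        · exact Or.inr ⟨h1 * z, mul_mem hh1 hz, mul_assoc _ _ _⟩
        · refine Or.inl ?_
          rw [show x * h1 * (x * h2) = (x * h1 * x⁻¹) * (x * x) * h2 by group]
          exact mul_mem (mul_mem (norm h1 hh1) xx) hh2
      | inv y _ hy =>
        rcases hy with hy | ⟨h1, hh1, rfl⟩
        · exact Or.inl (inv_mem hy)
        · exact Or.inr ⟨(x * x)⁻¹ * (x * h1⁻¹ * x⁻¹), mul_mem (inv_mem xx) (norm _ (inv_mem hh1)),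
            by group⟩
    have hsub : ((Subgroup.closure (insert j {y | y ∈ x :: l})) : Set G) ⊆
        (H : Set G) ∪ (fun h => x * h) '' (H : Set G) := by
      intro g hg
      rcases cover g hg with q | ⟨h, hh, rfl⟩
      exacts [Or.inl q, Or.inr ⟨h, hh, rfl⟩]
    calc _ = ((Subgroup.closure (insert j {y | y ∈ x :: l})) : Set G).ncard := Nat.card_coe_set_eq _
      _ ≤ ((H : Set G) ∪ (fun h => x * h) '' (H : Set G)).ncard :=
          Set.ncard_le_ncard hsub (Set.toFinite _)
      _ ≤ (H : Set G).ncard + ((fun h => x * h) '' (H : Set G)).ncard := Set.ncard_union_le _ _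
      _ ≤ (H : Set G).ncard + (H : Set G).ncard := Nat.add_le_add_left (Set.ncard_image_le) _
      _ ≤ 2 ^ (l.length + 1) + 2 ^ (l.length + 1) := by
          rw [← Nat.card_coe_set_eq]; exact Nat.add_le_add ih' ih'
      _ = 2 ^ ((x :: l).length + 1) := by rw [List.length_cons, pow_succ _ (l.length + 1)]; ring

variable {K : Type*} [Field K] [Fintype K] {hK : Fintype.card K = 4}

variable {G : Type*} [Group G] {D : Set G} {F : Type*} [Field F] [Fintype F] {a b : G}
  {π : ↥(Subgroup.centralizer ({a} : Set G)) →* Cfsg.PSU 6 K 2}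

namespace PairData

variable (P : PairData hK D (F := F) a b π)

/-- the centraliser of the product -/
abbrev C2 (_P : PairData hK D (F := F) a b π) : Subgroup G := Subgroup.centralizer ({a * b} : Set G)

theorem K2_le : P.K2 ≤ P.C2 := fun _ hg =>
  mem_cent ((P.mem_K2.mp hg).1.symm.mul_left (P.mem_K2.mp hg).2.symm)

theorem mem_C2 {g : G} (hg : g ∈ P.C2) : (g ∈ P.K2) ∨ (g * a * g⁻¹ = b ∧ g * b * g⁻¹ = a) := by
  refine (P.data.cent_prod2 P.ha P.hbm (Subgroup.mem_centralizer_singleton_iff.mp hg)).imp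
    (fun ⟨e1, e2⟩ => P.mem_K2.mpr ⟨mul_inv_eq_iff_eq_mul.mp e1, mul_inv_eq_iff_eq_mul.mp e2⟩)
    fun q => q

theorem V_le : P.V ≤ P.E :=
  (Subgroup.closure_le _).mpr (by
    rintro x (rfl | rfl)
    exacts [P.pair_mem_E.1, P.pair_mem_E.2])

theorem V_cen {v g : G} (hv : v ∈ P.V) (hg : g ∈ P.K2) : Commute g v := by
  obtain ⟨ga, gb⟩ := P.mem_K2.mp hg
  rcases P.mem_V.mp hv with rfl | rfl | rfl | rfl
  exacts [Commute.one_right g, ga, gb, ga.mul_right gb]

theorem conj_V {c v : G} (hc : c ∈ P.C2) (hv : v ∈ P.V) : c * v * c⁻¹ ∈ P.V := by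
  have ma : a ∈ P.V := Subgroup.subset_closure (Or.inl rfl)
  have mb : b ∈ P.V := Subgroup.subset_closure (Or.inr rfl)
  induction hv using Subgroup.closure_induction with
  | mem x hx =>
    rcases P.mem_C2 hc with q | ⟨e1, e2⟩
    · obtain ⟨e1, e2⟩ := P.conj_fix q
      rcases hx with rfl | rfl
      exacts [by rw [e1]; exact ma, by rw [e2]; exact mb]
    · rcases hx with rfl | rfl
      exacts [by rw [e1]; exact mb, by rw [e2]; exact ma]
  | one => simp
  | mul x y _ _ hx hy =>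
    rw [show c * (x * y) * c⁻¹ = (c * x * c⁻¹) * (c * y * c⁻¹) by group]; exact mul_mem hx hy
  | inv x _ hx => rw [show c * x⁻¹ * c⁻¹ = (c * x * c⁻¹)⁻¹ by group]; exact inv_mem hx

theorem conj_K2 {c k : G} (hc : c ∈ P.C2) (hk : k ∈ P.K2) : c * k * c⁻¹ ∈ P.K2 := by
  obtain ⟨ka, kb⟩ := P.mem_K2.mp hk
  have ha' := (commute_conj (g := c)).mpr ka
  have hb' := (commute_conj (g := c)).mpr kb
  rcases P.mem_C2 hc with q | ⟨e1, e2⟩
  · obtain ⟨e1, e2⟩ := P.conj_fix q
    rw [e1] at ha'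
    rw [e2] at hb'
    exact P.mem_K2.mpr ⟨ha', hb'⟩
  · rw [e1] at ha'
    rw [e2] at hb'
    exact P.mem_K2.mpr ⟨hb', ha'⟩

theorem common_conj {c z : G} (hc : c ∈ P.C2) (hz : z ∈ common D a b) :
    c * z * c⁻¹ ∈ common D a b := by
  have h := P.data.core.tt.common_conj c hz
  rcases P.mem_C2 hc with q | ⟨e1, e2⟩
  · obtain ⟨e1, e2⟩ := P.conj_fix q
    rwa [e1, e2] at h
  · rwa [e1, e2, common_swap] at h

theorem cl_conj' {c z y : G} (hc : c ∈ P.C2) (hy : y ∈ Cl D a b z) :
    c * y * c⁻¹ ∈ Cl D a b (c * z * c⁻¹) := by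
  have h := P.data.core.tt.cl_conj c hy
  rcases P.mem_C2 hc with q | ⟨e1, e2⟩
  · obtain ⟨e1, e2⟩ := P.conj_fix q
    rwa [e1, e2] at h
  · rwa [e1, e2, cl_swap] at h

theorem conj_E {c e : G} (hc : c ∈ P.C2) (he : e ∈ P.E) : c * e * c⁻¹ ∈ P.E := by
  refine P.mem_E_iff.mpr ⟨P.conj_K2 hc (P.E_le he), fun z hz => ?_⟩
  have hz' := P.common_conj (P.C2.inv_mem hc) hz
  have := P.cl_conj' hc ((P.mem_E_iff.mp he).2 _ hz')
  rw [show c * (e * (c⁻¹ * z * c⁻¹⁻¹) * e⁻¹) * c⁻¹ = c * e * c⁻¹ * z * (c * e * c⁻¹)⁻¹ by group,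
    show c * (c⁻¹ * z * c⁻¹⁻¹) * c⁻¹ = z by group] at this
  exact this

/-- conjugation on the joint centraliser -/
def cj (c : ↥P.C2) (k : ↥P.K2) : ↥P.K2 := ⟨(c : G) * k * (c : G)⁻¹, P.conj_K2 c.2 k.2⟩

theorem psi_congr (c : ↥P.C2) {k k' : ↥P.K2} (e : P.psi k = P.psi k') :
    P.psi (P.cj c k) = P.psi (P.cj c k') := by
  have hE : ((k⁻¹ * k' : ↥P.K2) : G) ∈ P.E :=
    ⟨k⁻¹ * k', MonoidHom.mem_ker.mpr (by rw [map_mul, map_inv, e, inv_mul_cancel]), rfl⟩
  obtain ⟨e', he', q⟩ := P.conj_E c.2 hE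
  have : (P.cj c k)⁻¹ * P.cj c k' = e' := Subtype.ext (by
    refine Eq.trans ?_ q.symm
    show ((c : G) * k * (c : G)⁻¹)⁻¹ * ((c : G) * k' * (c : G)⁻¹) = _
    push_cast
    group)
  have h1 : P.psi ((P.cj c k)⁻¹ * P.cj c k') = 1 := by rw [this]; exact he'
  rw [map_mul, map_inv, inv_mul_eq_one] at h1
  exact h1

/-- the induced map on the quotient -/
noncomputable def phiFun (c : ↥P.C2) (A : ↥(Cfsg.SU 4 K 2)) : ↥(Cfsg.SU 4 K 2) :=
  P.psi (P.cj c (Function.surjInv P.psi_surjective A))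

theorem phiFun_psi (c : ↥P.C2) (k : ↥P.K2) : P.phiFun c (P.psi k) = P.psi (P.cj c k) :=
  P.psi_congr c (Function.surjInv_eq P.psi_surjective (P.psi k))

theorem phiFun_mul (c c' : ↥P.C2) (A : ↥(Cfsg.SU 4 K 2)) :
    P.phiFun (c * c') A = P.phiFun c (P.phiFun c' A) := by
  obtain ⟨k, rfl⟩ := P.psi_surjective A
  rw [P.phiFun_psi, P.phiFun_psi, P.phiFun_psi]
  exact congrArg P.psi (Subtype.ext (by
    show ((c : G) * c') * k * ((c : G) * c')⁻¹ = c * ((c' : G) * k * (c' : G)⁻¹) * (c : G)⁻¹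
    group))

theorem phiFun_one (A : ↥(Cfsg.SU 4 K 2)) : P.phiFun 1 A = A := by
  obtain ⟨k, rfl⟩ := P.psi_surjective A
  rw [P.phiFun_psi]
  exact congrArg P.psi (Subtype.ext (by show (1 : G) * k * (1 : G)⁻¹ = k; group))

/-- the action of the centraliser of the product on the quotient -/
noncomputable def phi : ↥P.C2 →* MulAut ↥(Cfsg.SU 4 K 2) where
  toFun c :=
    { toFun := P.phiFun c
      invFun := P.phiFun c⁻¹
      left_inv := fun A => by rw [← P.phiFun_mul, inv_mul_cancel, P.phiFun_one]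
      right_inv := fun A => by rw [← P.phiFun_mul, mul_inv_cancel, P.phiFun_one]
      map_mul' := fun A A' => by
        obtain ⟨k, rfl⟩ := P.psi_surjective A
        obtain ⟨k', rfl⟩ := P.psi_surjective A'
        rw [← map_mul, P.phiFun_psi, P.phiFun_psi, P.phiFun_psi, ← map_mul]
        exact congrArg P.psi (Subtype.ext (by
          show (c : G) * ((k : G) * k') * (c : G)⁻¹ = c * k * (c : G)⁻¹ * (c * k' * (c : G)⁻¹)
          group)) }
  map_one' := MulEquiv.ext P.phiFun_one
  map_mul' c c' := MulEquiv.ext (P.phiFun_mul c c')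

theorem phi_psi (c : ↥P.C2) (k : ↥P.K2) : P.phi c (P.psi k) = P.psi (P.cj c k) := P.phiFun_psi c k

theorem center_su4 (_P : PairData hK D (F := F) a b π) :
    Subgroup.center ↥(Cfsg.SU 4 K 2) = ⊥ := by
  rw [← Subgroup.card_eq_one,
    Cfsg.Agent.Unitary.card_center_SU (card_eq_sq hK) (by norm_num)]
  rfl

/-- members with the same image lie in one class -/
theorem class_of_psi {z z' : G} (hz : z ∈ common D a b) (hz' : z' ∈ common D a b)
    (hk : z ∈ P.K2) (hk' : z' ∈ P.K2) (e : P.psi ⟨z', hk'⟩ = P.psi ⟨z, hk⟩) :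
    z' ∈ Cl D a b z := by
  obtain ⟨X, hX, hXB, hs, rfl⟩ := P.mem_common_iff.mp hz
  obtain ⟨X', hX', hXB', hs', rfl⟩ := P.mem_common_iff.mp hz'
  have img : ∀ {v : Vec K} (hv : IsPt v) (hvB : hb v P.B = 0) (hk : P.pt v ∈ P.K2)
      (c : Fin 4 → K), P.basis.co (act (P.liftB ⟨P.pt v, hk⟩).1 (P.basis.emb c)) =
        c + hb (P.basis.emb c) v • P.basis.co v := by
    intro v hv hvB hk c
    have hfix := (P.basis.mat4_tv hK hv hvB).2
    rw [P.lift_unique (t := P.liftB ⟨P.pt v, hk⟩) (t' := ⟨tv hK v, hfix⟩) (by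
      rw [P.liftB_spec]
      exact (congrArg π (Subtype.ext rfl)).trans (P.xs.eq hv))]
    rw [tv_act hK hv.2, P.basis.co_add, P.basis.co_smul, P.basis.co_emb]
  have hco : P.basis.co X' ≠ 0 := fun q => hs' ⟨_, P.basis.eq_smul_of_co hXB' q⟩
  obtain ⟨y, hy⟩ := Cfsg.Agent.Unitary.exists_herm_eq (card_eq_sq hK) (q := 2)
    (b := fun _ : Unit => P.basis.co X') (linearIndependent_unique_iff.mpr hco) (fun _ => 1)
  have hm : (P.basis.mat4 (P.liftB ⟨P.pt X', hk'⟩).1).mulVec y =
      (P.basis.mat4 (P.liftB ⟨P.pt X, hk⟩).1).mulVec y :=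
    congrArg (fun A : ↥(Cfsg.SU 4 K 2) => (Cfsg.Agent.Unitary.mat A).mulVec y) e
  rw [← P.basis.co_act_emb hK (P.liftB _).2, ← P.basis.co_act_emb hK (P.liftB _).2,
    img hX' hXB', img hX hXB, add_right_inj, P.basis.hb_eq_co hK (P.basis.emb_B y) hXB',
    P.basis.co_emb, show Cfsg.hermForm 4 K 2 y (P.basis.co X') = 1 from hy (), one_smul] at hm
  set r := hb (P.basis.emb y) X
  have hr0 : r ≠ 0 := fun q => hco (by rw [hm, q, zero_smul])
  have hd : hb (X' + r • X) P.B = 0 := by rw [hb_add_left, hb_smul_left, hXB, hXB', mul_zero, add_zero]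
  have h0 := P.basis.eq_smul_of_co hd (by
    rw [P.basis.co_add, P.basis.co_smul, hm]
    exact funext fun i => add_self_zero hK _)
  set s := hb (X' + r • X) P.basis.partner
  refine (P.cl_iff hX hXB hs).mpr ⟨r⁻¹ * s, ?_⟩
  refine (P.xs.sp.same (P.shift hX hXB hs _).1 hX').mpr ⟨r, ?_⟩
  rw [smul_add, smul_smul, mul_inv_cancel_left₀ hr0, ← h0,
    show r • X + (X' + r • X) = X' + (r • X + r • X) by abel, vec_add_self hK, add_zero]

/-- only `V` commutes with every common neighbour -/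
theorem mem_V_of_commute {g : G} (hg : g ∈ P.K2) (hall : ∀ z ∈ common D a b, Commute g z) :
    g ∈ P.V := by
  have hE : g ∈ P.E := P.mem_E_iff.mpr ⟨hg, fun z hz => by
    rw [(hall z hz).eq, mul_inv_cancel_right]; exact ⟨hz, fun _ _ q => q⟩⟩
  obtain ⟨k, hk, rfl⟩ := hE
  refine P.mem_V_of_lift k (P.basis.fix_perp hK ?_)
  have hker := (P.basis.mem_ker hK).mp hk
  have hB : act (P.liftB k).1 P.B = P.B := (P.liftB k).2
  have fix : ∀ {X : Vec K}, IsPt X → hb X P.B = 0 → ¬ SamePt P.B X → act (P.liftB k).1 X = X := by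
    intro X hX hXB hs
    obtain ⟨t, ht⟩ := hker X hXB
    have e := P.liftB_act k hX
    rw [show (k : G) * P.pt X * (k : G)⁻¹ = P.pt X from mul_inv_eq_iff_eq_mul.mpr
      (hall _ (P.mem_common_iff.mpr ⟨X, hX, hXB, hs, rfl⟩)).eq, ht] at e
    obtain ⟨r, hr⟩ := (P.xs.sp.same hX (P.shift hX hXB hs t).1).mp e
    have hli := indep_pair P.pB.1 hs
    obtain ⟨e1, -⟩ := hli.eq_of_pair (show t • P.B + (1 : K) • X = (0 : K) • P.B + r • X by
      rw [one_smul, zero_smul, zero_add, ← hr, add_comm])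
    rw [ht, e1, zero_smul, add_zero]
  have pairfix : ∀ i j : Fin 4, i ≠ j → ∀ o : K, o ≠ 0 →
      act (P.liftB k).1 (P.basis.u i + o • P.basis.u j) = P.basis.u i + o • P.basis.u j := by
    intro i j hij o ho0
    have hB' : hb (P.basis.u i + o • P.basis.u j) P.B = 0 := by
      rw [hb_add_left, hb_smul_left, P.basis.orth, P.basis.orth, mul_zero, add_zero]
    have hiso : hb (P.basis.u i + o • P.basis.u j) (P.basis.u i + o • P.basis.u j) = 0 := by
      simp only [hb_add_left, hb_add_right hK, hb_smul_left, hb_smul_right, P.basis.on, hij, hij.symm,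
        if_true, if_false, mul_zero, add_zero, zero_add, mul_one]
      rw [← pow_succ, pow_three hK ho0, add_self_zero hK]
    have hne : ¬ SamePt P.B (P.basis.u i + o • P.basis.u j) := fun ⟨r, hr⟩ => by
      have := congrArg (fun x => hb x (P.basis.u i)) hr
      simp [hb_add_left, hb_smul_left, P.basis.on, hij.symm,
        (hb_eq_zero_comm hK).mp (P.basis.orth i)] at this
    exact fix ⟨fun q => hne ⟨0, by rw [q, zero_smul]⟩, hiso⟩ hB' hne
  obtain ⟨o, ho0, ho1, ho⟩ := exists_omega hK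
  have ufix : ∀ j, act (P.liftB k).1 (P.basis.u j) = P.basis.u j := by
    intro j
    obtain ⟨i, hij⟩ := exists_ne j
    have e : (1 + o) • P.basis.u j = (P.basis.u i + (1 : K) • P.basis.u j) + (P.basis.u i + o • P.basis.u j) := by
      rw [add_smul, show P.basis.u i + (1 : K) • P.basis.u j + (P.basis.u i + o • P.basis.u j) =
        (P.basis.u i + P.basis.u i) + ((1 : K) • P.basis.u j + o • P.basis.u j) by abel,
        vec_add_self hK, zero_add]
    have h1 : (1 + o) ≠ 0 := fun q => ho1 ((add_eq_zero_iff_eq' hK).mp q).symm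
    have := congrArg (act (P.liftB k).1) e
    rw [act_smul, act_add, pairfix i j hij 1 one_ne_zero, pairfix i j hij o ho0, ← e] at this
    exact smul_right_injective _ h1 this
  intro x hx
  rw [P.basis.decomp x hx, act_add, act_smul, hB]
  congr 1
  simp only [act, Matrix.mulVec_sum, Matrix.mulVec_smul]
  exact Finset.sum_congr rfl fun i _ => congrArg (hb x (P.basis.u i) • ·) (ufix i)

/-- the centre of the joint centraliser -/
theorem center_K2 : (Subgroup.center ↥P.K2).map P.K2.subtype = P.V := by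
  refine le_antisymm ?_ fun v hv => ?_
  · rintro _ ⟨k, hk, rfl⟩
    refine P.mem_V_of_commute k.2 fun z hz => ?_
    have := Subgroup.mem_center_iff.mp hk ⟨z, P.mem_K2.mpr ⟨hz.1.2.2.symm, hz.2.2.2.symm⟩⟩
    exact (congrArg Subtype.val this).symm
  · refine ⟨⟨v, P.E_le (P.V_le hv)⟩, Subgroup.mem_center_iff.mpr fun k => Subtype.ext ?_, rfl⟩
    exact (P.V_cen hv k.2).eq

variable [Finite G]

theorem exists_swap (hcent : ∀ x ∈ D, Subgroup.centralizer ({x} : Set G) = nbSub D x) :
    ∃ s ∈ P.C2, s * a * s⁻¹ = b ∧ s * b * s⁻¹ = a := by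
  obtain ⟨z, hz⟩ : ∃ z, z ∈ nb D a ∩ nb D b := (local_of_space P.data.hF P.data.core
    (pair2_of_indep P.data.core.tt P.data.ind (by norm_num)) (P.data.spaces a P.ha).some).edge b P.hbm
  obtain ⟨s, hs⟩ := P.data.trans3 hcent P.ha P.hbm hz P.hbm.1 (nb_symm P.ha P.hbm) ⟨hz.2, hz.1⟩
  simp only [conj3, Prod.mk.injEq] at hs
  refine ⟨s, Subgroup.mem_centralizer_singleton_iff.mpr (mul_inv_eq_iff_eq_mul.mp ?_), hs.1, hs.2.1⟩
  rw [show s * (a * b) * s⁻¹ = (s * a * s⁻¹) * (s * b * s⁻¹) by group, hs.1, hs.2.1, P.hbm.2.2.eq]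

theorem index_K2 (hcent : ∀ x ∈ D, Subgroup.centralizer ({x} : Set G) = nbSub D x) :
    (P.K2.subgroupOf P.C2).index = 2 := by
  obtain ⟨s, hs, e1, e2⟩ := P.exists_swap hcent
  rw [Subgroup.index_eq_two_iff]
  refine ⟨⟨s, hs⟩, fun g => ?_⟩
  rw [Subgroup.mem_subgroupOf, Subgroup.mem_subgroupOf, Subgroup.coe_mul]
  have hne : a ≠ b := P.hbm.2.1.symm
  have fixa : ∀ {g}, g ∈ P.C2 → (g ∈ P.K2 ↔ g * a * g⁻¹ = a) := fun {g} hg =>
    ⟨fun q => (P.conj_fix q).1, fun q => (P.mem_C2 hg).resolve_right fun r => hne (q.symm.trans r.1)⟩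
  rw [fixa g.2, fixa (mul_mem g.2 hs),
    show (g : G) * s * a * ((g : G) * s)⁻¹ = (g : G) * (s * a * s⁻¹) * (g : G)⁻¹ by group, e1]
  rcases P.mem_C2 g.2 with q | ⟨q1, q2⟩
  · obtain ⟨r1, r2⟩ := P.conj_fix q
    rw [r1, r2]
    exact Or.inr ⟨rfl, fun r => hne r.symm⟩
  · rw [q1, q2]
    exact Or.inl ⟨rfl, fun r => hne r.symm⟩

variable (hext : ∀ x ∈ D, ∃ π' : ↥(Subgroup.centralizer ({x} : Set G)) →* Cfsg.PSU 6 K 2,
      TwoExt π' ⟨x, mem_cent (Commute.refl x)⟩)

include hext

theorem ker_phi : P.phi.ker = P.E.subgroupOf P.C2 := by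
  ext c
  rw [MonoidHom.mem_ker, Subgroup.mem_subgroupOf]
  constructor
  · intro hc
    have fixcl : ∀ z ∈ common D a b, (c : G) * z * (c : G)⁻¹ ∈ Cl D a b z := by
      intro z hz
      have hzK : z ∈ P.K2 := P.mem_K2.mpr ⟨hz.1.2.2.symm, hz.2.2.2.symm⟩
      refine P.class_of_psi hz (P.common_conj c.2 hz) hzK (P.conj_K2 c.2 hzK) ?_
      rw [show (⟨(c : G) * z * (c : G)⁻¹, P.conj_K2 c.2 hzK⟩ : ↥P.K2) = P.cj c ⟨z, hzK⟩ from rfl,
        ← P.phi_psi, hc]
      rfl
    rcases P.mem_C2 c.2 with q | ⟨e1, e2⟩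
    · exact P.mem_E_iff.mpr ⟨q, fixcl⟩
    · exact absurd fixcl (P.no_swap hext e1 e2)
  · rintro ⟨e, he, q⟩
    refine MulEquiv.ext fun A => ?_
    obtain ⟨k, rfl⟩ := P.psi_surjective A
    rw [P.phi_psi, show P.cj c k = e * k * e⁻¹ from Subtype.ext (by
      show (c : G) * k * (c : G)⁻¹ = _
      rw [← q]; rfl), map_mul, map_mul, map_inv, MonoidHom.mem_ker.mp he, one_mul, inv_one, mul_one]
    rfl

theorem phi_bijective (hcent : ∀ x ∈ D, Subgroup.centralizer ({x} : Set G) = nbSub D x) :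
    Function.Surjective P.phi := by
  have h2 := Subgroup.card_mul_index (P.K2.subgroupOf P.C2)
  rw [P.index_K2 hcent, Nat.card_congr (Subgroup.subgroupOfEquivOfLe P.K2_le).toEquiv] at h2
  have hk := Subgroup.card_mul_index P.psi.ker
  rw [Subgroup.index_ker, MonoidHom.range_eq_top.mpr P.psi_surjective, Subgroup.card_top,
    Nat.card_congr (P.psi.ker.equivMapOfInjective _ (Subgroup.subtype_injective _)).toEquiv] at hk
  have hp := Subgroup.card_mul_index P.phi.ker
  rw [Subgroup.index_ker, P.ker_phi hext,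
    Nat.card_congr (Subgroup.subgroupOfEquivOfLe (P.E_le.trans P.K2_le)).toEquiv, ← h2, ← hk] at hp
  have hKs : Fintype.card K = 2 ^ 2 := card_eq_sq hK
  have hA : Nat.card (MulAut ↥(Cfsg.SU 4 K 2)) = 2 * Nat.card ↥(Cfsg.SU 4 K 2) := by
    have e : ↥(Cfsg.SU 4 K 2) ≃* Cfsg.PSU 4 K 2 :=
      ((QuotientGroup.quotientMulEquivOfEq (P.center_su4)).trans QuotientGroup.quotientBot).symm
    rw [Nat.card_congr (MulAut.congr e).toEquiv, Nat.card_congr e.toEquiv,
      Cfsg.Agent.Unitary.card_mulAut_PSU hKs (by norm_num) (by norm_num) (p := 2) (f := 1) le_rfl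
        (by norm_num)]
    norm_num
  have hEpos : 0 < Nat.card P.E := Nat.card_pos
  have hr : Nat.card P.phi.range = Nat.card (MulAut ↥(Cfsg.SU 4 K 2)) := by
    rw [hA]
    refine Nat.eq_of_mul_eq_mul_left hEpos ?_
    change Nat.card P.E * Nat.card P.phi.range = _
    rw [hp]
    show Nat.card P.E * Nat.card ↥(Cfsg.SU 4 K 2) * 2 = _
    ring
  exact MonoidHom.range_eq_top.mp (Subgroup.eq_top_of_card_eq _ hr)

/-- the quotient by the kernel -/
theorem quot_equiv (hcent : ∀ x ∈ D, Subgroup.centralizer ({x} : Set G) = nbSub D x) :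
    ∃ _ : (P.E.subgroupOf P.C2).Normal,
      Nonempty (↥P.C2 ⧸ P.E.subgroupOf P.C2 ≃* MulAut (Cfsg.PSU 4 K 2)) := by
  have hn : (P.E.subgroupOf P.C2).Normal := P.ker_phi hext ▸ MonoidHom.normal_ker _
  have e : ↥(Cfsg.SU 4 K 2) ≃* Cfsg.PSU 4 K 2 :=
    ((QuotientGroup.quotientMulEquivOfEq (P.center_su4)).trans QuotientGroup.quotientBot).symm
  exact ⟨hn, ⟨((QuotientGroup.quotientMulEquivOfEq (P.ker_phi hext).symm).trans
    (QuotientGroup.quotientKerEquivOfSurjective P.phi (P.phi_bijective hext hcent))).trans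
      (MulAut.congr e)⟩⟩

omit hext

/-- commutators of two pairs -/
theorem pair_comm {Y X : Vec K} (hY : IsPt Y) (hYB : hb Y P.B = 0) (hsY : ¬ SamePt P.B Y)
    (hX : IsPt X) (hXB : hb X P.B = 0) (hsX : ¬ SamePt P.B X) (s c : K) :
    let e := P.pt Y * P.pt (Y + s • P.B)
    let e' := P.pt X * P.pt (X + c • P.B)
    (e * e' * e⁻¹ * e'⁻¹ = 1 ∨ e * e' * e⁻¹ * e'⁻¹ = a * b) ∧
      (hb X Y * s ≠ 0 → c ≠ 0 → hb X Y * s ≠ c → e * e' * e⁻¹ * e'⁻¹ = a * b) := by
  intro e e'
  have htt := P.data.core.tt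
  obtain ⟨hXc, hXcB, hsXc⟩ := P.shift hX hXB hsX c
  set d := hb X Y * s with hd
  have hdX : hb (X + c • P.B) Y * s = d := by
    rw [hd, hb_add_left, hb_smul_left, (hb_eq_zero_comm hK).mp hYB, mul_zero, add_zero]
  have e1 : e * P.pt X * e⁻¹ = P.pt (X + d • P.B) := P.pair_act hY hYB hsY hX hXB s
  have e2 : e * P.pt (X + c • P.B) * e⁻¹ = P.pt (X + (c + d) • P.B) := by
    rw [P.pair_act hY hYB hsY hXc hXcB s, hdX, add_assoc, ← add_smul]
  have m : ∀ t : K, P.pt (X + t • P.B) * P.pt (X + t • P.B) = 1 := fun t =>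
    htt.sq _ (P.xs.sp.mem (P.shift hX hXB hsX t).1).1
  have cm : ∀ r t : K, Commute (P.pt (X + r • P.B)) (P.pt (X + t • P.B)) := fun r t => by
    refine (P.xs.sp.comm (P.shift hX hXB hsX r).1 (P.shift hX hXB hsX t).1).mpr ?_
    simp [hb_add_left, hb_add_right hK, hb_smul_left, hb_smul_right, hX.2, P.pB.2, hXB,
      (hb_eq_zero_comm hK).mp hXB]
  have hX0 : P.pt X = P.pt (X + (0 : K) • P.B) := by simp
  have hval : e * e' * e⁻¹ * e'⁻¹ = P.pt (X + d • P.B) * P.pt (X + (c + d) • P.B) *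
      (P.pt (X + c • P.B) * P.pt (X + (0 : K) • P.B)) := by
    have hi : e'⁻¹ = P.pt (X + c • P.B) * P.pt X := by
      refine inv_eq_of_mul_eq_one_right ?_
      calc P.pt X * P.pt (X + c • P.B) * (P.pt (X + c • P.B) * P.pt X)
          = P.pt X * (P.pt (X + c • P.B) * P.pt (X + c • P.B)) * P.pt X := by group
        _ = 1 := by rw [m c, mul_one]; exact htt.sq _ (P.xs.sp.mem hX).1
    rw [show e * e' * e⁻¹ * e'⁻¹ = (e * P.pt X * e⁻¹) * (e * P.pt (X + c • P.B) * e⁻¹) * e'⁻¹ by
      simp only [e']; group, e1, e2, hi, ← hX0]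
  set q := fun t : K => P.pt (X + t • P.B) with hq
  have four : d ≠ 0 → c ≠ 0 → d ≠ c → q d * q (c + d) * (q c * q 0) = a * b := by
    intro d0 c0 dc
    have h3 := pow_three hK d0
    have hw : (c * d⁻¹) ^ 2 + c * d⁻¹ + 1 = 0 := by
      set w := c * d⁻¹
      have w0 : w ≠ 0 := mul_ne_zero c0 (inv_ne_zero d0)
      have w1 : w ≠ 1 := fun e => dc (by
        have := congrArg (· * d) e
        simpa [w, inv_mul_cancel_right₀ d0] using this.symm)
      have : (w - 1) * (w ^ 2 + w + 1) = 0 := by linear_combination pow_three hK w0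
      exact (mul_eq_zero.mp this).resolve_left (sub_ne_zero.mpr w1)
    have := P.class_prod hX hXB hsX d0 hw
    rw [show c * d⁻¹ * d = c from inv_mul_cancel_right₀ d0 c,
      show (c * d⁻¹) ^ 2 * d = c + d from by
        linear_combination d * hw - (c + d) * two_zero hK - (1 : K) * inv_mul_cancel_right₀ d0 c,
      hX0] at this
    change q 0 * q d * q c * q (c + d) = a * b at this
    rw [← this]
    calc q d * q (c + d) * (q c * q 0) = (q d * q (c + d) * q c) * q 0 := by group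
      _ = q 0 * (q d * q (c + d) * q c) :=
          (((cm 0 d).mul_right (cm 0 (c + d))).mul_right (cm 0 c)).symm.eq
      _ = q 0 * q d * (q (c + d) * q c) := by group
      _ = q 0 * q d * (q c * q (c + d)) := by rw [(cm (c + d) c).eq]
      _ = _ := by group
  refine ⟨?_, fun d0 c0 dc => by rw [hval]; exact four d0 c0 dc⟩
  rw [hval]
  by_cases d0 : d = 0
  · left
    show q d * q (c + d) * (q c * q 0) = 1
    rw [d0, add_zero, mul_assoc, ← mul_assoc (q c), show q c * q c = 1 from m c, one_mul]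
    exact m 0
  by_cases c0 : c = 0
  · left
    show q d * q (c + d) * (q c * q 0) = 1
    rw [c0, zero_add, show q d * q d = 1 from m d, show q 0 * q 0 = 1 from m 0, one_mul]
  by_cases dc : d = c
  · left
    show q d * q (c + d) * (q c * q 0) = 1
    rw [dc, add_self_zero hK, (cm c 0).eq,
      show q 0 * q c = q c * q 0 from (cm 0 c).eq]
    calc q c * q 0 * (q c * q 0) = q c * (q 0 * q c) * q 0 := by group
      _ = (q c * q c) * (q 0 * q 0) := by rw [show q 0 * q c = q c * q 0 from (cm 0 c).eq]; group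
      _ = 1 := by rw [show q c * q c = 1 from m c, show q 0 * q 0 = 1 from m 0, one_mul]
  exact Or.inr (four d0 c0 dc)

/-- the extraspecial complement in the kernel -/
theorem exists_extra_part :
    ∃ E0 : Subgroup G, E0 ≤ P.E ∧ Cfsg.IsExtraspecial 2 ↥E0 ∧ Nat.card E0 = 2 ^ 9 ∧ a ∉ E0 ∧
      ∀ g ∈ P.E, g ∈ E0 ∨ a * g ∈ E0 := by
  classical
  have htt := P.data.core.tt
  obtain ⟨o, ho0, ho1, ho⟩ := exists_omega hK
  let c : Fin 4 → (Fin 4 → K) := ![![1, 1, 0, 0], ![1, o, 0, 0], ![0, 0, 1, 1], ![0, 0, 1, o]]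
  let Y : Fin 4 → Vec K := fun i => P.basis.emb (c i)
  have hY : ∀ i, IsPt (Y i) ∧ hb (Y i) P.B = 0 ∧ ¬ SamePt P.B (Y i) := by
    intro i
    have hB' := P.basis.emb_B (c i)
    have hne : ¬ SamePt P.B (Y i) := fun ⟨r, hr⟩ => by
      have := congrArg P.basis.co hr
      rw [P.basis.co_emb, P.basis.co_smul, P.basis.co_B hK, smul_zero] at this
      fin_cases i <;> simp [c, funext_iff, Fin.forall_fin_succ] at this
    refine ⟨⟨fun e => hne ⟨0, by rw [e, zero_smul]⟩, ?_⟩, hB', hne⟩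
    rw [P.basis.hb_eq_co hK hB' hB', P.basis.co_emb, hb4_eq, Fin.sum_univ_four]
    have h3 : o * o ^ 2 = 1 := by rw [← pow_succ', pow_three hK ho0]
    fin_cases i <;> simp [c, h3, add_self_zero hK]
  let s : Fin 2 → K := ![1, o]
  let gen : Fin 4 × Fin 2 → G := fun x => P.pt (Y x.1) * P.pt (Y x.1 + s x.2 • P.B)
  have gE : ∀ x, gen x ∈ P.E := fun x => P.pair_mem_E' (hY _).1 (hY _).2.1 (hY _).2.2 _
  set j := a * b with hj
  have hjj : j * j = 1 := by
    rw [hj, show a * b * (a * b) = a * (b * a) * b by group, P.hbm.2.2.symm.eq,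
      show a * (a * b) * b = (a * a) * (b * b) by group, htt.sq a P.ha, htt.sq b P.hbm.1, one_mul]
  have jV : j ∈ P.V := P.mem_V.mpr (Or.inr (Or.inr (Or.inr rfl)))
  have gj : ∀ x, Commute (gen x) j := fun x => P.V_cen jV (P.E_le (gE x))
  have gsq : ∀ x, gen x * gen x = 1 := by
    intro x
    obtain ⟨h1, h2, h3⟩ := hY x.1
    obtain ⟨h1', -, -⟩ := P.shift h1 h2 h3 (s x.2)
    have hc : Commute (P.pt (Y x.1)) (P.pt (Y x.1 + s x.2 • P.B)) := (P.xs.sp.comm h1 h1').mpr (by
      rw [hb_add_right hK, hb_smul_right, h1.2, h2, mul_zero, add_zero])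
    calc gen x * gen x = P.pt (Y x.1) * (P.pt (Y x.1 + s x.2 • P.B) * P.pt (Y x.1)) *
          P.pt (Y x.1 + s x.2 • P.B) := by simp only [gen]; group
      _ = (P.pt (Y x.1) * P.pt (Y x.1)) *
          (P.pt (Y x.1 + s x.2 • P.B) * P.pt (Y x.1 + s x.2 • P.B)) := by rw [← hc.eq]; group
      _ = 1 := by
          rw [show P.pt (Y x.1) * P.pt (Y x.1) = 1 from htt.sq _ (P.xs.sp.mem h1).1,
            show P.pt (Y x.1 + s x.2 • P.B) * P.pt (Y x.1 + s x.2 • P.B) = 1 from
              htt.sq _ (P.xs.sp.mem h1').1, one_mul]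
  set l : List G := (Finset.univ : Finset (Fin 4 × Fin 2)).toList.map gen with hl
  set E0 := Subgroup.closure (insert j {x | x ∈ l}) with hE0
  have meml : ∀ x ∈ l, ∃ i, x = gen i := fun x hx => by
    obtain ⟨i, -, rfl⟩ := List.mem_map.mp hx; exact ⟨i, rfl⟩
  have genmem : ∀ i, gen i ∈ E0 := fun i => Subgroup.subset_closure
    (Or.inr (List.mem_map.mpr ⟨i, Finset.mem_toList.mpr (Finset.mem_univ _), rfl⟩))
  have jE0 : j ∈ E0 := Subgroup.subset_closure (Or.inl rfl)
  have hle : E0 ≤ P.E := (Subgroup.closure_le _).mpr (by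
    rintro x (rfl | hx)
    · exact P.V_le jV
    · obtain ⟨i, rfl⟩ := meml x hx; exact gE i)
  have hupper : Nat.card E0 ≤ 2 ^ 9 := by
    have := card_closure_le hjj l (fun x hx => by obtain ⟨i, rfl⟩ := meml x hx; exact gj i)
      (fun x hx => by obtain ⟨i, rfl⟩ := meml x hx; exact Or.inl (gsq i))
      (fun x hx y hy => by
        obtain ⟨i, rfl⟩ := meml x hx
        obtain ⟨i', rfl⟩ := meml y hy
        exact (P.pair_comm (hY _).1 (hY _).2.1 (hY _).2.2 (hY _).1 (hY _).2.1 (hY _).2.2 _ _).1)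
    rwa [hl, List.length_map, Finset.length_toList, Finset.card_univ, Fintype.card_prod,
      Fintype.card_fin, Fintype.card_fin] at this
  -- the translation vector of an element of the kernel
  let T : G → (Fin 4 → K) → Prop := fun g f =>
    ∀ i, ∃ k : ↥P.K2, (k : G) = g ∧ act (P.liftB k).1 (P.basis.u i) = P.basis.u i + f i • P.B
  have Tex : ∀ g ∈ P.E, ∃ f, T g f := by
    rintro g ⟨k, hk, rfl⟩
    choose f hf using fun i => (P.basis.mem_ker hK).mp hk (P.basis.u i) (P.basis.orth i)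
    exact ⟨f, fun i => ⟨k, rfl, hf i⟩⟩
  have Tmul : ∀ g g' f f', T g f → T g' f' → T (g * g') (f + f') := by
    intro g g' f f' h h' i
    obtain ⟨k, rfl, hk⟩ := h i
    obtain ⟨k', rfl, hk'⟩ := h' i
    refine ⟨k * k', rfl, ?_⟩
    rw [map_mul, Subgroup.coe_mul, act_mul, hk', act_add, act_smul, hk,
      show act (P.liftB k).1 P.B = P.B from (P.liftB k).2, Pi.add_apply, add_smul]
    abel
  have Tone : T 1 0 := fun i => ⟨1, rfl, by
    rw [map_one, Subgroup.coe_one, act_one, Pi.zero_apply, zero_smul, add_zero]⟩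
  have Tgen : ∀ x, T (gen x) (fun i => s x.2 * c x.1 i ^ 2) := by
    intro x i
    obtain ⟨h1, h2, h3⟩ := hY x.1
    obtain ⟨h1', h2', -⟩ := P.shift h1 h2 h3 (s x.2)
    have hfix := (P.basis.mat4_tv hK h1 h2).2
    have hfix' := (P.basis.mat4_tv hK h1' h2').2
    refine ⟨⟨gen x, P.E_le (gE x)⟩, rfl, ?_⟩
    rw [P.lift_unique (t := P.liftB ⟨gen x, P.E_le (gE x)⟩) (t' := ⟨tv hK (Y x.1), hfix⟩ *
      ⟨tv hK (Y x.1 + s x.2 • P.B), hfix'⟩) (by
        rw [P.liftB_spec, Subgroup.coe_mul, QuotientGroup.mk_mul]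
        show _ = ptv hK (Y x.1) * ptv hK (Y x.1 + s x.2 • P.B)
        rw [← P.xs.eq h1, ← P.xs.eq h1', ← map_mul]
        exact congrArg π (Subtype.ext rfl))]
    have hu : hb (P.basis.u i) (Y x.1) = c x.1 i ^ 2 := by
      rw [hb_conj hK (Y x.1), show hb (Y x.1) (P.basis.u i) = c x.1 i from
        congrFun (P.basis.co_emb (c x.1)) i]
    have hu' : hb (P.basis.u i) (Y x.1 + s x.2 • P.B) = c x.1 i ^ 2 := by
      rw [hb_add_right hK, hb_smul_right, P.basis.orth, mul_zero, add_zero, hu]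
    have hBY : hb P.B (Y x.1) = 0 := (hb_eq_zero_comm hK).mp h2
    rw [Subgroup.coe_mul, act_mul, tv_act hK h1'.2, tv_act hK h1.2, hu', hb_add_left, hb_smul_left,
      hb_add_left, hb_smul_left, h1.2, hBY, mul_zero, add_zero, mul_zero, add_zero, hu, smul_add,
      smul_smul, show P.basis.u i + (c x.1 i ^ 2 • Y x.1 + (c x.1 i ^ 2 * s x.2) • P.B) +
        c x.1 i ^ 2 • Y x.1 = P.basis.u i + (c x.1 i ^ 2 * s x.2) • P.B +
        (c x.1 i ^ 2 • Y x.1 + c x.1 i ^ 2 • Y x.1) by abel, vec_add_self hK, add_zero,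
      mul_comm (c x.1 i ^ 2)]
  let S : Set (Fin 4 → K) := {f | ∃ g ∈ E0, T g f}
  have Sadd : ∀ {f f'}, f ∈ S → f' ∈ S → f + f' ∈ S := fun ⟨g, hg, h⟩ ⟨g', hg', h'⟩ =>
    ⟨g * g', mul_mem hg hg', Tmul _ _ _ _ h h'⟩
  have hall4 : ∀ t : K, t = 0 ∨ t = 1 ∨ t = o ∨ t = o ^ 2 := fun t => by
    by_cases q : t = 0
    · exact Or.inl q
    right
    have : (t - 1) * (t - o) * (t - o ^ 2) = 0 := by
      linear_combination pow_three hK q + (-t ^ 2 + o * t) * ho + ((1 : K) - o) * ho
    rcases mul_eq_zero.mp this with q' | q'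
    · rcases mul_eq_zero.mp q' with q'' | q''
      · exact Or.inl (sub_eq_zero.mp q'')
      · exact Or.inr (Or.inl (sub_eq_zero.mp q''))
    · exact Or.inr (Or.inr (sub_eq_zero.mp q'))
  have e2 := two_zero hK
  have Sline : ∀ (i : Fin 4) (t : K), (fun k => t * c i k ^ 2) ∈ S := by
    intro i t
    have h1 : (fun k => (1 : K) * c i k ^ 2) ∈ S := ⟨_, genmem (i, 0), Tgen (i, 0)⟩
    have ho' : (fun k => o * c i k ^ 2) ∈ S := ⟨_, genmem (i, 1), Tgen (i, 1)⟩
    rcases hall4 t with rfl | rfl | rfl | rfl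
    · exact ⟨1, one_mem _, by
        rw [show (fun k => (0 : K) * c i k ^ 2) = 0 from funext fun k => zero_mul _]; exact Tone⟩
    · exact h1
    · exact ho'
    · have e : (fun k => o ^ 2 * c i k ^ 2) =
          (fun k => (1 : K) * c i k ^ 2) + fun k => o * c i k ^ 2 := funext fun k => by
        simp only [Pi.add_apply]
        linear_combination c i k ^ 2 * ho - (1 + o) * c i k ^ 2 * e2
      rw [e]; exact Sadd h1 ho'
  have Sall : ∀ f, f ∈ S := by
    intro f
    have key : ∀ x y : K, ∃ p q : K, p + q = x ∧ p + q * o ^ 2 = y := fun x y => by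
      refine ⟨x + (x + y) * o ^ 2, (x + y) * o ^ 2, ?_, ?_⟩
      · linear_combination (x + y) * o ^ 2 * e2
      · have h4 : o ^ 2 * o ^ 2 = o := by rw [← pow_add, pow_four hK]
        linear_combination (x + y) * h4 + (x + y) * ho - y * e2
    obtain ⟨p, q, h1, h2⟩ := key (f 0) (f 1)
    obtain ⟨p', q', h3, h4⟩ := key (f 2) (f 3)
    have : f = (fun k => p * c 0 k ^ 2) + (fun k => q * c 1 k ^ 2) + (fun k => p' * c 2 k ^ 2) +
        fun k => q' * c 3 k ^ 2 := by
      funext k
      fin_cases k <;> simp [c, h1, h2, h3, h4]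
    rw [this]
    exact Sadd (Sadd (Sadd (Sline 0 p) (Sline 1 q)) (Sline 2 p')) (Sline 3 q')
  have hcover : ∀ g ∈ P.E, g ∈ E0 ∨ a * g ∈ E0 := by
    intro g hg
    obtain ⟨f, hf⟩ := Tex g hg
    obtain ⟨g', hg', hf'⟩ := Sall f
    have h0 : T (g * g') 0 := by
      have := Tmul _ _ _ _ hf hf'
      rwa [show f + f = 0 from funext fun i => add_self_zero hK _] at this
    obtain ⟨k, hk, -⟩ := h0 0
    have hV : g * g' ∈ P.V := by
      rw [← hk]
      refine P.mem_V_of_lift k (P.basis.fix_perp hK fun x hx => ?_)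
      rw [P.basis.decomp x hx, act_add, act_smul,
        show act (P.liftB k).1 P.B = P.B from (P.liftB k).2]
      congr 1
      simp only [act, Matrix.mulVec_sum, Matrix.mulVec_smul]
      refine Finset.sum_congr rfl fun i _ => ?_
      obtain ⟨k', hk', hi⟩ := h0 i
      rw [show k' = k from Subtype.ext (hk'.trans hk.symm), Pi.zero_apply, zero_smul, add_zero] at hi
      exact congrArg (hb x (P.basis.u i) • ·) hi
    have e : g = g * g' * g'⁻¹ := by group
    have hab : ∀ v ∈ P.V, v ∈ E0 ∨ a * v ∈ E0 := by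
      intro v hv
      rcases P.mem_V.mp hv with q | q | q | q <;> rw [q]
      · exact Or.inl (one_mem _)
      · exact Or.inr (by rw [htt.sq a P.ha]; exact one_mem _)
      · exact Or.inr jE0
      · exact Or.inl jE0
    rcases hab _ hV with q | q
    · left; rw [e]; exact mul_mem q (inv_mem hg')
    · right; rw [e, ← mul_assoc]; exact mul_mem q (inv_mem hg')
  have hsub : (P.E : Set G) ⊆ (E0 : Set G) ∪ (fun g => a * g) '' (E0 : Set G) := by
    intro g hg
    rcases hcover g hg with q | q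
    · exact Or.inl q
    · exact Or.inr ⟨a * g, q, by show a * (a * g) = g; rw [htt.cancel P.ha]⟩
  have hcardE : (P.E : Set G).ncard = 2 ^ 10 := by
    rw [← Nat.card_coe_set_eq]; exact P.card_E
  have hcard : Nat.card E0 = 2 ^ 9 ∧ a ∉ E0 := by
    have h1 := (Set.ncard_le_ncard hsub (Set.toFinite _)).trans
      ((Set.ncard_union_le _ _).trans (Nat.add_le_add_left (Set.ncard_image_le (Set.toFinite _)) _))
    have hn : (E0 : Set G).ncard = Nat.card E0 := (Nat.card_coe_set_eq _).symm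
    rw [hcardE, hn] at h1
    refine ⟨by omega, fun ha0 => ?_⟩
    have : (P.E : Set G) ⊆ (E0 : Set G) := fun g hg => by
      rcases hcover g hg with q | q
      · exact q
      · rw [show g = a * (a * g) from (htt.cancel P.ha g).symm]; exact mul_mem ha0 q
    have h2 := Set.ncard_le_ncard this (Set.toFinite _)
    rw [hcardE, hn] at h2
    omega
  obtain ⟨hcard, haE0⟩ := hcard
  -- centre, commutators and squares
  have j1 : j ≠ 1 := fun q => P.hbm.2.1 (by
    have := eq_inv_of_mul_eq_one_left (show b * a = 1 by rw [P.hbm.2.2.symm.eq]; exact q)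
    rwa [htt.inv_eq P.ha] at this)
  have cV : ∀ x ∈ E0, x ∈ P.V → x = 1 ∨ x = j := by
    intro x hx hv
    rcases P.mem_V.mp hv with q | q | q | q
    · exact Or.inl q
    · exact absurd (q ▸ hx) haE0
    · exact absurd (show a ∈ E0 by
        rw [show a = j * b by rw [hj, mul_assoc, htt.sq b P.hbm.1, mul_one]]
        exact mul_mem jE0 (q ▸ hx)) haE0
    · exact Or.inr q
  have hp : IsPGroup 2 ↥E0 := IsPGroup.of_card hcard
  refine ⟨E0, hle, ?_, hcard, haE0, hcover⟩
  refine Cfsg.Agent.H92.isExtraspecial_of_center_two hp (ζ := ⟨j, jE0⟩)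
    (fun q => j1 (congrArg Subtype.val q))
    (fun y => Subtype.ext (P.V_cen jV (P.E_le (hle y.2))).eq) (fun x hx => ?_) (fun x y => ?_)
    (fun x => ?_) (by rw [hcard]; norm_num)
  · -- a central element commutes with every common neighbour
    have hcen : ∀ g ∈ P.E, Commute (x : G) g := by
      intro g hg
      have hxa : Commute (x : G) a := (P.mem_K2.mp (P.E_le (hle x.2))).1
      rcases hcover g hg with q | q
      · exact (congrArg Subtype.val (hx ⟨g, q⟩)).symm
      · have h1 : Commute (x : G) (a * g) := (congrArg Subtype.val (hx ⟨_, q⟩)).symm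
        have := hxa.mul_right h1
        rwa [htt.cancel P.ha] at this
    have hxV : (x : G) ∈ P.V := by
      refine P.mem_V_of_commute (P.E_le (hle x.2)) fun z hz => ?_
      obtain ⟨X, hX, hXB, hs, rfl⟩ := P.mem_common_iff.mp hz
      obtain ⟨t, ht⟩ := (P.cl_iff hX hXB hs).mp ((P.mem_E_iff.mp (hle x.2)).2 _ hz)
      have htr : ∀ r : K, r ≠ 0 → P.pt (X + t • P.B) = P.pt X ∨
          P.pt (X + t • P.B) = P.pt (X + r • P.B) := by
        intro r hr0
        obtain ⟨hXr, hXrB, hsr⟩ := P.shift hX hXB hs r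
        obtain ⟨hXt, hXtB, hst⟩ := P.shift hX hXB hs t
        have hne : P.pt X ≠ P.pt (X + r • P.B) := fun e => by
          obtain ⟨k, hk⟩ := (P.xs.sp.same hX hXr).mp e
          obtain ⟨e1, -⟩ := (indep_pair P.pB.1 hs).eq_of_pair
            (show r • P.B + (1 : K) • X = (0 : K) • P.B + k • X by
              rw [one_smul, zero_smul, zero_add, ← hk, add_comm])
          exact hr0 e1
        obtain ⟨t', ht'⟩ := (P.cl_iff hX hXB hs).mp ((P.mem_E_iff.mp (hle x.2)).2 _ hz)
        set u1 := P.pt X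
        set u2 := P.pt (X + r • P.B)
        have hc := hcen _ (P.pair_mem_E' hX hXB hs r)
        have hprod : (x : G) * u1 * (x : G)⁻¹ * ((x : G) * u2 * (x : G)⁻¹) = u1 * u2 := by
          rw [show (x : G) * u1 * (x : G)⁻¹ * ((x : G) * u2 * (x : G)⁻¹) =
            (x : G) * (u1 * u2) * (x : G)⁻¹ by group, hc.eq, mul_inv_cancel_right]
        have m1 := (P.xs.sp.mem hX).1
        have m2 := (P.xs.sp.mem hXr).1
        have c12 : Commute u1 u2 := (P.xs.sp.comm hX hXr).mpr (by
          rw [hb_add_right hK, hb_smul_right, hX.2, hXB, mul_zero, add_zero])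
        have key := unique_factor' htt P.data.ind 2 (by norm_num) (by norm_num) (u1 * u2) [u1, u2]
          [(x : G) * u1 * (x : G)⁻¹, (x : G) * u2 * (x : G)⁻¹]
          ⟨by simpa using hne, rfl, by simp [u1, u2, m1, m2, pt], by
            simp only [List.mem_cons, List.not_mem_nil, or_false]
            rintro p (rfl | rfl) q (rfl | rfl)
            exacts [Commute.refl _, c12, c12.symm, Commute.refl _], by simp⟩
          ⟨by simpa using hne, rfl, by
            simp only [List.mem_cons, List.not_mem_nil, or_false]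
            rintro p (rfl | rfl)
            exacts [htt.conj_mem _ _ m1, htt.conj_mem _ _ m2], by
            simp only [List.mem_cons, List.not_mem_nil, or_false]
            rintro p (rfl | rfl) q (rfl | rfl)
            exacts [Commute.refl _, commute_conj.mpr c12, commute_conj.mpr c12.symm, Commute.refl _],
            by simpa using hprod⟩
        have := (key ((x : G) * u1 * (x : G)⁻¹)).mpr (by simp)
        simp only [List.mem_cons, List.not_mem_nil, or_false] at this
        rwa [← ht] at this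
      have heq : P.pt (X + t • P.B) = P.pt X := by
        rcases htr 1 one_ne_zero with q | q
        · exact q
        rcases htr o ho0 with q' | q'
        · exact q'
        exfalso
        obtain ⟨k, hk⟩ := (P.xs.sp.same (P.shift hX hXB hs 1).1 (P.shift hX hXB hs o).1).mp
          (q.symm.trans q')
        rw [smul_add, smul_smul, mul_one, add_comm X, add_comm (k • X)] at hk
        obtain ⟨e1, e2'⟩ := (indep_pair P.pB.1 hs).eq_of_pair
          (show o • P.B + (1 : K) • X = k • P.B + k • X by rw [one_smul]; exact hk)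
        exact ho1 (e1.trans e2'.symm)
      rw [heq] at ht
      exact mul_inv_eq_iff_eq_mul.mp ht.symm
    rcases cV x x.2 hxV with q | q
    · exact Or.inl (Subtype.ext q)
    · exact Or.inr (Subtype.ext q)
  · rcases cV _ (x * y * x⁻¹ * y⁻¹).2 (P.E_comm (hle x.2) (hle y.2)).1 with q | q
    · exact Or.inl (Subtype.ext q)
    · exact Or.inr (Subtype.ext q)
  · have h := (P.E_comm (hle x.2) (hle x.2)).2
    rw [pow_two] at h
    rcases cV _ (x * x).2 h with q | q
    · exact Or.inl (Subtype.ext q)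
    · exact Or.inr (Subtype.ext q)

end PairData

end Cfsg.Agent.H93
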