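import Cfsg.Agent.H93.Pair

/-!
An element exchanging two commuting members of a class of type M(22) moves some class of common
neighbours.
-/

set_option autoImplicit false

namespace Cfsg.Agent.H93

section

variable {K : Type*} [Field K] [Fintype K] (hK : Fintype.card K = 4)

include hK

/-- the field has the elements `0`, `1`, `o`, `o ^ 2` -/
theorem sum_four {M : Type*} [AddCommMonoid M] {o : K} (ho : o ^ 2 + o + 1 = 0) (f : K → M) :
    ∑ x, f x = f 0 + f 1 + f o + f (o ^ 2) := by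
  classical
  have ho0 : o ≠ 0 := fun q => by rw [q] at ho; norm_num at ho
  have ho1 : o ≠ 1 := fun q => by
    rw [q] at ho
    exact one_ne_zero (show (1 : K) = 0 by linear_combination ho - two_zero hK)
  have h2 : o ^ 2 ≠ 0 := pow_ne_zero 2 ho0
  have h3 : o ^ 2 ≠ 1 := fun q => ho1 (sq_eq_one hK q)
  have h4 : o ≠ o ^ 2 := fun q => ho1 (mul_left_cancel₀ ho0 (by linear_combination -q))
  have hu : (Finset.univ : Finset K) = {0, 1, o, o ^ 2} :=
    (Finset.eq_univ_of_card _ (by
      rw [hK]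
      simp [ho0.symm, h2.symm, Ne.symm ho1, Ne.symm h3, h4])).symm
  rw [hu, Finset.sum_insert (by simp [ho0.symm, h2.symm]),
    Finset.sum_insert (by simp [Ne.symm ho1, Ne.symm h3]), Finset.sum_pair h4]
  simp only [add_assoc]

/-- four elements with vanishing sum and a unit sum of cubes are all the elements of the field -/
theorem bij_of_sums {u : Fin 4 → K} (h1 : ∑ i, u i = 0) (h3 : 1 + ∑ i, u i ^ 3 = 0) :
    Function.Bijective u := by
  rw [Fin.sum_univ_four] at h1 h3
  have e2 := two_zero hK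
  have key : ∀ a b c d : K, a + b + c + d = 0 → 1 + (a ^ 3 + b ^ 3 + c ^ 3 + d ^ 3) = 0 → a ≠ b := by
    rintro a b c d s1 s3 rfl
    have hcd : c = d := by linear_combination s1 - (a + d) * e2
    subst hcd
    exact one_ne_zero (show (1 : K) = 0 by linear_combination s3 - (a ^ 3 + c ^ 3) * e2)
  have k01 := key (u 0) (u 1) (u 2) (u 3) h1 h3
  have k02 := key (u 0) (u 2) (u 1) (u 3) (by linear_combination h1) (by linear_combination h3)
  have k03 := key (u 0) (u 3) (u 1) (u 2) (by linear_combination h1) (by linear_combination h3)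
  have k12 := key (u 1) (u 2) (u 0) (u 3) (by linear_combination h1) (by linear_combination h3)
  have k13 := key (u 1) (u 3) (u 0) (u 2) (by linear_combination h1) (by linear_combination h3)
  have k23 := key (u 2) (u 3) (u 0) (u 1) (by linear_combination h1) (by linear_combination h3)
  have hinj : Function.Injective u := by
    intro i j e
    fin_cases i <;> fin_cases j <;> simp at e ⊢ <;>
      first
        | exact k01 e | exact k01 e.symm | exact k02 e | exact k02 e.symm | exact k03 e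
        | exact k03 e.symm | exact k12 e | exact k12 e.symm | exact k13 e | exact k13 e.symm
        | exact k23 e | exact k23 e.symm
  rw [Fintype.bijective_iff_injective_and_card]
  exact ⟨hinj, by rw [hK, Fintype.card_fin]⟩

/-- the four points form a conic -/
theorem oval_eq {u v : Fin 4 → K} (hu : ∑ i, u i = 0) (hv : ∑ i, v i = 0)
    (hu3 : 1 + ∑ i, u i ^ 3 = 0) (hv3 : 1 + ∑ i, v i ^ 3 = 0) (huv : ∑ i, u i * v i ^ 2 = 0) :
    ∃ t m : K, t ≠ 0 ∧ (∀ i, v i = t * u i ^ 2 + m) ∧ ∀ x, ∃ i, u i = x := by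
  obtain ⟨o, ho0, ho1, ho⟩ := exists_omega hK
  have bu := bij_of_sums hK hu hu3
  have bv := bij_of_sums hK hv hv3
  let E := Equiv.ofBijective u bu
  have eE : ∀ i, E.symm (u i) = i := fun i => E.symm_apply_apply i
  let W : K → K := fun x => v (E.symm x)
  have hW : ∀ i, W (u i) = v i := fun i => congrArg v (eE i)
  have hsum : ∀ g : K → K → K, ∑ i, g (u i) (v i) = ∑ x, g x (W x) := fun g =>
    Fintype.sum_equiv E _ _ fun i => by
      show g (u i) (v i) = g (u i) (W (u i))
      rw [hW]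
  have s1 := hsum fun _ y => y
  have s2 := hsum fun x y => x * y ^ 2
  rw [hv, sum_four hK ho] at s1
  rw [huv, sum_four hK ho, zero_mul, zero_add, one_mul] at s2
  have s2' : W 1 + o ^ 2 * W o + o * W (o ^ 2) = 0 := by
    have := congrArg (fun z : K => z ^ 2) s2.symm
    simp only [sq_add hK, mul_pow, sq_sq hK, zero_pow two_ne_zero] at this
    exact this
  have e2 := two_zero hK
  refine ⟨W 1 + W 0, W 0, fun q => ?_, fun i => ?_, fun x => bu.2 x⟩
  · have : W 1 = W 0 := (add_eq_zero_iff_eq' hK).mp q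
    exact one_ne_zero (E.symm.injective (bv.1 this))
  · rw [← hW i]
    generalize u i = x
    have : x = 0 ∨ x = 1 ∨ x = o ∨ x = o ^ 2 := by
      by_cases q : x = 0
      · exact Or.inl q
      right
      have : (x - 1) * (x - o) * (x - o ^ 2) = 0 := by
        linear_combination pow_three hK q + (-x ^ 2 + o * x) * ho + ((1 : K) - o) * ho
      rcases mul_eq_zero.mp this with q' | q'
      · rcases mul_eq_zero.mp q' with q'' | q''
        · exact Or.inl (sub_eq_zero.mp q'')
        · exact Or.inr (Or.inl (sub_eq_zero.mp q''))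
      · exact Or.inr (Or.inr (sub_eq_zero.mp q'))
    rcases this with q | q | q | q <;> rw [q]
    · ring
    · linear_combination (-W 0) * e2
    · linear_combination s2' + o * s1.symm + (W 1 - W o + W 0) * ho +
        (-(o * W 1) - W 1 + W o - o * W 0 - o * W (o ^ 2) - (W 1 + W 0) * o ^ 2 - W 0) * e2
    · rw [sq_sq hK]
      linear_combination s2' + o ^ 2 * s1.symm + (-W 1 - W 0 - W (o ^ 2)) * ho +
        (o * W 1 + (o + 1) * W 0 + W (o ^ 2) - o ^ 2 * W o - (W 1 + W 0) * o - W 0) * e2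

/-- the action of a product of pairwise orthogonal transvections -/
theorem act_tv_prod : ∀ l : List (Vec K), (∀ v ∈ l, hb v v = 0) →
    (∀ v ∈ l, ∀ v' ∈ l, hb v v' = 0) → ∀ x,
    act (l.map (tv hK)).prod x = x + (l.map fun v => hb x v • v).sum := by
  intro l
  induction l with
  | nil => intro _ _ x; simp [act_one]
  | cons v l ih =>
    intro h1 h2 x
    have ih' := ih (fun w hw => h1 w (List.mem_cons_of_mem _ hw))
      (fun w hw w' hw' => h2 w (List.mem_cons_of_mem _ hw) w' (List.mem_cons_of_mem _ hw')) x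
    have hzero : hb ((l.map fun w => hb x w • w).sum) v = 0 := by
      have : ∀ m : List (Vec K), (∀ w ∈ m, w ∈ l) →
          hb ((m.map fun w => hb x w • w).sum) v = 0 := by
        intro m
        induction m with
        | nil => intro _; simp [hb_zero_left]
        | cons w m ihm =>
          intro hm
          rw [List.map_cons, List.sum_cons, hb_add_left, hb_smul_left,
            h2 w (List.mem_cons_of_mem _ (hm w List.mem_cons_self)) v List.mem_cons_self, mul_zero,
            ihm (fun z hz => hm z (List.mem_cons_of_mem _ hz)), add_zero]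
      exact this l fun _ h => h
    rw [List.map_cons, List.prod_cons, act_mul, ih', tv_act hK (h1 v List.mem_cons_self),
      hb_add_left, hzero, add_zero, List.map_cons, List.sum_cons, add_assoc, add_comm (List.sum _)]

end

variable {K : Type*} [Field K] [Fintype K] {hK : Fintype.card K = 4}

variable {G : Type*} [Group G] {D : Set G} {F : Type*} [Field F] [Fintype F] {a b : G}
  {π : ↥(Subgroup.centralizer ({a} : Set G)) →* Cfsg.PSU 6 K 2}

namespace PairData

variable (P : PairData hK D (F := F) a b π)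

include P

/-- conjugation by two members of one class -/
theorem pair_act {Y X : Vec K} (hY : IsPt Y) (hYB : hb Y P.B = 0) (hs : ¬ SamePt P.B Y)
    (hX : IsPt X) (hXB : hb X P.B = 0) (s : K) :
    P.pt Y * P.pt (Y + s • P.B) * P.pt X * (P.pt Y * P.pt (Y + s • P.B))⁻¹ =
      P.pt (X + (hb X Y * s) • P.B) := by
  have htt := P.data.core.tt
  obtain ⟨hY', hY'B, -⟩ := P.shift hY hYB hs s
  have hXY' : hb X (Y + s • P.B) = hb X Y := by
    rw [hb_add_right hK, hb_smul_right, hXB, mul_zero, add_zero]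
  have h1 := isPt_third hK hY' hX
  have e1 := P.xs.sp.third hY' hX
  have hBY : hb P.B Y = 0 := (hb_eq_zero_comm hK).mp hYB
  have v2 : hb (X + hb X (Y + s • P.B) • (Y + s • P.B)) Y = hb X Y := by
    rw [hb_add_left, hb_smul_left, hb_add_left, hb_smul_left, hY.2, hBY, mul_zero, add_zero, mul_zero,
      add_zero]
  have e2 := P.xs.sp.third hY h1
  rw [v2] at e2
  have hfin : X + hb X (Y + s • P.B) • (Y + s • P.B) + hb X Y • Y = X + (hb X Y * s) • P.B := by
    rw [hXY', smul_add, smul_smul, show X + (hb X Y • Y + (hb X Y * s) • P.B) + hb X Y • Y =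
      X + (hb X Y * s) • P.B + (hb X Y • Y + hb X Y • Y) by abel, vec_add_self hK, add_zero]
  rw [hfin] at e2
  rw [mul_inv_rev, show (P.pt Y)⁻¹ = P.pt Y from htt.inv_eq (P.xs.sp.mem hY).1, show (P.pt (Y + s • P.B))⁻¹ = P.pt (Y + s • P.B) from
    htt.inv_eq (P.xs.sp.mem hY').1]
  show P.xs.sp.pt Y * P.xs.sp.pt (Y + s • P.B) * P.xs.sp.pt X *
    (P.xs.sp.pt (Y + s • P.B) * P.xs.sp.pt Y) = _
  calc _ = P.xs.sp.pt Y * (P.xs.sp.pt (Y + s • P.B) * P.xs.sp.pt X * P.xs.sp.pt (Y + s • P.B)) *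
        P.xs.sp.pt Y := by group
    _ = _ := by rw [e1, e2]; rfl

theorem pair_mem_E' {Y : Vec K} (hY : IsPt Y) (hYB : hb Y P.B = 0) (hs : ¬ SamePt P.B Y) (s : K) :
    P.pt Y * P.pt (Y + s • P.B) ∈ P.E := by
  obtain ⟨hY', hY'B, hs'⟩ := P.shift hY hYB hs s
  have m1 := P.mem_common_iff.mpr ⟨Y, hY, hYB, hs, rfl⟩
  have m2 := P.mem_common_iff.mpr ⟨_, hY', hY'B, hs', rfl⟩
  refine P.mem_E_iff.mpr ⟨mul_mem (P.mem_K2.mpr ⟨m1.1.2.2.symm, m1.2.2.2.symm⟩)
    (P.mem_K2.mpr ⟨m2.1.2.2.symm, m2.2.2.2.symm⟩), fun z hz => ?_⟩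
  obtain ⟨X, hX, hXB, hsX, rfl⟩ := P.mem_common_iff.mp hz
  exact (P.cl_iff hX hXB hsX).mpr ⟨_, (P.pair_act hY hYB hs hX hXB s).symm⟩

/-- the class of a member as four members with product `a b` -/
theorem class_list {y : G} (hy : y ∈ common D a b) :
    ∃ q : Fin 4 → G, q 0 = y ∧ (∀ i, q i ∈ Cl D a b y) ∧ (∀ x ∈ Cl D a b y, ∃ i, q i = x) ∧
      q 0 * q 1 * q 2 * q 3 = a * b := by
  obtain ⟨Y, hY, hYB, hs, rfl⟩ := P.mem_common_iff.mp hy
  obtain ⟨o, ho0, ho1, ho⟩ := exists_omega hK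
  have key : ∀ t : K, P.pt (Y + t • P.B) ∈ Cl D a b (P.pt Y) :=
    fun t => (P.cl_iff hY hYB hs).mpr ⟨t, rfl⟩
  refine ⟨![P.pt Y, P.pt (Y + (1 : K) • P.B), P.pt (Y + (o * 1) • P.B), P.pt (Y + (o ^ 2 * 1) • P.B)],
    rfl, fun i => ?_, fun x hx => ?_, P.class_prod hY hYB hs one_ne_zero ho⟩
  · fin_cases i
    exacts [⟨hy, fun _ _ q => q⟩, key _, key _, key _]
  · obtain ⟨t, rfl⟩ := (P.cl_iff hY hYB hs).mp hx
    by_cases q : t = 0
    · exact ⟨0, by simp [q]⟩
    have : (t - 1) * (t - o) * (t - o ^ 2) = 0 := by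
      linear_combination pow_three hK q + (-t ^ 2 + o * t) * ho + ((1 : K) - o) * ho
    rcases mul_eq_zero.mp this with q' | q'
    · rcases mul_eq_zero.mp q' with q'' | q''
      · exact ⟨1, by simp [sub_eq_zero.mp q'']⟩
      · exact ⟨2, by simp [sub_eq_zero.mp q'']⟩
    · exact ⟨3, by simp [sub_eq_zero.mp q']⟩

/-- an element exchanging the pair moves a class -/
theorem no_swap (hext : ∀ x ∈ D, ∃ π' : ↥(Subgroup.centralizer ({x} : Set G)) →* Cfsg.PSU 6 K 2,
      TwoExt π' ⟨x, mem_cent (Commute.refl x)⟩) {g : G} (hga : g * a * g⁻¹ = b)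
    (hgb : g * b * g⁻¹ = a) : ¬ ∀ z ∈ common D a b, g * z * g⁻¹ ∈ Cl D a b z := by
  intro hall
  have h := P.data
  have htt := h.core.tt
  -- a common neighbour fixed by a modified element
  obtain ⟨Z, hZi, hZB⟩ : ∃ Z : Vec K, hb Z Z = 0 ∧ hb Z P.B = 0 ∧ ¬ SamePt P.B Z := by
    refine ⟨P.basis.emb ![1, 1, 0, 0], ?_, P.basis.emb_B _, fun ⟨r, hr⟩ => ?_⟩
    · rw [P.basis.hb_eq_co hK (P.basis.emb_B _) (P.basis.emb_B _), P.basis.co_emb, hb4_eq,
        Fin.sum_univ_four]
      simp [add_self_zero hK]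
    · have := congrArg (fun x => P.basis.co x 0) hr
      rw [P.basis.co_emb, P.basis.co_smul, P.basis.co_B hK] at this
      simp at this
  obtain ⟨hZB, hs⟩ := hZB
  have hZ : IsPt Z := ⟨fun e => hs ⟨0, by rw [e, zero_smul]⟩, hZi⟩
  obtain ⟨t, ht⟩ := (P.cl_iff hZ hZB hs).mp (hall _ (P.mem_common_iff.mpr ⟨Z, hZ, hZB, hs, rfl⟩))
  obtain ⟨Y, hY, hYB', hYZ⟩ := iso_two hK P.pB.1 hs 0 1
  have hYp := pt_of_hb_eq_one hY hYZ
  have hsY : ¬ SamePt P.B Y := fun ⟨r, hr⟩ => by
    rw [hr, hb_smul_left, (hb_eq_zero_comm hK).mp hZB, mul_zero] at hYZ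
    exact zero_ne_one hYZ
  set e := P.pt Y * P.pt (Y + t • P.B) with he
  have heE : e ∈ P.E := P.pair_mem_E' hYp hYB' hsY t
  obtain ⟨hZt, hZtB, hst⟩ := P.shift hZ hZB hs t
  have eZ : e * P.pt (Z + t • P.B) * e⁻¹ = P.pt Z := by
    rw [he, P.pair_act hYp hYB' hsY hZt hZtB, hb_add_left, hb_smul_left,
      (hb_eq_zero_comm hK).mp hYB', mul_zero, add_zero, hb_one_comm hK hYZ, one_mul, add_assoc,
      vec_add_self hK, add_zero]
  set k := e * g with hk
  set z := P.pt Z with hz
  obtain ⟨efa, efb⟩ := P.conj_fix (P.E_le heE)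
  have ka : k * a * k⁻¹ = b := by
    calc k * a * k⁻¹ = e * (g * a * g⁻¹) * e⁻¹ := by rw [hk]; group
      _ = b := by rw [hga, efb]
  have kb : k * b * k⁻¹ = a := by
    calc k * b * k⁻¹ = e * (g * b * g⁻¹) * e⁻¹ := by rw [hk]; group
      _ = a := by rw [hgb, efa]
  have kz : k * z * k⁻¹ = z := by
    calc k * z * k⁻¹ = e * (g * z * g⁻¹) * e⁻¹ := by rw [hk]; group
      _ = z := by rw [← ht, eZ]
  have kall : ∀ w ∈ common D a b, k * w * k⁻¹ ∈ Cl D a b w := by
    intro w hw
    have h1 := hall w hw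
    have h2 := (P.mem_E_iff.mp heE).2 _ h1.1
    rw [show k * w * k⁻¹ = e * (g * w * g⁻¹) * e⁻¹ by rw [hk]; group]
    exact cl_trans h1 h2
  clear_value k
  clear hk eZ ht heE efa efb hga hgb hall
  -- the space at `z`
  have hzc : z ∈ common D a b := P.mem_common_iff.mpr ⟨Z, hZ, hZB, hs, rfl⟩
  clear_value z
  clear hz hYB' hYZ hsY hYp hY hZt hZtB hst hs hZ hZB hZi
  have hzD := hzc.1.1
  obtain ⟨πz, hez⟩ := hext z hzD
  obtain ⟨xz⟩ := exists_extSpace hK h.core hzD hez
  have haz : a ∈ nb D z := nb_symm P.ha hzc.1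
  have hbz : b ∈ nb D z := nb_symm P.hbm.1 hzc.2
  obtain ⟨A, hA, eA⟩ := xz.sp.surj a haz
  obtain ⟨Bz, hB, eB⟩ := xz.sp.surj b hbz
  have hAB : hb A Bz = 0 := (xz.sp.comm hA hB).mp (by rw [eA, eB]; exact P.hbm.2.2)
  have hBA := (hb_eq_zero_comm hK).mp hAB
  have hsAB : ¬ SamePt A Bz := fun q => P.hbm.2.1 (by
    rw [← eA, ← eB]; exact ((xz.sp.same hA hB).mpr q).symm)
  obtain ⟨f, hf, fA, fB⟩ := iso_two hK hA.1 hsAB 0 1
  obtain ⟨W, W', fr⟩ := exists_frame hK hA hB.2 hf (hb_one_comm hK fB) hAB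
    ((hb_eq_zero_comm hK).mp fA)
  have hW : IsPt W := pt_of_hb_eq_one fr.e22 fr.ef2
  have hAW : hb A W = 0 := fr.pe2
  have hWA := (hb_eq_zero_comm hK).mp hAW
  have hBW : hb Bz W = 0 := fr.ee
  have hWB := (hb_eq_zero_comm hK).mp hBW
  have hli : LinearIndependent K (Fin.snoc ![A, Bz] W) := by
    refine linearIndependent_finSnoc.mpr ⟨indep_pair hA.1 hsAB, fun q => ?_⟩
    obtain ⟨c, hc⟩ := (Submodule.mem_span_range_iff_exists_fun K).mp q
    simp only [Fin.sum_univ_two, Matrix.cons_val_zero, Matrix.cons_val_one] at hc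
    have := fr.ef2
    rw [← hc, hb_add_left, hb_smul_left, hb_smul_left, fr.pf2, fr.ef, mul_zero, mul_zero, add_zero]
      at this
    exact zero_ne_one this
  -- the points of the plane off the line
  let p : K → K → Vec K := fun u v => u • A + v • Bz + W
  have plane : ∀ a₁ b₁ c₁ a₂ b₂ c₂ : K,
      hb (a₁ • A + b₁ • Bz + c₁ • W) (a₂ • A + b₂ • Bz + c₂ • W) = 0 :=
    hb_comb3 hK hA.2 hB.2 hW.2 hAB hAW hBW
  have coef : ∀ a₁ b₁ c₁ : K, a₁ • A + b₁ • Bz + c₁ • W = 0 → a₁ = 0 ∧ b₁ = 0 ∧ c₁ = 0 := by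
    intro a₁ b₁ c₁ e0
    have := Fintype.linearIndependent_iff.mp hli (Fin.snoc ![a₁, b₁] c₁) (by
      rw [Fin.sum_univ_castSucc, Fin.sum_univ_two]
      simp only [Fin.snoc_castSucc, Fin.snoc_last, Matrix.cons_val_zero, Matrix.cons_val_one]
      exact e0)
    have e1 := this (0 : Fin 2).castSucc
    have e2 := this (1 : Fin 2).castSucc
    have e3 := this (Fin.last 2)
    rw [Fin.snoc_castSucc] at e1 e2
    rw [Fin.snoc_last] at e3
    simp only [Matrix.cons_val_zero, Matrix.cons_val_one] at e1 e2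
    exact ⟨e1, e2, e3⟩
  have pp : ∀ u v, IsPt (p u v) := fun u v => by
    refine ⟨fun q => ?_, ?_⟩
    · have := (coef u v 1 (by rw [one_smul]; exact q)).2.2
      exact one_ne_zero this
    · have := plane u v 1 u v 1
      rwa [one_smul] at this
  have pperp : ∀ u v, hb (p u v) A = 0 ∧ hb (p u v) Bz = 0 := fun u v => by
    constructor <;> simp [p, hb_add_left, hb_smul_left, hA.2, hB.2, hAB, hBA, hWA, hWB]
  have porth : ∀ u v u' v', hb (p u v) (p u' v') = 0 := fun u v u' v' => by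
    have := plane u v 1 u' v' 1
    rwa [one_smul] at this
  have pinj : ∀ {u v u' v'}, xz.sp.pt (p u v) = xz.sp.pt (p u' v') → u = u' ∧ v = v' := by
    intro u v u' v' q
    obtain ⟨r, hr⟩ := (xz.sp.same (pp _ _) (pp _ _)).mp q
    have e0 : (r * u + u') • A + (r * v + v') • Bz + (r + 1) • W = 0 := by
      calc (r * u + u') • A + (r * v + v') • Bz + (r + 1) • W = r • p u v + p u' v' := by
            simp only [p, smul_add, smul_smul, add_smul, one_smul]; abel
        _ = 0 := by rw [← hr]; exact vec_add_self hK _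
    obtain ⟨h1, h2, h3⟩ := coef _ _ _ e0
    rw [(add_eq_zero_iff_eq' hK).mp h3, one_mul] at h1 h2
    exact ⟨(add_eq_zero_iff_eq' hK).mp h1, (add_eq_zero_iff_eq' hK).mp h2⟩
  have pmem : ∀ u v, xz.sp.pt (p u v) ∈ common D a b := fun u v => by
    obtain ⟨q1, q2⟩ := pperp u v
    have hm := xz.sp.mem (pp u v)
    have c1 : Commute (xz.sp.pt (p u v)) a := by
      have := (xz.sp.comm (pp u v) hA).mpr q1; rwa [eA] at this
    have c2 : Commute (xz.sp.pt (p u v)) b := by
      have := (xz.sp.comm (pp u v) hB).mpr q2; rwa [eB] at this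
    refine ⟨⟨hm.1, fun q => ?_, c1.symm⟩, ⟨hm.1, fun q => ?_, c2.symm⟩⟩
    · rw [← eA] at q
      obtain ⟨r, hr⟩ := (xz.sp.same hA (pp u v)).mp q.symm
      have := (coef (u + r) v 1 (by
        rw [add_smul, one_smul, ← hr]
        show u • A + (u • A + v • Bz + W) + v • Bz + W = 0
        rw [show u • A + (u • A + v • Bz + W) + v • Bz + W =
          (u • A + u • A) + (v • Bz + v • Bz) + (W + W) by abel]
        simp only [vec_add_self hK])).2.2
      exact one_ne_zero this
    · rw [← eB] at q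
      obtain ⟨r, hr⟩ := (xz.sp.same hB (pp u v)).mp q.symm
      have := (coef u (v + r) 1 (by
        rw [add_smul, one_smul, ← hr]
        show u • A + (v • Bz + (u • A + v • Bz + W)) + W = 0
        rw [show u • A + (v • Bz + (u • A + v • Bz + W)) + W =
          (u • A + u • A) + (v • Bz + v • Bz) + (W + W) by abel]
        simp only [vec_add_self hK])).2.2
      exact one_ne_zero this
  -- what commutes with a member of the plane through the class
  have inplane : ∀ u v, ∀ y ∈ Cl D a b (xz.sp.pt (p u v)), ∃ u' v', xz.sp.pt (p u' v') = y := by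
    intro u v y hy
    have hyz : Commute z y := hy.2 z hzc (xz.sp.mem (pp u v)).2.2
    have perpall : ∀ X, IsPt X → hb X A = 0 → hb X Bz = 0 →
        xz.sp.pt X = a ∨ xz.sp.pt X = b ∨ xz.sp.pt X ∈ common D a b := by
      intro X hX xA xB
      by_cases q1 : xz.sp.pt X = a
      · exact Or.inl q1
      by_cases q2 : xz.sp.pt X = b
      · exact Or.inr (Or.inl q2)
      have c1 := (xz.sp.comm hX hA).mpr xA
      have c2 := (xz.sp.comm hX hB).mpr xB
      rw [eA] at c1
      rw [eB] at c2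
      exact Or.inr (Or.inr ⟨⟨(xz.sp.mem hX).1, q1, c1.symm⟩, ⟨(xz.sp.mem hX).1, q2, c2.symm⟩⟩)
    -- a member all of whose commuting relations are those of the line cannot be in the class
    have notline : ∀ y' ∈ Cl D a b (xz.sp.pt (p u v)),
        (∀ X, IsPt X → hb X A = 0 → hb X Bz = 0 → Commute (xz.sp.pt X) y') → False := by
      intro y' hy' hcm
      have hback := P.cl_symm (pmem u v) hy'
      have hli2 := indep_pair hA.1 hsAB
      have hmem := mem_of_orth hK hli2 (fun i j => by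
          fin_cases i <;> fin_cases j <;> simp [hA.2, hB.2, hAB, hBA]) (pp u v).2
        (fun i => by fin_cases i <;> simp [(pperp u v).1, (pperp u v).2])
        (fun X hX hXl => by
          have xA : hb X A = 0 := hXl 0
          have xB : hb X Bz = 0 := hXl 1
          refine (xz.sp.comm hX (pp u v)).mp ?_
          rcases perpall X hX xA xB with q | q | q
          · rw [q]; exact (pmem u v).1.2.2
          · rw [q]; exact (pmem u v).2.2.2
          · exact hback.2 _ q (hcm X hX xA xB))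
      obtain ⟨c, hc⟩ := (Submodule.mem_span_range_iff_exists_fun K).mp hmem
      simp only [Fin.sum_univ_two, Matrix.cons_val_zero, Matrix.cons_val_one] at hc
      have := (coef (c 0 + u) (c 1 + v) 1 (by
        rw [add_smul, add_smul, one_smul,
          show c 0 • A + u • A + (c 1 • Bz + v • Bz) + W = (c 0 • A + c 1 • Bz) + p u v by
            simp only [p]; abel, hc]
        exact vec_add_self hK _)).2.2
      exact one_ne_zero this
    have hyne : y ≠ z := by
      intro q
      refine notline y hy fun X hX xA xB => ?_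
      rw [q]
      exact (xz.sp.mem hX).2.2.symm
    obtain ⟨Q, hQ, rfl⟩ := xz.sp.surj y ⟨hy.1.1.1, hyne, hyz⟩
    have hQA : hb Q A = 0 := (xz.sp.comm hQ hA).mp (by rw [eA]; exact hy.1.1.2.2.symm)
    have hQB : hb Q Bz = 0 := (xz.sp.comm hQ hB).mp (by rw [eB]; exact hy.1.2.2.2.symm)
    have hQP : hb Q (p u v) = 0 := (xz.sp.comm hQ (pp u v)).mp
      (hy.2 _ (pmem u v) (Commute.refl _)).symm
    have hli3 : LinearIndependent K (Fin.snoc ![A, Bz] (p u v)) := by
      refine linearIndependent_finSnoc.mpr ⟨indep_pair hA.1 hsAB, fun q => ?_⟩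
      obtain ⟨c, hc⟩ := (Submodule.mem_span_range_iff_exists_fun K).mp q
      simp only [Fin.sum_univ_two, Matrix.cons_val_zero, Matrix.cons_val_one] at hc
      have := (coef (c 0 + u) (c 1 + v) 1 (by
        rw [add_smul, add_smul, one_smul,
          show c 0 • A + u • A + (c 1 • Bz + v • Bz) + W = (c 0 • A + c 1 • Bz) + p u v by
            simp only [p]; abel, hc]
        exact vec_add_self hK _)).2.2
      exact one_ne_zero this
    have hmem := mem_of_orth hK hli3 (fun i j => by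
        have o1 := (hb_eq_zero_comm hK).mp (pperp u v).1
        have o2 := (hb_eq_zero_comm hK).mp (pperp u v).2
        refine Fin.lastCases ?_ (fun i => ?_) i <;> refine Fin.lastCases ?_ (fun j => ?_) j
        · rw [Fin.snoc_last]; exact (pp u v).2
        · rw [Fin.snoc_last, Fin.snoc_castSucc]
          fin_cases j <;> simp [(pperp u v).1, (pperp u v).2]
        · rw [Fin.snoc_last, Fin.snoc_castSucc]
          fin_cases i <;> simp [o1, o2]
        · rw [Fin.snoc_castSucc, Fin.snoc_castSucc]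
          fin_cases i <;> fin_cases j <;> simp [hA.2, hB.2, hAB, hBA]) hQ.2
      (fun i => by
        refine Fin.lastCases ?_ (fun i => ?_) i
        · rw [Fin.snoc_last]; exact hQP
        · rw [Fin.snoc_castSucc]; fin_cases i <;> simp [hQA, hQB])
      (fun X hX hXl => by
        have xA := hXl (0 : Fin 2).castSucc
        have xB := hXl (1 : Fin 2).castSucc
        have xP := hXl (Fin.last 2)
        rw [Fin.snoc_castSucc] at xA xB
        rw [Fin.snoc_last] at xP
        refine (xz.sp.comm hX hQ).mp ?_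
        rcases perpall X hX xA xB with q | q | q
        · rw [q]; exact hy.1.1.2.2
        · rw [q]; exact hy.1.2.2.2
        · exact hy.2 _ q ((xz.sp.comm hX (pp u v)).mpr xP))
    obtain ⟨c, hc⟩ := (Submodule.mem_span_range_iff_exists_fun K).mp hmem
    rw [Fin.sum_univ_castSucc, Fin.sum_univ_two] at hc
    simp only [Fin.snoc_castSucc, Fin.snoc_last, Matrix.cons_val_zero, Matrix.cons_val_one] at hc
    set c0 := c (0 : Fin 2).castSucc
    set c1 := c (1 : Fin 2).castSucc
    set r := c (Fin.last 2)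
    by_cases r0 : r = 0
    · exfalso
      refine notline _ hy fun X hX xA xB => (xz.sp.comm hX hQ).mpr ?_
      rw [← hc, r0, zero_smul, add_zero, hb_add_right hK, hb_smul_right, hb_smul_right, xA, xB,
        mul_zero, mul_zero, add_zero]
    refine ⟨r⁻¹ * c0 + u, r⁻¹ * c1 + v, (xz.sp.same (pp _ _) hQ).mpr ⟨r, ?_⟩⟩
    simp only [p, smul_add, smul_smul, add_smul, ← mul_assoc, mul_inv_cancel₀ r0, one_mul]
    rw [← hc]
    simp only [p, smul_add, smul_smul]
    abel
  -- a class is a conic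
  have conic : ∀ u v, ∃ t m, t ≠ 0 ∧ v = t * u ^ 2 + m ∧
      (∀ x, xz.sp.pt (p x (t * x ^ 2 + m)) ∈ Cl D a b (xz.sp.pt (p u v))) ∧
      ∀ y ∈ Cl D a b (xz.sp.pt (p u v)), ∃ x, xz.sp.pt (p x (t * x ^ 2 + m)) = y := by
    intro u v
    obtain ⟨q, q0, qmem, qall, qprod⟩ := P.class_list (pmem u v)
    choose U V hUV using fun i => inplane u v (q i) (qmem i)
    have qD : ∀ i, q i ∈ nb D z := fun i => by rw [← hUV i]; exact xz.sp.mem (pp _ _)
    let Ys : List (Vec K) := [A, Bz, p (U 0) (V 0), p (U 1) (V 1), p (U 2) (V 2), p (U 3) (V 3)]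
    have memP : ∀ Y ∈ Ys, ∃ a₁ b₁ c₁ : K, Y = a₁ • A + b₁ • Bz + c₁ • W := by
      simp only [Ys, List.mem_cons, List.not_mem_nil, or_false]
      rintro Y (rfl | rfl | rfl | rfl | rfl | rfl)
      exacts [⟨1, 0, 0, by simp⟩, ⟨0, 1, 0, by simp⟩, ⟨U 0, V 0, 1, by simp [p]⟩,
        ⟨U 1, V 1, 1, by simp [p]⟩, ⟨U 2, V 2, 1, by simp [p]⟩, ⟨U 3, V 3, 1, by simp [p]⟩]
    have yorth : ∀ Y ∈ Ys, ∀ Y' ∈ Ys, hb Y Y' = 0 := fun Y hY Y' hY' => by
      obtain ⟨a₁, b₁, c₁, rfl⟩ := memP Y hY
      obtain ⟨a₂, b₂, c₂, rfl⟩ := memP Y' hY'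
      exact plane _ _ _ _ _ _
    have hG : a * b * (q 0 * q 1 * q 2 * q 3) = 1 := by
      rw [qprod, show a * b * (a * b) = a * (b * a) * b by group, P.hbm.2.2.symm.eq,
        show a * (a * b) * b = (a * a) * (b * b) by group, htt.sq a P.ha, htt.sq b P.hbm.1, one_mul]
    have hq : ∀ i, πz ⟨q i, mem_cent (qD i).2.2⟩ = ptv hK (p (U i) (V i)) := fun i => by
      rw [← xz.eq (pp (U i) (V i))]
      exact congrArg πz (Subtype.ext (hUV i).symm)
    have ea : πz ⟨a, mem_cent haz.2.2⟩ = ptv hK A := by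
      rw [← xz.eq hA]; exact congrArg πz (Subtype.ext eA.symm)
    have eb : πz ⟨b, mem_cent hbz.2.2⟩ = ptv hK Bz := by
      rw [← xz.eq hB]; exact congrArg πz (Subtype.ext eB.symm)
    have hmk : (QuotientGroup.mk (Ys.map (tv hK)).prod : Cfsg.PSU 6 K 2) = 1 := by
      have e1 : πz (⟨a, mem_cent haz.2.2⟩ * (⟨b, mem_cent hbz.2.2⟩ * (⟨q 0, mem_cent (qD 0).2.2⟩ *
          (⟨q 1, mem_cent (qD 1).2.2⟩ * (⟨q 2, mem_cent (qD 2).2.2⟩ *
            ⟨q 3, mem_cent (qD 3).2.2⟩))))) = 1 := by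
        rw [← map_one πz]
        exact congrArg πz (Subtype.ext (by simpa [mul_assoc] using hG))
      simp only [map_mul, ea, eb, hq] at e1
      simpa [Ys, ptv, QuotientGroup.mk_mul] using e1
    have hiso : ∀ Y ∈ Ys, hb Y Y = 0 := fun Y hY => yorth Y hY Y hY
    have hact := act_tv_prod hK Ys hiso yorth
    have hone : (Ys.map (tv hK)).prod = 1 := by
      refine central_sq_eq_one hK ((QuotientGroup.eq_one_iff _).mp hmk) (act_ext fun x => ?_)
      rw [act_mul, act_one, hact x, hact]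
      have hz0 : ∀ Y ∈ Ys, hb ((Ys.map fun w => hb x w • w).sum) Y = 0 := by
        intro Y hY
        simp only [Ys, List.map_cons, List.map_nil, List.sum_cons, List.sum_nil, hb_add_left,
          hb_smul_left, hb_zero_left]
        rw [yorth A (by simp [Ys]) Y hY, yorth Bz (by simp [Ys]) Y hY,
          yorth (p (U 0) (V 0)) (by simp [Ys]) Y hY, yorth (p (U 1) (V 1)) (by simp [Ys]) Y hY,
          yorth (p (U 2) (V 2)) (by simp [Ys]) Y hY, yorth (p (U 3) (V 3)) (by simp [Ys]) Y hY]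
        simp
      rw [show (Ys.map fun w => hb (x + (Ys.map fun w => hb x w • w).sum) w • w) =
        Ys.map fun w => hb x w • w from List.map_congr_left fun w hw => by
          rw [hb_add_left, hz0 w hw, add_zero]]
      rw [add_assoc, vec_add_self hK, add_zero]
    have eqn : ∀ α β γ : K, α + ∑ i, U i * (U i ^ 2 * α + V i ^ 2 * β + γ) = 0 ∧
        β + ∑ i, V i * (U i ^ 2 * α + V i ^ 2 * β + γ) = 0 := by
      intro α β γ
      obtain ⟨X, hX⟩ := solve hK hli (Fin.snoc ![α, β] γ)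
      have xA := hX (0 : Fin 2).castSucc
      have xB := hX (1 : Fin 2).castSucc
      have xW := hX (Fin.last 2)
      simp only [Fin.snoc_castSucc, Fin.snoc_last, Matrix.cons_val_zero, Matrix.cons_val_one]
        at xA xB xW
      have xY : ∀ i, hb X (p (U i) (V i)) = U i ^ 2 * α + V i ^ 2 * β + γ := fun i => by
        simp only [p, hb_add_right hK, hb_smul_right, xA, xB, xW]
      have := hact X
      rw [hone, act_one, left_eq_add] at this
      simp only [Ys, List.map_cons, List.map_nil, List.sum_cons, List.sum_nil, xA, xB, xY] at this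
      have hc := coef (α + ∑ i, U i * (U i ^ 2 * α + V i ^ 2 * β + γ))
        (β + ∑ i, V i * (U i ^ 2 * α + V i ^ 2 * β + γ))
        (∑ i, (U i ^ 2 * α + V i ^ 2 * β + γ)) (by
          simp only [p, Fin.sum_univ_four] at this ⊢
          linear_combination (norm := module) this)
      exact ⟨hc.1, hc.2.1⟩
    obtain ⟨a1, -⟩ := eqn 1 0 0
    obtain ⟨a2, b2⟩ := eqn 0 1 0
    obtain ⟨a3, b3⟩ := eqn 0 0 1
    simp only [mul_one, mul_zero, add_zero, zero_add] at a1 a2 a3 b2 b3
    obtain ⟨t, m, ht, hVU, hUs⟩ := oval_eq hK (u := U) (v := V) a3 b3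
      (by simpa [← pow_succ'] using a1) (by simpa [← pow_succ'] using b2) a2
    refine ⟨t, m, ht, ?_, fun x => ?_, fun y hy => ?_⟩
    · obtain ⟨e1, e2⟩ := pinj (show xz.sp.pt (p (U 0) (V 0)) = xz.sp.pt (p u v) by rw [hUV 0, q0])
      rw [← e1, ← e2]; exact hVU 0
    · obtain ⟨i, rfl⟩ := hUs x
      rw [← hVU i, hUV i]; exact qmem i
    · obtain ⟨i, rfl⟩ := qall y hy
      exact ⟨U i, by rw [← hVU i, hUV i]⟩
  -- all classes of the plane belong to one family
  obtain ⟨t, m0, ht, hm0, hC0, hA0⟩ := conic 0 0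
  have hm0' : m0 = 0 := by linear_combination -hm0
  subst hm0'
  have fam : ∀ m, ∀ y ∈ Cl D a b (xz.sp.pt (p 0 m)), ∃ x, xz.sp.pt (p x (t * x ^ 2 + m)) = y := by
    intro m y hy
    obtain ⟨t', m', ht', hm', hC, hAll⟩ := conic 0 m
    have e : m' = m := by linear_combination -hm'
    subst e
    by_cases hm : m' = 0
    · subst hm; exact hA0 y hy
    have : t' = t := by
      by_contra hne
      have h0 : t + t' ≠ 0 := fun q => hne ((add_eq_zero_iff_eq' hK).mp q).symm
      set x0 := (m' * (t + t')⁻¹) ^ 2 with hx0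
      have hx : t * x0 ^ 2 + 0 = t' * x0 ^ 2 + m' := by
        rw [hx0, sq_sq hK]
        linear_combination m' * mul_inv_cancel₀ h0 - m' * (t + t')⁻¹ * t' * two_zero hK
      have h1 := hC0 x0
      have h2 := hC x0
      rw [← hx] at h2
      have h3 : xz.sp.pt (p 0 m') ∈ Cl D a b (xz.sp.pt (p 0 0)) :=
        cl_trans h1 (P.cl_symm (pmem 0 m') h2)
      obtain ⟨x, hx'⟩ := hA0 _ h3
      replace hx' := hx'.symm
      obtain ⟨e1, e2⟩ := pinj hx'
      rw [← e1] at e2
      exact hm (by linear_combination e2)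
    rw [← this]; exact hAll y hy
  -- the element is linear at `z`
  let kC : ↥(Subgroup.centralizer ({z} : Set G)) :=
    ⟨k, Subgroup.mem_centralizer_singleton_iff.mpr (mul_inv_eq_iff_eq_mul.mp kz)⟩
  obtain ⟨gk, hgk⟩ := QuotientGroup.mk_surjective (πz kC)
  have hlin : ∀ {X}, IsPt X → k * xz.sp.pt X * k⁻¹ = xz.sp.pt (act gk X) := by
    intro X hX
    have hp := act_pt gk hX
    have hmem : k * xz.sp.pt X * k⁻¹ ∈ nb D z := by
      have := htt.nb_conj k (xz.sp.mem hX)
      rwa [kz] at this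
    refine member_inj h.core hzD hez hmem (xz.sp.mem hp) ?_
    rw [xz.eq hp, ← ptv_conj hK, hgk, ← xz.eq hX, ← map_inv, ← map_mul, ← map_mul]
    rfl
  obtain ⟨α, hα⟩ := (xz.sp.same hB (act_pt gk hA)).mp (by rw [← hlin hA, eA, eB, ka])
  obtain ⟨β, hβ⟩ := (xz.sp.same hA (act_pt gk hB)).mp (by rw [← hlin hB, eA, eB, kb])
  -- images of the points with `u = 0`
  have imgpt : ∀ m, ∃ x, xz.sp.pt (act gk (p 0 m)) = xz.sp.pt (p x (t * x ^ 2 + m)) := by
    intro m
    have h1 := kall _ (pmem 0 m)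
    rw [hlin (pp 0 m)] at h1
    exact (fam m _ h1).imp fun _ q => q.symm
  have img : ∀ m, act gk (p 0 m) = (m * β) • A + act gk W := fun m => by
    simp only [p, zero_smul, zero_add]
    rw [act_add, act_smul, hβ, smul_smul]
  obtain ⟨x0, hx0⟩ := imgpt 0
  obtain ⟨γ, hγ⟩ := (xz.sp.same (pp _ _) (act_pt gk (pp 0 0))).mp hx0.symm
  have hW' : act gk W = γ • p x0 (t * x0 ^ 2 + 0) := by
    rw [← hγ, img 0, zero_mul, zero_smul, zero_add]
  have γ0 : γ ≠ 0 := fun q => by
    rw [q, zero_smul] at hW'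
    exact hW.1 (act_eq_zero hW')
  have moved : ∀ m, t * x0 ^ 2 = t * (m * β * γ⁻¹ + x0) ^ 2 + m := by
    intro m
    obtain ⟨x, hx⟩ := imgpt m
    have e : act gk (p 0 m) = γ • p (m * β * γ⁻¹ + x0) (t * x0 ^ 2) := by
      rw [img m, hW']
      simp only [p, smul_add, smul_smul, add_smul, add_zero]
      match_scalars <;> field_simp
    have heq := (xz.sp.smul_pt γ0 (pp (m * β * γ⁻¹ + x0) (t * x0 ^ 2))).2
    rw [e, heq] at hx
    obtain ⟨e1, e2⟩ := pinj hx
    rw [e1]; exact e2
  obtain ⟨o, ho0, ho1, ho⟩ := exists_omega hK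
  have h1 := moved 1
  have ho' := moved o
  have e2 := two_zero hK
  have key : ∀ m, t * x0 ^ 2 = t * (m * β * γ⁻¹ + x0) ^ 2 + m → m ^ 2 * (t * (β * γ⁻¹) ^ 2) = m := by
    intro m hm
    rw [sq_add hK] at hm
    linear_combination -hm - m * e2
  have k1 := key 1 h1
  have ko := key o ho'
  rw [one_pow, one_mul] at k1
  rw [k1, mul_one] at ko
  exact ho1 (mul_left_cancel₀ ho0 (by linear_combination ko))

end PairData

end Cfsg.Agent.H93
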