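import Cfsg.Agent.H93.Small

/-!
Two members of a class that are joined by no path of commuting members give a system of
quadrangles on the component of one of them.
-/

set_option autoImplicit false

namespace Cfsg.Agent.H93

variable {G : Type*} [Group G] {D : Set G}

/-- the commuting relation on `D` -/
def Adj (D : Set G) (s t : G) : Prop := s ∈ D ∧ t ∈ nb D s

/-- any two members of `D` are joined by a path of commuting members -/
def Conn (D : Set G) : Prop := ∀ a ∈ D, ∀ y ∈ D, Relation.ReflTransGen (Adj D) a y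

theorem conn_of_prim (hD : Core D) (hprim : Cfsg.IsPrimitiveUnderConj D) : Conn D :=
  fun _ ha y hy => reach_all hD hprim ha y hy

/-- `y` moved by a pair of commuting members -/
def psi (y a b : G) : G := a * b * y * (a * b)

/-- `y` commutes with no member of the commuting-closed set `B` -/
structure Apart (D : Set G) (B : Set G) (y : G) : Prop where
  mem : y ∈ D
  sub : B ⊆ D
  closed : ∀ t ∈ B, ∀ s ∈ nb D t, s ∈ B
  apart : ∀ t ∈ B, ¬ Commute y t

theorem exists_apart {a y : G} (ha : a ∈ D) (hy : y ∈ D)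
    (h : ¬ Relation.ReflTransGen (Adj D) a y) :
    ∃ B, a ∈ B ∧ Apart D B y := by
  refine ⟨{t | t ∈ D ∧ Relation.ReflTransGen (Adj D) a t}, ⟨ha, .refl⟩, hy, fun t ht => ht.1,
    fun t ht s hs => ⟨hs.1, ht.2.tail ⟨ht.1, hs⟩⟩, fun t ht hc => ?_⟩
  by_cases e : y = t
  · exact h (e ▸ ht.2)
  · exact h (ht.2.tail ⟨ht.1, hy, e, hc.symm⟩)

namespace Apart

variable {B : Set G} {y : G} (hA : Apart D B y) (hD : Core D)

include hA hD

theorem psi_symm {a b : G} (hb : b ∈ nb D a) : psi y a b = psi y b a := by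
  rw [psi, psi, hb.2.2.eq]

theorem psi_eq {a b : G} (hb : b ∈ nb D a) (ha : a ∈ B) :
    psi y a b = b * (y * a * y) * b⁻¹ := by
  rw [psi, hD.tt.inv_eq hb.1, ← hD.tt.braid (hA.sub ha) hA.mem (fun h => hA.apart a ha h.symm)]
  calc a * b * y * (a * b) = (b * a) * y * (a * b) := by rw [hb.2.2.eq]
    _ = _ := by group

theorem mem_nb {a b : G} (ha : a ∈ B) (hb : b ∈ nb D a) : psi y a b ∈ nb D y := by
  have hbB := hA.closed a ha b hb
  refine ⟨hD.tt.pair_conj_mem (hA.sub ha) hb.1 hA.mem hb.2.2, fun e => ?_, ?_⟩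
  · have hw := hD.tt.sq_of_commute (hA.sub ha) hb.1 hb.2.2
    have : Commute y (a * b) := by
      show _ = _
      conv_lhs => rw [← e, psi, mul_assoc (a * b * y), hw, mul_one]
    exact hA.apart a ha (hD.tt.commute_of_commute_mul hA.mem (hA.sub ha) hb.1 hb.2.1.symm this).1
  · have := hD.tt.pair_conj_commute (hA.sub ha) hb.1 hA.mem hb.2.2 (hA.apart a ha) (hA.apart b hbB)
    rwa [← hb.2.2.eq] at this

theorem third_apart {a b : G} (ha : a ∈ B) (hb : b ∈ nb D a) : ¬ Commute (y * a * y) b := by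
  intro h
  rw [← hD.tt.braid (hA.sub ha) hA.mem (fun h => hA.apart a ha h.symm)] at h
  have hab : a * b * a = b := by
    rw [hb.2.2.eq, mul_assoc, hD.tt.sq a (hA.sub ha), mul_one]
  rw [← hab] at h
  exact hA.apart b (hA.closed a ha b hb) (invol_conj_commute (hD.tt.sq a (hA.sub ha)) h)

theorem inj {a b c : G} (ha : a ∈ B) (hb : b ∈ nb D a) (hc : c ∈ nb D a)
    (h : psi y a b = psi y a c) : b = c := by
  have hk : y * a * y ∈ D := hD.tt.conj_self_mem hA.mem (hA.sub ha)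
  rw [hA.psi_eq hD hb ha, hA.psi_eq hD hc ha, hD.tt.inv_eq hb.1, hD.tt.inv_eq hc.1,
    hD.tt.braid hb.1 hk (fun e => hA.third_apart hD ha hb e.symm),
    hD.tt.braid hc.1 hk (fun e => hA.third_apart hD ha hc e.symm)] at h
  exact mul_left_cancel (mul_right_cancel h)

theorem comm {a b c : G} (ha : a ∈ B) (hb : b ∈ nb D a) (hc : c ∈ nb D a) (hbc : Commute b c) :
    Commute (psi y a b) (psi y a c) := by
  have hk : y * a * y ∈ D := hD.tt.conj_self_mem hA.mem (hA.sub ha)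
  have h := hD.tt.pair_conj_commute hb.1 hc.1 hk hbc (hA.third_apart hD ha hb) (hA.third_apart hD ha hc)
  have h' := (commute_conj (g := b)).mpr h
  rw [hA.psi_eq hD hb ha, hA.psi_eq hD hc ha]
  convert h' using 1
  rw [hD.tt.inv_eq hc.1, hD.tt.inv_eq hb.1]
  calc c * (y * a * y) * c = (b * b) * c * (y * a * y) * c * (b * b) := by
        rw [hD.tt.sq b hb.1, one_mul, mul_one]
    _ = b * (b * c * (y * a * y) * (c * b)) * b := by group

variable [Finite G]

theorem image_pairs {a : G} (ha : a ∈ B) :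
    (fun p : G × G => (psi y a p.1, psi y a p.2)) ''
        {p : G × G | p.1 ∈ nb D a ∧ p.2 ∈ nb D a ∧ Commute p.1 p.2} =
      {p : G × G | p.1 ∈ nb D y ∧ p.2 ∈ nb D y ∧ Commute p.1 p.2} := by
  set Ea := {p : G × G | p.1 ∈ nb D a ∧ p.2 ∈ nb D a ∧ Commute p.1 p.2}
  set Ey := {p : G × G | p.1 ∈ nb D y ∧ p.2 ∈ nb D y ∧ Commute p.1 p.2}
  refine Set.eq_of_subset_of_ncard_le ?_ ?_ (Set.toFinite _)
  · rintro _ ⟨p, ⟨h1, h2, h3⟩, rfl⟩
    exact ⟨hA.mem_nb hD ha h1, hA.mem_nb hD ha h2, hA.comm hD ha h1 h2 h3⟩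
  · rw [Set.InjOn.ncard_image]
    · obtain ⟨g, hg⟩ := isConj_iff.mp (hD.cls y hA.mem a (hA.sub ha))
      refine Set.ncard_le_ncard_of_injOn (fun p => (g * p.1 * g⁻¹, g * p.2 * g⁻¹)) ?_ ?_
        (Set.toFinite _)
      · rintro p ⟨h1, h2, h3⟩
        exact ⟨hg ▸ hD.tt.nb_conj g h1, hg ▸ hD.tt.nb_conj g h2, commute_conj.mpr h3⟩
      · rintro p - q - e
        simp only [Prod.mk.injEq, mul_left_inj, mul_right_inj] at e
        exact Prod.ext e.1 e.2
    · rintro p hp q hq e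
      simp only [Prod.mk.injEq] at e
      exact Prod.ext (hA.inj hD ha hp.1 hq.1 e.1) (hA.inj hD ha hp.2.1 hq.2.1 e.2)

theorem reflect {a b c : G} (ha : a ∈ B) (hb : b ∈ nb D a) (hc : c ∈ nb D a)
    (h : Commute (psi y a b) (psi y a c)) : Commute b c := by
  have : (psi y a b, psi y a c) ∈ {p : G × G | p.1 ∈ nb D y ∧ p.2 ∈ nb D y ∧ Commute p.1 p.2} :=
    ⟨hA.mem_nb hD ha hb, hA.mem_nb hD ha hc, h⟩
  rw [← hA.image_pairs hD ha] at this
  obtain ⟨p, ⟨h1, h2, h3⟩, e⟩ := this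
  simp only [Prod.mk.injEq] at e
  rwa [hA.inj hD ha hb h1 e.1.symm, hA.inj hD ha hc h2 e.2.symm]

/-- three pairwise commuting members determine a fourth one -/
theorem quad {a b p : G} (ha : a ∈ B) (hb : b ∈ nb D a) (hp : p ∈ nb D a) (hpb : p ∈ nb D b) :
    ∃ q ∈ nb D a, psi y a q = psi y b p ∧ psi y a p = psi y b q ∧ q ∈ nb D b ∧ q ∈ nb D p := by
  have hbB := hA.closed a ha b hb
  have hpB := hA.closed a ha p hp
  have ha_b : a ∈ nb D b := nb_symm (hA.sub ha) hb
  have hy1 := hA.mem_nb hD hbB hpb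
  have : (psi y b p, psi y b p) ∈
      {x : G × G | x.1 ∈ nb D y ∧ x.2 ∈ nb D y ∧ Commute x.1 x.2} := ⟨hy1, hy1, Commute.refl _⟩
  rw [← hA.image_pairs hD ha] at this
  obtain ⟨⟨q, q2⟩, ⟨hq, -, -⟩, e⟩ := this
  simp only [Prod.mk.injEq] at e
  have e := e.1
  have cbq : Commute b q := by
    apply hA.reflect hD ha hb hq
    rw [hA.psi_symm hD hb, e]
    exact hA.comm hD hbB ha_b hpb hp.2.2
  have nbq : b ≠ q := by
    rintro rfl
    rw [hA.psi_symm hD hb] at e
    exact hp.2.1 (hA.inj hD hbB hpb ha_b e.symm)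
  have cpq : Commute p q := by
    apply hA.reflect hD ha hp hq
    rw [e, hA.psi_symm hD hp, hA.psi_symm hD hpb]
    exact hA.comm hD hpB (nb_symm (hA.sub ha) hp) (nb_symm hb.1 hpb) hb.2.2
  have npq : p ≠ q := by
    rintro rfl
    rw [hA.psi_symm hD hp, hA.psi_symm hD hpb] at e
    exact hb.2.1 (hA.inj hD hpB (nb_symm (hA.sub ha) hp) (nb_symm hb.1 hpb) e).symm
  refine ⟨q, hq, e, ?_, ⟨hq.1, nbq.symm, cbq⟩, ⟨hq.1, npq.symm, cpq⟩⟩
  have hw := hD.tt.sq_of_commute hp.1 hq.1 cpq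
  have e' := congrArg (fun x => p * q * x * (p * q)) e
  simp only [psi] at e' ⊢
  have l : p * q * (a * q * y * (a * q)) * (p * q) = a * p * y * (a * p) := by
    calc p * q * (a * q * y * (a * q)) * (p * q)
        = p * (q * a) * q * y * (a * q) * (p * q) := by group
      _ = p * a * (q * q) * y * (a * q) * (p * q) := by rw [← hq.2.2.eq]; group
      _ = p * a * y * (a * q) * (q * p) := by rw [hD.tt.sq q hq.1, mul_one, cpq.eq]
      _ = p * a * y * a * (q * q) * p := by group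
      _ = _ := by rw [hD.tt.sq q hq.1, mul_one, ← hp.2.2.eq]; group
  have r : p * q * (b * p * y * (b * p)) * (p * q) = b * q * y * (b * q) := by
    calc p * q * (b * p * y * (b * p)) * (p * q)
        = (p * q) * (b * p) * y * b * (p * p) * q := by group
      _ = (q * p) * (p * b) * y * b * q := by rw [hD.tt.sq p hp.1, mul_one, cpq.eq, hpb.2.2.eq]
      _ = q * (p * p) * b * y * b * q := by group
      _ = _ := by rw [hD.tt.sq p hp.1, mul_one, ← cbq.eq]; group
  rwa [l, r] at e'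

/-- the bijection of the common neighbourhood of two commuting members -/
theorem exists_iota {a b : G} (ha : a ∈ B) (hb : b ∈ nb D a) :
    ∃ ι : G → G, (∀ p ∈ nb D a ∩ nb D b, ι p ∈ nb D a ∩ nb D b ∧ ι (ι p) = p ∧ ι p ∈ nb D p ∧
      psi y a (ι p) = psi y b p) ∧
      ∀ p ∈ nb D a ∩ nb D b, ∀ p' ∈ nb D a ∩ nb D b, (Commute p p' ↔ Commute (ι p) (ι p')) := by
  classical
  have hbB := hA.closed a ha b hb
  let ι : G → G := fun p =>
    if h : p ∈ nb D a ∩ nb D b then (hA.quad hD ha hb h.1 h.2).choose else p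
  have hι : ∀ p (h : p ∈ nb D a ∩ nb D b), ι p ∈ nb D a ∧ psi y a (ι p) = psi y b p ∧
      psi y a p = psi y b (ι p) ∧ ι p ∈ nb D b ∧ ι p ∈ nb D p := fun p h => by
    have := (hA.quad hD ha hb h.1 h.2).choose_spec
    simp only [ι, dif_pos h]
    exact this
  refine ⟨ι, fun p hp => ?_, fun p hp p' hp' => ?_⟩
  · obtain ⟨h1, h2, h3, h4, h5⟩ := hι p hp
    obtain ⟨i1, i2, -⟩ := hι (ι p) ⟨h1, h4⟩
    exact ⟨⟨h1, h4⟩, hA.inj hD ha i1 hp.1 (i2.trans h3.symm), h5, h2⟩
  · obtain ⟨h1, h2, -⟩ := hι p hp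
    obtain ⟨j1, j2, -⟩ := hι p' hp'
    constructor
    · intro h
      apply hA.reflect hD ha h1 j1
      rw [h2, j2]
      exact hA.comm hD hbB hp.2 hp'.2 h
    · intro h
      apply hA.reflect hD hbB hp.2 hp'.2
      rw [← h2, ← j2]
      exact hA.comm hD ha h1 j1 h

end Apart

end Cfsg.Agent.H93
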