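import Cfsg.Agent.H93.Connect
import Cfsg.Agent.H93.LocalRigid

/-!
The recursion: if residues are rigid and the commuting graph is connected then every automorphism
of order two that behaves like a transposition is a transposition.
-/

set_option autoImplicit false

namespace Cfsg.Agent.H93

variable {G : Type*} [Group G] {D : Set G}

/-- automorphisms behaving like transpositions are transpositions -/
def Rigid (D : Set G) : Prop :=
  ∀ φ : MulAut G, SmallAut D φ → (∀ x ∈ D, φ x = x) ∨ ∃ u ∈ D, ∀ x ∈ D, φ x = u * x * u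

/-- two commuting members admit a triangle separating them -/
def Tri (D : Set G) : Prop :=
  ∀ d ∈ D, ∀ x ∈ nb D d, ∃ u ∈ D, ∃ w ∈ D, ¬ Commute u d ∧ ¬ Commute u x ∧ ¬ Commute w d ∧
    ¬ Commute w x ∧ ¬ Commute u w ∧ Commute (u * w * u) d ∧ ¬ Commute (u * w * u) x

/-- the local data at a member -/
structure Local (D : Set G) (a : G) : Prop where
  sep : Sep (nb D a)
  nodom : ∀ u ∈ nb D a, ∀ s ∈ nb D a, u ≠ s → Commute u s →
    ∃ t ∈ nb D a ∩ nb D s, ¬ Commute t u
  edge : ∀ u ∈ nb D a, ∃ s, s ∈ nb D a ∩ nb D u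
  rigid : ∀ φ : MulAut G, SmallAut D φ → φ a = a →
    (∀ x ∈ nb D a, φ x = x) ∨ ∃ u ∈ nb D a, ∀ x ∈ nb D a, φ x = u * x * u

/-- some member is fixed -/
theorem SmallAut.exists_fixed {φ : MulAut G} (hφ : SmallAut D φ) (hD : TT D) (hP : Pair2 D)
    (htri : Tri D) {d : G} (hd : d ∈ D) : ∃ c ∈ D, φ c = c := by
  by_contra hno
  simp only [not_exists, not_and] at hno
  have horth : ∀ x ∈ D, Commute x (φ x) := by
    intro x hx
    by_contra hn
    exact hno _ (hD.conj_self_mem hx (hφ.mem x hx)) (hφ.third_spec hD hx hn).1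
  set x := φ d with hxdef
  have hx : x ∈ D := hφ.mem d hd
  have hdx : Commute d x := horth d hd
  obtain ⟨u, hu, w, hw, nud, nux, nwd, nwx, -, ckd, nkx⟩ := htri d hd x ⟨hx, hno d hd, hdx⟩
  have hz : d * x * (d * x) = 1 := hD.sq_of_commute hd hx hdx
  have img : ∀ c ∈ D, ¬ Commute c d → ¬ Commute c x → φ c = d * x * c * (d * x) := fun c hc n1 n2 =>
    (hD.square hP hc (hφ.mem c hc) hd hx (horth c hc) hdx (Ne.symm (hno c hc)) (Ne.symm (hno d hd))
      n1 n2 (hφ.pair hD hc hd hdx)).2.symm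
  apply nkx
  have hk : φ (u * w * u) = d * x * (u * w * u) * (d * x) := by
    rw [map_mul, map_mul, img u hu nud nux, img w hw nwd nwx]
    calc d * x * u * (d * x) * (d * x * w * (d * x)) * (d * x * u * (d * x))
        = d * x * u * (d * x * (d * x)) * w * ((d * x) * (d * x)) * u * (d * x) := by group
      _ = _ := by rw [hz]; group
  have e : d * x * d * (d * x) = d := by
    rw [show d * x * d * (d * x) = d * x * (d * d) * x by group, hD.sq d hd, mul_one, mul_assoc,
      hD.sq x hx, mul_one]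
  have h1 : Commute (φ (u * w * u)) d := by
    rw [hk]
    refine invol_conj_commute hz ?_
    rw [show d * x * (d * x * (u * w * u) * (d * x)) * (d * x) =
      d * x * (d * x) * (u * w * u) * (d * x * (d * x)) by group, hz, one_mul, mul_one, e]
    exact ckd
  have h2 := h1.map φ.toMonoidHom
  simp only [MulEquiv.coe_toMonoidHom, hφ.inv] at h2
  exact h2

/-- an automorphism fixing two adjacent closed neighbourhoods is trivial on `D` -/
theorem fix_of_two (hD : Core D) (hconn : Conn D) (hsep : ∀ a ∈ D, Sep (nb D a)) {φ : MulAut G}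
    {a b : G} (ha : a ∈ D) (hb : b ∈ nb D a) (hza : φ a = a) (hna : ∀ v ∈ nb D a, φ v = v)
    (hnb : ∀ v ∈ nb D b, φ v = v) : ∀ t ∈ D, φ t = t := by
  let P : G → Prop := fun v => φ v = v ∧ ∀ w ∈ nb D v, φ w = w
  have conjmv : ∀ v ∈ D, ∀ s ∈ nb D v, ∀ t ∈ nb D v, ∃ h ∈ nbSub D v, h * s * h⁻¹ = t := by
    intro v hv
    have step : ∀ s t, s ∈ nb D v → t ∈ nb D v → ¬ Commute s t →
        ∃ h ∈ nbSub D v, h * s * h⁻¹ = t := by
      intro s t hs ht hn
      refine ⟨s * t, mul_mem (Subgroup.subset_closure hs) (Subgroup.subset_closure ht), ?_⟩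
      rw [mul_inv_rev, hD.tt.inv_eq ht.1, hD.tt.inv_eq hs.1, hD.tt.braid hs.1 ht.1 hn]
      calc t * s * t * (t * s) = t * s * (t * t) * s := by group
        _ = t := by rw [hD.tt.sq t ht.1, mul_one, mul_assoc, hD.tt.sq s hs.1, mul_one]
    intro s hs t ht
    by_cases he : s = t
    · exact ⟨1, one_mem _, by simp [he]⟩
    by_cases hc : Commute s t
    · obtain ⟨w, hw, hws, hwt⟩ := hsep v hv s hs t ht he hc
      obtain ⟨h1, m1, e1⟩ := step s w hs hw (fun q => hws q.symm)
      obtain ⟨h2, m2, e2⟩ := step w t hw ht hwt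
      exact ⟨h2 * h1, mul_mem m2 m1, by rw [← e2, ← e1]; group⟩
    · exact step s t hs ht hc
  have move : ∀ v ∈ D, P v → ∀ s ∈ nb D v, ∀ t ∈ nb D v, P s → P t := by
    intro v hv hPv s hs t ht hPs
    obtain ⟨h, hh, e⟩ := conjmv v hv s hs t ht
    have hfix : φ h = h := by
      have hle : nbSub D v ≤ φ.toMonoidHom.eqLocus (MonoidHom.id G) := by
        rw [Subgroup.closure_le]; exact fun w hw => hPv.2 w hw
      exact hle hh
    refine ⟨hPv.2 t ht, fun w hw => ?_⟩
    have hw' := hD.tt.nb_conj h⁻¹ hw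
    rw [← e, show h⁻¹ * (h * s * h⁻¹) * h⁻¹⁻¹ = s by group] at hw'
    have h1 := hPs.2 _ hw'
    simp only [map_mul, map_inv, hfix, mul_left_inj, mul_right_inj] at h1
    exact h1
  have hPa : P a := ⟨hza, hna⟩
  have hPb : P b := ⟨hna b hb, hnb⟩
  intro t ht
  have hall : ∀ t, Relation.ReflTransGen (Adj D) a t → P t ∧ ∀ s ∈ nb D t, P s := by
    intro t h
    induction h with
    | refl => exact ⟨hPa, fun s hs => move a ha hPa b hb s hs hPb⟩
    | @tail x y _ hxy ih =>
      exact ⟨ih.2 y hxy.2, fun s hs => move y hxy.2.1 (ih.2 y hxy.2) x (nb_symm hxy.1 hxy.2) s hs ih.1⟩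
  exact (hall t (hconn a ha t ht)).1.1

theorem commute_of_fixed_conj {u c : G} (hu : u * u = 1) (h : c = u * c * u) : Commute u c := by
  show u * c = c * u
  conv_rhs => rw [h, mul_assoc (u * c), hu, mul_one]

/-- the recursion step -/
theorem rigid_of_local (hD : Core D) (hP : Pair2 D) (htri : Tri D) (hconn : Conn D)
    (hloc : ∀ a ∈ D, Local D a) (hne : D.Nonempty) : Rigid D := by
  intro φ hφ
  obtain ⟨d, hd⟩ := hne
  obtain ⟨c, hc, hfc⟩ := hφ.exists_fixed hD.tt hP htri hd
  have hsep : ∀ a ∈ D, Sep (nb D a) := fun a ha => (hloc a ha).sep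
  have csq := hD.tt.sq c hc
  have fixed_conj : ∀ {u x : G}, u ∈ D → Commute u x → u * x * u = x := fun hu h => by
    rw [h.eq, mul_assoc, hD.tt.sq _ hu, mul_one]
  rcases (hloc c hc).rigid φ hφ hfc with hid | ⟨u, hu, hcu⟩
  · obtain ⟨s, hs⟩ := hD.edge c hc
    have hfs : φ s = s := hid s hs
    rcases (hloc s hs.1).rigid φ hφ hfs with hid' | ⟨v, hv, hsv⟩
    · exact Or.inl (fix_of_two hD hconn hsep hc hs hfc hid hid')
    · have hcs : c ∈ nb D s := nb_symm hc hs
      have cvc : Commute v c := commute_of_fixed_conj (hD.tt.sq v hv.1) (hfc.symm.trans (hsv c hcs))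
      have hvc : v = c := by
        by_contra hne'
        obtain ⟨t, ⟨ht, ht'⟩, ntv⟩ := (hloc c hc).nodom v ⟨hv.1, hne', cvc.symm⟩ s hs hv.2.1
          hv.2.2.symm
        exact ntv (commute_of_fixed_conj (hD.tt.sq v hv.1) ((hid t ht).symm.trans (hsv t ht'))).symm
      subst hvc
      right
      refine ⟨v, hc, fun x hx => ?_⟩
      have hψ := fix_of_two hD hconn hsep (φ := MulAut.conj v * φ) hc hs
        (by simp [hfc, hD.tt.inv_eq hc, csq])
        (fun x hx => by
          simp only [MulAut.mul_apply, MulAut.conj_apply, hid x hx, hD.tt.inv_eq hc]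
          exact fixed_conj hc hx.2.2)
        (fun x hx => by
          simp only [MulAut.mul_apply, MulAut.conj_apply, hsv x hx, hD.tt.inv_eq hc]
          rw [show v * (v * x * v) * v = v * v * x * (v * v) by group, csq, one_mul, mul_one]) x hx
      simp only [MulAut.mul_apply, MulAut.conj_apply, hD.tt.inv_eq hc] at hψ
      conv_rhs => rw [← hψ]
      rw [show v * (v * φ x * v) * v = v * v * φ x * (v * v) by group, csq, one_mul, mul_one]
  · obtain ⟨s, hs, hsu⟩ := (hloc c hc).edge u hu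
    have usq := hD.tt.sq u hu.1
    have hfs : φ s = s := by rw [hcu s hs, fixed_conj hu.1 hsu.2.2]
    have hfu : φ u = u := by rw [hcu u hu, fixed_conj hu.1 (Commute.refl u)]
    have hcs : c ∈ nb D s := nb_symm hc hs
    have hus : u ∈ nb D s := nb_symm hu.1 hsu
    have key : ∀ v ∈ D, (∀ x ∈ nb D c ∩ nb D s, v * x * v = u * x * u) → Commute v u → v ≠ u →
        False := by
      intro v hv hagree cvu hvu
      obtain ⟨t, ⟨ht, ht'⟩, ntu⟩ := (hloc c hc).nodom u hu s hs hsu.2.1.symm hsu.2.2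
      apply ntu
      refine (hD.tt.commute_of_commute_mul ht.1 hu.1 hv hvu.symm ?_).1
      show _ = _
      calc t * (u * v) = (u * u) * t * u * v := by rw [usq]; group
        _ = u * (u * t * u) * v := by group
        _ = u * (v * t * v) * v := by rw [hagree t ⟨ht, ht'⟩]
        _ = u * v * t * (v * v) := by group
        _ = _ := by rw [hD.tt.sq v hv, mul_one]
    rcases (hloc s hs.1).rigid φ hφ hfs with hid' | ⟨v, hv, hsv⟩
    · exfalso
      obtain ⟨t, ⟨ht, ht'⟩, ntu⟩ := (hloc c hc).nodom u hu s hs hsu.2.1.symm hsu.2.2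
      exact ntu (commute_of_fixed_conj usq ((hid' t ht').symm.trans (hcu t ht))).symm
    · have cvu : Commute v u := commute_of_fixed_conj (hD.tt.sq v hv.1) (hfu.symm.trans (hsv u hus))
      have hvu : v = u := by
        by_contra hne'
        exact key v hv.1 (fun x hx => (hsv x hx.2).symm.trans (hcu x hx.1)) cvu hne'
      subst hvu
      right
      refine ⟨v, hu.1, fun x hx => ?_⟩
      have hψ := fix_of_two hD hconn hsep (φ := MulAut.conj v * φ) hc hs
        (by
          simp only [MulAut.mul_apply, MulAut.conj_apply, hfc, hD.tt.inv_eq hu.1]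
          exact fixed_conj hu.1 hu.2.2.symm)
        (fun x hx => by
          simp only [MulAut.mul_apply, MulAut.conj_apply, hcu x hx, hD.tt.inv_eq hu.1]
          rw [show v * (v * x * v) * v = v * v * x * (v * v) by group, usq, one_mul, mul_one])
        (fun x hx => by
          simp only [MulAut.mul_apply, MulAut.conj_apply, hsv x hx, hD.tt.inv_eq hu.1]
          rw [show v * (v * x * v) * v = v * v * x * (v * v) by group, usq, one_mul, mul_one]) x hx
      simp only [MulAut.mul_apply, MulAut.conj_apply, hD.tt.inv_eq hu.1] at hψ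
      conv_rhs => rw [← hψ]
      rw [show v * (v * φ x * v) * v = v * v * φ x * (v * v) by group, usq, one_mul, mul_one]

theorem SmallAut.conj {φ : MulAut G} (hφ : SmallAut D φ) (hD : TT D) (g : G) :
    SmallAut D ((MulAut.conj g)⁻¹ * φ * MulAut.conj g) := by
  have e : ∀ x, ((MulAut.conj g)⁻¹ * φ * MulAut.conj g) x = g⁻¹ * φ (g * x * g⁻¹) * g := fun x => by
    simp [MulAut.mul_apply, MulAut.conj_apply, MulAut.conj_inv_apply]
  refine ⟨fun x => ?_, fun x hx => ?_, fun h => ?_⟩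
  · rw [e, e, show g * (g⁻¹ * φ (g * x * g⁻¹) * g) * g⁻¹ = φ (g * x * g⁻¹) by group, hφ.inv]
    group
  · rw [e]
    have := hD.conj_mem g⁻¹ _ (hφ.mem _ (hD.conj_mem g x hx))
    rwa [inv_inv] at this
  · rw [e]
    have e2 : g⁻¹ * φ (g * h * g⁻¹) * g * h⁻¹ =
        g⁻¹ * (φ (g * h * g⁻¹) * (g * h * g⁻¹)⁻¹) * g⁻¹⁻¹ := by group
    rw [e2, conj_pow, conj_pow]
    rcases hφ.small (g * h * g⁻¹) with h' | h'
    · exact Or.inl (by rw [h']; group)
    · exact Or.inr (by rw [h']; group)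

theorem Local.conj {a : G} (h : Local D a) (hD : TT D) (g : G) : Local D (g * a * g⁻¹) := by
  have back : ∀ {y : G}, y ∈ nb D (g * a * g⁻¹) → ∃ x ∈ nb D a, y = g * x * g⁻¹ := fun {y} hy => by
    refine ⟨g⁻¹ * y * g⁻¹⁻¹, ?_, by group⟩
    have := hD.nb_conj g⁻¹ hy
    rwa [show g⁻¹ * (g * a * g⁻¹) * g⁻¹⁻¹ = a by group] at this
  have inj : ∀ {x y : G}, g * x * g⁻¹ = g * y * g⁻¹ → x = y := fun e =>
    mul_left_cancel (mul_right_cancel e)
  constructor
  · intro u0 hu0 s0 hs0 hne hc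
    obtain ⟨u, hu, rfl⟩ := back hu0
    obtain ⟨s, hs, rfl⟩ := back hs0
    obtain ⟨v, hv, h1, h2⟩ := h.sep u hu s hs (fun e => hne (by rw [e])) (commute_conj.mp hc)
    exact ⟨_, hD.nb_conj g hv, fun q => h1 (commute_conj.mp q), fun q => h2 (commute_conj.mp q)⟩
  · intro u0 hu0 s0 hs0 hne hc
    obtain ⟨u, hu, rfl⟩ := back hu0
    obtain ⟨s, hs, rfl⟩ := back hs0
    obtain ⟨t, ht, h1⟩ := h.nodom u hu s hs (fun e => hne (by rw [e])) (commute_conj.mp hc)
    exact ⟨_, ⟨hD.nb_conj g ht.1, hD.nb_conj g ht.2⟩, fun q => h1 (commute_conj.mp q)⟩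
  · intro u0 hu0
    obtain ⟨u, hu, rfl⟩ := back hu0
    obtain ⟨s, hs⟩ := h.edge u hu
    exact ⟨_, hD.nb_conj g hs.1, hD.nb_conj g hs.2⟩
  · intro φ hφ hfix
    have e : ∀ x, ((MulAut.conj g)⁻¹ * φ * MulAut.conj g) x = g⁻¹ * φ (g * x * g⁻¹) * g := fun x => by
      simp [MulAut.mul_apply, MulAut.conj_apply, MulAut.conj_inv_apply]
    have e' : ∀ x, φ (g * x * g⁻¹) = g * ((MulAut.conj g)⁻¹ * φ * MulAut.conj g) x * g⁻¹ := fun x => by
      rw [e]; group
    rcases h.rigid _ (hφ.conj hD g) (by rw [e, hfix]; group) with h' | ⟨u, hu, h'⟩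
    · left
      intro y hy
      obtain ⟨x, hx, rfl⟩ := back hy
      rw [e', h' x hx]
    · refine Or.inr ⟨_, hD.nb_conj g hu, fun y hy => ?_⟩
      obtain ⟨x, hx, rfl⟩ := back hy
      rw [e', h' x hx]; group

theorem local_all (hD : Core D) {d : G} (hd : d ∈ D) (h : Local D d) : ∀ a ∈ D, Local D a := by
  intro a ha
  obtain ⟨g, rfl⟩ := isConj_iff.mp (hD.cls d hd a ha)
  exact h.conj hD.tt g

/-- local data from a residue -/
theorem local_of_residue (hD : Core D) {a : G} (ha : a ∈ D) (hr : Core (resSet D a))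
    (hs : Sep (resSet D a)) (hrig : Rigid (resSet D a)) : Local D a := by
  have mem : ∀ {y}, ∀ hy : y ∈ nb D a, (QuotientGroup.mk (nbElem hy) : Residue D a) ∈ resSet D a :=
    fun hy => mem_resSet.mpr ⟨_, hy, rfl⟩
  constructor
  · intro u hu s hs' hne hc
    obtain ⟨v, hv, h1, h2⟩ := hs _ (mem hu) _ (mem hs') (fun e => hne ((hD.mk_inj ha hu hs').mp e))
      ((residue_commute hD.tt hu hs').mpr hc)
    obtain ⟨t, ht, rfl⟩ := mem_resSet.mp hv
    exact ⟨t, ht, fun q => h1 ((residue_commute hD.tt ht hu).mpr q),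
      fun q => h2 ((residue_commute hD.tt ht hs').mpr q)⟩
  · intro u hu s hs' hne hc
    obtain ⟨v, ⟨hv, hvne, hvc⟩, hn⟩ := hr.nodom _ (mem hs') _
      ⟨mem hu, fun e => hne ((hD.mk_inj ha hu hs').mp e), (residue_commute hD.tt hs' hu).mpr hc.symm⟩
    obtain ⟨t, ht, rfl⟩ := mem_resSet.mp hv
    exact ⟨t, ⟨ht, ht.1, fun e => hvne (by subst e; rfl), (residue_commute hD.tt hs' ht).mp hvc⟩,
      fun q => hn ((residue_commute hD.tt ht hu).mpr q)⟩
  · intro u hu
    obtain ⟨v, hv, hvne, hvc⟩ := hr.edge _ (mem hu)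
    obtain ⟨t, ht, rfl⟩ := mem_resSet.mp hv
    exact ⟨t, ht, ht.1, fun e => hvne (by subst e; rfl), (residue_commute hD.tt hu ht).mp hvc⟩
  · intro φ hφ hfix
    have hnb : ∀ y ∈ nb D a, φ y ∈ nb D a := fun y hy =>
      ⟨hφ.mem y hy.1, fun e => hy.2.1 (φ.injective (e.trans hfix.symm)),
        hfix ▸ hy.2.2.map φ.toMonoidHom⟩
    have hsub : ∀ x ∈ nbSub D a, φ x ∈ nbSub D a := by
      intro x hx
      have hle : nbSub D a ≤ (nbSub D a).comap φ.toMonoidHom := by
        rw [Subgroup.closure_le]; exact fun w hw => Subgroup.subset_closure (hnb w hw)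
      exact hle hx
    let e0 : MulAut ↥(nbSub D a) :=
      { toFun := fun x => ⟨φ x, hsub x x.2⟩
        invFun := fun x => ⟨φ x, hsub x x.2⟩
        left_inv := fun x => Subtype.ext (hφ.inv x)
        right_inv := fun x => Subtype.ext (hφ.inv x)
        map_mul' := fun x y => Subtype.ext (map_mul φ (x : G) (y : G)) }
    have hcen : (Subgroup.center ↥(nbSub D a)).map e0.toMonoidHom = Subgroup.center ↥(nbSub D a) :=
      by
        ext z
        rw [Subgroup.mem_map_equiv]
        constructor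
        · intro hz
          rw [Subgroup.mem_center_iff] at hz ⊢
          intro w
          apply e0.symm.injective
          rw [map_mul, map_mul]
          exact hz _
        · intro hz
          rw [Subgroup.mem_center_iff] at hz ⊢
          intro w
          apply e0.injective
          simp only [map_mul, MulEquiv.apply_symm_apply]
          exact hz _
    let e : MulAut (Residue D a) := QuotientGroup.congr _ _ e0 hcen
    have he : ∀ x, e (QuotientGroup.mk x) = QuotientGroup.mk (e0 x) := fun x => rfl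
    have hse : SmallAut (resSet D a) e := by
      refine ⟨fun x => ?_, fun x hx => ?_, fun x => ?_⟩
      · obtain ⟨x, rfl⟩ := QuotientGroup.mk_surjective x
        rw [he, he]
        exact congrArg _ (Subtype.ext (hφ.inv x))
      · obtain ⟨y, hy, rfl⟩ := mem_resSet.mp hx
        exact mem_resSet.mpr ⟨φ y, hnb y hy, rfl⟩
      · obtain ⟨x, rfl⟩ := QuotientGroup.mk_surjective x
        rcases hφ.small x with h | h
        · left
          rw [he, ← QuotientGroup.mk_inv, ← QuotientGroup.mk_mul, ← QuotientGroup.mk_pow,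
            show (e0 x * x⁻¹) ^ 2 = 1 from Subtype.ext h]
          rfl
        · right
          rw [he, ← QuotientGroup.mk_inv, ← QuotientGroup.mk_mul, ← QuotientGroup.mk_pow,
            show (e0 x * x⁻¹) ^ 3 = 1 from Subtype.ext h]
          rfl
    rcases hrig e hse with h | ⟨u, hu, h⟩
    · left
      intro x hx
      exact (hD.mk_inj ha (hnb x hx) hx).mp (h _ (mem hx))
    · obtain ⟨v, hv, rfl⟩ := mem_resSet.mp hu
      refine Or.inr ⟨v, hv, fun x hx => ?_⟩
      have hm : v * x * v ∈ nb D a := by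
        have := hD.tt.nbSub_conj_nb ha (nbElem hv).2 hx
        show v * x * v ∈ nb D a
        simpa [nbElem, hD.tt.inv_eq hv.1] using this
      exact (hD.mk_inj ha (hnb x hx) hm).mp (h _ (mem hx))

/-- a triangle property on a residue passes to the neighbourhood -/
theorem tri_nb_of_residue (hD : Core D) {a : G} (ha : a ∈ D) (h : Tri (resSet D a)) :
    Tri (nb D a) := by
  intro d hd x hx
  obtain ⟨u0, hu0, w0, hw0, n1, n2, n3, n4, n5, c1, n6⟩ :=
    h _ (mem_resSet.mpr ⟨d, hd, rfl⟩) (QuotientGroup.mk (nbElem hx.1))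
      ⟨mem_resSet.mpr ⟨x, hx.1, rfl⟩, fun e => hx.2.1 ((hD.mk_inj ha hx.1 hd).mp e),
        (residue_commute hD.tt hd hx.1).mpr hx.2.2⟩
  obtain ⟨u, hu, rfl⟩ := mem_resSet.mp hu0
  obtain ⟨w, hw, rfl⟩ := mem_resSet.mp hw0
  have hm : u * w * u ∈ nb D a := by
    have := hD.tt.nbSub_conj_nb ha (nbElem hu).2 hw
    show u * w * u ∈ nb D a
    simpa [nbElem, hD.tt.inv_eq hu.1] using this
  have em : (QuotientGroup.mk (nbElem hm) : Residue D a) =
      QuotientGroup.mk (nbElem hu) * QuotientGroup.mk (nbElem hw) * QuotientGroup.mk (nbElem hu) := by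
    rw [← QuotientGroup.mk_mul, ← QuotientGroup.mk_mul]; rfl
  rw [← em] at c1 n6
  exact ⟨u, hu, w, hw, fun q => n1 ((residue_commute hD.tt hu hd).mpr q),
    fun q => n2 ((residue_commute hD.tt hu hx.1).mpr q),
    fun q => n3 ((residue_commute hD.tt hw hd).mpr q),
    fun q => n4 ((residue_commute hD.tt hw hx.1).mpr q),
    fun q => n5 ((residue_commute hD.tt hu hw).mpr q),
    (residue_commute hD.tt hm hd).mp c1, fun q => n6 ((residue_commute hD.tt hm hx.1).mpr q)⟩

/-- the triangle property from one neighbourhood -/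
theorem tri_step (hD : Core D) {d : G} (hd : d ∈ D) (hloc : Local D d) (h : Tri (nb D d)) :
    Tri D := by
  intro a ha b hb
  obtain ⟨g, hga⟩ := isConj_iff.mp (hD.cls a ha d hd)
  have hbd : g * b * g⁻¹ ∈ nb D d := hga ▸ hD.tt.nb_conj g hb
  obtain ⟨r, hr, hrb⟩ := hloc.edge _ hbd
  obtain ⟨g2, hg2⟩ := isConj_iff.mp (hD.cls r hr.1 d hd)
  set k := g2 * g with hk
  have h1 : k * a * k⁻¹ ∈ nb D d := by
    have := hD.tt.nb_conj g2 (nb_symm hd hr)
    rw [hg2, ← hga] at this
    rw [hk, show g2 * g * a * (g2 * g)⁻¹ = g2 * (g * a * g⁻¹) * g2⁻¹ by group]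
    rw [hga] at this ⊢
    exact this
  have h2 : k * b * k⁻¹ ∈ nb (nb D d) (k * a * k⁻¹) := by
    refine ⟨?_, fun e => hb.2.1 (mul_left_cancel (mul_right_cancel e)), commute_conj.mpr hb.2.2⟩
    rw [hk, show g2 * g * b * (g2 * g)⁻¹ = g2 * (g * b * g⁻¹) * g2⁻¹ by group, ← hg2]
    exact hD.tt.nb_conj g2 (nb_symm hbd.1 hrb)
  obtain ⟨u, hu, w, hw, n1, n2, n3, n4, n5, c1, n6⟩ := h _ h1 _ h2
  have back : ∀ y, y = k * (k⁻¹ * y * k) * k⁻¹ := fun y => by group
  have cmem : ∀ y ∈ D, k⁻¹ * y * k ∈ D := fun y hy => by simpa using hD.tt.conj_mem k⁻¹ y hy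
  rw [back u, commute_conj] at n1 n2
  rw [back w, commute_conj] at n3 n4
  rw [back u, back w, commute_conj] at n5
  rw [show u * w * u = k * (k⁻¹ * u * k * (k⁻¹ * w * k) * (k⁻¹ * u * k)) * k⁻¹ by group,
    commute_conj] at c1 n6
  exact ⟨_, cmem u hu.1, _, cmem w hw.1, n1, n2, n3, n4, n5, c1, n6⟩

variable {F : Type*} [Field F] [Fintype F] (hF : Fintype.card F = 4)

include hF

/-- the triangle property of a space -/
theorem U6Space.tri {S : Set G} (sp : U6Space F S) : Tri S := by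
  intro d hd x hx
  obtain ⟨p, hp, rfl⟩ := sp.surj d hd
  obtain ⟨q, hq, rfl⟩ := sp.surj x hx.1
  have hs : ¬ SamePt p q := fun e => hx.2.1 ((sp.same hp hq).mpr e).symm
  have pq : hb p q = 0 := (sp.comm hp hq).mp hx.2.2
  have qp := (hb_eq_zero_comm hF).mp pq
  obtain ⟨u, hu, u1, u2⟩ := iso_two hF hp.1 hs 1 1
  have hup := pt_of_hb_eq_one hu u1
  have hns : u ∉ Submodule.span F (Set.range ![p, q]) := by
    intro hin
    obtain ⟨c, hc⟩ := (Submodule.mem_span_range_iff_exists_fun F).mp hin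
    simp only [Fin.sum_univ_two, Matrix.cons_val_zero, Matrix.cons_val_one] at hc
    rw [← hc, hb_add_left, hb_smul_left, hb_smul_left, hp.2, qp, mul_zero, mul_zero, add_zero] at u1
    exact zero_ne_one u1
  have hli : LinearIndependent F (Fin.snoc ![p, q] u) :=
    linearIndependent_finSnoc.mpr ⟨indep_pair hp.1 hs, hns⟩
  obtain ⟨e, he0, he1, -⟩ := exists_omega hF
  obtain ⟨w, hw, hwl⟩ := iso_solve hF hli (Fin.snoc ![1, e] 1)
    (Or.inr ⟨rfl, (0 : Fin 2).castSucc, Fin.last 2, by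
      rw [Fin.snoc_castSucc, Fin.snoc_last]
      simp [hb_conj hF u p, u1]⟩)
  have w1 : hb w p = 1 := by
    have := hwl (0 : Fin 2).castSucc; rwa [Fin.snoc_castSucc, Fin.snoc_castSucc] at this
  have w2 : hb w q = e := by
    have := hwl (1 : Fin 2).castSucc; rwa [Fin.snoc_castSucc, Fin.snoc_castSucc] at this
  have w3 : hb w u = 1 := by
    have := hwl (Fin.last 2); rwa [Fin.snoc_last, Fin.snoc_last] at this
  have hwp := pt_of_hb_eq_one hw w1
  have nz : ∀ {y z : Vec F} {c : F}, IsPt y → IsPt z → hb y z = c → c ≠ 0 →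
      ¬ Commute (sp.pt y) (sp.pt z) := fun hy hz h hc q => hc (h.symm.trans ((sp.comm hy hz).mp q))
  refine ⟨_, sp.mem hup, _, sp.mem hwp, nz hup hp u1 one_ne_zero, nz hup hq u2 one_ne_zero,
    nz hwp hp w1 one_ne_zero, nz hwp hq w2 he0,
    nz hup hwp (by rw [hb_conj hF w u, w3, one_pow]) one_ne_zero, ?_, ?_⟩ <;>
    rw [sp.third hup hwp, w3, one_smul, sp.comm (by
      have := isPt_third hF hup hwp; rwa [w3, one_smul] at this) (by assumption), hb_add_left]
  · rw [w1, u1]; exact add_self_zero hF 1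
  · rw [w2, u2]; exact fun h => he1 ((add_eq_zero_iff_eq' hF).mp h)

/-- local data from a space -/
theorem local_of_space (hD : Core D) (hP : Pair2 D) {a : G}
    (sp : U6Space F (nb D a)) : Local D a := by
  refine ⟨sp.sep hF, fun u hu s hs hne hc => ?_, fun u hu => ?_, fun φ hφ hfix =>
    hφ.local_space hD.tt hF hP sp (fun y hy => hy.1) fun y hy =>
      ⟨hφ.mem y hy.1, fun e => hy.2.1 (φ.injective (e.trans hfix.symm)),
        hfix ▸ hy.2.2.map φ.toMonoidHom⟩⟩
  · obtain ⟨p, hp, rfl⟩ := sp.surj u hu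
    obtain ⟨q, hq, rfl⟩ := sp.surj s hs
    obtain ⟨w, hw, w1, w2⟩ := iso_two hF hp.1 (fun e => hne ((sp.same hp hq).mpr e)) 1 0
    have hwp := pt_of_hb_eq_one hw w1
    refine ⟨sp.pt w, ⟨sp.mem hwp, (sp.mem hwp).1, fun e => ?_, ((sp.comm hwp hq).mpr w2).symm⟩,
      fun h => ?_⟩
    · have := (sp.comm hwp hp).mp (e ▸ hc.symm)
      rw [w1] at this; exact one_ne_zero this
    · have := (sp.comm hwp hp).mp h
      rw [w1] at this; exact one_ne_zero this
  · obtain ⟨p, hp, rfl⟩ := sp.surj u hu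
    obtain ⟨w, hw, hwn⟩ := sp.exists_orth hF hp
    exact ⟨sp.pt w, hwn.1, hwn.1.1, hwn.2⟩

end Cfsg.Agent.H93
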