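import Cfsg.Agent.H93.Hexad

/-!
Small configurations of 3-transpositions: two commuting members and a third one, squares.
-/

set_option autoImplicit false

namespace Cfsg.Agent.H93

variable {G : Type*} [Group G] {D : Set G}

/-- a product of two distinct commuting members determines them -/
def Pair2 (D : Set G) : Prop :=
  ∀ a ∈ D, ∀ b ∈ D, ∀ c ∈ D, ∀ d ∈ D, a ≠ b → c ≠ d → Commute a b → Commute c d →
    a * b = c * d → a = c ∨ a = d

theorem pair2_of_indep (hD : TT D) {k : ℕ} (hk : Indep D k) (h4 : 4 ≤ k) : Pair2 D := by
  intro a ha b hb c hc d hd hab hcd cab ccd e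
  have mk : ∀ x y : G, x ∈ D → y ∈ D → x ≠ y → Commute x y → x * y = c * d →
      [x, y].Nodup ∧ [x, y].length = 2 ∧ (∀ v ∈ [x, y], v ∈ D) ∧
        (∀ v ∈ [x, y], ∀ w ∈ [x, y], Commute v w) ∧ [x, y].prod = c * d := by
    intro x y hx hy hxy cxy exy
    refine ⟨by simp [hxy], rfl, ?_, ?_, by simpa using exy⟩
    · simp [hx, hy]
    · intro v hv w hw
      simp only [List.mem_cons, List.not_mem_nil, or_false] at hv hw
      rcases hv with rfl | rfl <;> rcases hw with rfl | rfl <;>
        first | exact Commute.refl _ | exact cxy | exact cxy.symm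
  have := (unique_factor' hD hk 2 (by norm_num) (by omega) (c * d) [a, b] [c, d]
    (mk a b ha hb hab cab e) (mk c d hc hd hcd ccd rfl) a).mp (by simp)
  simpa using this

/-- conjugating by the product of two commuting members moves a member not commuting with
either to a commuting one -/
theorem TT.pair_conj_commute (hD : TT D) {a b y : G} (ha : a ∈ D) (hb : b ∈ D) (hy : y ∈ D)
    (hab : Commute a b) (hya : ¬ Commute y a) (hyb : ¬ Commute y b) :
    Commute y (a * b * y * (b * a)) := by
  have ba := hD.braid ha hy (fun h => hya h.symm)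
  have bb := hD.braid hb hy (fun h => hyb h.symm)
  have e : a * b * y * (b * a) = b * (y * a * y) * b := by
    rw [← ba]
    calc a * b * y * (b * a) = (b * a) * y * (a * b) :=
          congrArg₂ (fun s t => s * y * t) hab.eq hab.eq.symm
      _ = _ := by group
  rw [e]
  show _ = _
  calc y * (b * (y * a * y) * b) = (y * b * y) * a * (y * b) := by group
    _ = (b * y * b) * a * (y * b) := by rw [← bb]
    _ = b * y * (b * a) * (y * b) := by group
    _ = b * y * (a * b) * (y * b) := by rw [hab.eq]
    _ = b * y * a * (b * y * b) := by group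
    _ = b * y * a * (y * b * y) := by rw [bb]
    _ = _ := by group

theorem TT.pair_inv (hD : TT D) {a b : G} (ha : a ∈ D) (hb : b ∈ D) (hab : Commute a b) :
    (a * b)⁻¹ = a * b := by
  rw [mul_inv_rev, hD.inv_eq ha, hD.inv_eq hb, hab.eq]

theorem TT.pair_conj_mem (hD : TT D) {a b y : G} (ha : a ∈ D) (hb : b ∈ D) (hy : y ∈ D)
    (hab : Commute a b) : a * b * y * (a * b) ∈ D := by
  have := hD.conj_mem (a * b) y hy
  rwa [hD.pair_inv ha hb hab] at this

theorem invol_conj_commute {w x y : G} (hw : w * w = 1) (h : Commute (w * x * w) (w * y * w)) :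
    Commute x y := by
  have hi : w⁻¹ = w := inv_eq_of_mul_eq_one_left hw
  rw [← commute_conj (g := w), hi]
  exact h

/-- four transpositions forming a square, under a bound on the order of the product of diagonals -/
theorem TT.square (hD : TT D) (hP : Pair2 D) {c c' d d' : G} (hc : c ∈ D) (hc' : c' ∈ D)
    (hd : d ∈ D) (hd' : d' ∈ D) (cc : Commute c c') (cd : Commute d d') (hcne : c ≠ c')
    (hdne : d ≠ d') (n1 : ¬ Commute c d) (n2 : ¬ Commute c d')
    (h : (c * c' * (d * d')) ^ 2 = 1 ∨ (c * c' * (d * d')) ^ 3 = 1) :
    c * c' * d * (c * c') = d' ∧ d * d' * c * (d * d') = c' := by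
  have hw : c * c' * (c * c') = 1 := hD.sq_of_commute hc hc' cc
  have hz : d * d' * (d * d') = 1 := hD.sq_of_commute hd hd' cd
  set w := c * c' with hwdef
  set z := d * d' with hzdef
  have wd : w * d * w ∈ D := hD.pair_conj_mem hc hc' hd cc
  have wd' : w * d' * w ∈ D := hD.pair_conj_mem hc hc' hd' cc
  have zc : z * c * z ∈ D := hD.pair_conj_mem hd hd' hc cd
  have zc' : z * c' * z ∈ D := hD.pair_conj_mem hd hd' hc' cd
  have conjprod : ∀ {u x y : G}, u * u = 1 → u * x * u * (u * y * u) = u * (x * y) * u := by
    intro u x y hu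
    calc u * x * u * (u * y * u) = u * x * (u * u) * (y * u) := by group
      _ = _ := by rw [hu, mul_one]; group
  have conjne : ∀ {u x y : G}, x ≠ y → u * x * u ≠ u * y * u := fun hxy e =>
    hxy (mul_left_cancel (mul_right_cancel e))
  have conjcomm : ∀ {u x y : G}, u * u = 1 → Commute x y → Commute (u * x * u) (u * y * u) := by
    intro u x y hu hxy
    show _ = _
    rw [conjprod hu, conjprod hu, hxy.eq]
  rcases h with h | h
  · have hwz : w * z = z * w := by
      rw [pow_two] at h
      have := eq_inv_of_mul_eq_one_left h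
      rwa [mul_inv_rev, inv_eq_of_mul_eq_one_left hw, inv_eq_of_mul_eq_one_left hz] at this
    have e1 : w * z * w = z := by rw [hwz, mul_assoc, hw, mul_one]
    have e2 : z * w * z = w := by rw [← hwz, mul_assoc, hz, mul_one]
    constructor
    · rcases hP _ wd _ wd' d hd d' hd' (conjne hdne) hdne (conjcomm hw cd) cd
        (by rw [conjprod hw]; exact e1) with e | e
      · exfalso
        have : Commute d w := by
          show _ = _
          conv_lhs => rw [← e, mul_assoc (w * d), hw, mul_one]
        exact n1 (hD.commute_of_commute_mul hd hc hc' hcne this).1.symm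
      · exact e
    · rcases hP _ zc _ zc' c hc c' hc' (conjne hcne) hcne (conjcomm hz cc) cc
        (by rw [conjprod hz]; exact e2) with e | e
      · exfalso
        have : Commute c z := by
          show _ = _
          conv_lhs => rw [← e, mul_assoc (z * c), hz, mul_one]
        exact n1 (hD.commute_of_commute_mul hc hd hd' hdne this).1
      · exact e
  · exfalso
    have e : z * w * z = w * z * w := by
      have h3 : w * z * w * (z * w * z) = 1 := by rw [← h, pow_succ, pow_two]; group
      have := eq_inv_of_mul_eq_one_left h3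
      calc z * w * z = (z * w⁻¹ * z) := by rw [inv_eq_of_mul_eq_one_left hw]
        _ = (z⁻¹ * w⁻¹ * z⁻¹) := by rw [inv_eq_of_mul_eq_one_left hz]
        _ = (z * w * z)⁻¹ := by group
        _ = _ := this.symm
    have hcz : Commute c (z * c * z) := by
      have := hD.pair_conj_commute hd hd' hc cd n1 n2
      rwa [← cd.eq, ← hzdef] at this
    have hcw : w * c * w = c := by
      have : Commute w c := (Commute.refl c).mul_left cc.symm
      rw [this.eq, mul_assoc, hw, mul_one]
    rcases hP _ zc _ zc' (w * d * w) wd (w * d' * w) wd' (conjne hcne) (conjne hdne)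
      (conjcomm hz cc) (conjcomm hw cd) (by rw [conjprod hz, conjprod hw]; exact e) with e' | e'
    · rw [e'] at hcz
      exact n1 (invol_conj_commute hw (by rwa [hcw]))
    · rw [e'] at hcz
      exact n2 (invol_conj_commute hw (by rwa [hcw]))

end Cfsg.Agent.H93
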