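import Cfsg.Agent.H93.U6Ext
import Cfsg.Agent.H93.Elem22
import Cfsg.Agent.H93.U6Move

/-!
In a two-fold central extension of `PSU 6 F 2` the lifts of transvections fall into two classes;
the class in which the five points of a totally isotropic line multiply to one, and the preimages of
the groups of totally isotropic planes.
-/

set_option autoImplicit false

namespace Cfsg.Agent.H93

/-- commuting involutions generate an elementary abelian subgroup -/
theorem elem_closure {G : Type*} [Group G] {T : Set G} (h2 : ∀ x ∈ T, x * x = 1)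
    (hc : ∀ x ∈ T, ∀ y ∈ T, Commute x y) :
    (∀ x ∈ Subgroup.closure T, ∀ y ∈ Subgroup.closure T, Commute x y) ∧
      ∀ x ∈ Subgroup.closure T, x * x = 1 := by
  have hab : ∀ x ∈ Subgroup.closure T, ∀ y ∈ Subgroup.closure T, Commute x y := fun x hx y hy => by
    have hG := Subgroup.isMulCommutative_closure (k := T) fun u hu v hv => (hc u hu v hv).eq
    exact congrArg Subtype.val (hG.is_comm.comm ⟨x, hx⟩ ⟨y, hy⟩)
  refine ⟨hab, fun x hx => ?_⟩
  induction hx using Subgroup.closure_induction with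
  | mem x hx => exact h2 x hx
  | one => exact one_mul 1
  | mul x y hx hy ex ey =>
    calc x * y * (x * y) = x * (y * x) * y := by group
      _ = x * (x * y) * y := by rw [(hab y hy x hx).eq]
      _ = (x * x) * (y * y) := by group
      _ = 1 := by rw [ex, ey, one_mul]
  | inv x _ ex => rw [← mul_inv_rev, ex, inv_one]

variable {F : Type*} [Field F] [Fintype F] (hF : Fintype.card F = 4) {C : Type*} [Group C]

/-- an equivariant choice of lifts of transvections with trivial product along lines -/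
structure PtClass (π : C →* Cfsg.PSU 6 F 2) (d : C) (Y : Vec F → C) : Prop where
  ext : TwoExt π d
  ne : d ≠ 1
  img : ∀ u, IsPt u → π (Y u) = ptv hF u
  conj : ∀ (g : C) (u v : Vec F), IsPt u → IsPt v → π g * ptv hF u * (π g)⁻¹ = ptv hF v →
    g * Y u * g⁻¹ = Y v
  five : ∀ (u v : Vec F), IsPt u → IsPt v → hb u v = 0 → ¬ SamePt u v → ∀ w : F, w ^ 2 + w + 1 = 0 →
    Y u * Y v * Y (u + v) * Y (u + w • v) * Y (u + w ^ 2 • v) = 1

variable {π : C →* Cfsg.PSU 6 F 2} {d : C}

include hF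

theorem TwoExt.cent_point (h : TwoExt π d) {u : Vec F} (hu : IsPt u) {g : C}
    (hg : Commute (π g) (ptv hF u)) : Commute g (h.lift hF u) := by
  have hle : Subgroup.closure {x | ∃ v, IsPt v ∧ hb v u = 0 ∧ x = ptv hF v} ≤
      (Subgroup.centralizer ({h.lift hF u} : Set C)).map π := by
    rw [Subgroup.closure_le]
    rintro _ ⟨v, hv, hvu, rfl⟩
    exact ⟨h.lift hF v, Subgroup.mem_centralizer_singleton_iff.mpr (h.lift_commute hF hv hu hvu).eq,
      h.π_lift hF v⟩
  obtain ⟨y, hy, ey⟩ := hle (stab_point hF hu hg)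
  have hy' : Commute y (h.lift hF u) := Subgroup.mem_centralizer_singleton_iff.mp hy
  rcases h.eq_or ey with rfl | rfl
  exacts [hy', hy'.mul_left (h.cen _)]

/-- the product along a line does not depend on the choice of the root -/
theorem five_root {Y : Vec F → C} {u v : Vec F}
    (hc : Commute (Y (u + v)) (Y (u + v))) {w w' : F} (hw : w ^ 2 + w + 1 = 0)
    (hw' : w' ^ 2 + w' + 1 = 0)
    (hcc : Commute (Y (u + w • v)) (Y (u + w ^ 2 • v))) :
    Y u * Y v * Y (u + v) * Y (u + w' • v) * Y (u + w' ^ 2 • v) =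
      Y u * Y v * Y (u + v) * Y (u + w • v) * Y (u + w ^ 2 • v) := by
  have hz : (w' - w) * (w' - w ^ 2) = 0 := by
    have h3 : w ^ 3 = 1 := by linear_combination (w - 1) * hw
    linear_combination hw' + h3 - w' * hw
  rcases mul_eq_zero.mp hz with e | e
  · rw [sub_eq_zero.mp e]
  · rw [sub_eq_zero.mp e, sq_sq hF, mul_assoc _ (Y (u + w ^ 2 • v)), ← hcc.eq, ← mul_assoc]

/-- the classes exist -/
theorem TwoExt.exists_ptClass (h : TwoExt π d) (hd1 : d ≠ 1) : ∃ Y, PtClass hF π d Y := by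
  classical
  obtain ⟨P, Q, p⟩ := exists_plane hF
  have hp0 := p.pt 0
  have hk : ∀ u : Vec F, ∃ k : C, IsPt u → π k * ptv hF (P 0) * (π k)⁻¹ = ptv hF u := fun u => by
    by_cases hu : IsPt u
    · obtain ⟨g, hg⟩ := ptv_transitive hF hp0 hu
      obtain ⟨k, rfl⟩ := h.surj g
      exact ⟨k, fun _ => hg⟩
    · exact ⟨1, fun q => absurd q hu⟩
  choose k hk using hk
  set Y : Vec F → C := fun u => k u * h.lift hF (P 0) * (k u)⁻¹ with hY
  have himg : ∀ u, IsPt u → π (Y u) = ptv hF u := fun u hu => by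
    rw [hY, map_mul, map_mul, map_inv, h.π_lift, hk u hu]
  have hconj : ∀ (g : C) (u v : Vec F), IsPt u → IsPt v →
      π g * ptv hF u * (π g)⁻¹ = ptv hF v → g * Y u * g⁻¹ = Y v := by
    intro g u v hu hv e
    rw [← hk u hu, ← hk v hv] at e
    have hm : Commute (π ((k v)⁻¹ * g * k u)) (ptv hF (P 0)) := by
      refine mul_inv_eq_iff_eq_mul.mp ?_
      simp only [map_mul, map_inv]
      calc (π (k v))⁻¹ * π g * π (k u) * ptv hF (P 0) * ((π (k v))⁻¹ * π g * π (k u))⁻¹
          = (π (k v))⁻¹ * (π g * (π (k u) * ptv hF (P 0) * (π (k u))⁻¹) * (π g)⁻¹) * π (k v) := by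
            group
        _ = _ := by rw [e]; group
    have hc := (h.cent_point hF hp0 hm).eq
    calc g * Y u * g⁻¹
        = k v * ((k v)⁻¹ * g * k u * h.lift hF (P 0)) * ((k v)⁻¹ * g * k u)⁻¹ * (k v)⁻¹ := by
          rw [hY]; group
      _ = Y v := by rw [hc, hY]; group
  obtain ⟨ω, -, -, hω⟩ := exists_omega hF
  -- commuting on lines
  have hcomm : ∀ u v, IsPt u → IsPt v → hb u v = 0 → Commute (Y u) (Y v) := fun u v hu hv e =>
    h.commute_congr ((h.π_lift hF u).trans (himg u hu).symm) ((h.π_lift hF v).trans (himg v hv).symm)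
      (h.lift_commute hF hu hv e)
  -- the product along a line is constant
  set c := Y (P 0) * Y (P 1) * Y (P 0 + P 1) * Y (P 0 + ω • P 1) * Y (P 0 + ω ^ 2 • P 1) with hcdef
  have hc1 : c = 1 ∨ c = d := by
    apply h.ker
    have pl := fun t : F => isPt_line hF (p.pt 0) (p.pt 1) (p.orth 0 1) (p.not_same (by decide)) t
    rw [hcdef, map_mul, map_mul, map_mul, map_mul, himg _ (p.pt 0), himg _ (p.pt 1),
      himg _ (by simpa using pl 1), himg _ (pl ω), himg _ (pl (ω ^ 2)),
      ptv_line hF (p.orth 0 0) (p.orth 1 1) (p.orth 0 1) hω]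
  have hconst : ∀ (u v : Vec F), IsPt u → IsPt v → hb u v = 0 → ¬ SamePt u v → ∀ w : F,
      w ^ 2 + w + 1 = 0 → Y u * Y v * Y (u + v) * Y (u + w • v) * Y (u + w ^ 2 • v) = c := by
    intro u v hu hv huv hs w hw
    obtain ⟨R, S, r, r0, r1⟩ := exists_plane_pair hF hu hv huv hs
    obtain ⟨g, -, -, g0, g1, -⟩ := p.move hF r
    rw [r0] at g0; rw [r1] at g1
    obtain ⟨kg, hkg⟩ := h.surj (QuotientGroup.mk g)
    have tr : ∀ x, IsPt x → kg * Y x * kg⁻¹ = Y (act g x) := fun x hx =>
      hconj kg x _ hx (act_pt g hx) (by rw [hkg, ptv_conj])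
    have pl := fun t : F => isPt_line hF (p.pt 0) (p.pt 1) (p.orth 0 1) (p.not_same (by decide)) t
    have pl' := fun t : F => isPt_line hF hu hv huv hs t
    have hcc : kg * c * kg⁻¹ = Y u * Y v * Y (u + v) * Y (u + ω • v) * Y (u + ω ^ 2 • v) := by
      have e : ∀ t : F, act g (P 0 + t • P 1) = u + t • v := fun t => by
        rw [act_add, act_smul, g0, g1]
      rw [← g0, ← g1, ← tr _ (p.pt 0), ← tr _ (p.pt 1), ← act_add, ← tr _ (by simpa using pl 1),
        ← act_smul, ← act_add, ← tr _ (pl ω), ← act_smul, ← act_add, ← tr _ (pl (ω ^ 2)), hcdef]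
      group
    rw [five_root hF (Commute.refl _) hω hw (hcomm _ _ (pl' ω) (pl' _) (by
      have vu := (hb_eq_zero_comm hF).mp huv
      simp [hb_add_left, hb_add_right hF, hb_smul_left, hb_smul_right, hu.2, hv.2, huv, vu])),
      ← hcc]
    rcases hc1 with q | q <;> rw [q]
    · rw [mul_one, mul_inv_cancel]
    · rw [← (h.cen kg).eq, mul_inv_cancel_right]
  rcases hc1 with q | q
  · exact ⟨Y, h, hd1, himg, hconj, fun u v hu hv huv hs w hw => (hconst u v hu hv huv hs w hw).trans q⟩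
  refine ⟨fun u => Y u * d, h, hd1, fun u hu => ?_, fun g u v hu hv e => ?_, fun u v hu hv huv hs w hw => ?_⟩
  · rw [map_mul, himg u hu, h.π_d hF, mul_one]
  · calc g * (Y u * d) * g⁻¹ = g * Y u * (d * g⁻¹) := by group
      _ = g * Y u * g⁻¹ * d := by rw [(h.cen g⁻¹).eq]; group
      _ = Y v * d := by rw [hconj g u v hu hv e]
  · have m : ∀ a b : C, a * d * b = a * b * d := fun a b => by
      rw [mul_assoc, (h.cen b).eq, ← mul_assoc]
    calc Y u * d * (Y v * d) * (Y (u + v) * d) * (Y (u + w • v) * d) * (Y (u + w ^ 2 • v) * d)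
        = Y u * Y v * Y (u + v) * Y (u + w • v) * Y (u + w ^ 2 • v) * (d * d) * (d * d) * d := by
          simp only [← mul_assoc, m]
      _ = 1 := by rw [hconst u v hu hv huv hs w hw, q, h.sq, mul_one, mul_one, h.sq]

namespace PtClass

variable {Y : Vec F → C} (K : PtClass hF π d Y)

include K

theorem commute {u v : Vec F} (hu : IsPt u) (hv : IsPt v) (e : hb u v = 0) :
    Commute (Y u) (Y v) :=
  K.ext.commute_congr ((K.ext.π_lift hF u).trans (K.img u hu).symm)
    ((K.ext.π_lift hF v).trans (K.img v hv).symm) (K.ext.lift_commute hF hu hv e)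

theorem sq {u : Vec F} (hu : IsPt u) : Y u * Y u = 1 :=
  K.ext.sq_congr ((K.ext.π_lift hF u).trans (K.img u hu).symm) (K.ext.lift_sq hF hu)

theorem eq_of_ptv {u v : Vec F} (hu : IsPt u) (hv : IsPt v) (e : ptv hF u = ptv hF v) : Y u = Y v := by
  simpa using K.conj 1 u v hu hv (by simpa using e)

theorem smul {u : Vec F} (hu : IsPt u) {a : F} (ha : a ≠ 0) : Y (a • u) = Y u :=
  K.eq_of_ptv hF ⟨smul_ne_zero ha hu.1, by rw [hb_self_smul hF, hu.2, mul_zero]⟩ hu (ptv_smul hF ha u)

theorem conj_act {g : ↥(Cfsg.SU 6 F 2)} {k : C} (hk : π k = QuotientGroup.mk g) {u : Vec F}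
    (hu : IsPt u) : k * Y u * k⁻¹ = Y (act g u) :=
  K.conj k u _ hu (act_pt g hu) (by rw [hk, ptv_conj])

/-- transitivity on planes with a basis -/
theorem move {P Q P' Q' : Fin 3 → Vec F} (p : Plane P Q) (p' : Plane P' Q') :
    ∃ k : C, (∀ i, k * Y (P i) * k⁻¹ = Y (P' i)) ∧ ∀ v ∈ Submodule.span F (Set.range P),
      IsPt v → ∃ v' ∈ Submodule.span F (Set.range P'), IsPt v' ∧ k * Y v * k⁻¹ = Y v' := by
  obtain ⟨g, c, hc, g0, g1, g2⟩ := p.move hF p'
  obtain ⟨k, hk⟩ := K.ext.surj (QuotientGroup.mk g)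
  refine ⟨k, fun i => ?_, fun v hv hvp => ⟨act g v, ?_, act_pt g hvp, K.conj_act hF hk hvp⟩⟩
  · rw [K.conj_act hF hk (p.pt i)]
    fin_cases i
    · exact congrArg Y g0
    · exact congrArg Y g1
    · show Y (act g (P 2)) = Y (P' 2)
      rw [g2, K.smul hF (p'.pt 2) hc]
  · have hle : Submodule.span F (Set.range P) ≤
        (Submodule.span F (Set.range P')).comap (actL g) := Submodule.span_le.mpr (by
      rintro _ ⟨i, rfl⟩
      show act g (P i) ∈ Submodule.span F (Set.range P')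
      fin_cases i
      · rw [show (⟨0, by norm_num⟩ : Fin 3) = 0 from rfl, g0]; exact Submodule.subset_span ⟨0, rfl⟩
      · rw [show (⟨1, by norm_num⟩ : Fin 3) = 1 from rfl, g1]; exact Submodule.subset_span ⟨1, rfl⟩
      · rw [show (⟨2, by norm_num⟩ : Fin 3) = 2 from rfl, g2]
        exact Submodule.smul_mem _ _ (Submodule.subset_span ⟨2, rfl⟩))
    exact hle hv

/-- transitivity on pairs of orthogonal points -/
theorem move_pair {u v u' v' : Vec F} (hu : IsPt u) (hv : IsPt v) (huv : hb u v = 0)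
    (hs : ¬ SamePt u v) (hu' : IsPt u') (hv' : IsPt v') (huv' : hb u' v' = 0)
    (hs' : ¬ SamePt u' v') : ∃ k : C, k * Y u * k⁻¹ = Y u' ∧ k * Y v * k⁻¹ = Y v' := by
  obtain ⟨P, Q, p, p0, p1⟩ := exists_plane_pair hF hu hv huv hs
  obtain ⟨P', Q', p', p0', p1'⟩ := exists_plane_pair hF hu' hv' huv' hs'
  obtain ⟨k, hk, -⟩ := K.move hF p p'
  exact ⟨k, by rw [← p0, ← p0', hk], by rw [← p1, ← p1', hk]⟩

/-- the product of two orthogonal members of the class is a square -/
theorem pair_square {u v : Vec F} (hu : IsPt u) (hv : IsPt v) (huv : hb u v = 0)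
    (hs : ¬ SamePt u v) : ∃ x : C, x * x = Y u * Y v := by
  have hw : IsPt (u + v) := by simpa using isPt_line hF hu hv huv hs 1
  have hwu : hb (u + v) u = 0 := by
    rw [hb_add_left, hu.2, (hb_eq_zero_comm hF).mp huv, add_zero]
  have hns : ¬ SamePt (u + v) u := by
    rintro ⟨a, ha⟩
    by_cases ha0 : a = 0
    · exact hu.1 (by rw [ha, ha0, zero_smul])
    refine hs ⟨a⁻¹ * (1 + a), ?_⟩
    have : a • v = (1 + a) • u := by
      rw [smul_add] at ha
      rw [add_smul, one_smul]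
      calc a • v = a • u + a • v + a • u := by rw [add_right_comm, vec_add_self hF, zero_add]
        _ = u + a • u := by rw [← ha]
    rw [mul_smul, ← this, smul_smul, inv_mul_cancel₀ ha0, one_smul]
  obtain ⟨a, b, ha, hb', hab, -, hsh⟩ := exists_shift hF hw hu hwu hns
  have e := hsh 0
  rw [zero_smul, add_zero, zero_add, one_smul, ← add_assoc, vec_add_self hF, zero_add] at e
  have hy : π (Y a * Y b) = QuotientGroup.mk (tv hF a * tv hF b) := by
    rw [map_mul, K.img a ha, K.img b hb']; rfl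
  have hc := K.conj_act hF hy hu
  rw [e] at hc
  have hy2 : Y a * Y b * (Y a * Y b) = 1 := by
    calc Y a * Y b * (Y a * Y b) = Y a * (Y b * Y a) * Y b := by group
      _ = Y a * (Y a * Y b) * Y b := by rw [(K.commute hF ha hb' hab).eq]
      _ = (Y a * Y a) * (Y b * Y b) := by group
      _ = 1 := by rw [K.sq hF ha, K.sq hF hb', one_mul]
  refine ⟨Y u * (Y a * Y b), ?_⟩
  calc Y u * (Y a * Y b) * (Y u * (Y a * Y b))
      = Y u * (Y a * Y b * Y u * (Y a * Y b)⁻¹) * (Y a * Y b * (Y a * Y b)) := by group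
    _ = Y u * Y v := by rw [hc, hy2, mul_one]

/-- a member of the class is a square -/
theorem point_square {u : Vec F} (hu : IsPt u) : ∃ x : C, x * x = Y u := by
  obtain ⟨v, hv, huv, hs⟩ := exists_orth_pt hF hu
  obtain ⟨w, hw0, hw1, hw⟩ := exists_omega hF
  have pl := fun t : F => isPt_line hF hu hv huv hs t
  obtain ⟨a, b, ha, hb', hab, -, hsh⟩ := exists_shift hF hu hv huv hs
  have pv : ∀ t : F, IsPt (v + t • u) := fun t =>
    isPt_line hF hv hu ((hb_eq_zero_comm hF).mp huv) (fun q => hs (q.symm hu.1)) t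
  have ow : ∀ s t : F, hb (v + s • u) (v + t • u) = 0 := fun s t => by
    simp [hb_add_left, hb_add_right hF, hb_smul_left, hb_smul_right, hu.2, hv.2, huv,
      (hb_eq_zero_comm hF).mp huv]
  have hy : π (Y a * Y b) = QuotientGroup.mk (tv hF a * tv hF b) := by
    rw [map_mul, K.img a ha, K.img b hb']; rfl
  set y := Y a * Y b with hydef
  have hy2 : y * y = 1 := (elem_closure (T := {Y a, Y b})
    (by rintro x (rfl | rfl); exacts [K.sq hF ha, K.sq hF hb'])
    (by
      rintro x (rfl | rfl) z (rfl | rfl)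
      exacts [Commute.refl _, K.commute hF ha hb' hab, (K.commute hF ha hb' hab).symm, Commute.refl _])).2
    y (mul_mem (Subgroup.subset_closure (Or.inl rfl)) (Subgroup.subset_closure (Or.inr rfl)))
  have hA := K.conj_act hF hy (pv 0)
  rw [hsh 0, zero_add, one_smul] at hA
  rw [zero_smul, add_zero] at hA
  have hB := K.conj_act hF hy (pv w)
  rw [hsh w, show w + 1 = w ^ 2 from (add_eq_zero_iff_eq' hF).mp (by linear_combination hw)] at hB
  refine ⟨Y v * Y (v + w • u) * y, ?_⟩
  have five := K.five v u hv hu ((hb_eq_zero_comm hF).mp huv) (fun q => hs (q.symm hu.1)) w hw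
  have c : ∀ t : F, Commute (Y v) (Y (v + t • u)) := fun t => by
    simpa using K.commute hF (pv 0) (pv t) (ow 0 t)
  have cu : ∀ t : F, Commute (Y u) (Y (v + t • u)) := fun t => K.commute hF hu (pv t) (by
    simp [hb_add_right hF, hb_smul_right, hu.2, huv])
  have cuv : Commute (Y u) (Y v) := by simpa using cu 0
  calc Y v * Y (v + w • u) * y * (Y v * Y (v + w • u) * y)
      = Y v * Y (v + w • u) * (y * Y v * y⁻¹) * (y * Y (v + w • u) * y⁻¹) * (y * y) := by group
    _ = Y v * (Y (v + w • u) * Y (v + u)) * Y (v + w ^ 2 • u) := by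
      rw [hA, hB, hy2, mul_one]; group
    _ = Y v * Y (v + u) * Y (v + w • u) * Y (v + w ^ 2 • u) := by
      rw [(show Commute (Y (v + w • u)) (Y (v + u)) by
        simpa using K.commute hF (pv w) (pv 1) (ow w 1)).eq]
      group
    _ = Y u * (Y v * Y u * Y (v + u) * Y (v + w • u) * Y (v + w ^ 2 • u)) := by
      rw [show Y u * (Y v * Y u * Y (v + u) * Y (v + w • u) * Y (v + w ^ 2 • u)) =
        (Y u * Y v) * Y u * Y (v + u) * Y (v + w • u) * Y (v + w ^ 2 • u) by group, cuv.eq,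
        mul_assoc (Y v) (Y u) (Y u), K.sq hF hu, mul_one]
    _ = Y u := by rw [five, mul_one]

end PtClass

/-- the preimage of the group of a plane -/
noncomputable def prePlane (π : C →* Cfsg.PSU 6 F 2) {P Q : Fin 3 → Vec F} (p : Plane P Q) :
    Subgroup C :=
  ((Subgroup.closure (p.tvs hF)).map
    (QuotientGroup.mk' (Subgroup.center ↥(Cfsg.SU 6 F 2)))).comap π

namespace PtClass

variable {Y : Vec F → C} (K : PtClass hF π d Y) {P Q : Fin 3 → Vec F} (p : Plane P Q)

include K

theorem d_mem : d ∈ prePlane hF π p := by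
  rw [prePlane, Subgroup.mem_comap, K.ext.π_d hF]; exact one_mem _

theorem Y_mem {v : Vec F} (hv : IsPt v) (hvP : v ∈ Submodule.span F (Set.range P)) :
    Y v ∈ prePlane hF π p := by
  rw [prePlane, Subgroup.mem_comap, K.img v hv]
  exact ⟨_, Subgroup.subset_closure ⟨v, hv, hvP, rfl⟩, rfl⟩

theorem prePlane_eq : prePlane hF π p =
    Subgroup.closure (insert d {y | ∃ v, IsPt v ∧ v ∈ Submodule.span F (Set.range P) ∧ y = Y v}) := by
  set H := Subgroup.closure
    (insert d {y | ∃ v, IsPt v ∧ v ∈ Submodule.span F (Set.range P) ∧ y = Y v}) with hH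
  refine le_antisymm (fun x hx => ?_) ((Subgroup.closure_le _).mpr ?_)
  · have hle : (Subgroup.closure (p.tvs hF)).map (QuotientGroup.mk' _) ≤ H.map π := by
      rw [MonoidHom.map_closure, Subgroup.closure_le]
      rintro _ ⟨_, ⟨v, hv, hvP, rfl⟩, rfl⟩
      exact ⟨Y v, Subgroup.subset_closure (Or.inr ⟨v, hv, hvP, rfl⟩), K.img v hv⟩
    obtain ⟨y, hy, ey⟩ := hle hx
    rcases K.ext.eq_or ey with rfl | rfl
    exacts [hy, mul_mem hy (Subgroup.subset_closure (Or.inl rfl))]
  · rintro _ (rfl | ⟨v, hv, hvP, rfl⟩)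
    exacts [K.d_mem hF p, K.Y_mem hF p hv hvP]

theorem prePlane_elem : (∀ x ∈ prePlane hF π p, ∀ y ∈ prePlane hF π p, Commute x y) ∧
    ∀ x ∈ prePlane hF π p, x * x = 1 := by
  rw [K.prePlane_eq hF p]
  refine elem_closure ?_ ?_
  · rintro x (rfl | ⟨v, hv, -, rfl⟩)
    exacts [K.ext.sq, K.sq hF hv]
  · rintro x (rfl | ⟨v, hv, hvP, rfl⟩) y (rfl | ⟨u, hu, huP, rfl⟩)
    exacts [Commute.refl _, K.ext.cen _, (K.ext.cen _).symm,
      K.commute hF hv hu (p.hb_plane hF hvP huP)]

theorem card_prePlane : Nat.card (prePlane hF π p) = 1024 := by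
  classical
  set R := (Subgroup.closure (p.tvs hF)).map
    (QuotientGroup.mk' (Subgroup.center ↥(Cfsg.SU 6 F 2))) with hRdef
  have hsq : ∀ x ∈ Subgroup.closure (p.tvs hF), x * x = 1 :=
    (elem_closure (fun t ht => p.tvs_sq hF ht) (fun s hs t ht => p.tvs_commute hF hs ht)).2
  have hR : Nat.card R = 512 := by
    rw [← p.card_closure_tvs hF]
    refine (Nat.card_eq_of_bijective
      (fun g : ↥(Subgroup.closure (p.tvs hF)) => (⟨_, g.1, g.2, rfl⟩ : ↥R))
      ⟨fun g g' e => Subtype.ext (mk_inj_of_sq hF (hsq _ g.2) (hsq _ g'.2)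
        (congrArg (fun x : ↥R => x.1) e)), ?_⟩).symm
    rintro ⟨_, g, hg, rfl⟩
    exact ⟨⟨g, hg⟩, rfl⟩
  let f : ↥(prePlane hF π p) →* ↥R :=
    (π.comp (prePlane hF π p).subtype).codRestrict R fun x => x.2
  have hf : Function.Surjective f := by
    rintro ⟨r, hr⟩
    obtain ⟨x, rfl⟩ := K.ext.surj r
    exact ⟨⟨x, hr⟩, rfl⟩
  have hk : Nat.card f.ker = 2 := by
    have : (f.ker : Set ↥(prePlane hF π p)) = {1, ⟨d, K.d_mem hF p⟩} := by
      ext x
      simp only [SetLike.mem_coe, MonoidHom.mem_ker, Set.mem_insert_iff, Set.mem_singleton_iff]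
      constructor
      · intro hx
        rcases K.ext.ker x.1 (congrArg (fun y : ↥R => y.1) hx) with e | e
        exacts [Or.inl (Subtype.ext e), Or.inr (Subtype.ext e)]
      · rintro (rfl | rfl)
        exacts [map_one f, Subtype.ext (K.ext.π_d hF)]
    rw [← SetLike.coe_sort_coe, Nat.card_coe_set_eq, this, Set.ncard_pair]
    exact fun e => K.ne (congrArg (fun y : ↥(prePlane hF π p) => y.1) e).symm
  rw [← Subgroup.card_mul_index f.ker, Subgroup.index_ker, MonoidHom.range_eq_top.mpr hf,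
    Subgroup.card_top, hR, hk]

/-- an element of the preimage lies over an element fixing the plane -/
theorem exists_fix {x : C} (hx : x ∈ prePlane hF π p) :
    ∃ g : ↥(Cfsg.SU 6 F 2), g * g = 1 ∧ p.Fix g ∧ π x = QuotientGroup.mk g := by
  obtain ⟨g, hg, e⟩ := hx
  refine ⟨g, (elem_closure (fun t ht => p.tvs_sq hF ht) (fun s hs t ht => p.tvs_commute hF hs ht)).2
    g hg, ?_, e.symm⟩
  clear e
  induction hg using Subgroup.closure_induction with
  | mem x hx => obtain ⟨v, hv, hvP, rfl⟩ := hx; exact p.tv_fix hF hv.2 hvP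
  | one => exact fun i => act_one _
  | mul x y _ _ hx hy => exact p.fix_mul hF hx hy
  | inv x _ hx =>
    intro i
    have := congrArg (act x⁻¹) (hx i)
    rw [act_inv_left] at this
    exact this.symm

/-- the elements of the preimage by rank -/
theorem kinds {x : C} (hx : x ∈ prePlane hF π p) :
    π x = 1 ∨
    (∃ u, IsPt u ∧ u ∈ Submodule.span F (Set.range P) ∧ π x = ptv hF u) ∨
    (∃ u v, IsPt u ∧ IsPt v ∧ u ∈ Submodule.span F (Set.range P) ∧
      v ∈ Submodule.span F (Set.range P) ∧ ¬ SamePt u v ∧ π x = ptv hF u * ptv hF v) ∨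
    ∃ R S : Fin 3 → Vec F, Plane R S ∧ (∀ i, R i ∈ Submodule.span F (Set.range P)) ∧
      π x = ptv hF (R 0) * ptv hF (R 1) * ptv hF (R 2) := by
  obtain ⟨g, hg, hfix, e⟩ := K.exists_fix hF p hx
  by_cases h1 : g = 1
  · left; rw [e, h1]; rfl
  have hr3 : Module.finrank F (Submodule.span F (Set.range P)) = 3 := by
    rw [finrank_span_eq_card p.li, Fintype.card_fin]
  obtain ⟨u, hu, huP, g', S', hS', huS', hg', hr', rfl⟩ :=
    invol_split hF hg h1 (p.move_mem hF hfix)
  have lt' := Submodule.finrank_lt_finrank_of_lt (lt_of_le_not_ge hS' fun q => huS' (q huP))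
  right
  by_cases h2 : g' = 1
  · left; exact ⟨u, hu, huP, by rw [e, h2, one_mul]; rfl⟩
  right
  obtain ⟨v, hv, hvS, g'', S'', hS'', hvS'', hg'', hr'', rfl⟩ := invol_split hF hg' h2 hr'
  have lt'' := Submodule.finrank_lt_finrank_of_lt (lt_of_le_not_ge hS'' fun q => hvS'' (q hvS))
  by_cases h3 : g'' = 1
  · left
    refine ⟨v, u, hv, hu, hS' hvS, huP, fun ⟨a, ha⟩ => huS' (ha ▸ S'.smul_mem a hvS), ?_⟩
    rw [e, h3, one_mul]; rfl
  right
  obtain ⟨w, hw, hwS, g₃, S₃, hS₃, hwS₃, hg₃, hr₃, rfl⟩ := invol_split hF hg'' h3 hr''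
  have lt₃ := Submodule.finrank_lt_finrank_of_lt (lt_of_le_not_ge hS₃ fun q => hwS₃ (q hwS))
  have h0 : S₃ = ⊥ := Submodule.finrank_eq_zero.mp (by omega)
  have g1 : g₃ = 1 := act_ext fun z => by
    rw [act_one]; exact vec_eq_of_add hF ((Submodule.mem_bot F).mp (h0 ▸ hr₃ z))
  have hl2 : LinearIndependent F ![w, v] := indep_pair hw.1 fun ⟨a, ha⟩ =>
    hvS'' (ha ▸ S''.smul_mem a hwS)
  have hl : LinearIndependent F ![w, v, u] := by
    rw [show ![w, v, u] = Fin.snoc ![w, v] u by funext i; fin_cases i <;> rfl]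
    refine linearIndependent_finSnoc.mpr ⟨hl2, fun q => huS' ?_⟩
    refine (Submodule.span_le.mpr ?_) q
    rintro _ ⟨i, rfl⟩
    fin_cases i
    exacts [hS'' hwS, hvS]
  have hin : ∀ i, ![w, v, u] i ∈ Submodule.span F (Set.range P) := fun i => by
    fin_cases i
    exacts [hS' (hS'' hwS), hS' hvS, huP]
  obtain ⟨S, hS⟩ := exists_plane_of_li hF hl fun i j => p.hb_plane hF (hin i) (hin j)
  exact ⟨_, S, hS, hin, by rw [e, g1, one_mul]; rfl⟩

end PtClass

end Cfsg.Agent.H93
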