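import Cfsg.Agent.H93.U6Elem

/-!
The bound `2^9` for elementary abelian 2-subgroups of `SU 6 F 2` and `PSU 6 F 2`, attained by the
groups generated by the transvections of a totally isotropic plane.
-/

set_option autoImplicit false

namespace Cfsg.Agent.H93

variable {F : Type*} [Field F] [Fintype F] (hF : Fintype.card F = 4)

include hF

/-- the trace bit -/
theorem tr_bit (s : F) : (s + s ^ 2) * (s + s ^ 2) = s + s ^ 2 := by
  rw [← pow_two, sq_add hF, sq_sq hF, add_comm]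

/-- two trace bits determine an element -/
theorem tr_inj {w : F} (hw : w ^ 2 + w + 1 = 0) {s s' : F} (h1 : s + s ^ 2 = s' + s' ^ 2)
    (h2 : w * s + (w * s) ^ 2 = w * s' + (w * s') ^ 2) : s = s' := by
  have h := two_zero hF
  linear_combination h2 - w ^ 2 * h1 + (s - s') * hw - (s - s') * w * h

theorem card_field : Nat.card F = 4 := by rw [Nat.card_eq_fintype_card, hF]

namespace Plane

variable {P Q : Fin 3 → Vec F} (p : Plane P Q)

include p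

/-- the equations for a form commuting with an element of the flag stabiliser -/
theorem eqs {g r : ↥(Cfsg.SU 6 F 2)} (hg2 : g * g = 1) (hr : p.Fix r) (hgr : Commute g r)
    {α β γ : F} (g0 : act g (P 0) = P 0) (g1 : act g (P 1) = P 1 + α • P 0)
    (g2 : act g (P 2) = P 2 + β • P 0 + γ • P 1) :
    γ ^ 2 * H r (Q 2) (Q 2) = 0 ∧
    α ^ 2 * H r (Q 1) (Q 2) + β ^ 2 * H r (Q 2) (Q 2) = 0 ∧
    γ * H r (Q 1) (Q 2) + γ ^ 2 * H r (Q 1) (Q 2) ^ 2 + γ ^ 2 * γ * H r (Q 2) (Q 2) = 0 ∧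
    α ^ 2 * H r (Q 1) (Q 1) + β ^ 2 * H r (Q 1) (Q 2) ^ 2 +
      γ * (H r (Q 0) (Q 2) + α ^ 2 * H r (Q 1) (Q 2) + β ^ 2 * H r (Q 2) (Q 2)) = 0 ∧
    α * H r (Q 0) (Q 1) + α ^ 2 * H r (Q 0) (Q 1) ^ 2 + β * H r (Q 0) (Q 2) +
      β ^ 2 * H r (Q 0) (Q 2) ^ 2 + α ^ 2 * α * H r (Q 1) (Q 1) + α ^ 2 * β * H r (Q 1) (Q 2) +
      β ^ 2 * α * H r (Q 1) (Q 2) ^ 2 + β ^ 2 * β * H r (Q 2) (Q 2) = 0 := by
  have adj : ∀ y z, hb (act g y) z = hb y (act g z) := fun y z => by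
    rw [← act_hb g y (act g z), ← act_mul, hg2, act_one]
  have c0 : ∀ i : Fin 3, hb (act g (Q i)) (P 0) = if i = 0 then 1 else 0 := fun i => by
    rw [adj, g0, p.dual]
  have c1 : ∀ i : Fin 3, hb (act g (Q i)) (P 1) =
      (if i = 1 then 1 else 0) + α ^ 2 * if i = 0 then 1 else 0 := fun i => by
    rw [adj, g1, hb_add_right hF, hb_smul_right, p.dual, p.dual]
  have c2 : ∀ i : Fin 3, hb (act g (Q i)) (P 2) =
      (if i = 2 then 1 else 0) + β ^ 2 * (if i = 0 then 1 else 0) +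
        γ ^ 2 * if i = 1 then 1 else 0 := fun i => by
    rw [adj, g2, hb_add_right hF, hb_add_right hF, hb_smul_right, hb_smul_right, p.dual, p.dual,
      p.dual]
  obtain ⟨y0, hy0, q0⟩ := p.coord hF (act g (Q 0))
  obtain ⟨y1, hy1, q1⟩ := p.coord hF (act g (Q 1))
  obtain ⟨y2, hy2, q2⟩ := p.coord hF (act g (Q 2))
  simp only [Fin.sum_univ_three, c0, c1, c2, Fin.isValue, Fin.reduceEq, if_true, if_false, mul_one,
    mul_zero, add_zero, zero_add, one_smul, zero_smul] at q0 q1 q2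
  have inv := fun x y => p.H_inv hF hgr x y (r := r)
  have i12 := inv (Q 1) (Q 2)
  have i02 := inv (Q 0) (Q 2)
  have i11 := inv (Q 1) (Q 1)
  have i01 := inv (Q 0) (Q 1)
  have i00 := inv (Q 0) (Q 0)
  have zl : ∀ {x}, x ∈ Submodule.span F (Set.range P) → ∀ y, H r x y = 0 :=
    fun hx y => p.H_zero_left hF hr hx y
  have zr : ∀ {y}, y ∈ Submodule.span F (Set.range P) → ∀ x, H r x y = 0 :=
    fun hy x => p.H_zero_right hF hr x hy
  simp only [q0, q1, q2, H_add_left hF, H_smul_left hF, H_add_right hF, H_smul_right hF, zl hy0, zl hy1,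
    zl hy2, zr hy0, zr hy1, zr hy2, mul_zero, add_zero] at i12 i02 i11 i01 i00
  rw [p.herm hF hr (Q 2) (Q 1)] at i11 i01 i00
  rw [p.herm hF hr (Q 1) (Q 0), p.herm hF hr (Q 2) (Q 0)] at i00
  simp only [sq_sq hF] at i12 i02 i11 i01 i00
  refine ⟨?_, ?_, ?_, ?_, ?_⟩
  · linear_combination i12
  · linear_combination i02
  · linear_combination i11
  · linear_combination i01
  · linear_combination i00

omit hF [Fintype F] in
/-- the six coordinates -/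
theorem coords_le (X : Set ↥(Cfsg.SU 6 F 2)) {β : Type*} [Finite β] (f : ↥X → β)
    (hf : Function.Injective f) : X.ncard ≤ Nat.card β := by
  rw [← Nat.card_coe_set_eq]
  exact Nat.card_le_card_of_injective f hf

theorem fix_all : Set.ncard {r : ↥(Cfsg.SU 6 F 2) | p.Fix r} ≤ 512 := by
  refine (p.coords_le _ (fun r => ((⟨_, p.diag_bit hF r.2 0⟩, ⟨_, p.diag_bit hF r.2 1⟩,
    ⟨_, p.diag_bit hF r.2 2⟩, H r.1 (Q 0) (Q 1), H r.1 (Q 0) (Q 2), H r.1 (Q 1) (Q 2)) :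
      Bit F × Bit F × Bit F × F × F × F)) fun r r' e => ?_).trans ?_
  · simp only [Prod.mk.injEq, Subtype.mk.injEq] at e
    exact Subtype.ext (p.six hF r.2 r'.2 e.1 e.2.1 e.2.2.1 e.2.2.2.1 e.2.2.2.2.1 e.2.2.2.2.2)
  · simp only [Nat.card_prod, card_bit, card_field hF]; norm_num

/-- a moving element with `α ≠ 0` -/
theorem count_alpha {g : ↥(Cfsg.SU 6 F 2)} (hg2 : g * g = 1) {α β : F}
    (g0 : act g (P 0) = P 0) (g1 : act g (P 1) = P 1 + α • P 0)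
    (g2 : act g (P 2) = P 2 + β • P 0 + (0 : F) • P 1) (ha : α ≠ 0) :
    Set.ncard {r : ↥(Cfsg.SU 6 F 2) | p.Fix r ∧ Commute g r} ≤ 32 := by
  obtain ⟨w, -, -, hw⟩ := exists_omega hF
  refine (p.coords_le _ (fun r => ((⟨_, p.diag_bit hF r.2.1 0⟩, ⟨_, p.diag_bit hF r.2.1 2⟩,
    ⟨_, tr_bit hF (w * (α * H r.1 (Q 0) (Q 1)))⟩, H r.1 (Q 0) (Q 2)) :
      Bit F × Bit F × Bit F × F)) fun r r' e => ?_).trans ?_
  · simp only [Prod.mk.injEq, Subtype.mk.injEq] at e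
    obtain ⟨e00, e22, ew, e02⟩ := e
    obtain ⟨-, r2, -, r4, r5⟩ := p.eqs hF hg2 r.2.1 r.2.2 g0 g1 g2
    obtain ⟨-, s2, -, s4, s5⟩ := p.eqs hF hg2 r'.2.1 r'.2.2 g0 g1 g2
    have a2 : α ^ 2 ≠ 0 := pow_ne_zero 2 ha
    have e12 : H r.1 (Q 1) (Q 2) = H r'.1 (Q 1) (Q 2) := mul_left_cancel₀ a2 (by
      rw [e22] at r2; linear_combination r2 - s2)
    have e11 : H r.1 (Q 1) (Q 1) = H r'.1 (Q 1) (Q 1) := mul_left_cancel₀ a2 (by
      rw [e12] at r4; linear_combination r4 - s4)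
    rw [e02, e11, e12, e22] at r5
    have e01 : H r.1 (Q 0) (Q 1) = H r'.1 (Q 0) (Q 1) := mul_left_cancel₀ ha
      (tr_inj hF hw (by linear_combination r5 - s5) ew)
    exact Subtype.ext (p.six hF r.2.1 r'.2.1 e00 e11 e22 e01 e02 e12)
  · simp only [Nat.card_prod, card_bit, card_field hF]; norm_num

/-- a moving element with `α = γ = 0` -/
theorem count_beta {g : ↥(Cfsg.SU 6 F 2)} (hg2 : g * g = 1) {β : F}
    (g0 : act g (P 0) = P 0) (g1 : act g (P 1) = P 1 + (0 : F) • P 0)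
    (g2 : act g (P 2) = P 2 + β • P 0 + (0 : F) • P 1) (hbe : β ≠ 0) :
    Set.ncard {r : ↥(Cfsg.SU 6 F 2) | p.Fix r ∧ Commute g r} ≤ 32 := by
  obtain ⟨w, -, -, hw⟩ := exists_omega hF
  refine (p.coords_le _ (fun r => ((⟨_, p.diag_bit hF r.2.1 0⟩, ⟨_, p.diag_bit hF r.2.1 1⟩,
    ⟨_, tr_bit hF (w * (β * H r.1 (Q 0) (Q 2)))⟩, H r.1 (Q 0) (Q 1)) :
      Bit F × Bit F × Bit F × F)) fun r r' e => ?_).trans ?_
  · simp only [Prod.mk.injEq, Subtype.mk.injEq] at e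
    obtain ⟨e00, e11, ew, e01⟩ := e
    obtain ⟨-, r2, -, r4, r5⟩ := p.eqs hF hg2 r.2.1 r.2.2 g0 g1 g2
    obtain ⟨-, s2, -, s4, s5⟩ := p.eqs hF hg2 r'.2.1 r'.2.2 g0 g1 g2
    have b2 : β ^ 2 ≠ 0 := pow_ne_zero 2 hbe
    have e22 : H r.1 (Q 2) (Q 2) = H r'.1 (Q 2) (Q 2) := mul_left_cancel₀ b2 (by
      linear_combination r2 - s2)
    have e12 : H r.1 (Q 1) (Q 2) = H r'.1 (Q 1) (Q 2) := by
      have h : H r.1 (Q 1) (Q 2) ^ 2 = H r'.1 (Q 1) (Q 2) ^ 2 := mul_left_cancel₀ b2 (by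
        linear_combination r4 - s4)
      have := congrArg (· ^ 2) h
      simpa only [sq_sq hF] using this
    rw [e01, e11, e12, e22] at r5
    have e02 : H r.1 (Q 0) (Q 2) = H r'.1 (Q 0) (Q 2) := mul_left_cancel₀ hbe
      (tr_inj hF hw (by linear_combination r5 - s5) ew)
    exact Subtype.ext (p.six hF r.2.1 r'.2.1 e00 e11 e22 e01 e02 e12)
  · simp only [Nat.card_prod, card_bit, card_field hF]; norm_num

/-- a moving element with `α = 0 ≠ γ` -/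
theorem count_gamma {g : ↥(Cfsg.SU 6 F 2)} (hg2 : g * g = 1) {β γ : F}
    (g0 : act g (P 0) = P 0) (g1 : act g (P 1) = P 1 + (0 : F) • P 0)
    (g2 : act g (P 2) = P 2 + β • P 0 + γ • P 1) (hc : γ ≠ 0) :
    Set.ncard {r : ↥(Cfsg.SU 6 F 2) | p.Fix r ∧ Commute g r} ≤ 32 := by
  obtain ⟨w, -, -, hw⟩ := exists_omega hF
  refine (p.coords_le _ (fun r => ((⟨_, p.diag_bit hF r.2.1 0⟩, ⟨_, p.diag_bit hF r.2.1 1⟩,
    ⟨_, tr_bit hF (w * (γ * H r.1 (Q 1) (Q 2)))⟩, H r.1 (Q 0) (Q 1)) :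
      Bit F × Bit F × Bit F × F)) fun r r' e => ?_).trans ?_
  · simp only [Prod.mk.injEq, Subtype.mk.injEq] at e
    obtain ⟨e00, e11, ew, e01⟩ := e
    obtain ⟨r1, -, r3, r4, -⟩ := p.eqs hF hg2 r.2.1 r.2.2 g0 g1 g2
    obtain ⟨s1, -, s3, s4, -⟩ := p.eqs hF hg2 r'.2.1 r'.2.2 g0 g1 g2
    have c2 : γ ^ 2 ≠ 0 := pow_ne_zero 2 hc
    have e22 : H r.1 (Q 2) (Q 2) = H r'.1 (Q 2) (Q 2) := mul_left_cancel₀ c2 (r1.trans s1.symm)
    rw [e22] at r3
    have e12 : H r.1 (Q 1) (Q 2) = H r'.1 (Q 1) (Q 2) := mul_left_cancel₀ hc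
      (tr_inj hF hw (by linear_combination r3 - s3) ew)
    rw [e12, e22] at r4
    have e02 : H r.1 (Q 0) (Q 2) = H r'.1 (Q 0) (Q 2) := mul_left_cancel₀ hc (by
      linear_combination r4 - s4)
    exact Subtype.ext (p.six hF r.2.1 r'.2.1 e00 e11 e22 e01 e02 e12)
  · simp only [Nat.card_prod, card_bit, card_field hF]; norm_num

/-- the full group of elements with common centre -/
theorem count_centre {g g' : ↥(Cfsg.SU 6 F 2)} (hg : g * g = 1) (hg' : g' * g' = 1)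
    (g0 : act g (P 0) = P 0) (g1 : act g (P 1) = P 1 + (1 : F) • P 0)
    (g2 : act g (P 2) = P 2 + (0 : F) • P 0 + (0 : F) • P 1) (g0' : act g' (P 0) = P 0)
    (g1' : act g' (P 1) = P 1 + (0 : F) • P 0)
    (g2' : act g' (P 2) = P 2 + (1 : F) • P 0 + (0 : F) • P 1) :
    Set.ncard {r : ↥(Cfsg.SU 6 F 2) | p.Fix r ∧ Commute g r ∧ Commute g' r} ≤ 8 := by
  obtain ⟨w, -, -, hw⟩ := exists_omega hF
  refine (p.coords_le _ (fun r => ((⟨_, p.diag_bit hF r.2.1 0⟩,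
    ⟨_, tr_bit hF (w * H r.1 (Q 0) (Q 1))⟩, ⟨_, tr_bit hF (w * H r.1 (Q 0) (Q 2))⟩) :
      Bit F × Bit F × Bit F)) fun r r' e => ?_).trans ?_
  · simp only [Prod.mk.injEq, Subtype.mk.injEq] at e
    obtain ⟨e00, ew1, ew2⟩ := e
    obtain ⟨-, r2, -, r4, r5⟩ := p.eqs hF hg r.2.1 r.2.2.1 g0 g1 g2
    obtain ⟨-, s2, -, s4, s5⟩ := p.eqs hF hg r'.2.1 r'.2.2.1 g0 g1 g2
    obtain ⟨-, r2', -, -, r5'⟩ := p.eqs hF hg' r.2.1 r.2.2.2 g0' g1' g2'
    obtain ⟨-, s2', -, -, s5'⟩ := p.eqs hF hg' r'.2.1 r'.2.2.2 g0' g1' g2'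
    have e22 : H r.1 (Q 2) (Q 2) = H r'.1 (Q 2) (Q 2) := by linear_combination r2' - s2'
    have e12 : H r.1 (Q 1) (Q 2) = H r'.1 (Q 1) (Q 2) := by linear_combination r2 - s2
    rw [e12] at r4
    have e11 : H r.1 (Q 1) (Q 1) = H r'.1 (Q 1) (Q 1) := by linear_combination r4 - s4
    rw [e11, e12, e22] at r5 r5'
    have e01 : H r.1 (Q 0) (Q 1) = H r'.1 (Q 0) (Q 1) :=
      tr_inj hF hw (by linear_combination r5 - s5) ew1
    have e02 : H r.1 (Q 0) (Q 2) = H r'.1 (Q 0) (Q 2) :=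
      tr_inj hF hw (by linear_combination r5' - s5') ew2
    exact Subtype.ext (p.six hF r.2.1 r'.2.1 e00 e11 e22 e01 e02 e12)
  · simp only [Nat.card_prod, card_bit]; norm_num

/-- the full group of elements with common axis -/
theorem count_axis {g g' : ↥(Cfsg.SU 6 F 2)} (hg : g * g = 1) (hg' : g' * g' = 1)
    (g0 : act g (P 0) = P 0) (g1 : act g (P 1) = P 1 + (0 : F) • P 0)
    (g2 : act g (P 2) = P 2 + (0 : F) • P 0 + (1 : F) • P 1) (g0' : act g' (P 0) = P 0)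
    (g1' : act g' (P 1) = P 1 + (0 : F) • P 0)
    (g2' : act g' (P 2) = P 2 + (1 : F) • P 0 + (0 : F) • P 1) :
    Set.ncard {r : ↥(Cfsg.SU 6 F 2) | p.Fix r ∧ Commute g r ∧ Commute g' r} ≤ 16 := by
  refine (p.coords_le _ (fun r => ((⟨_, p.diag_bit hF r.2.1 0⟩, ⟨_, p.diag_bit hF r.2.1 1⟩,
      H r.1 (Q 0) (Q 1)) : Bit F × Bit F × F)) fun r r' e => ?_).trans ?_
  · simp only [Prod.mk.injEq, Subtype.mk.injEq] at e
    obtain ⟨e00, e11, e01⟩ := e
    obtain ⟨r1, -, -, r4, -⟩ := p.eqs hF hg r.2.1 r.2.2.1 g0 g1 g2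
    obtain ⟨s1, -, -, s4, -⟩ := p.eqs hF hg r'.2.1 r'.2.2.1 g0 g1 g2
    obtain ⟨-, -, -, r4', -⟩ := p.eqs hF hg' r.2.1 r.2.2.2 g0' g1' g2'
    obtain ⟨-, -, -, s4', -⟩ := p.eqs hF hg' r'.2.1 r'.2.2.2 g0' g1' g2'
    have e22 : H r.1 (Q 2) (Q 2) = H r'.1 (Q 2) (Q 2) := by linear_combination r1 - s1
    have e12 : H r.1 (Q 1) (Q 2) = H r'.1 (Q 1) (Q 2) := by
      have h : H r.1 (Q 1) (Q 2) ^ 2 = H r'.1 (Q 1) (Q 2) ^ 2 := by linear_combination r4' - s4'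
      have := congrArg (· ^ 2) h
      simpa only [sq_sq hF] using this
    rw [e12, e22] at r4
    have e02 : H r.1 (Q 0) (Q 2) = H r'.1 (Q 0) (Q 2) := by linear_combination r4 - s4
    exact Subtype.ext (p.six hF r.2.1 r'.2.1 e00 e11 e22 e01 e02 e12)
  · simp only [Nat.card_prod, card_bit, card_field hF]; norm_num

theorem tvs_sq {t : ↥(Cfsg.SU 6 F 2)} (ht : t ∈ p.tvs hF) : t * t = 1 := by
  obtain ⟨v, -, -, rfl⟩ := ht
  exact tv_mul_self hF v

/-- the group of the plane has the maximal order -/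
theorem card_closure_tvs : Nat.card ↥(Subgroup.closure (p.tvs hF)) = 512 := by
  classical
  have hsub : ∀ x ∈ Subgroup.closure (p.tvs hF), p.Fix x := fun x hx => by
    induction hx using Subgroup.closure_induction with
    | mem x hx => obtain ⟨v, hv, hvP, rfl⟩ := hx; exact p.tv_fix hF hv.2 hvP
    | one => exact fun i => act_one _
    | mul x y _ _ hx hy => exact p.fix_mul hF hx hy
    | inv x _ hx =>
        intro i
        have := congrArg (act x⁻¹) (hx i)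
        rw [act_inv_left] at this
        exact this.symm
  have hset : ((Subgroup.closure (p.tvs hF)) : Set ↥(Cfsg.SU 6 F 2)) = {r | p.Fix r} :=
    Set.ext fun r => ⟨hsub r, fun hr => p.closure_tvs hF hr⟩
  rw [← SetLike.coe_sort_coe, Nat.card_coe_set_eq, hset]
  refine le_antisymm (p.fix_all hF) ?_
  -- every form is attained
  have hreal : ∀ (d0 d1 d2 : Bit F) (u v z : F), ∃ r, p.Fix r ∧ H r (Q 0) (Q 0) = d0.1 ∧
      H r (Q 1) (Q 1) = d1.1 ∧ H r (Q 2) (Q 2) = d2.1 ∧ H r (Q 0) (Q 1) = u ∧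
      H r (Q 0) (Q 2) = v ∧ H r (Q 1) (Q 2) = z := p.realise hF
  choose f hf h0 h1 h2 h3 h4 h5 using hreal
  have hinj : Function.Injective fun x : Bit F × Bit F × Bit F × F × F × F =>
      (⟨f x.1 x.2.1 x.2.2.1 x.2.2.2.1 x.2.2.2.2.1 x.2.2.2.2.2, hf _ _ _ _ _ _⟩ :
        {r : ↥(Cfsg.SU 6 F 2) // p.Fix r}) := by
    rintro ⟨a0, a1, a2, a3, a4, a5⟩ ⟨b0, b1, b2, b3, b4, b5⟩ e
    have e' := congrArg Subtype.val e
    dsimp only at e'
    have k0 := h0 a0 a1 a2 a3 a4 a5; rw [e', h0] at k0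
    have k1 := h1 a0 a1 a2 a3 a4 a5; rw [e', h1] at k1
    have k2 := h2 a0 a1 a2 a3 a4 a5; rw [e', h2] at k2
    have k3 := h3 a0 a1 a2 a3 a4 a5; rw [e', h3] at k3
    have k4 := h4 a0 a1 a2 a3 a4 a5; rw [e', h4] at k4
    have k5 := h5 a0 a1 a2 a3 a4 a5; rw [e', h5] at k5
    simp only [Prod.mk.injEq]
    exact ⟨Subtype.ext k0.symm, Subtype.ext k1.symm, Subtype.ext k2.symm, k3.symm, k4.symm,
      k5.symm⟩
  have := Nat.card_le_card_of_injective _ hinj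
  simp only [Nat.card_prod, card_bit, card_field hF] at this
  rw [← Nat.card_coe_set_eq]
  exact le_trans (by norm_num) this

end Plane

/-- the bound in `SU`, with the extremal groups -/
theorem elem_bound_su (A : Subgroup ↥(Cfsg.SU 6 F 2)) (hc : ∀ g ∈ A, ∀ h ∈ A, Commute g h)
    (hs : ∀ g ∈ A, g * g = 1) :
    Nat.card A ≤ 512 ∧ (Nat.card A = 512 →
      A ≤ Subgroup.closure {t | t ∈ A ∧ ∃ v, IsPt v ∧ t = tv hF v}) := by
  classical
  obtain ⟨P, Q, p, hflag⟩ := exists_flag hF A hc hs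
  let α : ↥(Cfsg.SU 6 F 2) → F := fun g => hb (act g (P 1)) (Q 0)
  let β : ↥(Cfsg.SU 6 F 2) → F := fun g => hb (act g (P 2)) (Q 0)
  let γ : ↥(Cfsg.SU 6 F 2) → F := fun g => hb (act g (P 2)) (Q 1)
  have form : ∀ g ∈ A, act g (P 0) = P 0 ∧ act g (P 1) = P 1 + α g • P 0 ∧
      act g (P 2) = P 2 + β g • P 0 + γ g • P 1 := by
    intro g hg
    obtain ⟨g0, ⟨a, g1⟩, b, c, g2⟩ := hflag g hg
    refine ⟨g0, ?_, ?_⟩
    · rw [show α g = a by simp [α, g1, hb_add_left, hb_smul_left, p.dual' hF]]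
      exact g1
    · rw [show β g = b by simp [β, g2, hb_add_left, hb_smul_left, p.dual' hF],
        show γ g = c by simp [γ, g2, hb_add_left, hb_smul_left, p.dual' hF]]
      exact g2
  have mulc : ∀ g ∈ A, ∀ h ∈ A, α (g * h) = α g + α h ∧ β (g * h) = β g + β h + γ h * α g ∧
      γ (g * h) = γ g + γ h := by
    intro g hg h hh
    obtain ⟨g0, g1, g2⟩ := form g hg
    obtain ⟨h0, h1, h2⟩ := form h hh
    refine ⟨?_, ?_, ?_⟩
    · show hb (act (g * h) (P 1)) (Q 0) = _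
      simp [act_mul, h1, act_add, act_smul, g0, g1, hb_add_left, hb_smul_left, p.dual' hF]
    · show hb (act (g * h) (P 2)) (Q 0) = _
      simp [act_mul, h2, act_add, act_smul, g0, g1, g2, hb_add_left, hb_smul_left, p.dual' hF]
    · show hb (act (g * h) (P 2)) (Q 1) = _
      simp [act_mul, h2, act_add, act_smul, g0, g1, g2, hb_add_left, hb_smul_left, p.dual' hF]
  have rel : ∀ g ∈ A, ∀ h ∈ A, γ h * α g = γ g * α h := fun g hg h hh => by
    have e := (mulc g hg h hh).2.1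
    rw [(hc g hg h hh).eq, (mulc h hh g hg).2.1] at e
    linear_combination -e
  have one : α 1 = 0 ∧ β 1 = 0 ∧ γ 1 = 0 := by
    simp [α, β, γ, act_one, p.dual' hF]
  have self : ∀ g ∈ A, γ g * α g = 0 := fun g hg => by
    have e := (mulc g hg g hg).2.1
    rw [hs g hg, one.2.1, add_self_zero hF, zero_add] at e
    exact e.symm
  -- one of the two parameters vanishes identically
  obtain ⟨δ, hδmul, hfam⟩ : ∃ δ : ↥(Cfsg.SU 6 F 2) → F, (∀ g ∈ A, ∀ h ∈ A,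
      δ (g * h) = δ g + δ h ∧ β (g * h) = β g + β h) ∧
      ((δ = α ∧ ∀ g ∈ A, γ g = 0) ∨ (δ = γ ∧ ∀ g ∈ A, α g = 0)) := by
    by_cases hall : ∀ g ∈ A, γ g = 0
    · refine ⟨α, fun g hg h hh => ⟨(mulc g hg h hh).1, ?_⟩, Or.inl ⟨rfl, hall⟩⟩
      rw [(mulc g hg h hh).2.1, hall h hh, zero_mul, add_zero]
    · simp only [not_forall] at hall
      obtain ⟨g₀, hg₀, hne⟩ := hall
      have hα : ∀ g ∈ A, α g = 0 := fun g hg => by
        have h1 := rel g hg g₀ hg₀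
        rw [(mul_eq_zero.mp (self g₀ hg₀)).resolve_left hne, mul_zero] at h1
        exact (mul_eq_zero.mp h1).resolve_left hne
      refine ⟨γ, fun g hg h hh => ⟨(mulc g hg h hh).2.2, ?_⟩, Or.inr ⟨rfl, hα⟩⟩
      rw [(mulc g hg h hh).2.1, hα g hg, mul_zero, add_zero]
  let ψ : ↥A →* Multiplicative (F × F) :=
    MonoidHom.mk' (fun g => Multiplicative.ofAdd (δ g.1, β g.1)) fun g h => by
      obtain ⟨e1, e2⟩ := hδmul g.1 g.2 h.1 h.2
      rw [Subgroup.coe_mul, e1, e2]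
      rfl
  have val : ∀ g : ↥A, ∀ s t : F, ψ g = Multiplicative.ofAdd (s, t) → δ g.1 = s ∧ β g.1 = t :=
    fun g s t e => by simpa [ψ] using e
  have kfix : ∀ g : ↥A, g ∈ ψ.ker → p.Fix g.1 := by
    intro g hg
    obtain ⟨hd, hb'⟩ := val g 0 0 (MonoidHom.mem_ker.mp hg)
    obtain ⟨g0, g1, g2⟩ := form g.1 g.2
    have hαγ : α g.1 = 0 ∧ γ g.1 = 0 := by
      rcases hfam with ⟨rfl, h⟩ | ⟨rfl, h⟩
      exacts [⟨hd, h _ g.2⟩, ⟨h _ g.2, hd⟩]
    intro i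
    fin_cases i
    · exact g0
    · show act g.1 (P 1) = P 1; rw [g1, hαγ.1, zero_smul, add_zero]
    · show act g.1 (P 2) = P 2; rw [g2, hαγ.2, hb', zero_smul, zero_smul, add_zero, add_zero]
  have kle : ∀ (X : Set ↥(Cfsg.SU 6 F 2)), (∀ g : ↥A, g ∈ ψ.ker → g.1 ∈ X) →
      Nat.card ψ.ker ≤ X.ncard := fun X hX => by
    rw [← Nat.card_coe_set_eq X]
    exact Nat.card_le_card_of_injective (fun g : ↥ψ.ker => (⟨g.1.1, hX g.1 g.2⟩ : ↥X))
      fun g g' e => Subtype.ext (Subtype.ext (congrArg (fun x : ↥X => x.1) e))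
  have hmul := Subgroup.card_mul_index ψ.ker
  rw [Subgroup.index_ker] at hmul
  by_cases htriv : ψ.range = ⊥
  · have hfix : ∀ g ∈ A, p.Fix g := fun g hg => kfix ⟨g, hg⟩ (MonoidHom.mem_ker.mpr (by
      have : ψ ⟨g, hg⟩ ∈ ψ.range := ⟨_, rfl⟩
      rwa [htriv, Subgroup.mem_bot] at this))
    have hsub : (A : Set ↥(Cfsg.SU 6 F 2)) ⊆ {r | p.Fix r} := hfix
    have hcA : Nat.card A = (A : Set ↥(Cfsg.SU 6 F 2)).ncard := Nat.card_coe_set_eq _
    refine ⟨hcA ▸ (Set.ncard_le_ncard hsub (Set.toFinite _)).trans (p.fix_all hF), fun h512 => ?_⟩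
    have heq : (A : Set ↥(Cfsg.SU 6 F 2)) = {r | p.Fix r} :=
      Set.eq_of_subset_of_ncard_le hsub (by rw [← hcA, h512]; exact p.fix_all hF) (Set.toFinite _)
    intro g hg
    refine Subgroup.closure_mono ?_ (p.closure_tvs hF (hfix g hg))
    rintro _ ⟨v, hv, hvP, rfl⟩
    have hm : tv hF v ∈ (A : Set ↥(Cfsg.SU 6 F 2)) := by rw [heq]; exact p.tv_fix hF hv.2 hvP
    exact ⟨hm, v, hv, rfl⟩
  suffices hlt : Nat.card A < 512 from ⟨hlt.le, fun h => absurd h hlt.ne⟩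
  rw [← hmul]
  have h16 : Nat.card (Multiplicative (F × F)) = 16 := by
    rw [Nat.card_congr Multiplicative.toAdd, Nat.card_prod, card_field hF]
  obtain ⟨g, hg, hgne⟩ : ∃ g : ↥A, g ∈ (⊤ : Subgroup ↥A) ∧ ψ g ≠ 1 := by
    by_contra hno
    apply htriv
    rw [MonoidHom.range_eq_bot_iff]
    exact MonoidHom.ext fun g => by_contra fun q => hno ⟨g, Subgroup.mem_top g, q⟩
  obtain ⟨g0, g1, g2⟩ := form g.1 g.2
  have hK32 : Nat.card ψ.ker ≤ 32 := by
    have hmem : ∀ r : ↥A, r ∈ ψ.ker → p.Fix r.1 ∧ Commute g.1 r.1 := fun r hr =>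
      ⟨kfix r hr, hc _ g.2 _ r.2⟩
    refine (kle {r | p.Fix r ∧ Commute g.1 r} hmem).trans ?_
    rcases hfam with ⟨rfl, hγ⟩ | ⟨rfl, hα⟩
    · rw [hγ _ g.2] at g2
      by_cases ha : α g.1 = 0
      · rw [ha] at g1
        refine p.count_beta hF (hs _ g.2) g0 g1 g2 fun q => hgne ?_
        show Multiplicative.ofAdd (α g.1, β g.1) = 1
        rw [ha, q]; rfl
      · exact p.count_alpha hF (hs _ g.2) g0 g1 g2 ha
    · rw [hα _ g.2] at g1
      by_cases hcz : γ g.1 = 0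
      · rw [hcz] at g2
        refine p.count_beta hF (hs _ g.2) g0 g1 g2 fun q => hgne ?_
        show Multiplicative.ofAdd (γ g.1, β g.1) = 1
        rw [hcz, q]; rfl
      · exact p.count_gamma hF (hs _ g.2) g0 g1 g2 hcz
  by_cases htop : ψ.range = ⊤
  · have hsurj := MonoidHom.range_eq_top.mp htop
    obtain ⟨u, hu⟩ := hsurj (Multiplicative.ofAdd (1, 0))
    obtain ⟨v, hv⟩ := hsurj (Multiplicative.ofAdd (0, 1))
    obtain ⟨du, bu⟩ := val u 1 0 hu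
    obtain ⟨dv, bv⟩ := val v 0 1 hv
    obtain ⟨u0, u1, u2⟩ := form u.1 u.2
    obtain ⟨v0, v1, v2⟩ := form v.1 v.2
    have hmem : ∀ r : ↥A, r ∈ ψ.ker → p.Fix r.1 ∧ Commute u.1 r.1 ∧ Commute v.1 r.1 := fun r hr =>
      ⟨kfix r hr, hc _ u.2 _ r.2, hc _ v.2 _ r.2⟩
    have h16' : Nat.card ψ.ker ≤ 16 := by
      refine (kle {r | p.Fix r ∧ Commute u.1 r ∧ Commute v.1 r} hmem).trans ?_
      rcases hfam with ⟨rfl, hγ⟩ | ⟨rfl, hα⟩
      · rw [hγ _ u.2, bu] at u2; rw [du] at u1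
        rw [hγ _ v.2, bv] at v2; rw [dv] at v1
        exact (p.count_centre hF (hs _ u.2) (hs _ v.2) u0 u1 u2 v0 v1 v2).trans (by norm_num)
      · rw [hα _ u.2] at u1; rw [du, bu] at u2
        rw [hα _ v.2] at v1; rw [dv, bv] at v2
        exact p.count_axis hF (hs _ u.2) (hs _ v.2) u0 u1 u2 v0 v1 v2
    rw [htop, Subgroup.card_top, h16]
    omega
  · have hle : Nat.card ψ.range ≤ 8 := by
      have hd : Nat.card ψ.range ∣ 16 := h16 ▸ Subgroup.card_subgroup_dvd_card ψ.range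
      have hne : Nat.card ψ.range ≠ 16 := fun q => htop (Subgroup.eq_top_of_card_eq _ (q.trans h16.symm))
      have hle16 := Nat.le_of_dvd (by norm_num) hd
      by_contra hgt
      interval_cases h : Nat.card ψ.range <;> first | omega | exact absurd hd (by norm_num)
    exact lt_of_le_of_lt (Nat.mul_le_mul hK32 hle) (by norm_num)

/-- an elementary abelian group of order `2^9` generated by transvections -/
theorem exists_elem_su : ∃ A : Subgroup ↥(Cfsg.SU 6 F 2), (∀ g ∈ A, ∀ h ∈ A, Commute g h) ∧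
    (∀ g ∈ A, g * g = 1) ∧ Nat.card A = 512 := by
  obtain ⟨P, Q, p, -⟩ := exists_flag hF (⊥ : Subgroup ↥(Cfsg.SU 6 F 2))
    (fun g hg h _ => by rw [Subgroup.mem_bot.mp hg]; exact Commute.one_left h)
    (fun g hg => by rw [Subgroup.mem_bot.mp hg, one_mul])
  have hcomm : ∀ g ∈ Subgroup.closure (p.tvs hF), ∀ h ∈ Subgroup.closure (p.tvs hF), Commute g h :=
    fun g hg h hh => by
      have hG := Subgroup.isMulCommutative_closure (k := p.tvs hF)
        fun x hx y hy => (p.tvs_commute hF hx hy).eq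
      exact congrArg Subtype.val (hG.is_comm.comm ⟨g, hg⟩ ⟨h, hh⟩)
  refine ⟨_, hcomm, fun g hg => ?_, p.card_closure_tvs hF⟩
  induction hg using Subgroup.closure_induction with
  | mem x hx => exact p.tvs_sq hF hx
  | one => exact one_mul 1
  | mul x y hx hy ex ey =>
    calc x * y * (x * y) = x * (y * x) * y := by group
      _ = x * (x * y) * y := by rw [(hcomm y hy x hx).eq]
      _ = (x * x) * (y * y) := by group
      _ = 1 := by rw [ex, ey, one_mul]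
  | inv x _ ex => rw [← mul_inv_rev, ex, inv_one]

end Cfsg.Agent.H93
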