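import Cfsg.Agent.H93.U6Thompson

/-!
The elements of the preimage of a plane by rank: their numbers and their conjugacy.
-/

set_option autoImplicit false

namespace Cfsg.Agent.H93

/-- the normal forms of the points of a plane -/
def normPt {F : Type*} [Field F] (P : Fin 3 → Vec F) : Option (F ⊕ F × F) → Vec F
  | none => P 2
  | some (Sum.inl b) => P 1 + b • P 2
  | some (Sum.inr q) => P 0 + q.1 • P 1 + q.2 • P 2

variable {F : Type*} [Field F] [Fintype F] (hF : Fintype.card F = 4) {C : Type*} [Group C]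
  {π : C →* Cfsg.PSU 6 F 2} {d : C} {Y : Vec F → C}

/-- the members of the class in a plane -/
def pts (Y : Vec F → C) (P : Fin 3 → Vec F) : Set C :=
  {y | ∃ v, IsPt v ∧ v ∈ Submodule.span F (Set.range P) ∧ y = Y v}

/-- the products of two members in a plane -/
def prs (Y : Vec F → C) (P : Fin 3 → Vec F) : Set C :=
  {y | ∃ u v, IsPt u ∧ IsPt v ∧ u ∈ Submodule.span F (Set.range P) ∧
    v ∈ Submodule.span F (Set.range P) ∧ ¬ SamePt u v ∧ y = Y u * Y v}

/-- the products of three independent members in a plane, up to `d` -/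
def tris (Y : Vec F → C) (d : C) (P : Fin 3 → Vec F) : Set C :=
  {y | ∃ R S : Fin 3 → Vec F, Plane R S ∧ (∀ i, R i ∈ Submodule.span F (Set.range P)) ∧
    (y = tri Y R ∨ y = tri Y R * d)}

/-- the translate by `d` -/
def shift (d : C) (X : Set C) : Set C := (fun y => y * d) '' X

include hF

namespace PtClass

variable (K : PtClass hF π d Y) {P Q : Fin 3 → Vec F} (p : Plane P Q)

include K

theorem img_pair {u v : Vec F} (hu : IsPt u) (hv : IsPt v) :
    π (Y u * Y v) = QuotientGroup.mk (tv hF u * tv hF v) := by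
  rw [map_mul, K.img u hu, K.img v hv]; rfl

theorem img_tri {R S : Fin 3 → Vec F} (r : Plane R S) :
    π (tri Y R) = QuotientGroup.mk (tv hF (R 0) * tv hF (R 1) * tv hF (R 2)) := by
  simp only [tri, map_mul, K.img _ (r.pt 0), K.img _ (r.pt 1), K.img _ (r.pt 2)]; rfl

omit [Group C] K in
theorem pair_sq {u v : Vec F} (hu : IsPt u) (e : hb u v = 0) :
    tv hF u * tv hF v * (tv hF u * tv hF v) = 1 := by
  have hc : Commute (tv hF v) (tv hF u) := (act_fix_comm hF (by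
    by_cases hv : hb v v = 0
    · rw [tv_act hF hv, e, zero_smul, add_zero]
    · rw [show tv hF v = 1 by rw [tv, dif_neg hv], act_one]) : tv hF v * tv hF u = _)
  rw [mul_assoc, ← mul_assoc (tv hF v), hc.eq, mul_assoc, tv_mul_self, mul_one, tv_mul_self]

omit [Group C] K in
theorem tri_sq {R S : Fin 3 → Vec F} (r : Plane R S) :
    tv hF (R 0) * tv hF (R 1) * tv hF (R 2) * (tv hF (R 0) * tv hF (R 1) * tv hF (R 2)) = 1 :=
  r.fix_sq hF (r.fix_mul hF (r.fix_mul hF (r.tv_fix hF (r.orth 0 0) (Submodule.subset_span ⟨0, rfl⟩))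
    (r.tv_fix hF (r.orth 1 1) (Submodule.subset_span ⟨1, rfl⟩)))
    (r.tv_fix hF (r.orth 2 2) (Submodule.subset_span ⟨2, rfl⟩)))

/-- equal images of two pairs -/
theorem pair_eq {a b c e : Vec F} (ha : IsPt a) (hb' : IsPt b) (hc : IsPt c) (he : IsPt e)
    (hab : hb a b = 0) (hce : hb c e = 0) (hl : ¬ SamePt a b) (hl' : ¬ SamePt c e)
    (heq : π (Y a * Y b) = π (Y c * Y e)) : Y a * Y b = Y c * Y e := by
  rw [K.img_pair hF ha hb', K.img_pair hF hc he] at heq
  rcases pair_unique hF ha hb' hc he hab hce hl hl' (mk_inj_of_sq hF (pair_sq hF ha hab)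
    (pair_sq hF hc hce) heq) with ⟨h1, h2⟩ | ⟨h1, h2⟩
  · rw [K.eq_of_ptv hF ha hc (congrArg QuotientGroup.mk h1),
      K.eq_of_ptv hF hb' he (congrArg QuotientGroup.mk h2)]
  · rw [K.eq_of_ptv hF ha he (congrArg QuotientGroup.mk h1),
      K.eq_of_ptv hF hb' hc (congrArg QuotientGroup.mk h2)]
    exact (K.commute hF he hc ((hb_eq_zero_comm hF).mp hce)).eq

theorem pair_img_ne_one {u v : Vec F} (hu : IsPt u) (hv : IsPt v) (hs : ¬ SamePt u v) :
    π (Y u * Y v) ≠ 1 := by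
  rw [map_mul, K.img u hu, K.img v hv]
  intro e
  have := (eq_inv_of_mul_eq_one_left e).trans (inv_eq_of_mul_eq_one_left (ptv_mul_self hF v))
  obtain ⟨a, ha⟩ := ptv_eq hF hu hv.2 this
  exact hs (SamePt.symm ⟨a, ha⟩ hu.1)

theorem pair_img_ne_ptv {u v w : Vec F} (hu : IsPt u) (hv : IsPt v) (hw : IsPt w)
    (huv : hb u v = 0) (hs : ¬ SamePt u v) : π (Y u * Y v) ≠ π (Y w) := by
  rw [K.img_pair hF hu hv, K.img w hw]
  intro e
  have e' := mk_inj_of_sq hF (pair_sq hF hu huv) (tv_mul_self hF w) e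
  obtain ⟨h1, h2⟩ := mem_of_range_two hF (indep_pair hu.1 hs) hu.2 hv.2 huv
    (S := Submodule.span F {w}) (fun x => by
      rw [e', tv_act hF hw.2, add_comm x, add_assoc, vec_add_self hF, add_zero]
      exact Submodule.smul_mem _ _ (Submodule.subset_span rfl))
  obtain ⟨a, rfl⟩ := Submodule.mem_span_singleton.mp h1
  obtain ⟨b, rfl⟩ := Submodule.mem_span_singleton.mp h2
  have ha : a ≠ 0 := fun q => hu.1 (by rw [q, zero_smul])
  exact hs ⟨b * a⁻¹, by rw [mul_smul, inv_smul_smul₀ ha]⟩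

theorem tri_img_ne {R S : Fin 3 → Vec F} (r : Plane R S) {a b : Vec F} {g : ↥(Cfsg.SU 6 F 2)}
    (hg : g * g = 1) (hr : ∀ x, act g x + x ∈ Submodule.span F ({a, b} : Set (Vec F))) :
    π (tri Y R) ≠ QuotientGroup.mk g := by
  classical
  rw [K.img_tri hF r]
  intro e
  have e' := mk_inj_of_sq hF (tri_sq hF r) hg e
  have hin := mem_of_range_three hF r (fun x => by rw [e']; exact hr x)
  have h := Submodule.finrank_mono (R := F) (Submodule.span_le.mpr
    (show Set.range R ⊆ (Submodule.span F ({a, b} : Set (Vec F)) : Set (Vec F)) from by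
      rintro _ ⟨i, rfl⟩; exact hin i))
  rw [finrank_span_eq_card r.li, Fintype.card_fin] at h
  have h2 : Module.finrank F ↥(Submodule.span F ({a, b} : Set (Vec F))) ≤ 2 := by
    refine (finrank_span_le_card ({a, b} : Set (Vec F))).trans ?_
    rw [Set.toFinset_card]
    refine le_trans (le_of_eq (Nat.card_eq_fintype_card).symm) ?_
    rw [Nat.card_coe_set_eq]
    exact (Set.ncard_insert_le _ _).trans (by simp)
  omega

theorem tri_not_small {R S : Fin 3 → Vec F} (r : Plane R S) :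
    π (tri Y R) ≠ 1 ∧ (∀ w, IsPt w → π (tri Y R) ≠ π (Y w)) ∧
      ∀ u v, IsPt u → IsPt v → hb u v = 0 → π (tri Y R) ≠ π (Y u * Y v) := by
  refine ⟨?_, fun w hw => ?_, fun u v hu hv e => ?_⟩
  · have := K.tri_img_ne hF r (g := 1) (a := 0) (b := 0) (one_mul 1)
      (fun x => by rw [act_one, vec_add_self hF]; exact Submodule.zero_mem _)
    rwa [QuotientGroup.mk_one] at this
  · rw [K.img w hw]
    refine K.tri_img_ne hF r (a := w) (b := w) (tv_mul_self hF w) fun x => ?_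
    rw [tv_act hF hw.2, add_comm x, add_assoc, vec_add_self hF, add_zero]
    exact Submodule.smul_mem _ _ (Submodule.subset_span (Or.inl rfl))
  · rw [K.img_pair hF hu hv]
    refine K.tri_img_ne hF r (a := u) (b := v) (pair_sq hF hu e) fun x => ?_
    rw [act_pair hF hu.2 hv.2 e]
    exact Submodule.add_mem _ (Submodule.smul_mem _ _ (Submodule.subset_span (Or.inl rfl)))
      (Submodule.smul_mem _ _ (Submodule.subset_span (Or.inr rfl)))

/-- the seven kinds of elements -/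
theorem kinds_eq : (prePlane hF π p : Set C) =
    {1, d} ∪ pts Y P ∪ shift d (pts Y P) ∪ prs Y P ∪ shift d (prs Y P) ∪ tris Y d P := by
  ext x
  simp only [SetLike.mem_coe, Set.mem_union, Set.mem_insert_iff, Set.mem_singleton_iff]
  constructor
  · intro hx
    rcases K.kinds hF p hx with e | ⟨u, hu, huP, e⟩ | ⟨u, v, hu, hv, huP, hvP, hs, e⟩ |
      ⟨R, S, r, hR, e⟩
    · exact Or.inl (Or.inl (Or.inl (Or.inl (Or.inl (K.ext.ker x e)))))
    · rcases K.ext.eq_or ((K.img u hu).trans e.symm) with q | q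
      · exact Or.inl (Or.inl (Or.inl (Or.inl (Or.inr ⟨u, hu, huP, q⟩))))
      · exact Or.inl (Or.inl (Or.inl (Or.inr ⟨_, ⟨u, hu, huP, rfl⟩, q.symm⟩)))
    · rcases K.ext.eq_or (x := Y u * Y v) (y := x)
        (by rw [map_mul, K.img u hu, K.img v hv, e]) with q | q
      · exact Or.inl (Or.inl (Or.inr ⟨u, v, hu, hv, huP, hvP, hs, q⟩))
      · exact Or.inl (Or.inr ⟨_, ⟨u, v, hu, hv, huP, hvP, hs, rfl⟩, q.symm⟩)
    · refine Or.inr ⟨R, S, r, hR, K.ext.eq_or ?_⟩
      rw [e, tri, map_mul, map_mul, K.img _ (r.pt 0), K.img _ (r.pt 1), K.img _ (r.pt 2)]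
  · have hd := K.d_mem hF p
    have hY := fun {v : Vec F} (hv : IsPt v) (hm : v ∈ Submodule.span F (Set.range P)) =>
      K.Y_mem hF p hv hm
    rintro ((((((rfl | rfl) | ⟨v, hv, hm, rfl⟩) | ⟨_, ⟨v, hv, hm, rfl⟩, rfl⟩) |
      ⟨u, v, hu, hv, hum, hvm, -, rfl⟩) | ⟨_, ⟨u, v, hu, hv, hum, hvm, -, rfl⟩, rfl⟩) |
      ⟨R, S, r, hR, rfl | rfl⟩)
    · exact one_mem _
    · exact hd
    · exact hY hv hm
    · exact mul_mem (hY hv hm) hd
    · exact mul_mem (hY hu hum) (hY hv hvm)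
    · exact mul_mem (mul_mem (hY hu hum) (hY hv hvm)) hd
    · exact mul_mem (mul_mem (hY (r.pt 0) (hR 0)) (hY (r.pt 1) (hR 1))) (hY (r.pt 2) (hR 2))
    · exact mul_mem (mul_mem (mul_mem (hY (r.pt 0) (hR 0)) (hY (r.pt 1) (hR 1))) (hY (r.pt 2) (hR 2))) hd

theorem card_pts (p : Plane P Q) : (pts Y P).ncard = 21 := by
  classical
  have hs : ∀ i, P i ∈ Submodule.span F (Set.range P) := fun i => Submodule.subset_span ⟨i, rfl⟩
  have hpt : ∀ q, IsPt (normPt P q) ∧ normPt P q ∈ Submodule.span F (Set.range P) := by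
    rintro (_ | b | ⟨a, b⟩)
    · exact ⟨p.pt 2, hs 2⟩
    · exact ⟨isPt_line hF (p.pt 1) (p.pt 2) (p.orth 1 2) (p.not_same (by decide)) b,
        Submodule.add_mem _ (hs 1) (Submodule.smul_mem _ _ (hs 2))⟩
    · exact comb_pt hF p a b
  have hrange : pts Y P = Set.range fun q => Y (normPt P q) := by
    ext y
    constructor
    · rintro ⟨v, hv, hvP, rfl⟩
      obtain ⟨c, hc⟩ := (Submodule.mem_span_range_iff_exists_fun F).mp hvP
      simp only [Fin.sum_univ_three] at hc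
      by_cases h0 : c 0 = 0
      · by_cases h1 : c 1 = 0
        · have h2 : c 2 ≠ 0 := fun q => hv.1 (by
            rw [← hc, h0, h1, q, zero_smul, zero_smul, zero_smul, add_zero, add_zero])
          refine ⟨none, ?_⟩
          show Y (P 2) = Y v
          rw [← hc, h0, h1, zero_smul, zero_smul, zero_add, zero_add, K.smul hF (p.pt 2) h2]
        · refine ⟨some (Sum.inl ((c 1)⁻¹ * c 2)), ?_⟩
          show Y (normPt P (some (Sum.inl ((c 1)⁻¹ * c 2)))) = Y v
          rw [← K.smul hF (hpt (some (Sum.inl _))).1 h1]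
          refine congrArg Y ?_
          show c 1 • (P 1 + _) = v
          rw [smul_add, smul_smul, mul_inv_cancel_left₀ h1, ← hc, h0, zero_smul, zero_add]
      · refine ⟨some (Sum.inr ((c 0)⁻¹ * c 1, (c 0)⁻¹ * c 2)), ?_⟩
        show Y (normPt P (some (Sum.inr ((c 0)⁻¹ * c 1, (c 0)⁻¹ * c 2)))) = Y v
        rw [← K.smul hF (hpt (some (Sum.inr (_, _)))).1 h0]
        refine congrArg Y ?_
        show c 0 • (P 0 + _ + _) = v
        rw [smul_add, smul_add, smul_smul, smul_smul, mul_inv_cancel_left₀ h0, mul_inv_cancel_left₀ h0, hc]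
    · rintro ⟨q, rfl⟩
      exact ⟨_, (hpt q).1, (hpt q).2, rfl⟩
  have hinj : Function.Injective fun q => Y (normPt P q) := by
    intro q q' e
    have e' := congrArg π e
    dsimp only at e'
    rw [K.img _ (hpt q).1, K.img _ (hpt q').1] at e'
    obtain ⟨t, ht⟩ := ptv_eq hF (hpt q).1 (hpt q').1.2 e'
    have k0 := congrArg (fun v => hb v (Q 0)) ht
    have k1 := congrArg (fun v => hb v (Q 1)) ht
    have k2 := congrArg (fun v => hb v (Q 2)) ht
    rcases q with _ | b | ⟨a, b⟩ <;> rcases q' with _ | b' | ⟨a', b'⟩ <;>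
      simp [normPt, hb_add_left, hb_smul_left, p.dual' hF] at k0 k1 k2 ⊢
    all_goals grind
  rw [hrange, ← Set.image_univ, Set.ncard_image_of_injective _ hinj, Set.ncard_univ,
    Nat.card_eq_fintype_card, Fintype.card_option, Fintype.card_sum, Fintype.card_prod, hF]

theorem card_prs (p : Plane P Q) : (prs Y P).ncard = 210 := by
  classical
  haveI : Fintype ↥(pts Y P) := (Set.finite_of_ncard_ne_zero (by rw [K.card_pts hF p]; norm_num)).fintype
  have hcomm : ∀ x y : ↥(pts Y P), (x : C) * y = (y : C) * x := by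
    rintro ⟨_, u, hu, huP, rfl⟩ ⟨_, v, hv, hvP, rfl⟩
    exact (K.commute hF hu hv (p.hb_plane hF huP hvP)).eq
  let f : {z : Sym2 ↥(pts Y P) // ¬ z.IsDiag} → C := fun z =>
    Sym2.lift (α := ↥(pts Y P)) ⟨fun x y : ↥(pts Y P) => (x : C) * (y : C), hcomm⟩ z.1
  have hs : ∀ {u v : Vec F}, IsPt u → IsPt v → Y u ≠ Y v → ¬ SamePt u v := by
    rintro u v hu hv hne ⟨a, rfl⟩
    exact hne (K.smul hF hu (fun q => hv.1 (by rw [q, zero_smul]))).symm
  have hinj : Function.Injective f := by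
    rintro ⟨z, hz⟩ ⟨z', hz'⟩ e
    induction z using Sym2.ind with
    | _ x y =>
    induction z' using Sym2.ind with
    | _ x' y' =>
    rw [Sym2.mk_isDiag_iff] at hz hz'
    obtain ⟨_, u, hu, huP, rfl⟩ := x
    obtain ⟨_, v, hv, hvP, rfl⟩ := y
    obtain ⟨_, u', hu', huP', rfl⟩ := x'
    obtain ⟨_, v', hv', hvP', rfl⟩ := y'
    have e' : Y u * Y v = Y u' * Y v' := e
    have hne := hs hu hv fun q => hz (Subtype.ext q)
    have hne' := hs hu' hv' fun q => hz' (Subtype.ext q)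
    have eπ := congrArg π e'
    rw [K.img_pair hF hu hv, K.img_pair hF hu' hv'] at eπ
    apply Subtype.ext
    simp only [Sym2.eq_iff, Subtype.mk.injEq]
    rcases pair_unique hF hu hv hu' hv' (p.hb_plane hF huP hvP) (p.hb_plane hF huP' hvP') hne hne'
      (mk_inj_of_sq hF (pair_sq hF hu (p.hb_plane hF huP hvP))
        (pair_sq hF hu' (p.hb_plane hF huP' hvP')) eπ) with ⟨h1, h2⟩ | ⟨h1, h2⟩
    · exact Or.inl ⟨Subtype.ext (K.eq_of_ptv hF hu hu' (congrArg QuotientGroup.mk h1)),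
        Subtype.ext (K.eq_of_ptv hF hv hv' (congrArg QuotientGroup.mk h2))⟩
    · exact Or.inr ⟨Subtype.ext (K.eq_of_ptv hF hu hv' (congrArg QuotientGroup.mk h1)),
        Subtype.ext (K.eq_of_ptv hF hv hu' (congrArg QuotientGroup.mk h2))⟩
  have hrange : Set.range f = prs Y P := by
    ext w
    constructor
    · rintro ⟨⟨z, hz⟩, rfl⟩
      induction z using Sym2.ind with
      | _ x y =>
      rw [Sym2.mk_isDiag_iff] at hz
      obtain ⟨_, u, hu, huP, rfl⟩ := x
      obtain ⟨_, v, hv, hvP, rfl⟩ := y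
      exact ⟨u, v, hu, hv, huP, hvP, hs hu hv fun q => hz (Subtype.ext q), rfl⟩
    · rintro ⟨u, v, hu, hv, huP, hvP, hns, rfl⟩
      refine ⟨⟨s(⟨Y u, u, hu, huP, rfl⟩, ⟨Y v, v, hv, hvP, rfl⟩), fun hd => hns ?_⟩, rfl⟩
      rw [Sym2.mk_isDiag_iff] at hd
      have e := congrArg π (congrArg Subtype.val hd)
      simp only [K.img _ hu, K.img _ hv] at e
      exact (ptv_eq hF hu hv.2 e).symm hu.1
  rw [← hrange, ← Set.image_univ, Set.ncard_image_of_injective _ hinj, Set.ncard_univ,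
    Nat.card_eq_fintype_card, Sym2.card_subtype_not_diag]
  rw [← Nat.card_eq_fintype_card, Nat.card_coe_set_eq, K.card_pts hF p]
  rfl

omit K in
theorem ncard_shift (X : Set C) : (shift d X).ncard = X.ncard :=
  Set.ncard_image_of_injective _ (mul_left_injective d)

theorem card_tris [Finite C] (p : Plane P Q) : (tris Y d P).ncard = 560 := by
  have hall : ((prePlane hF π p : Set C)).ncard = 1024 := by
    rw [← Nat.card_coe_set_eq, SetLike.coe_sort_coe, K.card_prePlane hF p]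
  have hπd := K.ext.π_d hF
  have sh : ∀ y : C, π (y * d) = π y := fun y => by rw [map_mul, hπd, mul_one]
  have hne : ∀ y : C, y * d ≠ y := fun y e => K.ne (mul_left_cancel (e.trans (mul_one y).symm))
  have i1 : ∀ x ∈ pts Y P ∪ shift d (pts Y P), ∃ v, IsPt v ∧ π x = π (Y v) := by
    rintro x (⟨v, hv, -, rfl⟩ | ⟨_, ⟨v, hv, -, rfl⟩, rfl⟩)
    exacts [⟨v, hv, rfl⟩, ⟨v, hv, sh _⟩]
  have i2 : ∀ x ∈ prs Y P ∪ shift d (prs Y P), ∃ u v, IsPt u ∧ IsPt v ∧ hb u v = 0 ∧ ¬ SamePt u v ∧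
      π x = π (Y u * Y v) := by
    rintro x (⟨u, v, hu, hv, hum, hvm, hs, rfl⟩ | ⟨_, ⟨u, v, hu, hv, hum, hvm, hs, rfl⟩, rfl⟩)
    exacts [⟨u, v, hu, hv, p.hb_plane hF hum hvm, hs, rfl⟩,
      ⟨u, v, hu, hv, p.hb_plane hF hum hvm, hs, sh _⟩]
  have i0 : ∀ x ∈ ({1, d} : Set C), π x = 1 := by
    rintro x (rfl | rfl); exacts [map_one π, hπd]
  have i3 : ∀ x ∈ tris Y d P, ∃ R S, Plane R S ∧ π x = π (tri Y R) := by
    rintro x ⟨R, S, r, -, rfl | rfl⟩
    exacts [⟨R, S, r, rfl⟩, ⟨R, S, r, sh _⟩]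
  have p1 : ∀ v, IsPt v → π (Y v) ≠ 1 := fun v hv e => ptv_ne_one hF hv (K.img v hv ▸ e)
  have d01 : Disjoint ({1, d} : Set C) (pts Y P) := Set.disjoint_left.mpr fun x hx hy => by
    obtain ⟨v, hv, e⟩ := i1 x (Or.inl hy)
    exact p1 v hv (e.symm.trans (i0 x hx))
  have d1 : Disjoint ({1, d} ∪ pts Y P : Set C) (shift d (pts Y P)) := Set.disjoint_left.mpr fun x hx hy => by
    rcases hx with hx | hx
    · obtain ⟨v, hv, e⟩ := i1 x (Or.inr hy)
      exact p1 v hv (e.symm.trans (i0 x hx))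
    · obtain ⟨v, hv, -, rfl⟩ := hx
      obtain ⟨_, ⟨u, hu, -, rfl⟩, e⟩ := hy
      have e' := congrArg π e
      simp only [sh, K.img _ hu, K.img _ hv] at e'
      rw [← K.eq_of_ptv hF hu hv e'] at e
      exact hne _ e
  have d2 : Disjoint ({1, d} ∪ pts Y P ∪ shift d (pts Y P) : Set C) (prs Y P ∪ shift d (prs Y P)) :=
    Set.disjoint_left.mpr fun x hx hy => by
      obtain ⟨u, v, hu, hv, huv, hs, e⟩ := i2 x hy
      rcases hx with (hx | hx) | hx
      · exact K.pair_img_ne_one hF hu hv hs (e.symm.trans (i0 x hx))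
      · obtain ⟨w, hw, e'⟩ := i1 x (Or.inl hx)
        exact K.pair_img_ne_ptv hF hu hv hw huv hs (e.symm.trans e')
      · obtain ⟨w, hw, e'⟩ := i1 x (Or.inr hx)
        exact K.pair_img_ne_ptv hF hu hv hw huv hs (e.symm.trans e')
  have d22 : Disjoint (prs Y P) (shift d (prs Y P)) := Set.disjoint_left.mpr fun x hx hy => by
    obtain ⟨a, b, ha, hb', ham, hbm, hs, rfl⟩ := hx
    obtain ⟨_, ⟨c, c', hc, hc', hcm, hcm', hs', rfl⟩, e⟩ := hy
    have e' := congrArg π e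
    simp only [sh] at e'
    rw [← K.pair_eq hF hc hc' ha hb' (p.hb_plane hF hcm hcm') (p.hb_plane hF ham hbm) hs' hs e'] at e
    exact hne _ e
  have d3 : Disjoint ({1, d} ∪ pts Y P ∪ shift d (pts Y P) ∪ prs Y P ∪ shift d (prs Y P) : Set C)
      (tris Y d P) := Set.disjoint_left.mpr fun x hx hy => by
    obtain ⟨R, S, r, e⟩ := i3 x hy
    obtain ⟨t1, t2, t3⟩ := K.tri_not_small hF r
    rcases hx with (((hx | hx) | hx) | hx) | hx
    · exact t1 (e.symm.trans (i0 x hx))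
    · obtain ⟨w, hw, e'⟩ := i1 x (Or.inl hx); exact t2 w hw (e.symm.trans e')
    · obtain ⟨w, hw, e'⟩ := i1 x (Or.inr hx); exact t2 w hw (e.symm.trans e')
    · obtain ⟨u, v, hu, hv, h0, -, e'⟩ := i2 x (Or.inl hx); exact t3 u v hu hv h0 (e.symm.trans e')
    · obtain ⟨u, v, hu, hv, h0, -, e'⟩ := i2 x (Or.inr hx); exact t3 u v hu hv h0 (e.symm.trans e')
  rw [K.kinds_eq hF p, Set.ncard_union_eq d3, Set.union_assoc _ (prs Y P),
    Set.ncard_union_eq d2, Set.ncard_union_eq d22, Set.ncard_union_eq d1, Set.ncard_union_eq d01,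
    ncard_shift hF, ncard_shift hF, K.card_pts hF p, K.card_prs hF p, Set.ncard_pair (Ne.symm K.ne)] at hall
  omega

/-- conjugacy within each kind -/
theorem pts_conj {x y : C} (hx : x ∈ pts Y P) (hy : y ∈ pts Y P) : ∃ k : C, k * x * k⁻¹ = y := by
  obtain ⟨u, hu, -, rfl⟩ := hx
  obtain ⟨v, hv, -, rfl⟩ := hy
  obtain ⟨g, hg⟩ := ptv_transitive hF hu hv
  obtain ⟨k, rfl⟩ := K.ext.surj g
  exact ⟨k, K.conj k u v hu hv hg⟩

theorem prs_conj (p : Plane P Q) {x y : C} (hx : x ∈ prs Y P) (hy : y ∈ prs Y P) :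
    ∃ k : C, k * x * k⁻¹ = y := by
  obtain ⟨u, v, hu, hv, hum, hvm, hs, rfl⟩ := hx
  obtain ⟨u', v', hu', hv', hum', hvm', hs', rfl⟩ := hy
  obtain ⟨k, e1, e2⟩ := K.move_pair hF hu hv (p.hb_plane hF hum hvm) hs hu' hv'
    (p.hb_plane hF hum' hvm') hs'
  exact ⟨k, by rw [← e1, ← e2]; group⟩

theorem shift_conj {X : Set C} (h : ∀ x ∈ X, ∀ y ∈ X, ∃ k : C, k * x * k⁻¹ = y) {x y : C}
    (hx : x ∈ shift d X) (hy : y ∈ shift d X) : ∃ k : C, k * x * k⁻¹ = y := by
  obtain ⟨x, hx, rfl⟩ := hx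
  obtain ⟨y, hy, rfl⟩ := hy
  obtain ⟨k, e⟩ := h x hx y hy
  refine ⟨k, ?_⟩
  calc k * (x * d) * k⁻¹ = k * x * (d * k⁻¹) := by group
    _ = k * x * k⁻¹ * d := by rw [(K.ext.cen k⁻¹).eq]; group
    _ = y * d := by rw [e]

theorem tris_conj [Finite C] (hperf : commutator C = ⊤) {x y : C} (hx : x ∈ tris Y d P)
    (hy : y ∈ tris Y d P) : ∃ k : C, k * x * k⁻¹ = y := by
  obtain ⟨T, U, T', U', t, t', htw⟩ := K.exists_twist hF hperf
  have hconj : ∀ {R S R' S' : Fin 3 → Vec F}, Plane R S → Plane R' S' →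
      ∃ k : C, k * tri Y R * k⁻¹ = tri Y R' := fun r r' => by
    obtain ⟨k, hk, -⟩ := K.move hF r r'
    exact ⟨k, by rw [tri, tri, ← hk 0, ← hk 1, ← hk 2]; group⟩
  have cd : ∀ k z : C, k * (z * d) * k⁻¹ = k * z * k⁻¹ * d := fun k z => by
    calc k * (z * d) * k⁻¹ = k * z * (d * k⁻¹) := by group
      _ = _ := by rw [(K.ext.cen k⁻¹).eq]; group
  have one : ∀ {R S : Fin 3 → Vec F}, Plane R S → ∀ z, (z = tri Y R ∨ z = tri Y R * d) →
      ∃ k : C, k * tri Y T * k⁻¹ = z := by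
    rintro R S r z (rfl | rfl)
    · exact hconj t r
    · obtain ⟨k1, e1⟩ := hconj t r
      obtain ⟨k2, e2⟩ := hconj t t'
      refine ⟨k1 * k2, ?_⟩
      rw [show k1 * k2 * tri Y T * (k1 * k2)⁻¹ = k1 * (k2 * tri Y T * k2⁻¹) * k1⁻¹ by group, e2, htw,
        cd, e1]
  obtain ⟨R, S, r, -, hx⟩ := hx
  obtain ⟨R', S', r', -, hy⟩ := hy
  obtain ⟨k, ek⟩ := one r x hx
  obtain ⟨k', ek'⟩ := one r' y hy
  exact ⟨k' * k⁻¹, by rw [← ek, ← ek']; group⟩

/-- the first two kinds and the pairs are squares -/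
theorem square_of_small {x : C} (hx : x ∈ pts Y P ∪ prs Y P) (p : Plane P Q) :
    ∃ y : C, y * y = x := by
  rcases hx with ⟨v, hv, -, rfl⟩ | ⟨u, v, hu, hv, hum, hvm, hs, rfl⟩
  exacts [K.point_square hF hv, K.pair_square hF hu hv (p.hb_plane hF hum hvm) hs]

/-- no two squares of the two small kinds differ by `d` -/
theorem small_mul_ne {x y : C} (hx : x ∈ pts Y P ∪ prs Y P) (hy : y ∈ pts Y P ∪ prs Y P)
    (p : Plane P Q) : x * y ≠ d := by
  intro e
  have hy2 : y * y = 1 := by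
    refine (K.prePlane_elem hF p).2 y ?_
    rw [← SetLike.mem_coe, K.kinds_eq hF p]
    rcases hy with h | h
    exacts [Or.inl (Or.inl (Or.inl (Or.inl (Or.inr h)))), Or.inl (Or.inl (Or.inr h))]
  have hxy : x = y * d := by
    have := congrArg (· * y) e
    simp only [mul_assoc, hy2, mul_one] at this
    rw [this, (K.ext.cen y).eq]
  have hπ : π x = π y := by rw [hxy, map_mul, K.ext.π_d hF, mul_one]
  have hne : x ≠ y := fun q => K.ne (mul_left_cancel ((hxy.symm.trans q).trans (mul_one y).symm))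
  rcases hx with ⟨u, hu, -, rfl⟩ | ⟨a, b, ha, hb', ham, hbm, hs, rfl⟩ <;>
    rcases hy with ⟨v, hv, -, rfl⟩ | ⟨c, c', hc, hc', hcm, hcm', hs', rfl⟩
  · exact hne (K.eq_of_ptv hF hu hv (by rwa [K.img u hu, K.img v hv] at hπ))
  · exact K.pair_img_ne_ptv hF hc hc' hu (p.hb_plane hF hcm hcm') hs' hπ.symm
  · exact K.pair_img_ne_ptv hF ha hb' hv (p.hb_plane hF ham hbm) hs hπ
  · exact hne (K.pair_eq hF ha hb' hc hc' (p.hb_plane hF ham hbm) (p.hb_plane hF hcm hcm') hs hs' hπ)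

/-- two products of three members whose product is a pair, and one as a product of two squares -/
theorem tri_witness (p : Plane P Q) : ∃ z ∈ tris Y d P, ∃ z' ∈ tris Y d P, z ≠ z' ∧ z * z' ∈ prs Y P ∧
    ∃ a ∈ pts Y P ∪ prs Y P, ∃ b ∈ pts Y P ∪ prs Y P, z = a * b := by
  have hs : ∀ i, P i ∈ Submodule.span F (Set.range P) := fun i => Submodule.subset_span ⟨i, rfl⟩
  have hh : IsPt (P 0 + P 2) ∧ P 0 + P 2 ∈ Submodule.span F (Set.range P) := by
    simpa using comb_pt hF p 0 1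
  set R : Fin 3 → Vec F := ![P 0, P 1, P 0 + P 2] with hR
  have hRi : ∀ i, R i ∈ Submodule.span F (Set.range P) := fun i => by
    fin_cases i
    exacts [hs 0, hs 1, hh.2]
  obtain ⟨S, r⟩ := exists_plane_of_li hF (P := R) (by
    rw [Fintype.linearIndependent_iff]
    intro g hg i
    simp only [Fin.sum_univ_three, hR, Matrix.cons_val_zero, Matrix.cons_val_one, Matrix.cons_val_two,
      Matrix.tail_cons, Matrix.head_cons] at hg
    have e0 := congrArg (fun v => hb v (Q 0)) hg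
    have e1 := congrArg (fun v => hb v (Q 1)) hg
    have e2 := congrArg (fun v => hb v (Q 2)) hg
    simp [hb_add_left, hb_smul_left, hb_zero_left, p.dual' hF] at e0 e1 e2
    rw [e2, add_zero] at e0
    fin_cases i <;> assumption) (fun i j => p.hb_plane hF (hRi i) (hRi j))
  have hns : ¬ SamePt (P 2) (P 0 + P 2) := by
    rintro ⟨t, ht⟩
    have := congrArg (fun v => hb v (Q 0)) ht
    simp [hb_add_left, hb_smul_left, p.dual' hF] at this
  obtain ⟨hc, hsq⟩ := K.prePlane_elem hF p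
  have m0 := K.Y_mem hF p (p.pt 0) (hs 0)
  have m1 := K.Y_mem hF p (p.pt 1) (hs 1)
  have m2 := K.Y_mem hF p (p.pt 2) (hs 2)
  have hm : Commute (Y (P 0) * Y (P 1)) (Y (P 2)) := hc _ (mul_mem m0 m1) _ m2
  have hprod : tri Y P * tri Y R = Y (P 2) * Y (P 0 + P 2) := by
    show Y (P 0) * Y (P 1) * Y (P 2) * (Y (P 0) * Y (P 1) * Y (P 0 + P 2)) = _
    rw [hm.eq, mul_assoc (Y (P 2)), ← mul_assoc (Y (P 0) * Y (P 1)) (Y (P 0) * Y (P 1)),
      hsq _ (mul_mem m0 m1), one_mul]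
  refine ⟨tri Y P, ⟨P, Q, p, hs, Or.inl rfl⟩, tri Y R, ⟨R, S, r, hRi, Or.inl rfl⟩, fun e => ?_,
    ⟨_, _, p.pt 2, hh.1, hs 2, hh.2, hns, hprod⟩, Y (P 0) * Y (P 1),
    Or.inr ⟨_, _, p.pt 0, p.pt 1, hs 0, hs 1, p.not_same (by decide), rfl⟩, Y (P 2),
    Or.inl ⟨_, p.pt 2, hs 2, rfl⟩, rfl⟩
  rw [← e, tri, hsq _ (mul_mem (mul_mem m0 m1) m2)] at hprod
  exact K.pair_img_ne_one hF (p.pt 2) hh.1 hns (by rw [← hprod, map_one])

end PtClass

end Cfsg.Agent.H93
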