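import Mathlib
import Cfsg.Prelude.Def_Classical

/-!
The six dimensional Hermitian space over the field with four elements: the elementary
linear algebra used for the transvection geometry of `PSU 6 F 2`.
-/

set_option autoImplicit false

namespace Cfsg.Agent.H93

/-- column vectors of length six -/
abbrev Vec (F : Type*) := Fin 6 → F

variable {F : Type*} [Field F]

/-- the Hermitian form `Σ u_i v_i²` -/
def hb (u v : Vec F) : F := Cfsg.hermForm 6 F 2 u v

theorem hb_eq (u v : Vec F) : hb u v = ∑ i, u i * (v i) ^ 2 := rfl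

theorem hb_add_left (u u' v : Vec F) : hb (u + u') v = hb u v + hb u' v := by
  simp [hb_eq, add_mul, Finset.sum_add_distrib]

theorem hb_smul_left (a : F) (u v : Vec F) : hb (a • u) v = a * hb u v := by
  simp [hb_eq, Finset.mul_sum, mul_assoc]

theorem hb_smul_right (a : F) (u v : Vec F) : hb u (a • v) = a ^ 2 * hb u v := by
  simp only [hb_eq, Finset.mul_sum, Pi.smul_apply, smul_eq_mul]
  exact Finset.sum_congr rfl fun i _ => by ring

theorem hb_zero_left (v : Vec F) : hb 0 v = 0 := by simp [hb_eq]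

theorem hb_zero_right (u : Vec F) : hb u 0 = 0 := by simp [hb_eq]

/-- `hb _ v` as a linear map -/
def hbL (v : Vec F) : Vec F →ₗ[F] F where
  toFun u := hb u v
  map_add' u u' := hb_add_left u u' v
  map_smul' a u := by simp [hb_smul_left]

theorem hbL_apply (u v : Vec F) : hbL v u = hb u v := rfl

/-- an isotropic nonzero vector -/
def IsPt (v : Vec F) : Prop := v ≠ 0 ∧ hb v v = 0

/-- the two vectors span the same point -/
def SamePt (u v : Vec F) : Prop := ∃ a : F, v = a • u

theorem SamePt.refl (u : Vec F) : SamePt u u := ⟨1, (one_smul F u).symm⟩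

theorem SamePt.symm {u v : Vec F} (h : SamePt u v) (hv : v ≠ 0) : SamePt v u := by
  obtain ⟨a, ha⟩ := h
  have ha0 : a ≠ 0 := by rintro rfl; simp at ha; exact hv ha
  exact ⟨a⁻¹, by rw [ha, smul_smul, inv_mul_cancel₀ ha0, one_smul]⟩

/-- the evaluation map attached to a family of vectors -/
def evalMap {k : ℕ} (l : Fin k → Vec F) : Vec F →ₗ[F] (Fin k → F) :=
  LinearMap.pi fun i => hbL (l i)

theorem sum_hb_left {k : ℕ} (c : Fin k → F) (l : Fin k → Vec F) (v : Vec F) :
    hb (∑ i, c i • l i) v = ∑ i, c i * hb (l i) v := by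
  rw [← hbL_apply, map_sum]
  exact Finset.sum_congr rfl fun i _ => by rw [map_smul, hbL_apply, smul_eq_mul]

variable [Fintype F]

section F4

variable (hF : Fintype.card F = 4)

include hF

theorem charTwo : CharP F 2 := by
  obtain ⟨p, hp⟩ := CharP.exists F
  haveI := hp
  obtain ⟨n, hpp, hn⟩ := FiniteField.card F p
  have h : p ∣ 2 ^ 2 := by
    rw [show (2 : ℕ) ^ 2 = 4 by norm_num, ← hF, hn]
    exact dvd_pow_self p n.ne_zero
  have := (Nat.prime_dvd_prime_iff_eq hpp Nat.prime_two).mp (hpp.dvd_of_dvd_pow h)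
  rwa [← this]

theorem add_self_zero (x : F) : x + x = 0 := by
  haveI := charTwo hF
  exact CharTwo.add_self_eq_zero x

theorem neg_eq_self (x : F) : -x = x := (eq_neg_of_add_eq_zero_left (add_self_zero hF x)).symm

theorem two_zero : (2 : F) = 0 := by rw [← one_add_one_eq_two]; exact add_self_zero hF 1

theorem add_eq_zero_iff_eq' {x y : F} : x + y = 0 ↔ x = y := by
  rw [add_eq_zero_iff_eq_neg, neg_eq_self hF]

theorem vec_add_self (x : Vec F) : x + x = 0 := by
  funext i; exact add_self_zero hF (x i)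

theorem vec_eq_of_add {x y : Vec F} (h : x + y = 0) : x = y := by
  funext i; exact (add_eq_zero_iff_eq' hF).mp (congrFun h i)

theorem pow_four (x : F) : x ^ 4 = x := by
  conv_lhs => rw [← hF]
  exact FiniteField.pow_card x

theorem pow_three {x : F} (hx : x ≠ 0) : x ^ 3 = 1 := by
  have := FiniteField.pow_card_sub_one_eq_one x hx
  rwa [hF] at this

theorem sq_add (x y : F) : (x + y) ^ 2 = x ^ 2 + y ^ 2 := by
  have h : (2 : F) * (x * y) = 0 := by rw [two_zero hF, zero_mul]
  linear_combination h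

theorem sq_sq (x : F) : (x ^ 2) ^ 2 = x := by rw [← pow_mul]; exact pow_four hF x

theorem sq_eq_one {x : F} (h : x ^ 2 = 1) : x = 1 := by
  have := sq_sq hF x
  rw [h, one_pow] at this
  exact this.symm

theorem hb_add_right (u v v' : Vec F) : hb u (v + v') = hb u v + hb u v' := by
  simp only [hb_eq, ← Finset.sum_add_distrib, Pi.add_apply, sq_add hF, mul_add]

theorem hb_conj (u v : Vec F) : hb v u = (hb u v) ^ 2 := by
  haveI := charTwo hF
  haveI : Fact (Nat.Prime 2) := ⟨Nat.prime_two⟩
  rw [hb_eq, hb_eq, sum_pow_char 2]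
  exact Finset.sum_congr rfl fun i _ => by rw [mul_pow, sq_sq hF, mul_comm]

theorem hb_eq_zero_comm {u v : Vec F} : hb u v = 0 ↔ hb v u = 0 := by
  constructor
  · intro h; rw [hb_conj hF u v, h]; simp
  · intro h; rw [hb_conj hF v u, h]; simp

theorem hb_self_cases (v : Vec F) : hb v v = 0 ∨ hb v v = 1 := by
  have h := hb_conj hF v v
  rcases eq_or_ne (hb v v) 0 with h0 | h0
  · exact Or.inl h0
  · refine Or.inr ?_
    apply mul_left_cancel₀ h0
    rw [mul_one, ← sq]; exact h.symm

theorem hb_self_smul (a : F) (v : Vec F) : hb (a • v) (a • v) = a ^ 3 * hb v v := by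
  rw [hb_smul_left, hb_smul_right]; ring

theorem exists_omega : ∃ w : F, w ≠ 0 ∧ w ≠ 1 ∧ w ^ 2 + w + 1 = 0 := by
  classical
  have hlt : ({0, 1} : Finset F).card < (Finset.univ : Finset F).card := by
    rw [Finset.card_univ, hF]
    exact lt_of_le_of_lt (Finset.card_insert_le _ _) (by simp)
  obtain ⟨w, -, hw⟩ := Finset.exists_mem_notMem_of_card_lt_card hlt
  simp only [Finset.mem_insert, Finset.mem_singleton, not_or] at hw
  refine ⟨w, hw.1, hw.2, ?_⟩
  have h : (w - 1) * (w ^ 2 + w + 1) = 0 := by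
    have := pow_three hF hw.1
    linear_combination this
  exact (mul_eq_zero.mp h).resolve_left (sub_ne_zero.mpr hw.2)

theorem exists_trace {t : F} (ht : t = 0 ∨ t = 1) : ∃ c : F, c + c ^ 2 = t := by
  rcases ht with rfl | rfl
  · exact ⟨0, by simp⟩
  · obtain ⟨w, -, -, hw⟩ := exists_omega hF
    refine ⟨w, ?_⟩
    rw [← add_eq_zero_iff_eq' hF]
    linear_combination hw

theorem hb_nondeg {x : Vec F} (h : ∀ y, hb x y = 0) : x = 0 := by
  funext i
  have := h (Pi.single i 1)
  rw [hb_eq, Finset.sum_eq_single i] at this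
  · simpa using this
  · intro j _ hj; simp [Pi.single_eq_of_ne hj]
  · simp

theorem hb_nondeg' {x : Vec F} (h : ∀ y, hb y x = 0) : x = 0 :=
  hb_nondeg hF fun y => (hb_eq_zero_comm hF).mpr (h y)

theorem evalMap_surjective {k : ℕ} {l : Fin k → Vec F} (hl : LinearIndependent F l) :
    Function.Surjective (evalMap l) := by
  classical
  rw [← LinearMap.range_eq_top]
  by_contra hne
  obtain ⟨f, hf, hker⟩ := Submodule.exists_le_ker_of_lt_top _ (lt_top_iff_ne_top.mpr hne)
  let c : Fin k → F := fun i => f (Pi.single i 1)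
  have hfc : ∀ z : Fin k → F, f z = ∑ i, z i * c i := by
    intro z
    conv_lhs => rw [pi_eq_sum_univ' z]
    simp [c]
  have h0 : ∀ y : Vec F, ∑ i, hb y (l i) * c i = 0 := by
    intro y
    have := hker ⟨y, rfl⟩
    rw [LinearMap.mem_ker, hfc] at this
    exact this
  have hs : ∑ i, (c i) ^ 2 • l i = 0 := by
    apply hb_nondeg' hF
    intro y
    have e : hb y (∑ i, (c i) ^ 2 • l i) = ∑ i, hb y ((c i) ^ 2 • l i) := by
      let φ : Vec F →+ F :=
        { toFun := fun v => hb y v, map_zero' := hb_zero_right y, map_add' := hb_add_right hF y }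
      exact map_sum φ _ _
    rw [e, ← h0 y]
    exact Finset.sum_congr rfl fun i _ => by rw [hb_smul_right, sq_sq hF, mul_comm]
  have hc := Fintype.linearIndependent_iff.mp hl _ hs
  apply hf
  ext z
  simp [hfc, fun i => pow_eq_zero_iff (n := 2) (by norm_num) |>.mp (hc i)]

theorem solve {k : ℕ} {l : Fin k → Vec F} (hl : LinearIndependent F l) (t : Fin k → F) :
    ∃ y, ∀ i, hb y (l i) = t i := by
  obtain ⟨y, hy⟩ := evalMap_surjective hF hl t
  exact ⟨y, fun i => congrFun hy i⟩

/-- isotropic solution, when some member of the family is orthogonal to all and has nonzero target -/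
theorem iso_solve_of_mem {k : ℕ} {l : Fin k → Vec F} (hl : LinearIndependent F l) (t : Fin k → F)
    (j : Fin k) (hj : ∀ i, hb (l j) (l i) = 0) (ht : t j ≠ 0) :
    ∃ w, hb w w = 0 ∧ ∀ i, hb w (l i) = t i := by
  obtain ⟨y, hy⟩ := solve hF hl t
  obtain ⟨c, hc⟩ := exists_trace hF (hb_self_cases hF y)
  have hd : (t j) ^ 2 ≠ 0 := pow_ne_zero 2 ht
  refine ⟨y + (c * t j) • l j, ?_, fun i => by rw [hb_add_left, hb_smul_left, hj, hy]; ring⟩
  rw [hb_add_left, hb_add_right hF, hb_add_right hF, hb_smul_left, hb_smul_left, hb_smul_right,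
    hb_smul_right, hy, hj, hb_conj hF y (l j), hy]
  have h3 := pow_three hF ht
  have h2 := two_zero hF
  linear_combination (c + c ^ 2) * h3 + hc + hb y y * h2

/-- isotropic solution, when a vector outside the span is orthogonal to the family -/
theorem iso_solve_of_extra {k : ℕ} {l : Fin k → Vec F} (hl : LinearIndependent F l) (t : Fin k → F)
    {u : Vec F} (hu : ∀ i, hb u (l i) = 0) (hs : u ∉ Submodule.span F (Set.range l)) :
    ∃ w, hb w w = 0 ∧ ∀ i, hb w (l i) = t i := by
  have hl' : LinearIndependent F (Fin.snoc l u) := linearIndependent_finSnoc.mpr ⟨hl, hs⟩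
  rcases hb_self_cases hF u with h0 | h1
  · obtain ⟨w, hw, hw'⟩ := iso_solve_of_mem hF hl' (Fin.snoc t 1) (Fin.last k)
      (fun i => by
        refine Fin.lastCases ?_ (fun i => ?_) i
        · simpa using h0
        · simpa using hu i) (by simp)
    exact ⟨w, hw, fun i => by simpa using hw' i.castSucc⟩
  · obtain ⟨y, hy⟩ := solve hF hl' (Fin.snoc t 0)
    have hyu : hb y u = 0 := by simpa using hy (Fin.last k)
    have huy : hb u y = 0 := (hb_eq_zero_comm hF).mp hyu
    have hyl : ∀ i, hb y (l i) = t i := fun i => by simpa using hy i.castSucc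
    rcases hb_self_cases hF y with hy0 | hy1
    · exact ⟨y, hy0, hyl⟩
    · refine ⟨y + u, ?_, fun i => by rw [hb_add_left, hu, hyl, add_zero]⟩
      rw [hb_add_left, hb_add_right hF, hb_add_right hF, hy1, hyu, huy, h1]
      simpa using add_self_zero hF (1 : F)

theorem exists_extra {k : ℕ} {l : Fin k → Vec F} (hl : LinearIndependent F l)
    (h : k ≤ 2 ∨ (k = 3 ∧ ∃ i j, hb (l i) (l j) ≠ 0)) :
    ∃ u, (∀ i, hb u (l i) = 0) ∧ u ∉ Submodule.span F (Set.range l) := by
  by_contra hno
  have hle : LinearMap.ker (evalMap l) ≤ Submodule.span F (Set.range l) := fun u hu => by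
    by_contra hns
    exact hno ⟨u, fun i => congrFun hu i, hns⟩
  have h1 := LinearMap.finrank_range_add_finrank_ker (evalMap l)
  rw [LinearMap.range_eq_top.mpr (evalMap_surjective hF hl), finrank_top] at h1
  simp only [Module.finrank_fintype_fun_eq_card, Fintype.card_fin] at h1
  have h2 := Submodule.finrank_mono hle
  rw [finrank_span_eq_card hl, Fintype.card_fin] at h2
  rcases h with h | ⟨hk, i, j, hij⟩
  · omega
  · have heq : LinearMap.ker (evalMap l) = Submodule.span F (Set.range l) :=
      Submodule.eq_of_le_of_finrank_le hle (by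
        rw [finrank_span_eq_card hl, Fintype.card_fin]; omega)
    have hi : l i ∈ LinearMap.ker (evalMap l) := by
      rw [heq]; exact Submodule.subset_span ⟨i, rfl⟩
    exact hij (congrFun hi j)

theorem iso_solve {k : ℕ} {l : Fin k → Vec F} (hl : LinearIndependent F l) (t : Fin k → F)
    (h : k ≤ 2 ∨ (k = 3 ∧ ∃ i j, hb (l i) (l j) ≠ 0)) :
    ∃ w, hb w w = 0 ∧ ∀ i, hb w (l i) = t i := by
  obtain ⟨u, hu, hs⟩ := exists_extra hF hl h
  exact iso_solve_of_extra hF hl t hu hs

/-- four vectors forming two orthogonal hyperbolic pairs -/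
theorem four_iso_solve {a b c d : Vec F} (hab : hb a b ≠ 0) (hcd : hb c d ≠ 0)
    (ha : hb a a = 0) (hb' : hb b b = 0) (hc : hb c c = 0) (hd : hb d d = 0)
    (hac : hb a c = 0) (had : hb a d = 0) (hbc : hb b c = 0) (hbd : hb b d = 0) (t : Fin 4 → F) :
    ∃ w, hb w w = 0 ∧ hb w a = t 0 ∧ hb w b = t 1 ∧ hb w c = t 2 ∧ hb w d = t 3 := by
  have hba : hb b a ≠ 0 := fun h => hab ((hb_eq_zero_comm hF).mp h)
  have hdc : hb d c ≠ 0 := fun h => hcd ((hb_eq_zero_comm hF).mp h)
  have hca := (hb_eq_zero_comm hF).mp hac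
  have hda := (hb_eq_zero_comm hF).mp had
  have hcb := (hb_eq_zero_comm hF).mp hbc
  have hdb := (hb_eq_zero_comm hF).mp hbd
  set l : Fin 4 → Vec F := ![a, b, c, d] with hldef
  have key : ∀ g : Fin 4 → F, (∀ j, hb (∑ i, g i • l i) (l j) = 0) → g = 0 := by
    intro g hg
    have e : ∀ j, g 0 * hb a (l j) + g 1 * hb b (l j) + g 2 * hb c (l j) + g 3 * hb d (l j) = 0 :=
      fun j => by
        have := hg j
        rw [sum_hb_left, Fin.sum_univ_four] at this
        simpa [hldef] using this
    have e0 := e 0; have e1 := e 1; have e2 := e 2; have e3 := e 3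
    simp [hldef, ha, hb', hc, hd, hac, had, hbc, hbd, hca, hda, hcb, hdb, hab, hba, hcd, hdc]
      at e0 e1 e2 e3
    funext i; fin_cases i <;> assumption
  have hli : LinearIndependent F l := by
    rw [Fintype.linearIndependent_iff]
    intro g hg i
    exact congrFun (key g fun j => by rw [hg, hb_zero_left]) i
  have h1 := LinearMap.finrank_range_add_finrank_ker (evalMap l)
  rw [LinearMap.range_eq_top.mpr (evalMap_surjective hF hli), finrank_top] at h1
  simp only [Module.finrank_fintype_fun_eq_card, Fintype.card_fin] at h1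
  have hne : LinearMap.ker (evalMap l) ≠ ⊥ := by
    intro hbot; rw [hbot, finrank_bot] at h1; omega
  obtain ⟨u, hu, hu0⟩ := Submodule.exists_mem_ne_zero_of_ne_bot hne
  have hus : u ∉ Submodule.span F (Set.range l) := by
    intro hs
    obtain ⟨g, rfl⟩ := (Submodule.mem_span_range_iff_exists_fun F).mp hs
    have := key g fun j => congrFun hu j
    subst this
    simp at hu0
  obtain ⟨w, hw, hwl⟩ := iso_solve_of_extra hF hli t (fun i => congrFun hu i) hus
  exact ⟨w, hw, hwl 0, hwl 1, hwl 2, hwl 3⟩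

omit [Fintype F] hF in
theorem indep_pair {u v : Vec F} (hu : u ≠ 0) (h : ¬ SamePt u v) :
    LinearIndependent F ![u, v] := by
  rw [LinearIndependent.pair_iff' hu]
  exact fun a ha => h ⟨a, ha.symm⟩

theorem iso_two {u v : Vec F} (hu : u ≠ 0) (h : ¬ SamePt u v) (s t : F) :
    ∃ w, hb w w = 0 ∧ hb w u = s ∧ hb w v = t := by
  obtain ⟨w, hw, hl⟩ := iso_solve hF (indep_pair hu h) ![s, t] (Or.inl le_rfl)
  exact ⟨w, hw, hl 0, hl 1⟩

theorem iso_one {u : Vec F} (hu : u ≠ 0) (s : F) : ∃ w, hb w w = 0 ∧ hb w u = s := by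
  have hli : LinearIndependent F ![u] := by
    rw [Fintype.linearIndependent_iff]
    intro g hg i
    simp at hg
    fin_cases i
    exact hg.resolve_right hu
  obtain ⟨w, hw, hl⟩ := iso_solve hF hli ![s] (Or.inl (by norm_num))
  exact ⟨w, hw, hl 0⟩

end F4

end Cfsg.Agent.H93
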